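import Mathlib

set_option maxHeartbeats 400000

open TensorProduct

universe u v w

namespace Groth.Agent.H25.GeomDomain

/-- A nontrivial finitely generated algebra over an algebraically closed field has a rational
point. -/
theorem exists_algHom_of_finiteType (k : Type u) [Field k] [IsAlgClosed k]
    (B : Type v) [CommRing B] [Algebra k B] [Algebra.FiniteType k B] [Nontrivial B] :
    Nonempty (B →ₐ[k] k) := by
  obtain ⟨m, hm⟩ := Ideal.exists_maximal B
  letI : Field (B ⧸ m) := Ideal.Quotient.field m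
  haveI : Algebra.FiniteType k (B ⧸ m) :=
    Algebra.FiniteType.of_surjective (Ideal.Quotient.mkₐ k m) (Ideal.Quotient.mkₐ_surjective k m)
  haveI : Module.Finite k (B ⧸ m) := finite_of_finite_type_of_isJacobsonRing k (B ⧸ m)
  haveI : Algebra.IsIntegral k (B ⧸ m) := Algebra.IsIntegral.of_finite k (B ⧸ m)
  have hbij : Function.Bijective (algebraMap k (B ⧸ m)) :=
    IsAlgClosed.algebraMap_bijective_of_isIntegral
  let e : k ≃ₐ[k] (B ⧸ m) := AlgEquiv.ofBijective (Algebra.ofId k (B ⧸ m)) hbij
  exact ⟨(e.symm : (B ⧸ m) →ₐ[k] k).comp (Ideal.Quotient.mkₐ k m)⟩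

/-- Over an algebraically closed field `k`, the tensor product of a field extension with a
domain is a domain. -/
theorem isDomain_tensor (k : Type u) [Field k] [IsAlgClosed k]
    (K : Type v) [Field K] [Algebra k K] (A : Type w) [CommRing A] [Algebra k A] [IsDomain A] :
    IsDomain (K ⊗[k] A) := by
  classical
  let b := Module.Free.chooseBasis k A
  let B := Algebra.TensorProduct.basis K b
  have hBsmul : ∀ (a : K) i, a • B i = a ⊗ₜ[k] b i :=
    fun a i => Algebra.TensorProduct.basis_repr_symm_apply' b a i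
  haveI : Nonempty (Module.Free.ChooseBasisIndex k A) := b.index_nonempty
  haveI : Nontrivial (K ⊗[k] A) := by
    obtain ⟨i⟩ := ‹Nonempty (Module.Free.ChooseBasisIndex k A)›
    exact nontrivial_of_ne (B i) 0 (B.ne_zero i)
  haveI : NoZeroDivisors (K ⊗[k] A) := by
    refine ⟨fun {x y} hxy => ?_⟩
    by_contra hcon
    push Not at hcon
    obtain ⟨hx, hy⟩ := hcon
    obtain ⟨e, he⟩ : ∃ e, e = B.repr x := ⟨_, rfl⟩
    obtain ⟨d, hd⟩ : ∃ d, d = B.repr y := ⟨_, rfl⟩
    have hsumx : (∑ i ∈ e.support, e i ⊗ₜ[k] b i) = x := by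
      have := B.linearCombination_repr x
      rw [← he, Finsupp.linearCombination_apply, Finsupp.sum] at this
      rw [← this]
      exact Finset.sum_congr rfl (fun i _ => (hBsmul _ _).symm)
    have hsumy : (∑ i ∈ d.support, d i ⊗ₜ[k] b i) = y := by
      have := B.linearCombination_repr y
      rw [← hd, Finsupp.linearCombination_apply, Finsupp.sum] at this
      rw [← this]
      exact Finset.sum_congr rfl (fun i _ => (hBsmul _ _).symm)
    obtain ⟨i0, hi0⟩ : ∃ i, e i ≠ 0 := by
      by_contra h; push Not at h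
      apply hx
      have : e = 0 := Finsupp.ext h
      rw [he] at this
      exact B.repr.map_eq_zero_iff.mp this
    obtain ⟨j0, hj0⟩ : ∃ j, d j ≠ 0 := by
      by_contra h; push Not at h
      apply hy
      have : d = 0 := Finsupp.ext h
      rw [hd] at this
      exact B.repr.map_eq_zero_iff.mp this
    let T : Finset K := e.support.image e ∪ d.support.image d ∪ {(e i0 * d j0)⁻¹}
    let R' : Subalgebra k K := Algebra.adjoin k (T : Set K)
    have hTR : (T : Set K) ⊆ R' := Algebra.subset_adjoin
    have hemem : ∀ i, e i ∈ R' := by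
      intro i
      by_cases hi : i ∈ e.support
      · exact hTR (Finset.mem_coe.mpr (Finset.mem_union_left _
          (Finset.mem_union_left _ (Finset.mem_image_of_mem e hi))))
      · rw [Finsupp.notMem_support_iff.mp hi]; exact zero_mem _
    have hdmem : ∀ j, d j ∈ R' := by
      intro j
      by_cases hj : j ∈ d.support
      · exact hTR (Finset.mem_coe.mpr (Finset.mem_union_left _
          (Finset.mem_union_right _ (Finset.mem_image_of_mem d hj))))
      · rw [Finsupp.notMem_support_iff.mp hj]; exact zero_mem _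
    have htmem : (e i0 * d j0)⁻¹ ∈ R' :=
      hTR (Finset.mem_coe.mpr (Finset.mem_union_right _ (Finset.mem_singleton_self _)))
    haveI : Algebra.FiniteType k R' :=
      (Subalgebra.fg_iff_finiteType R').mp (Subalgebra.fg_adjoin_finset T)
    obtain ⟨χ⟩ := exists_algHom_of_finiteType k R'
    let x' : R' ⊗[k] A := ∑ i ∈ e.support, (⟨e i, hemem i⟩ : R') ⊗ₜ[k] b i
    let y' : R' ⊗[k] A := ∑ j ∈ d.support, (⟨d j, hdmem j⟩ : R') ⊗ₜ[k] b j
    let Φ : R' ⊗[k] A →ₐ[k] K ⊗[k] A := Algebra.TensorProduct.map R'.val (AlgHom.id k A)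
    have hΦt : ∀ (r : R') (a : A), Φ (r ⊗ₜ[k] a) = (r : K) ⊗ₜ[k] a := fun r a => rfl
    have hΦx : Φ x' = x := by
      rw [← hsumx]
      simp only [x', map_sum, hΦt]
    have hΦy : Φ y' = y := by
      rw [← hsumy]
      simp only [y', map_sum, hΦt]
    have hΦinj : Function.Injective Φ := by
      have h0 := Module.Flat.rTensor_preserves_injective_linearMap (M := A)
        (R'.val.toLinearMap) (fun a b h => Subtype.ext h)
      have hΦ : ∀ z, Φ z = LinearMap.rTensor A R'.val.toLinearMap z := by
        intro z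
        induction z using TensorProduct.induction_on with
        | zero => simp
        | tmul a c => rfl
        | add a c ha hc => rw [map_add, map_add, ha, hc]
      intro z1 z2 h
      apply h0
      rw [← hΦ, ← hΦ, h]
    have hxy' : x' * y' = 0 := hΦinj (by rw [map_mul, hΦx, hΦy, hxy, map_zero])
    let Θ : R' ⊗[k] A →ₐ[k] A :=
      (Algebra.TensorProduct.lid k A).toAlgHom.comp (Algebra.TensorProduct.map χ (AlgHom.id k A))
    have hΘ : ∀ (r : R') (a : A), Θ (r ⊗ₜ[k] a) = χ r • a := by
      intro r a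
      simp [Θ]
    have hΘx : Θ x' = ∑ i ∈ e.support, χ ⟨e i, hemem i⟩ • b i := by
      simp only [x', map_sum, hΘ]
    have hΘy : Θ y' = ∑ j ∈ d.support, χ ⟨d j, hdmem j⟩ • b j := by
      simp only [y', map_sum, hΘ]
    have hunit : (⟨e i0, hemem i0⟩ * ⟨d j0, hdmem j0⟩ * ⟨(e i0 * d j0)⁻¹, htmem⟩ : R') = 1 :=
      Subtype.ext (mul_inv_cancel₀ (mul_ne_zero hi0 hj0))
    have hχ : χ ⟨e i0, hemem i0⟩ * χ ⟨d j0, hdmem j0⟩ * χ ⟨(e i0 * d j0)⁻¹, htmem⟩ = 1 := by
      rw [← map_mul, ← map_mul, hunit, map_one]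
    have hmul : Θ x' * Θ y' = 0 := by rw [← map_mul, hxy', map_zero]
    rcases mul_eq_zero.mp hmul with h | h
    · have h1 := linearIndependent_iff'.mp b.linearIndependent e.support
        (fun i => χ ⟨e i, hemem i⟩) (by rw [← hΘx]; exact h) i0 (Finsupp.mem_support_iff.mpr hi0)
      rw [h1, zero_mul, zero_mul] at hχ
      exact zero_ne_one hχ
    · have h1 := linearIndependent_iff'.mp b.linearIndependent d.support
        (fun j => χ ⟨d j, hdmem j⟩) (by rw [← hΘy]; exact h) j0 (Finsupp.mem_support_iff.mpr hj0)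
      rw [h1, mul_zero, zero_mul] at hχ
      exact zero_ne_one hχ
  exact NoZeroDivisors.to_isDomain _

end Groth.Agent.H25.GeomDomain
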