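import Mathlib
import Groth.Agent.H25.GeomDomain

set_option maxHeartbeats 400000
set_option linter.style.haveILetI false

open TensorProduct

universe u v w

namespace Groth.Agent.H25.GeomIrr

/-- Base change of an injective algebra map over a field is injective. -/
theorem tensor_map_injective {k : Type*} [Field k] {L E R : Type*} [CommRing L] [CommRing E]
    [CommRing R] [Algebra k L] [Algebra k E] [Algebra k R] (φ : L →ₐ[k] E)
    (hφ : Function.Injective φ) :
    Function.Injective (Algebra.TensorProduct.map φ (AlgHom.id k R)) := by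
  have h0 := Module.Flat.rTensor_preserves_injective_linearMap (M := R) φ.toLinearMap hφ
  have hΦ : ∀ z, Algebra.TensorProduct.map φ (AlgHom.id k R) z =
      LinearMap.rTensor R φ.toLinearMap z := by
    intro z
    induction z using TensorProduct.induction_on with
    | zero => simp
    | tmul a c => rfl
    | add a c ha hc => rw [map_add, map_add, ha, hc]
  intro z1 z2 h
  apply h0
  rw [← hΦ, ← hΦ, h]

/-- Elementwise form of "the nilradical is prime". -/
def PrimeNil (T : Type*) [CommRing T] : Prop :=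
  Nontrivial T ∧ ∀ x y : T, IsNilpotent (x * y) → IsNilpotent x ∨ IsNilpotent y

theorem primeNil_iff_isPrime (T : Type*) [CommRing T] :
    PrimeNil T ↔ (nilradical T).IsPrime := by
  rw [Ideal.isPrime_iff]
  constructor
  · rintro ⟨h1, h2⟩
    refine ⟨?_, fun {x y} hxy => ?_⟩
    · intro h
      have h1' : (1 : T) ∈ nilradical T := h ▸ Submodule.mem_top
      obtain ⟨n, hn⟩ := mem_nilradical.mp h1'
      rw [one_pow] at hn
      exact one_ne_zero hn
    · rw [mem_nilradical, mem_nilradical]
      exact h2 x y (mem_nilradical.mp hxy)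
  · rintro ⟨h1, h2⟩
    refine ⟨?_, fun x y hxy => ?_⟩
    · by_contra hnt
      rw [not_nontrivial_iff_subsingleton] at hnt
      exact h1 ((Ideal.eq_top_iff_one _).mpr (mem_nilradical.mpr ⟨1, Subsingleton.elim _ _⟩))
    · have := h2 (mem_nilradical.mpr hxy)
      rwa [mem_nilradical, mem_nilradical] at this

theorem irreducibleSpace_iff (T : Type*) [CommRing T] :
    IrreducibleSpace (PrimeSpectrum T) ↔ PrimeNil T := by
  rw [irreducibleSpace_def, Set.top_eq_univ,
    PrimeSpectrum.isIrreducible_iff_vanishingIdeal_isPrime,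
    PrimeSpectrum.vanishingIdeal_univ, primeNil_iff_isPrime]

theorem PrimeNil.of_injective {T T' : Type*} [CommRing T] [CommRing T'] (φ : T →+* T')
    (hφ : Function.Injective φ) (h : PrimeNil T') : PrimeNil T := by
  obtain ⟨h1, h2⟩ := h
  refine ⟨φ.domain_nontrivial, fun x y hxy => ?_⟩
  have : IsNilpotent (φ x * φ y) := by rw [← map_mul]; exact hxy.map φ
  rcases h2 _ _ this with h | h
  · exact Or.inl ((IsNilpotent.map_iff hφ).mp h)
  · exact Or.inr ((IsNilpotent.map_iff hφ).mp h)

theorem PrimeNil.of_pow_mem_range {T T' : Type*} [CommRing T] [CommRing T'] (φ : T →+* T')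
    (hφ : Function.Injective φ) (hpow : ∀ z : T', ∃ n : ℕ, 0 < n ∧ z ^ n ∈ φ.range)
    (h : PrimeNil T) : PrimeNil T' := by
  obtain ⟨h1, h2⟩ := h
  refine ⟨hφ.nontrivial, fun x y hxy => ?_⟩
  obtain ⟨n, hn, a, ha⟩ := hpow x
  obtain ⟨m, hm, b, hb⟩ := hpow y
  have hx : x ^ (n * m) = φ (a ^ m) := by rw [pow_mul, ← ha, map_pow]
  have hy : y ^ (n * m) = φ (b ^ n) := by rw [mul_comm, pow_mul, ← hb, map_pow]
  have h3 : IsNilpotent (φ (a ^ m * b ^ n)) := by
    rw [map_mul, ← hx, ← hy, ← mul_pow]
    exact hxy.pow_of_pos (Nat.mul_ne_zero hn.ne' hm.ne')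
  rcases h2 _ _ ((IsNilpotent.map_iff hφ).mp h3) with h | h
  · left
    have : IsNilpotent (x ^ (n * m)) := by rw [hx]; exact h.map φ
    exact this.of_pow
  · right
    have : IsNilpotent (y ^ (n * m)) := by rw [hy]; exact h.map φ
    exact this.of_pow

theorem PrimeNil.of_forall_pair {T' : Type*} [CommRing T'] (hnt : Nontrivial T')
    (h : ∀ x y : T', ∃ (T : Type w) (_ : CommRing T) (φ : T →+* T'),
      Function.Injective φ ∧ PrimeNil T ∧ x ∈ φ.range ∧ y ∈ φ.range) : PrimeNil T' := by
  refine ⟨hnt, fun x y hxy => ?_⟩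
  obtain ⟨T, _, φ, hφ, hT, ⟨a, rfl⟩, ⟨b, rfl⟩⟩ := h x y
  rw [← map_mul, IsNilpotent.map_iff hφ] at hxy
  rcases hT.2 a b hxy with h | h
  · exact Or.inl (h.map φ)
  · exact Or.inr (h.map φ)

theorem PrimeNil.of_ker_nilpotent {T D : Type*} [CommRing T] [CommRing D] [IsDomain D]
    (φ : T →+* D) (hker : ∀ x, φ x = 0 → IsNilpotent x) : PrimeNil T := by
  refine ⟨φ.domain_nontrivial, fun x y hxy => ?_⟩
  have h0 : φ x * φ y = 0 := by
    rw [← map_mul]; exact (hxy.map φ).eq_zero
  rcases mul_eq_zero.mp h0 with h | h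
  · exact Or.inl (hker x h)
  · exact Or.inr (hker y h)

theorem exists_finset_mem_range {k E R : Type*} [Field k] [Field E] [Algebra k E] [CommRing R]
    [Algebra k R] (x : E ⊗[k] R) :
    ∃ T : Finset E, ∀ L : IntermediateField k E, (T : Set E) ⊆ L →
      x ∈ (Algebra.TensorProduct.map L.val (AlgHom.id k R)).range := by
  classical
  induction x using TensorProduct.induction_on with
  | zero => exact ⟨∅, fun L _ => zero_mem _⟩
  | tmul ω r =>
    refine ⟨{ω}, fun L hL => (AlgHom.mem_range _).mpr ⟨(⟨ω, hL (by simp)⟩ : L) ⊗ₜ[k] r, rfl⟩⟩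
  | add x y hx hy =>
    obtain ⟨Tx, hTx⟩ := hx
    obtain ⟨Ty, hTy⟩ := hy
    refine ⟨Tx ∪ Ty, fun L hL => add_mem (hTx L ?_) (hTy L ?_)⟩
    · exact (Finset.coe_subset.mpr Finset.subset_union_left).trans hL
    · exact (Finset.coe_subset.mpr Finset.subset_union_right).trans hL

theorem exists_finite_intermediateField {k E R : Type*} [Field k] [Field E] [Algebra k E]
    [Algebra.IsAlgebraic k E] [CommRing R] [Algebra k R] (x y : E ⊗[k] R) :
    ∃ L : IntermediateField k E, FiniteDimensional k L ∧
      x ∈ (Algebra.TensorProduct.map L.val (AlgHom.id k R)).range ∧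
      y ∈ (Algebra.TensorProduct.map L.val (AlgHom.id k R)).range := by
  classical
  obtain ⟨Tx, hTx⟩ := exists_finset_mem_range x
  obtain ⟨Ty, hTy⟩ := exists_finset_mem_range y
  refine ⟨IntermediateField.adjoin k ((Tx ∪ Ty : Finset E) : Set E), ?_, hTx _ ?_, hTy _ ?_⟩
  · exact IntermediateField.finiteDimensional_adjoin
      (fun z _ => Algebra.IsIntegral.isIntegral z)
  · exact (Finset.coe_subset.mpr Finset.subset_union_left).trans
      (IntermediateField.subset_adjoin k _)
  · exact (Finset.coe_subset.mpr Finset.subset_union_right).trans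
      (IntermediateField.subset_adjoin k _)

/-- If `k̄ ⊗ S` is a domain then so is `k' ⊗ S` for every field extension `k'`. -/
theorem isDomain_of_algClosure {k S : Type u} [Field k] [CommRing S] [Algebra k S]
    (h : IsDomain (AlgebraicClosure k ⊗[k] S)) (k' : Type u) [Field k'] [Algebra k k'] :
    IsDomain (k' ⊗[k] S) := by
  let ψ : AlgebraicClosure k →ₐ[k] AlgebraicClosure k' := IsAlgClosed.lift
  letI : Algebra (AlgebraicClosure k) (AlgebraicClosure k') := ψ.toRingHom.toAlgebra
  haveI : IsScalarTower k (AlgebraicClosure k) (AlgebraicClosure k') :=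
    IsScalarTower.of_algebraMap_eq (fun x => (ψ.commutes x).symm)
  haveI : IsDomain (AlgebraicClosure k' ⊗[AlgebraicClosure k] (AlgebraicClosure k ⊗[k] S)) :=
    GeomDomain.isDomain_tensor _ _ _
  let e := Algebra.TensorProduct.cancelBaseChange k (AlgebraicClosure k) (AlgebraicClosure k)
    (AlgebraicClosure k') S
  haveI : IsDomain (AlgebraicClosure k' ⊗[k] S) :=
    Function.Injective.isDomain e.symm.toRingEquiv.toRingHom e.symm.injective
  exact Function.Injective.isDomain
    (Algebra.TensorProduct.map (IsScalarTower.toAlgHom k k' (AlgebraicClosure k'))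
      (AlgHom.id k S)).toRingHom
    (tensor_map_injective _ (fun a b hab => (algebraMap k' (AlgebraicClosure k')).injective hab))

theorem tfae_geometricallyIntegral {k S : Type u} [Field k] [CommRing S] [Algebra k S] :
    [∀ (k' : Type u) [Field k'] [Algebra k k'], IsDomain (k' ⊗[k] S),
      ∀ (k' : Type u) [Field k'] [Algebra k k'] [Module.Finite k k'], IsDomain (k' ⊗[k] S),
      IsDomain (AlgebraicClosure k ⊗[k] S)].TFAE := by
  tfae_have 1 → 2 := fun h k' _ _ _ => h k'
  tfae_have 2 → 3 := by
    intro h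
    haveI hkS : IsDomain (k ⊗[k] S) := h k
    haveI : Nontrivial (AlgebraicClosure k ⊗[k] S) :=
      (tensor_map_injective (R := S) (Algebra.ofId k (AlgebraicClosure k))
        (algebraMap k _).injective).nontrivial
    haveI : NoZeroDivisors (AlgebraicClosure k ⊗[k] S) := by
      refine ⟨fun {x y} hxy => ?_⟩
      obtain ⟨L, hfin, ⟨a, rfl⟩, ⟨b, rfl⟩⟩ := exists_finite_intermediateField x y
      haveI := hfin
      haveI := h L
      have hinj := tensor_map_injective (R := S) L.val Subtype.val_injective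
      have h0 : a * b = 0 := hinj (by rw [map_mul, map_zero]; exact hxy)
      rcases mul_eq_zero.mp h0 with h' | h'
      · left; rw [h', map_zero]
      · right; rw [h', map_zero]
    exact NoZeroDivisors.to_isDomain _
  tfae_have 3 → 1 := fun h k' _ _ => isDomain_of_algClosure h k'
  tfae_finish

theorem primeNil_algClosure_of_sepClosure {k R : Type u} [Field k] [CommRing R] [Algebra k R]
    (h : PrimeNil (SeparableClosure k ⊗[k] R)) : PrimeNil (AlgebraicClosure k ⊗[k] R) := by
  let Φ : SeparableClosure k ⊗[k] R →ₐ[k] AlgebraicClosure k ⊗[k] R :=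
    Algebra.TensorProduct.map
      (IsScalarTower.toAlgHom k (SeparableClosure k) (AlgebraicClosure k)) (AlgHom.id k R)
  have hΦ : Function.Injective Φ := tensor_map_injective _
    (fun a b hab => (algebraMap (SeparableClosure k) (AlgebraicClosure k)).injective hab)
  haveI := h.1
  haveI hnt : Nontrivial (AlgebraicClosure k ⊗[k] R) := hΦ.nontrivial
  obtain ⟨q, hq⟩ : ∃ q, ExpChar k q := ⟨ringExpChar k, inferInstance⟩
  haveI := hq
  haveI : ExpChar (SeparableClosure k) q :=
    expChar_of_injective_algebraMap (algebraMap k _).injective q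
  haveI : ExpChar (AlgebraicClosure k ⊗[k] R) q :=
    expChar_of_injective_algebraMap (algebraMap k _).injective q
  have hqpos : 0 < q := expChar_pos k q
  have hpow : ∀ z : AlgebraicClosure k ⊗[k] R, ∃ n : ℕ, z ^ q ^ n ∈ Φ.toRingHom.range := by
    intro z
    induction z using TensorProduct.induction_on with
    | zero => exact ⟨0, 0, by simp⟩
    | tmul ω r =>
      obtain ⟨n, a, ha⟩ := IsPurelyInseparable.pow_mem (SeparableClosure k) q ω
      refine ⟨n, a ⊗ₜ[k] (r ^ q ^ n), ?_⟩
      rw [Algebra.TensorProduct.tmul_pow, ← ha]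
      rfl
    | add z1 z2 h1 h2 =>
      obtain ⟨n1, hn1⟩ := h1
      obtain ⟨n2, hn2⟩ := h2
      refine ⟨n1 + n2, ?_⟩
      rw [add_pow_expChar_pow]
      refine add_mem ?_ ?_
      · rw [pow_add, pow_mul]; exact pow_mem hn1 _
      · rw [add_comm n1 n2, pow_add, pow_mul]; exact pow_mem hn2 _
  exact PrimeNil.of_pow_mem_range Φ.toRingHom hΦ
    (fun z => by obtain ⟨n, hn⟩ := hpow z; exact ⟨q ^ n, pow_pos hqpos n, hn⟩) h

theorem primeNil_of_algClosure {k R : Type u} [Field k] [CommRing R] [Algebra k R]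
    (h : PrimeNil (AlgebraicClosure k ⊗[k] R)) (k' : Type u) [Field k'] [Algebra k k'] :
    PrimeNil (k' ⊗[k] R) := by
  haveI hprime : (nilradical (AlgebraicClosure k ⊗[k] R)).IsPrime :=
    (primeNil_iff_isPrime _).mp h
  let ψ : AlgebraicClosure k →ₐ[k] AlgebraicClosure k' := IsAlgClosed.lift
  letI : Algebra (AlgebraicClosure k) (AlgebraicClosure k') := ψ.toRingHom.toAlgebra
  haveI : IsScalarTower k (AlgebraicClosure k) (AlgebraicClosure k') :=
    IsScalarTower.of_algebraMap_eq (fun x => (ψ.commutes x).symm)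
  haveI : IsDomain (AlgebraicClosure k' ⊗[AlgebraicClosure k]
      ((AlgebraicClosure k ⊗[k] R) ⧸ nilradical (AlgebraicClosure k ⊗[k] R))) :=
    GeomDomain.isDomain_tensor _ _ _
  let φ := Algebra.TensorProduct.map (AlgHom.id (AlgebraicClosure k) (AlgebraicClosure k'))
    (Ideal.Quotient.mkₐ (AlgebraicClosure k) (nilradical (AlgebraicClosure k ⊗[k] R)))
  let φ' : (AlgebraicClosure k' ⊗[AlgebraicClosure k] (AlgebraicClosure k ⊗[k] R)) →+*
      (AlgebraicClosure k' ⊗[AlgebraicClosure k]
        ((AlgebraicClosure k ⊗[k] R) ⧸ nilradical (AlgebraicClosure k ⊗[k] R))) := φ.toRingHom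
  have h1 : PrimeNil (AlgebraicClosure k' ⊗[AlgebraicClosure k] (AlgebraicClosure k ⊗[k] R)) := by
    refine PrimeNil.of_ker_nilpotent
      (T := AlgebraicClosure k' ⊗[AlgebraicClosure k] (AlgebraicClosure k ⊗[k] R))
      (D := AlgebraicClosure k' ⊗[AlgebraicClosure k]
        ((AlgebraicClosure k ⊗[k] R) ⧸ nilradical (AlgebraicClosure k ⊗[k] R))) φ' (fun x hx => ?_)
    have hker : x ∈ RingHom.ker φ := hx
    have hk : RingHom.ker (Ideal.Quotient.mkₐ (AlgebraicClosure k)
        (nilradical (AlgebraicClosure k ⊗[k] R))) = nilradical (AlgebraicClosure k ⊗[k] R) := by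
      ext x; exact Ideal.Quotient.eq_zero_iff_mem
    rw [Algebra.TensorProduct.lTensor_ker _ (Ideal.Quotient.mkₐ_surjective _ _), hk] at hker
    have hle : Ideal.map (Algebra.TensorProduct.includeRight :
        (AlgebraicClosure k ⊗[k] R) →ₐ[AlgebraicClosure k]
          AlgebraicClosure k' ⊗[AlgebraicClosure k] (AlgebraicClosure k ⊗[k] R))
        (nilradical (AlgebraicClosure k ⊗[k] R)) ≤ nilradical _ := by
      rw [Ideal.map_le_iff_le_comap]
      intro r hr
      exact mem_nilradical.mpr ((mem_nilradical.mp hr).map _)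
    exact mem_nilradical.mp (hle hker)
  let e := Algebra.TensorProduct.cancelBaseChange k (AlgebraicClosure k) (AlgebraicClosure k)
    (AlgebraicClosure k') R
  have h2 : PrimeNil (AlgebraicClosure k' ⊗[k] R) :=
    PrimeNil.of_injective e.symm.toRingEquiv.toRingHom e.symm.injective h1
  exact PrimeNil.of_injective
    (Algebra.TensorProduct.map (IsScalarTower.toAlgHom k k' (AlgebraicClosure k'))
      (AlgHom.id k R)).toRingHom
    (tensor_map_injective _ (fun a b hab => (algebraMap k' (AlgebraicClosure k')).injective hab))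
    h2

theorem tfae_geometricallyIrreducible {k R : Type u} [Field k] [CommRing R] [Algebra k R] :
    [∀ (k' : Type u) [Field k'] [Algebra k k'], IrreducibleSpace (PrimeSpectrum (k' ⊗[k] R)),
      ∀ (k' : Type u) [Field k'] [Algebra k k'] [Module.Finite k k'] [Algebra.IsSeparable k k'],
        IrreducibleSpace (PrimeSpectrum (k' ⊗[k] R)),
      IrreducibleSpace (PrimeSpectrum (SeparableClosure k ⊗[k] R)),
      IrreducibleSpace (PrimeSpectrum (AlgebraicClosure k ⊗[k] R))].TFAE := by
  tfae_have 1 → 2 := fun h k' _ _ _ _ => h k'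
  tfae_have 2 → 3 := by
    intro h
    refine (irreducibleSpace_iff (SeparableClosure k ⊗[k] R)).mpr ?_
    have hk : PrimeNil (k ⊗[k] R) := (irreducibleSpace_iff (k ⊗[k] R)).mp (h k)
    have hnt : Nontrivial (SeparableClosure k ⊗[k] R) :=
      haveI := hk.1
      (tensor_map_injective (R := R) (Algebra.ofId k (SeparableClosure k))
        (algebraMap k _).injective).nontrivial
    refine PrimeNil.of_forall_pair hnt (fun x y => ?_)
    obtain ⟨L, hfin, ⟨a, rfl⟩, ⟨b, rfl⟩⟩ := exists_finite_intermediateField x y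
    haveI := hfin
    exact ⟨↥L ⊗[k] R, inferInstance,
      (Algebra.TensorProduct.map L.val (AlgHom.id k R)).toRingHom,
      tensor_map_injective _ Subtype.val_injective, (irreducibleSpace_iff (↥L ⊗[k] R)).mp (h L),
      ⟨a, rfl⟩, ⟨b, rfl⟩⟩
  tfae_have 3 → 4 := by
    intro h
    exact (irreducibleSpace_iff (AlgebraicClosure k ⊗[k] R)).mpr
      (primeNil_algClosure_of_sepClosure ((irreducibleSpace_iff (SeparableClosure k ⊗[k] R)).mp h))
  tfae_have 4 → 1 := by
    intro h k' _ _
    exact (irreducibleSpace_iff (k' ⊗[k] R)).mpr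
      (primeNil_of_algClosure ((irreducibleSpace_iff (AlgebraicClosure k ⊗[k] R)).mp h) k')
  tfae_finish

end Groth.Agent.H25.GeomIrr
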