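import Mathlib
import Groth.Agent.H25.GeomIrr

set_option maxHeartbeats 400000
set_option linter.style.haveILetI false

open TensorProduct

universe u v w

namespace Groth.Agent.H25.GeomConn

open Groth.Agent.H25.GeomIrr (tensor_map_injective)

/-- Nontrivial with only trivial idempotents. -/
def ConnIdem (T : Type*) [CommRing T] : Prop :=
  Nontrivial T ∧ ∀ e : T, IsIdempotentElem e → e = 0 ∨ e = 1

theorem eq_zero_of_idem_nilpotent {T : Type*} [CommRing T] {e : T} (he : IsIdempotentElem e)
    (hn : IsNilpotent e) : e = 0 := by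
  obtain ⟨n, hn⟩ := hn
  rw [← he.pow_succ_eq n, pow_succ, hn, zero_mul]

theorem eq_zero_of_basicOpen_eq_empty {T : Type*} [CommRing T] {e : T} (he : IsIdempotentElem e)
    (h : (PrimeSpectrum.basicOpen e : Set (PrimeSpectrum T)) = ∅) : e = 0 := by
  apply eq_zero_of_idem_nilpotent he
  rw [← PrimeSpectrum.basicOpen_eq_bot_iff]
  apply TopologicalSpace.Opens.ext
  rw [TopologicalSpace.Opens.coe_bot]
  exact h

theorem connectedSpace_iff (T : Type*) [CommRing T] :
    ConnectedSpace (PrimeSpectrum T) ↔ ConnIdem T := by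
  constructor
  · intro h
    have hnt : Nontrivial T := by
      by_contra hnt
      rw [not_nontrivial_iff_subsingleton] at hnt
      obtain ⟨x⟩ := h.toNonempty
      exact x.isPrime.ne_top ((Ideal.eq_top_iff_one _).mpr
        (by rw [Subsingleton.elim (1 : T) 0]; exact zero_mem _))
    refine ⟨hnt, fun e he => ?_⟩
    have hclopen : IsClopen (PrimeSpectrum.basicOpen e : Set (PrimeSpectrum T)) :=
      PrimeSpectrum.isClopen_iff.mpr ⟨e, he, rfl⟩
    rcases isClopen_iff.mp hclopen with h0 | h1
    · left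
      exact eq_zero_of_basicOpen_eq_empty he h0
    · right
      have h2 : (PrimeSpectrum.basicOpen (1 - e) : Set (PrimeSpectrum T)) = ∅ := by
        rw [Set.eq_empty_iff_forall_notMem]
        intro x hx
        have hx1 : x ∈ (PrimeSpectrum.basicOpen e : Set (PrimeSpectrum T)) := h1 ▸ Set.mem_univ x
        have hx1' : e ∉ x.asIdeal := hx1
        have hx2 : (1 - e) ∉ x.asIdeal := hx
        have : e * (1 - e) ∈ x.asIdeal := by
          rw [mul_sub, mul_one, he.eq, sub_self]; exact zero_mem _
        rcases x.isPrime.mem_or_mem this with h | h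
        · exact hx1' h
        · exact hx2 h
      have h3 : 1 - e = 0 := eq_zero_of_basicOpen_eq_empty he.one_sub h2
      exact (sub_eq_zero.mp h3).symm
  · rintro ⟨hnt, hid⟩
    haveI := hnt
    haveI : PreconnectedSpace (PrimeSpectrum T) := by
      rw [preconnectedSpace_iff_clopen]
      intro s hs
      obtain ⟨e, he, rfl⟩ := PrimeSpectrum.isClopen_iff.mp hs
      rcases hid e he with rfl | rfl
      · left; simp
      · right; simp
    exact { toNonempty := inferInstance }

theorem ConnIdem.of_injective {T T' : Type*} [CommRing T] [CommRing T'] (φ : T →+* T')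
    (hφ : Function.Injective φ) (h : ConnIdem T') : ConnIdem T := by
  obtain ⟨h1, h2⟩ := h
  refine ⟨φ.domain_nontrivial, fun e he => ?_⟩
  rcases h2 (φ e) (he.map φ) with h | h
  · left; exact hφ (by rw [h, map_zero])
  · right; exact hφ (by rw [h, map_one])

theorem pow_mem_range_of_isPurelyInseparable {k F E R : Type*} [Field k] [Field F] [Field E]
    [Algebra k F] [Algebra k E] [Algebra F E] [IsScalarTower k F E] [IsPurelyInseparable F E]
    [CommRing R] [Algebra k R] (q : ℕ) [ExpChar k q] [Nontrivial (E ⊗[k] R)] (z : E ⊗[k] R) :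
    ∃ n : ℕ, z ^ q ^ n ∈ (Algebra.TensorProduct.map (IsScalarTower.toAlgHom k F E)
      (AlgHom.id k R)).toRingHom.range := by
  haveI : ExpChar F q := expChar_of_injective_algebraMap (algebraMap k F).injective q
  haveI : ExpChar (E ⊗[k] R) q := expChar_of_injective_algebraMap (algebraMap k _).injective q
  induction z using TensorProduct.induction_on with
  | zero => exact ⟨0, 0, by simp⟩
  | tmul ω r =>
    obtain ⟨n, a, ha⟩ := IsPurelyInseparable.pow_mem F q ω
    refine ⟨n, a ⊗ₜ[k] (r ^ q ^ n), ?_⟩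
    rw [Algebra.TensorProduct.tmul_pow, ← ha]
    rfl
  | add z1 z2 h1 h2 =>
    obtain ⟨n1, hn1⟩ := h1
    obtain ⟨n2, hn2⟩ := h2
    refine ⟨n1 + n2, ?_⟩
    rw [add_pow_expChar_pow]
    refine add_mem ?_ ?_
    · rw [pow_add, pow_mul]; exact pow_mem hn1 _
    · rw [add_comm n1 n2, pow_add, pow_mul]; exact pow_mem hn2 _

theorem connIdem_algClosure_of_isSepClosed {k S : Type u} [Field k] [IsSepClosed k] [CommRing S]
    [Algebra k S] (h : ConnIdem S) : ConnIdem (AlgebraicClosure k ⊗[k] S) := by
  have hkS : ConnIdem (k ⊗[k] S) :=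
    ConnIdem.of_injective (Algebra.TensorProduct.lid k S).toRingEquiv.toRingHom
      (Algebra.TensorProduct.lid k S).injective h
  let Φ := Algebra.TensorProduct.map (IsScalarTower.toAlgHom k k (AlgebraicClosure k))
    (AlgHom.id k S)
  have hΦ : Function.Injective Φ := tensor_map_injective _
    (fun a b hab => (algebraMap k (AlgebraicClosure k)).injective hab)
  haveI := hkS.1
  haveI hnt : Nontrivial (AlgebraicClosure k ⊗[k] S) := hΦ.nontrivial
  refine ⟨hnt, fun e he => ?_⟩
  obtain ⟨q, hq⟩ : ∃ q, ExpChar k q := ⟨ringExpChar k, inferInstance⟩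
  haveI := hq
  obtain ⟨n, a, ha⟩ := pow_mem_range_of_isPurelyInseparable (F := k) (E := AlgebraicClosure k)
    (R := S) q e
  have hpos : q ^ n ≠ 0 := (pow_pos (expChar_pos k q) n).ne'
  rw [he.pow_eq hpos] at ha
  have ha' : Φ a = e := ha
  have hida : IsIdempotentElem a := by
    apply hΦ
    rw [map_mul, ha']; exact he.eq
  rcases hkS.2 a hida with h0 | h1
  · left; rw [← ha', h0, map_zero]
  · right; rw [← ha', h1, map_one]

theorem exists_finset_mem_range_subalgebra {k K S : Type*} [Field k] [CommRing K] [Algebra k K]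
    [CommRing S] [Algebra k S] (x : K ⊗[k] S) :
    ∃ T : Finset K, ∀ A' : Subalgebra k K, (T : Set K) ⊆ A' →
      x ∈ (Algebra.TensorProduct.map A'.val (AlgHom.id k S)).range := by
  classical
  induction x using TensorProduct.induction_on with
  | zero => exact ⟨∅, fun L _ => zero_mem _⟩
  | tmul ω r =>
    refine ⟨{ω}, fun L hL => (AlgHom.mem_range _).mpr ⟨(⟨ω, hL (by simp)⟩ : L) ⊗ₜ[k] r, rfl⟩⟩
  | add x y hx hy =>
    obtain ⟨Tx, hTx⟩ := hx
    obtain ⟨Ty, hTy⟩ := hy
    refine ⟨Tx ∪ Ty, fun L hL => add_mem (hTx L ?_) (hTy L ?_)⟩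
    · exact (Finset.coe_subset.mpr Finset.subset_union_left).trans hL
    · exact (Finset.coe_subset.mpr Finset.subset_union_right).trans hL

/-- The main fibrewise argument: an idempotent of `R ⊗ S` which is trivial on a dense enough set of
fibres is trivial, if `Spec R` is connected. -/
theorem idem_trivial_of_fibres {k R S : Type*} [Field k] [CommRing R] [CommRing S] [Algebra k R]
    [Algebra k S] [Nontrivial S] [PreconnectedSpace (PrimeSpectrum R)]
    (D : Set (PrimeSpectrum R))
    (hD : ∀ U : Set (PrimeSpectrum R), IsOpen U → U.Nonempty → (U ∩ D).Nonempty)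
    (hfib : ∀ p ∈ D, ∀ ε : (R ⧸ p.asIdeal) ⊗[k] S, IsIdempotentElem ε → ε = 0 ∨ ε = 1)
    (e : R ⊗[k] S) (he : IsIdempotentElem e) : e = 0 ∨ e = 1 := by
  let π : PrimeSpectrum (R ⊗[k] S) → PrimeSpectrum R :=
    PrimeSpectrum.comap (algebraMap R (R ⊗[k] S))
  have hπopen : IsOpenMap π := PrimeSpectrum.isOpenMap_comap_algebraMap_tensorProduct_of_field
  have hπsurj : Function.Surjective π :=
    PrimeSpectrum.comap_surjective_of_faithfullyFlat (A := R) (B := R ⊗[k] S)
  have hM1 : ∀ (p : PrimeSpectrum R) (x : R ⊗[k] S),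
      Algebra.TensorProduct.map (Ideal.Quotient.mkₐ k p.asIdeal) (AlgHom.id k S) x = 0 →
      ∀ P : PrimeSpectrum (R ⊗[k] S), π P = p → x ∈ P.asIdeal := by
    intro p x hx P hP
    have hker : x ∈ RingHom.ker
        (Algebra.TensorProduct.map (Ideal.Quotient.mkₐ k p.asIdeal) (AlgHom.id k S)) := hx
    have hk : RingHom.ker (Ideal.Quotient.mkₐ k p.asIdeal) = p.asIdeal := by
      ext x; exact Ideal.Quotient.eq_zero_iff_mem
    rw [Algebra.TensorProduct.rTensor_ker (S := k) _ (Ideal.Quotient.mkₐ_surjective k p.asIdeal),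
      hk] at hker
    have hle : Ideal.map (Algebra.TensorProduct.includeLeft : R →ₐ[k] R ⊗[k] S) p.asIdeal ≤
        P.asIdeal := by
      rw [Ideal.map_le_iff_le_comap]
      intro r hr
      have : r ∈ (π P).asIdeal := by rw [hP]; exact hr
      exact this
    exact hle hker
  let E1 : Set (PrimeSpectrum R) := π '' (PrimeSpectrum.basicOpen e : Set _)
  let E0 : Set (PrimeSpectrum R) := π '' (PrimeSpectrum.basicOpen (1 - e) : Set _)
  have hE1 : IsOpen E1 := hπopen _ (PrimeSpectrum.basicOpen e).isOpen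
  have hE0 : IsOpen E0 := hπopen _ (PrimeSpectrum.basicOpen (1 - e)).isOpen
  have hcover : ∀ p, p ∈ E1 ∪ E0 := by
    intro p
    obtain ⟨P, rfl⟩ := hπsurj p
    by_cases h : e ∈ P.asIdeal
    · right
      refine ⟨P, ?_, rfl⟩
      show (1 - e) ∉ P.asIdeal
      intro h'
      exact P.isPrime.ne_top ((Ideal.eq_top_iff_one _).mpr
        (by have := add_mem h h'; rwa [add_sub_cancel] at this))
    · left; exact ⟨P, h, rfl⟩
  have hdisj : E1 ∩ E0 = ∅ := by
    by_contra hne
    obtain ⟨p, ⟨hp1, hp0⟩, hpD⟩ :=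
      hD (E1 ∩ E0) (hE1.inter hE0) (Set.nonempty_iff_ne_empty.mpr hne)
    obtain ⟨P1, hP1, hP1p⟩ := hp1
    obtain ⟨P0, hP0, hP0p⟩ := hp0
    let ρ := Algebra.TensorProduct.map (Ideal.Quotient.mkₐ k p.asIdeal) (AlgHom.id k S)
    rcases hfib p hpD (ρ e) (he.map ρ) with h | h
    · exact hP1 (hM1 p e h P1 hP1p)
    · have : ρ (1 - e) = 0 := by rw [map_sub, map_one, h, sub_self]
      exact hP0 (hM1 p (1 - e) this P0 hP0p)
  have hcases : E1 = ∅ ∨ E0 = ∅ := by
    by_contra hcon
    push Not at hcon
    obtain ⟨h1, h0⟩ := hcon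
    have := isPreconnected_univ (α := PrimeSpectrum R) E1 E0 hE1 hE0 (fun p _ => hcover p)
      (by rw [Set.univ_inter]; exact h1)
      (by rw [Set.univ_inter]; exact h0)
    rw [Set.univ_inter, hdisj] at this
    exact Set.not_nonempty_empty this
  rcases hcases with h | h
  · left
    exact eq_zero_of_basicOpen_eq_empty he (Set.image_eq_empty.mp h)
  · right
    have : 1 - e = 0 := eq_zero_of_basicOpen_eq_empty he.one_sub (Set.image_eq_empty.mp h)
    exact (sub_eq_zero.mp this).symm

theorem connIdem_tensor_of_isAlgClosed {k : Type u} [Field k] [IsAlgClosed k] {K : Type v}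
    [Field K] [Algebra k K] {S : Type w} [CommRing S] [Algebra k S] (h : ConnIdem S) :
    ConnIdem (K ⊗[k] S) := by
  classical
  haveI := h.1
  have hkS : ConnIdem (k ⊗[k] S) :=
    ConnIdem.of_injective (Algebra.TensorProduct.lid k S).toRingEquiv.toRingHom
      (Algebra.TensorProduct.lid k S).injective h
  haveI := hkS.1
  have hnt : Nontrivial (K ⊗[k] S) :=
    (tensor_map_injective (R := S) (Algebra.ofId k K) (algebraMap k K).injective).nontrivial
  refine ⟨hnt, fun e he => ?_⟩
  obtain ⟨T, hT⟩ := exists_finset_mem_range_subalgebra e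
  let R' : Subalgebra k K := Algebra.adjoin k (T : Set K)
  obtain ⟨e', he'⟩ := (AlgHom.mem_range _).mp (hT R' Algebra.subset_adjoin)
  have hinj := tensor_map_injective (R := S) R'.val Subtype.val_injective
  have hide' : IsIdempotentElem e' := by
    apply hinj
    rw [map_mul, he']; exact he.eq
  haveI : Algebra.FiniteType k R' :=
    (Subalgebra.fg_iff_finiteType R').mp (Subalgebra.fg_adjoin_finset T)
  haveI : IsJacobsonRing R' := isJacobsonRing_of_finiteType (A := k)
  have key : e' = 0 ∨ e' = 1 := by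
    refine idem_trivial_of_fibres (k := k) (R := R') (S := S)
      {x | IsClosed ({x} : Set (PrimeSpectrum R'))} ?_ ?_ e' hide'
    · intro U hU hUne
      obtain ⟨x, hxU, hx⟩ := PrimeSpectrum.exists_isClosed_singleton_of_isJacobsonRing U hU hUne
      exact ⟨x, hxU, hx⟩
    · intro p hp ε hε
      haveI hmax : p.asIdeal.IsMaximal := (PrimeSpectrum.isClosed_singleton_iff_isMaximal p).mp hp
      letI : Field (R' ⧸ p.asIdeal) := Ideal.Quotient.field p.asIdeal
      haveI : Algebra.FiniteType k (R' ⧸ p.asIdeal) :=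
        Algebra.FiniteType.of_surjective (Ideal.Quotient.mkₐ k p.asIdeal)
          (Ideal.Quotient.mkₐ_surjective k p.asIdeal)
      haveI : Module.Finite k (R' ⧸ p.asIdeal) := finite_of_finite_type_of_isJacobsonRing k _
      haveI : Algebra.IsIntegral k (R' ⧸ p.asIdeal) := Algebra.IsIntegral.of_finite k _
      have hbij : Function.Bijective (algebraMap k (R' ⧸ p.asIdeal)) :=
        IsAlgClosed.algebraMap_bijective_of_isIntegral
      let e0 : k ≃ₐ[k] (R' ⧸ p.asIdeal) := AlgEquiv.ofBijective (Algebra.ofId k _) hbij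
      let θ : (R' ⧸ p.asIdeal) ⊗[k] S →ₐ[k] k ⊗[k] S :=
        Algebra.TensorProduct.map (e0.symm : (R' ⧸ p.asIdeal) →ₐ[k] k) (AlgHom.id k S)
      have hθ : Function.Injective θ := tensor_map_injective (k := k) (R := S)
        (e0.symm : (R' ⧸ p.asIdeal) →ₐ[k] k) e0.symm.injective
      rcases hkS.2 (θ ε) (hε.map θ) with h0 | h1
      · left; exact hθ (by rw [h0, map_zero])
      · right; exact hθ (by rw [h1, map_one])
  rcases key with h0 | h1
  · left; rw [← he', h0, map_zero]
  · right; rw [← he', h1, map_one]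

theorem connIdem_tensor_of_isSepClosed {k S : Type u} [Field k] [IsSepClosed k] [CommRing S]
    [Algebra k S] (h : ConnIdem S) (K : Type u) [Field K] [Algebra k K] :
    ConnIdem (K ⊗[k] S) := by
  have h1 := connIdem_algClosure_of_isSepClosed (k := k) h
  let ψ : AlgebraicClosure k →ₐ[k] AlgebraicClosure K := IsAlgClosed.lift
  letI : Algebra (AlgebraicClosure k) (AlgebraicClosure K) := ψ.toRingHom.toAlgebra
  haveI : IsScalarTower k (AlgebraicClosure k) (AlgebraicClosure K) :=
    IsScalarTower.of_algebraMap_eq (fun x => (ψ.commutes x).symm)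
  have h2 : ConnIdem (AlgebraicClosure K ⊗[AlgebraicClosure k] (AlgebraicClosure k ⊗[k] S)) :=
    connIdem_tensor_of_isAlgClosed h1
  let e := Algebra.TensorProduct.cancelBaseChange k (AlgebraicClosure k) (AlgebraicClosure k)
    (AlgebraicClosure K) S
  have h3 : ConnIdem (AlgebraicClosure K ⊗[k] S) :=
    ConnIdem.of_injective e.symm.toRingEquiv.toRingHom e.symm.injective h2
  exact ConnIdem.of_injective
    (Algebra.TensorProduct.map (IsScalarTower.toAlgHom k K (AlgebraicClosure K))
      (AlgHom.id k S)).toRingHom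
    (tensor_map_injective _ (fun a b hab => (algebraMap K (AlgebraicClosure K)).injective hab)) h3

theorem connectedSpace_tensor {k R S : Type u} [Field k] [IsSepClosed k] [CommRing R] [CommRing S]
    [Algebra k R] [Algebra k S]
    [ConnectedSpace (PrimeSpectrum R)] [ConnectedSpace (PrimeSpectrum S)] :
    ConnectedSpace (PrimeSpectrum (R ⊗[k] S)) := by
  have hR : ConnIdem R := (connectedSpace_iff R).mp inferInstance
  have hS : ConnIdem S := (connectedSpace_iff S).mp inferInstance
  haveI := hR.1
  haveI := hS.1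
  refine (connectedSpace_iff (R ⊗[k] S)).mpr ⟨?_, fun e he => ?_⟩
  · exact (Algebra.TensorProduct.includeLeft_injective (R := k) (S := k) (A := R) (B := S)
      (algebraMap k S).injective).nontrivial
  · refine idem_trivial_of_fibres (k := k) Set.univ (fun U _ hU => by rwa [Set.inter_univ]) ?_ e he
    intro p _ ε hε
    have hF := connIdem_tensor_of_isSepClosed (k := k) hS (FractionRing (R ⧸ p.asIdeal))
    let θ := Algebra.TensorProduct.map
      (IsScalarTower.toAlgHom k (R ⧸ p.asIdeal) (FractionRing (R ⧸ p.asIdeal))) (AlgHom.id k S)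
    have hθ : Function.Injective θ := tensor_map_injective (k := k) (R := S)
      (IsScalarTower.toAlgHom k (R ⧸ p.asIdeal) (FractionRing (R ⧸ p.asIdeal)))
      (fun a b hab => IsFractionRing.injective (R ⧸ p.asIdeal) (FractionRing (R ⧸ p.asIdeal)) hab)
    rcases hF.2 (θ ε) (hε.map θ) with h0 | h1
    · left; exact hθ (by rw [h0, map_zero])
    · right; exact hθ (by rw [h1, map_one])

end Groth.Agent.H25.GeomConn
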