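import Mathlib
import Groth.Agent.H25.GeomDomain
import Groth.Agent.H25.GeomIrr

set_option maxHeartbeats 400000
set_option linter.style.haveILetI false
set_option linter.unusedVariables false
set_option linter.unusedSectionVars false

open TensorProduct

universe u v w

namespace Groth.Agent.H25.GeomRed

open Groth.Agent.H25.GeomIrr Groth.Agent.H25.GeomDomain

/-- Over an algebraically closed field `k`, the tensor product of a field extension with a
reduced algebra is reduced. -/
theorem isReduced_tensor_of_isAlgClosed (k : Type u) [Field k] [IsAlgClosed k]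
    (K : Type v) [Field K] [Algebra k K] (A : Type w) [CommRing A] [Algebra k A] [IsReduced A] :
    IsReduced (K ⊗[k] A) := by
  classical
  let b := Module.Free.chooseBasis k A
  let B := Algebra.TensorProduct.basis K b
  have hBsmul : ∀ (a : K) i, a • B i = a ⊗ₜ[k] b i :=
    fun a i => Algebra.TensorProduct.basis_repr_symm_apply' b a i
  refine ⟨fun x hx => ?_⟩
  by_contra hx0
  obtain ⟨e, he⟩ : ∃ e, e = B.repr x := ⟨_, rfl⟩
  have hsumx : (∑ i ∈ e.support, e i ⊗ₜ[k] b i) = x := by
    have := B.linearCombination_repr x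
    rw [← he, Finsupp.linearCombination_apply, Finsupp.sum] at this
    rw [← this]
    exact Finset.sum_congr rfl (fun i _ => (hBsmul _ _).symm)
  obtain ⟨i0, hi0⟩ : ∃ i, e i ≠ 0 := by
    by_contra h; push Not at h
    apply hx0
    have : e = 0 := Finsupp.ext h
    rw [he] at this
    exact B.repr.map_eq_zero_iff.mp this
  let T : Finset K := e.support.image e ∪ {(e i0)⁻¹}
  let R' : Subalgebra k K := Algebra.adjoin k (T : Set K)
  have hTR : (T : Set K) ⊆ R' := Algebra.subset_adjoin
  have hemem : ∀ i, e i ∈ R' := by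
    intro i
    by_cases hi : i ∈ e.support
    · exact hTR (Finset.mem_coe.mpr (Finset.mem_union_left _ (Finset.mem_image_of_mem e hi)))
    · rw [Finsupp.notMem_support_iff.mp hi]; exact zero_mem _
  have htmem : (e i0)⁻¹ ∈ R' :=
    hTR (Finset.mem_coe.mpr (Finset.mem_union_right _ (Finset.mem_singleton_self _)))
  haveI : Algebra.FiniteType k R' :=
    (Subalgebra.fg_iff_finiteType R').mp (Subalgebra.fg_adjoin_finset T)
  obtain ⟨χ⟩ := exists_algHom_of_finiteType k R'
  let x' : R' ⊗[k] A := ∑ i ∈ e.support, (⟨e i, hemem i⟩ : R') ⊗ₜ[k] b i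
  let Φ : R' ⊗[k] A →ₐ[k] K ⊗[k] A := Algebra.TensorProduct.map R'.val (AlgHom.id k A)
  have hΦt : ∀ (r : R') (a : A), Φ (r ⊗ₜ[k] a) = (r : K) ⊗ₜ[k] a := fun r a => rfl
  have hΦx : Φ x' = x := by
    rw [← hsumx]
    simp only [x', map_sum, hΦt]
  have hΦinj : Function.Injective Φ :=
    tensor_map_injective (k := k) (R := A) R'.val (fun a b h => Subtype.ext h)
  have hx'nil : IsNilpotent x' := (IsNilpotent.map_iff hΦinj).mp (by rw [hΦx]; exact hx)
  let Θ : R' ⊗[k] A →ₐ[k] A :=
    (Algebra.TensorProduct.lid k A).toAlgHom.comp (Algebra.TensorProduct.map χ (AlgHom.id k A))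
  have hΘ : ∀ (r : R') (a : A), Θ (r ⊗ₜ[k] a) = χ r • a := by
    intro r a
    simp [Θ]
  have hΘx : Θ x' = ∑ i ∈ e.support, χ ⟨e i, hemem i⟩ • b i := by
    simp only [x', map_sum, hΘ]
  have hΘ0 : Θ x' = 0 := (hx'nil.map Θ).eq_zero
  have h1 := linearIndependent_iff'.mp b.linearIndependent e.support
    (fun i => χ ⟨e i, hemem i⟩) (by rw [← hΘx]; exact hΘ0) i0 (Finsupp.mem_support_iff.mpr hi0)
  have hunit : (⟨e i0, hemem i0⟩ * ⟨(e i0)⁻¹, htmem⟩ : R') = 1 :=
    Subtype.ext (mul_inv_cancel₀ hi0)
  have hχ : χ ⟨e i0, hemem i0⟩ * χ ⟨(e i0)⁻¹, htmem⟩ = 1 := by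
    rw [← map_mul, hunit, map_one]
  rw [h1, zero_mul] at hχ
  exact zero_ne_one hχ

/-- If `A` is geometrically reduced over `k` and `B` is a reduced `k`-algebra then `B ⊗ A` is
reduced. -/
theorem isReduced_tensor_of_geomReduced {k : Type u} [Field k] {A : Type u} [CommRing A]
    [Algebra k A] (hA : ∀ (K : Type u) [Field K] [Algebra k K], IsReduced (K ⊗[k] A))
    (B : Type u) [CommRing B] [Algebra k B] [IsReduced B] : IsReduced (B ⊗[k] A) := by
  classical
  let b := Module.Free.chooseBasis k A
  let Bb := Algebra.TensorProduct.basis B b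
  have hBsmul : ∀ (c : B) i, c • Bb i = c ⊗ₜ[k] b i :=
    fun c i => Algebra.TensorProduct.basis_repr_symm_apply' b c i
  refine ⟨fun z hz => ?_⟩
  obtain ⟨e, he⟩ : ∃ e, e = Bb.repr z := ⟨_, rfl⟩
  have hsum : (∑ i ∈ e.support, e i ⊗ₜ[k] b i) = z := by
    have := Bb.linearCombination_repr z
    rw [← he, Finsupp.linearCombination_apply, Finsupp.sum] at this
    rw [← this]
    exact Finset.sum_congr rfl (fun i _ => (hBsmul _ _).symm)
  have hzero : ∀ i, e i = 0 := by
    intro i
    apply IsNilpotent.eq_zero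
    rw [← mem_nilradical, nilradical_eq_sInf, Ideal.mem_sInf]
    intro p hp
    haveI : p.IsPrime := hp
    let ψ : B →ₐ[k] FractionRing (B ⧸ p) :=
      (IsScalarTower.toAlgHom k (B ⧸ p) (FractionRing (B ⧸ p))).comp (Ideal.Quotient.mkₐ k p)
    haveI := hA (FractionRing (B ⧸ p))
    let Ψ : B ⊗[k] A →ₐ[k] FractionRing (B ⧸ p) ⊗[k] A :=
      Algebra.TensorProduct.map ψ (AlgHom.id k A)
    have hΨ0 : Ψ z = 0 := (hz.map Ψ).eq_zero
    let Bκ := Algebra.TensorProduct.basis (FractionRing (B ⧸ p)) b
    have hκsmul : ∀ (c : FractionRing (B ⧸ p)) i, c • Bκ i = c ⊗ₜ[k] b i :=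
      fun c i => Algebra.TensorProduct.basis_repr_symm_apply' b c i
    have hΨz : Ψ z = ∑ i ∈ e.support, ψ (e i) • Bκ i := by
      rw [← hsum, map_sum]
      refine Finset.sum_congr rfl (fun i _ => ?_)
      rw [hκsmul]
      rfl
    by_cases hi : i ∈ e.support
    · have h1 := linearIndependent_iff'.mp Bκ.linearIndependent e.support
        (fun i => ψ (e i)) (by rw [← hΨz]; exact hΨ0) i hi
      have h2 : algebraMap (B ⧸ p) (FractionRing (B ⧸ p)) (Ideal.Quotient.mk p (e i)) = 0 := h1
      have h3 : Ideal.Quotient.mk p (e i) = 0 :=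
        (IsFractionRing.injective (B ⧸ p) (FractionRing (B ⧸ p))) (h2.trans (map_zero _).symm)
      exact Ideal.Quotient.eq_zero_iff_mem.mp h3
    · rw [Finsupp.notMem_support_iff.mp hi]; exact zero_mem _
  rw [← hsum]
  exact Finset.sum_eq_zero (fun i _ => by rw [hzero i, zero_tmul])

/-- Base change of a reduced algebra along a separable algebraic field extension is reduced. -/
theorem isReduced_tensor_of_isSeparable {k : Type u} [Field k] (L : Type u) [Field L]
    [Algebra k L] [Algebra.IsSeparable k L] (T : Type u) [CommRing T] [Algebra k T]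
    [IsReduced T] : IsReduced (L ⊗[k] T) := by
  haveI : Algebra.IsAlgebraic k L := Algebra.IsSeparable.isAlgebraic k L
  refine ⟨fun z hz => ?_⟩
  obtain ⟨F, hFfin, ⟨z', hz'⟩, -⟩ := exists_finite_intermediateField (k := k) z z
  haveI := hFfin
  have hΦinj : Function.Injective (Algebra.TensorProduct.map F.val (AlgHom.id k T)) :=
    tensor_map_injective (k := k) (R := T) F.val (fun a b h => Subtype.ext h)
  have hFred : IsReduced (F ⊗[k] T) := by
    have hF : ∀ (K : Type u) [Field K] [Algebra k K], IsReduced (K ⊗[k] F) := by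
      intro K _ _
      haveI : Algebra.FormallyUnramified k F := Algebra.FormallyUnramified.of_isSeparable k F
      exact Algebra.FormallyUnramified.isReduced_of_field K (K ⊗[k] F)
    haveI : IsReduced (T ⊗[k] F) := isReduced_tensor_of_geomReduced hF T
    exact isReduced_of_injective (Algebra.TensorProduct.comm k F T)
      (Algebra.TensorProduct.comm k F T).injective
  have hz'' : Algebra.TensorProduct.map F.val (AlgHom.id k T) z' = z := hz'
  have hnil : IsNilpotent z' := (IsNilpotent.map_iff hΦinj).mp (by rw [hz'']; exact hz)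
  rw [← hz'', hnil.eq_zero, map_zero]

theorem isReduced_of_algClosure {k S : Type u} [Field k] [CommRing S] [Algebra k S]
    (h : IsReduced (AlgebraicClosure k ⊗[k] S)) (k' : Type u) [Field k'] [Algebra k k'] :
    IsReduced (k' ⊗[k] S) := by
  let ψ : AlgebraicClosure k →ₐ[k] AlgebraicClosure k' := IsAlgClosed.lift
  letI : Algebra (AlgebraicClosure k) (AlgebraicClosure k') := ψ.toRingHom.toAlgebra
  haveI : IsScalarTower k (AlgebraicClosure k) (AlgebraicClosure k') :=
    IsScalarTower.of_algebraMap_eq (fun x => (ψ.commutes x).symm)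
  haveI : IsReduced (AlgebraicClosure k' ⊗[AlgebraicClosure k] (AlgebraicClosure k ⊗[k] S)) :=
    isReduced_tensor_of_isAlgClosed _ _ _
  let e := Algebra.TensorProduct.cancelBaseChange k (AlgebraicClosure k) (AlgebraicClosure k)
    (AlgebraicClosure k') S
  haveI : IsReduced (AlgebraicClosure k' ⊗[k] S) :=
    isReduced_of_injective e.symm e.symm.injective
  exact isReduced_of_injective
    (Algebra.TensorProduct.map (IsScalarTower.toAlgHom k k' (AlgebraicClosure k'))
      (AlgHom.id k S))
    (tensor_map_injective _ (fun a b hab => (algebraMap k' (AlgebraicClosure k')).injective hab))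

theorem isReduced_tensor_of_purelyInseparable {k S : Type u} [Field k] [CommRing S]
    [Algebra k S]
    (h : ∀ (k' : Type u) [Field k'] [Algebra k k'] [Module.Finite k k']
      [IsPurelyInseparable k k'], IsReduced (k' ⊗[k] S))
    (P : Type u) [Field P] [Algebra k P] [IsPurelyInseparable k P] : IsReduced (P ⊗[k] S) := by
  haveI : Algebra.IsIntegral k P := IsPurelyInseparable.isIntegral
  refine ⟨fun z hz => ?_⟩
  obtain ⟨T, hT⟩ := exists_finset_mem_range (k := k) (E := P) z
  let F : IntermediateField k P := IntermediateField.adjoin k (T : Set P)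
  obtain ⟨z', hz'⟩ := hT F (IntermediateField.subset_adjoin k _)
  haveI : FiniteDimensional k F :=
    IntermediateField.finiteDimensional_adjoin (fun x _ => Algebra.IsIntegral.isIntegral x)
  haveI : IsPurelyInseparable k F := IsPurelyInseparable.tower_bot k F P
  haveI := h F
  have hΦinj : Function.Injective (Algebra.TensorProduct.map F.val (AlgHom.id k S)) :=
    tensor_map_injective (k := k) (R := S) F.val (fun a b h => Subtype.ext h)
  have hz'' : Algebra.TensorProduct.map F.val (AlgHom.id k S) z' = z := hz'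
  have hnil : IsNilpotent z' := (IsNilpotent.map_iff hΦinj).mp (by rw [hz'']; exact hz)
  rw [← hz'', hnil.eq_zero, map_zero]

theorem isReduced_tensor_of_tower_isSeparable {k S : Type u} [Field k] [CommRing S] [Algebra k S]
    (P Ω : Type u) [Field P] [Field Ω] [Algebra k P] [Algebra k Ω] [Algebra P Ω]
    [IsScalarTower k P Ω] [Algebra.IsSeparable P Ω] [IsReduced (P ⊗[k] S)] :
    IsReduced (Ω ⊗[k] S) := by
  haveI : IsReduced (Ω ⊗[P] (P ⊗[k] S)) :=
    isReduced_tensor_of_isSeparable (k := P) Ω (P ⊗[k] S)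
  let e := Algebra.TensorProduct.cancelBaseChange k P P Ω S
  exact isReduced_of_injective e.symm e.symm.injective

theorem isReduced_algClosure_of_purelyInseparable {k S : Type u} [Field k] [CommRing S]
    [Algebra k S]
    (h : ∀ (k' : Type u) [Field k'] [Algebra k k'] [Module.Finite k k']
      [IsPurelyInseparable k k'], IsReduced (k' ⊗[k] S)) :
    IsReduced (AlgebraicClosure k ⊗[k] S) := by
  haveI : IsReduced (↥(perfectClosure k (AlgebraicClosure k)) ⊗[k] S) :=
    isReduced_tensor_of_purelyInseparable h _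
  haveI : Algebra.IsAlgebraic (↥(perfectClosure k (AlgebraicClosure k))) (AlgebraicClosure k) :=
    Algebra.IsAlgebraic.tower_top (K := k) _
  haveI : Algebra.IsSeparable (↥(perfectClosure k (AlgebraicClosure k))) (AlgebraicClosure k) :=
    Algebra.IsAlgebraic.isSeparable_of_perfectField
  exact isReduced_tensor_of_tower_isSeparable (↥(perfectClosure k (AlgebraicClosure k)))
    (AlgebraicClosure k)

theorem tfae_geometricallyReduced {k S : Type u} [Field k] [CommRing S] [Algebra k S] :
    [∀ (k' : Type u) [Field k'] [Algebra k k'] [Module.Finite k k'] [IsPurelyInseparable k k'],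
        IsReduced (k' ⊗[k] S),
      Algebra.IsGeometricallyReduced k S,
      ∀ (K : Type u) [Field K] [Algebra k K], IsReduced (K ⊗[k] S)].TFAE := by
  tfae_have 3 → 1 := fun h k' _ _ _ _ => h k'
  tfae_have 3 → 2 := fun h =>
    (Algebra.isGeometricallyReduced_field_iff k S).mpr (h (AlgebraicClosure k))
  tfae_have 2 → 3 := by
    intro h K _ _
    exact isReduced_of_algClosure ((Algebra.isGeometricallyReduced_field_iff k S).mp h) K
  tfae_have 1 → 2 := by
    intro h
    rw [Algebra.isGeometricallyReduced_field_iff]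
    exact isReduced_algClosure_of_purelyInseparable h
  tfae_finish

end Groth.Agent.H25.GeomRed
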