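import Mathlib
import Groth.Agent.H25.GeomRed
import Groth.Agent.H25.GeomConn

set_option maxHeartbeats 400000
set_option linter.style.haveILetI false
set_option linter.unusedVariables false
set_option linter.unusedSectionVars false

open TensorProduct

universe u v w

namespace Groth.Agent.H25.GeomRed

open Groth.Agent.H25.GeomIrr Groth.Agent.H25.GeomDomain

/-- A purely inseparable extension embeds into any perfect field extension. -/
theorem exists_algHom_of_purelyInseparable (F P E : Type*) [Field F] [Field P] [Field E]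
    [Algebra F P] [Algebra F E] [PerfectField P] [IsPurelyInseparable F E] :
    Nonempty (E →ₐ[F] P) := by
  obtain ⟨q, hq⟩ := ExpChar.exists F
  haveI := hq
  haveI : ExpChar P q := expChar_of_injective_algebraMap (algebraMap F P).injective q
  haveI : ExpChar E q := expChar_of_injective_algebraMap (algebraMap F E).injective q
  haveI : PerfectRing P q := PerfectField.toPerfectRing q
  let φ : E →+* P := PerfectRing.lift (algebraMap F E) (algebraMap F P) q
  exact ⟨{ φ with commutes' := fun x => PerfectRing.lift_comp_apply _ _ _ x }⟩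

theorem exists_finite_intermediateField_finset {k E R : Type*} [Field k] [Field E] [Algebra k E]
    [Algebra.IsAlgebraic k E] [CommRing R] [Algebra k R] (S : Finset (E ⊗[k] R)) :
    ∃ L : IntermediateField k E, FiniteDimensional k L ∧
      ∀ x ∈ S, x ∈ (Algebra.TensorProduct.map L.val (AlgHom.id k R)).range := by
  classical
  choose T hT using fun x : E ⊗[k] R => exists_finset_mem_range (k := k) x
  refine ⟨IntermediateField.adjoin k ((S.biUnion T : Finset E) : Set E),
    IntermediateField.finiteDimensional_adjoin (fun x _ => Algebra.IsIntegral.isIntegral x),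
    fun x hx => hT x _ ?_⟩
  intro t ht
  exact IntermediateField.subset_adjoin k _
    (Finset.mem_coe.mpr (Finset.mem_biUnion.mpr ⟨x, hx, ht⟩))

/-- Descent of the nilradical to a finite level: the key reducedness statement. -/
theorem isReduced_tensor_quotient_nilradical {k A F P : Type u} [Field k] [CommRing A]
    [Algebra k A] [Field F] [Field P] [Algebra k F] [Algebra k P] [Algebra F P]
    [IsScalarTower k F P] (φ : F →ₐ[k] P) (hφ : ∀ c, φ c = algebraMap F P c)
    (hN : nilradical (P ⊗[k] A) ≤ (nilradical (F ⊗[k] A)).map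
      (Algebra.TensorProduct.map φ (AlgHom.id k A))) :
    IsReduced (P ⊗[F] ((F ⊗[k] A) ⧸ nilradical (F ⊗[k] A))) := by
  let Φ : F ⊗[k] A →ₐ[k] P ⊗[k] A := Algebra.TensorProduct.map φ (AlgHom.id k A)
  let e := Algebra.TensorProduct.cancelBaseChange k F F P A
  let μ : P ⊗[F] (F ⊗[k] A) →ₐ[F] P ⊗[F] ((F ⊗[k] A) ⧸ nilradical (F ⊗[k] A)) :=
    Algebra.TensorProduct.map (AlgHom.id F P) (Ideal.Quotient.mkₐ F (nilradical (F ⊗[k] A)))
  have hμsurj : Function.Surjective μ := by
    intro z
    induction z using TensorProduct.induction_on with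
    | zero => exact ⟨0, map_zero _⟩
    | tmul p b =>
      obtain ⟨x, rfl⟩ := Ideal.Quotient.mk_surjective b
      exact ⟨p ⊗ₜ[F] x, rfl⟩
    | add z1 z2 h1 h2 =>
      obtain ⟨y1, rfl⟩ := h1
      obtain ⟨y2, rfl⟩ := h2
      exact ⟨y1 + y2, map_add _ _ _⟩
  have hker : ∀ y, μ y = 0 → IsNilpotent y := by
    intro y hy
    have hmem : y ∈ RingHom.ker μ := hy
    rw [Algebra.TensorProduct.lTensor_ker _
      (Ideal.Quotient.mkₐ_surjective F (nilradical (F ⊗[k] A)))] at hmem
    have hk : RingHom.ker (Ideal.Quotient.mkₐ F (nilradical (F ⊗[k] A))) =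
        nilradical (F ⊗[k] A) := by
      ext x; exact Ideal.Quotient.eq_zero_iff_mem
    rw [hk] at hmem
    have hle : (nilradical (F ⊗[k] A)).map
        (Algebra.TensorProduct.includeRight : (F ⊗[k] A) →ₐ[F] P ⊗[F] (F ⊗[k] A)) ≤
        nilradical (P ⊗[F] (F ⊗[k] A)) := by
      rw [Ideal.map_le_iff_le_comap]
      intro x hx
      exact mem_nilradical.mpr ((mem_nilradical.mp hx).map _)
    exact mem_nilradical.mp (hle hmem)
  have hΦ : ∀ x : F ⊗[k] A, e.symm (Φ x) = (1 : P) ⊗ₜ[F] x := by
    intro x
    induction x using TensorProduct.induction_on with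
    | zero => simp
    | tmul c a =>
      show e.symm ((φ c) ⊗ₜ[k] a) = (1 : P) ⊗ₜ[F] (c ⊗ₜ[k] a)
      rw [Algebra.TensorProduct.cancelBaseChange_symm_tmul, hφ, Algebra.algebraMap_eq_smul_one,
        TensorProduct.smul_tmul, TensorProduct.smul_tmul', smul_eq_mul, mul_one]
    | add x y hx hy => rw [map_add, map_add, hx, hy, tmul_add]
  have hkill : ∀ w ∈ Ideal.span (Φ '' (nilradical (F ⊗[k] A) : Set (F ⊗[k] A))),
      μ (e.symm w) = 0 := by
    intro w hw'
    induction hw' using Submodule.span_induction with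
    | mem w hw =>
      obtain ⟨x, hx, rfl⟩ := hw
      rw [hΦ]
      show (1 : P) ⊗ₜ[F] (Ideal.Quotient.mk (nilradical (F ⊗[k] A)) x) = 0
      rw [Ideal.Quotient.eq_zero_iff_mem.mpr hx, tmul_zero]
    | zero => rw [map_zero, map_zero]
    | add x y _ _ hx hy => rw [map_add, map_add, hx, hy, add_zero]
    | smul c x _ hx => rw [smul_eq_mul, map_mul, map_mul, hx, mul_zero]
  refine ⟨fun z hz => ?_⟩
  obtain ⟨y, rfl⟩ := hμsurj z
  obtain ⟨n, hn⟩ := hz
  have hyn : IsNilpotent (y ^ n) := hker _ (by rw [map_pow, hn])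
  have hy : IsNilpotent y := by
    obtain ⟨m, hm⟩ := hyn
    exact ⟨n * m, by rw [pow_mul, hm]⟩
  have hey : e y ∈ nilradical (P ⊗[k] A) := mem_nilradical.mpr (hy.map e)
  have := hkill _ (hN hey)
  rwa [AlgEquiv.symm_apply_apply] at this

theorem isGeometricallyReduced_quotient_nilradical {k A F P : Type u} [Field k] [CommRing A]
    [Algebra k A] [Field F] [Field P] [Algebra k F] [Algebra k P] [Algebra F P]
    [IsScalarTower k F P] [PerfectField P] (φ : F →ₐ[k] P) (hφ : ∀ c, φ c = algebraMap F P c)
    (hN : nilradical (P ⊗[k] A) ≤ (nilradical (F ⊗[k] A)).map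
      (Algebra.TensorProduct.map φ (AlgHom.id k A))) :
    Algebra.IsGeometricallyReduced F ((F ⊗[k] A) ⧸ nilradical (F ⊗[k] A)) := by
  haveI hred := isReduced_tensor_quotient_nilradical φ hφ hN
  refine ((tfae_geometricallyReduced (k := F)
    (S := (F ⊗[k] A) ⧸ nilradical (F ⊗[k] A))).out 0 1).mp ?_
  intro k'' _ _ _ _
  obtain ⟨ι⟩ := exists_algHom_of_purelyInseparable F P k''
  exact isReduced_of_injective
    (Algebra.TensorProduct.map ι (AlgHom.id F ((F ⊗[k] A) ⧸ nilradical (F ⊗[k] A))))
    (tensor_map_injective (k := F) (R := (F ⊗[k] A) ⧸ nilradical (F ⊗[k] A)) ι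
      ι.toRingHom.injective)

/-- If the nilradical of `P ⊗ A` is finitely generated (`P` a perfect purely inseparable
extension of `k`), then for some finite subextension `F` the ring `(F ⊗ A)_red` is geometrically
reduced over `F`. -/
theorem exists_finite_purelyInseparable_geomReduced {k : Type u} [Field k] (A : Type u)
    [CommRing A] [Algebra k A] (P : Type u) [Field P] [Algebra k P] [PerfectField P]
    [IsPurelyInseparable k P] (hfg : (nilradical (P ⊗[k] A)).FG) :
    ∃ (k' : Type u) (_ : Field k') (_ : Algebra k k'), FiniteDimensional k k' ∧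
      IsPurelyInseparable k k' ∧
      Algebra.IsGeometricallyReduced k' ((k' ⊗[k] A) ⧸ nilradical (k' ⊗[k] A)) := by
  haveI : Algebra.IsIntegral k P := IsPurelyInseparable.isIntegral
  obtain ⟨S, hS⟩ := hfg
  obtain ⟨F, hFfin, hF⟩ := exists_finite_intermediateField_finset (k := k) S
  have hN : nilradical (P ⊗[k] A) ≤ (nilradical (F ⊗[k] A)).map
      (Algebra.TensorProduct.map F.val (AlgHom.id k A)) := by
    rw [← hS, Ideal.span_le]
    intro x hx
    obtain ⟨x', hx'⟩ := hF x hx
    have hx'' : Algebra.TensorProduct.map F.val (AlgHom.id k A) x' = x := hx'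
    have hinj : Function.Injective (Algebra.TensorProduct.map F.val (AlgHom.id k A)) :=
      tensor_map_injective (k := k) (R := A) F.val (fun a b h => Subtype.ext h)
    have hxnil : IsNilpotent x := by
      rw [← mem_nilradical, ← hS]
      exact Ideal.subset_span hx
    have hx'nil : IsNilpotent x' := (IsNilpotent.map_iff hinj).mp (by rw [hx'']; exact hxnil)
    rw [← hx'']
    exact Ideal.mem_map_of_mem _ (mem_nilradical.mpr hx'nil)
  exact ⟨F, inferInstance, inferInstance, hFfin, IsPurelyInseparable.tower_bot k F P,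
    isGeometricallyReduced_quotient_nilradical (F := F) (P := P) F.val (fun c => rfl) hN⟩

end Groth.Agent.H25.GeomRed
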