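import Mathlib
import Groth.Agent.H25.GeomRed

set_option maxHeartbeats 400000
set_option linter.style.haveILetI false
set_option linter.unusedVariables false
set_option linter.unusedSectionVars false

/-!
# Homomorphisms with geometrically reduced fibres

Composition, faithfully flat descent and localization for flat ring homomorphisms with
geometrically reduced fibres.
-/

open TensorProduct

universe u v w

namespace Groth.Agent.H25.GeomRedFib

open Groth.Agent.H25.GeomRed

theorem isReduced_pi {ι : Type*} (R : ι → Type*) [∀ i, MonoidWithZero (R i)]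
    [∀ i, IsReduced (R i)] : IsReduced (∀ i, R i) :=
  ⟨fun x ⟨n, hn⟩ => funext fun i => IsReduced.eq_zero _ ⟨n, by simpa using congr_fun hn i⟩⟩

/-- If `A → B` has geometrically reduced fibres then `K ⊗[A] B` is reduced for every field `K`
over `A`. -/
theorem isReduced_tensor_of_geomReducedFibres {A B : Type u} [CommRing A] [CommRing B]
    [Algebra A B]
    (h : ∀ (p : Ideal A) [p.IsPrime], Algebra.IsGeometricallyReduced p.ResidueField (p.Fiber B))
    (K : Type u) [Field K] [Algebra A K] : IsReduced (K ⊗[A] B) := by
  let p : Ideal A := RingHom.ker (algebraMap A K)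
  haveI : p.IsPrime := RingHom.ker_isPrime _
  let φ : p.ResidueField →+* K := Ideal.ResidueField.lift p (algebraMap A K) le_rfl (by
    intro x hx
    simp only [Submonoid.mem_comap, IsUnit.mem_submonoid_iff]
    exact IsUnit.mk0 _ (fun h0 => hx (by simpa [p, RingHom.mem_ker] using h0)))
  letI : Algebra p.ResidueField K := φ.toAlgebra
  haveI : IsScalarTower A p.ResidueField K := IsScalarTower.of_algebraMap_eq (fun x => by
    change algebraMap A K x = φ (algebraMap A p.ResidueField x)
    rw [Ideal.ResidueField.lift_algebraMap])
  have h2 := (tfae_geometricallyReduced (k := p.ResidueField) (S := p.Fiber B)).out 1 2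
  haveI h3 : IsReduced (K ⊗[p.ResidueField] (p.Fiber B)) := h2.mp (h p) K
  exact isReduced_of_injective
    (Algebra.TensorProduct.cancelBaseChange A p.ResidueField K K B).symm (AlgEquiv.injective _)

/-- Converse: if `K ⊗[A] B` is reduced for every field `K` over `A`, then `A → B` has
geometrically reduced fibres. -/
theorem geomReducedFibres_of_forall_field {A B : Type u} [CommRing A] [CommRing B] [Algebra A B]
    (h : ∀ (K : Type u) [Field K] [Algebra A K], IsReduced (K ⊗[A] B))
    (p : Ideal A) [p.IsPrime] :
    Algebra.IsGeometricallyReduced p.ResidueField (p.Fiber B) := by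
  have h2 := (tfae_geometricallyReduced (k := p.ResidueField) (S := p.Fiber B)).out 2 1
  apply h2.mp
  intro K _ _
  letI : Algebra A K :=
    ((algebraMap p.ResidueField K).comp (algebraMap A p.ResidueField)).toAlgebra
  haveI : IsScalarTower A p.ResidueField K := IsScalarTower.of_algebraMap_eq (fun x => rfl)
  haveI := h K
  exact isReduced_of_injective
    (Algebra.TensorProduct.cancelBaseChange A p.ResidueField K K B) (AlgEquiv.injective _)

/-- `D` reduced Noetherian over `B`, `C` flat over `B` with geometrically reduced fibres:
then `C ⊗[B] D` is reduced. -/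
theorem isReduced_tensor_of_flat_of_geomReducedFibres {B C : Type u} [CommRing B] [CommRing C]
    [Algebra B C] [Module.Flat B C]
    (hBC : ∀ (q : Ideal B) [q.IsPrime], Algebra.IsGeometricallyReduced q.ResidueField (q.Fiber C))
    (D : Type u) [CommRing D] [Algebra B D] [IsNoetherianRing D] [IsReduced D] :
    IsReduced (C ⊗[B] D) := by
  classical
  have hfin : (minimalPrimes D).Finite := minimalPrimes.finite_of_isNoetherianRing D
  haveI : Fintype (minimalPrimes D) := hfin.fintype
  haveI hprime : ∀ i : minimalPrimes D, (i : Ideal D).IsPrime :=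
    fun i => Ideal.minimalPrimes_isPrime i.2
  let φ : D →ₐ[B] (∀ i : minimalPrimes D, (i : Ideal D).ResidueField) :=
    AlgHom.pi (fun i => IsScalarTower.toAlgHom B D (i : Ideal D).ResidueField)
  have hφ : Function.Injective φ := by
    rw [injective_iff_map_eq_zero]
    intro x hx
    have hmem : x ∈ sInf (minimalPrimes D) := by
      rw [Ideal.mem_sInf]
      intro I hI
      haveI : I.IsPrime := Ideal.minimalPrimes_isPrime hI
      have h1 := congr_fun hx ⟨I, hI⟩
      have h2 : algebraMap D (I : Ideal D).ResidueField x = 0 := h1
      exact Ideal.algebraMap_residueField_eq_zero.mp h2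
    have h3 : sInf (minimalPrimes D) = (⊥ : Ideal D) := by
      rw [minimalPrimes, Ideal.sInf_minimalPrimes, Ideal.radical_bot_of_isReduced]
    rw [h3] at hmem
    exact hmem
  haveI hred : ∀ i : minimalPrimes D, IsReduced (C ⊗[B] (i : Ideal D).ResidueField) := by
    intro i
    haveI := isReduced_tensor_of_geomReducedFibres hBC (i : Ideal D).ResidueField
    exact isReduced_of_injective
      (Algebra.TensorProduct.comm B C (i : Ideal D).ResidueField) (AlgEquiv.injective _)
  haveI h4 : IsReduced (∀ i : minimalPrimes D, C ⊗[B] (i : Ideal D).ResidueField) :=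
    isReduced_pi _
  haveI h5 : IsReduced (C ⊗[B] (∀ i : minimalPrimes D, (i : Ideal D).ResidueField)) :=
    isReduced_of_injective
      (Algebra.TensorProduct.piRight B B C
        (fun i : minimalPrimes D => (i : Ideal D).ResidueField)) (AlgEquiv.injective _)
  exact isReduced_of_injective (Algebra.TensorProduct.map (AlgHom.id B C) φ)
    (Module.Flat.lTensor_preserves_injective_linearMap (M := C) φ.toLinearMap hφ)

/-- Flatness descends: `B → C` faithfully flat and `A → C` flat imply `A → B` flat. -/
theorem flat_of_faithfullyFlat_comp (A B C : Type u) [CommRing A] [CommRing B] [CommRing C]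
    [Algebra A B] [Algebra B C] [Algebra A C] [IsScalarTower A B C]
    [Module.FaithfullyFlat B C] [Module.Flat A C] : Module.Flat A B := by
  rw [Module.Flat.iff_lTensor_preserves_injective_linearMap]
  intro N P _ _ _ _ f hf
  let g : B ⊗[A] N →ₗ[B] B ⊗[A] P := f.baseChange B
  change Function.Injective g
  rw [← Module.FaithfullyFlat.lTensor_injective_iff_injective B C]
  have h1 : Function.Injective (f.lTensor C) :=
    Module.Flat.lTensor_preserves_injective_linearMap f hf
  have key : ∀ x, (TensorProduct.AlgebraTensorModule.cancelBaseChange A B C C P)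
      ((g.lTensor C) x) =
      (f.lTensor C) (TensorProduct.AlgebraTensorModule.cancelBaseChange A B C C N x) := by
    intro x
    induction x using TensorProduct.induction_on with
    | zero => simp
    | tmul c y =>
      induction y using TensorProduct.induction_on with
      | zero => simp
      | tmul b n => simp [g]
      | add y1 y2 h1 h2 => simp only [TensorProduct.tmul_add, map_add, h1, h2]
    | add x y hx hy => simp only [map_add, hx, hy]
  intro x y hxy
  apply (TensorProduct.AlgebraTensorModule.cancelBaseChange A B C C N).injective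
  apply h1
  rw [← key, ← key, hxy]

/-- S4752. -/
theorem geomReducedFibres_comp (A B C : Type u) [CommRing A] [CommRing B] [CommRing C]
    [IsNoetherianRing A] [IsNoetherianRing B] [IsNoetherianRing C] [Algebra A B] [Algebra B C]
    [Algebra A C] [IsScalarTower A B C] [Module.Flat A B] [Module.Flat B C]
    (hAB : ∀ (p : Ideal A) [p.IsPrime],
      Algebra.IsGeometricallyReduced p.ResidueField (p.Fiber B))
    (hBC : ∀ (q : Ideal B) [q.IsPrime],
      Algebra.IsGeometricallyReduced q.ResidueField (q.Fiber C)) :
    Module.Flat A C ∧ ∀ (p : Ideal A) [p.IsPrime],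
      Algebra.IsGeometricallyReduced p.ResidueField (p.Fiber C) := by
  refine ⟨Module.Flat.trans A B C, fun p _ => ?_⟩
  have h2 := (tfae_geometricallyReduced (k := p.ResidueField) (S := p.Fiber C)).out 0 1
  apply h2.mp
  intro K _ _ _ _
  letI : Algebra A K :=
    ((algebraMap p.ResidueField K).comp (algebraMap A p.ResidueField)).toAlgebra
  haveI : IsScalarTower A p.ResidueField K := IsScalarTower.of_algebraMap_eq (fun x => rfl)
  haveI : Algebra.EssFiniteType A K := Algebra.EssFiniteType.comp A p.ResidueField K
  haveI : Algebra.EssFiniteType B (B ⊗[A] K) := inferInstance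
  haveI : IsNoetherianRing (B ⊗[A] K) := Algebra.EssFiniteType.isNoetherianRing B _
  haveI : IsReduced (K ⊗[A] B) := isReduced_tensor_of_geomReducedFibres hAB K
  haveI : IsReduced (B ⊗[A] K) :=
    isReduced_of_injective (Algebra.TensorProduct.comm A B K) (AlgEquiv.injective _)
  haveI : IsReduced (C ⊗[B] (B ⊗[A] K)) :=
    isReduced_tensor_of_flat_of_geomReducedFibres hBC (B ⊗[A] K)
  haveI : IsReduced (C ⊗[A] K) :=
    isReduced_of_injective (Algebra.TensorProduct.cancelBaseChange A B B C K).symm
      (AlgEquiv.injective _)
  haveI : IsReduced (K ⊗[A] C) :=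
    isReduced_of_injective (Algebra.TensorProduct.comm A K C) (AlgEquiv.injective _)
  exact isReduced_of_injective
    (Algebra.TensorProduct.cancelBaseChange A p.ResidueField K K C) (AlgEquiv.injective _)

/-- S4753. -/
theorem geomReducedFibres_of_comp_of_faithfullyFlat (A B C : Type u) [CommRing A] [CommRing B]
    [CommRing C] [Algebra A B] [Algebra B C] [Algebra A C]
    [IsScalarTower A B C] [Module.FaithfullyFlat B C] [Module.Flat A C]
    (hAC : ∀ (p : Ideal A) [p.IsPrime],
      Algebra.IsGeometricallyReduced p.ResidueField (p.Fiber C)) :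
    Module.Flat A B ∧ ∀ (p : Ideal A) [p.IsPrime],
      Algebra.IsGeometricallyReduced p.ResidueField (p.Fiber B) := by
  refine ⟨flat_of_faithfullyFlat_comp A B C, fun p _ => ?_⟩
  apply geomReducedFibres_of_forall_field
  intro K _ _
  haveI : IsReduced (K ⊗[A] C) := isReduced_tensor_of_geomReducedFibres hAC K
  haveI : IsReduced (C ⊗[A] K) :=
    isReduced_of_injective (Algebra.TensorProduct.comm A C K) (AlgEquiv.injective _)
  let ψ : B ⊗[A] K →ₐ[A] C ⊗[A] K :=
    Algebra.TensorProduct.map (IsScalarTower.toAlgHom A B C) (AlgHom.id A K)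
  have hψ : ∀ x, ψ x = Algebra.TensorProduct.cancelBaseChange A B B C K ((1 : C) ⊗ₜ[B] x) := by
    intro x
    induction x using TensorProduct.induction_on with
    | zero => simp
    | tmul b k => simp [ψ, Algebra.smul_def]
    | add x y hx hy => rw [map_add, hx, hy, TensorProduct.tmul_add, map_add]
  have hinj : Function.Injective ψ := by
    rw [injective_iff_map_eq_zero]
    intro x hx
    rw [hψ, EmbeddingLike.map_eq_zero_iff] at hx
    exact (Module.FaithfullyFlat.one_tmul_eq_zero_iff B _ x).mp hx
  haveI : IsReduced (B ⊗[A] K) := isReduced_of_injective ψ hinj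
  exact isReduced_of_injective (Algebra.TensorProduct.comm A K B) (AlgEquiv.injective _)

/-- S4757. -/
theorem geomReducedFibres_localization (A B : Type u) [CommRing A] [CommRing B]
    [Algebra A B] [Module.Flat A B]
    (h : ∀ (p : Ideal A) [p.IsPrime], Algebra.IsGeometricallyReduced p.ResidueField (p.Fiber B))
    (S : Submonoid A)
    (A' B' : Type u) [CommRing A'] [CommRing B'] [Algebra A A'] [Algebra B B'] [Algebra A' B']
    [Algebra A B'] [IsScalarTower A A' B'] [IsScalarTower A B B'] [IsLocalization S A']
    [IsLocalization (Algebra.algebraMapSubmonoid B S) B'] :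
    Module.Flat A' B' ∧ ∀ (p' : Ideal A') [p'.IsPrime],
      Algebra.IsGeometricallyReduced p'.ResidueField (p'.Fiber B') := by
  constructor
  · haveI : Module.Flat B B' := IsLocalization.flat B' (Algebra.algebraMapSubmonoid B S)
    haveI : Module.Flat A B' := Module.Flat.trans A B B'
    exact (Module.flat_iff_of_isLocalization A' S B').mpr inferInstance
  · intro p' _
    apply geomReducedFibres_of_forall_field
    intro K _ _
    letI : Algebra A K := ((algebraMap A' K).comp (algebraMap A A')).toAlgebra
    haveI : IsScalarTower A A' K := IsScalarTower.of_algebraMap_eq (fun x => rfl)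
    haveI : IsReduced (K ⊗[A] B) := isReduced_tensor_of_geomReducedFibres h K
    haveI hpo : Algebra.IsPushout A B A' B' := Algebra.isPushout_of_isLocalization S A' B B'
    haveI hpo' : Algebra.IsPushout A A' B B' := hpo.symm
    let e : A' ⊗[A] B ≃ₐ[A'] B' := Algebra.IsPushout.equiv A A' B B'
    haveI h1 : IsReduced (K ⊗[A'] (A' ⊗[A] B)) :=
      isReduced_of_injective (Algebra.TensorProduct.cancelBaseChange A A' K K B)
        (AlgEquiv.injective _)
    exact isReduced_of_injective
      (Algebra.TensorProduct.congr (AlgEquiv.refl : K ≃ₐ[A'] K) e.symm) (AlgEquiv.injective _)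

end Groth.Agent.H25.GeomRedFib
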