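import Mathlib
import Groth.Prelude
import Groth.Agent.H25.GeomRedFib

set_option maxHeartbeats 400000
set_option linter.style.haveILetI false
set_option linter.unusedVariables false
set_option linter.unusedSectionVars false

open TensorProduct

universe u

namespace Groth.Agent.H25.GeomRedNormal

open Groth.Agent.H25.GeomRed Groth.Agent.H25.GeomRedFib

/-- A normal ring (all localizations at primes are integrally closed domains) is reduced. -/
theorem isReduced_of_isNormalRing {R : Type u} [CommRing R] (h : EGA4.IsNormalRing R) :
    IsReduced R := by
  apply isReduced_ofLocalizationMaximal R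
  intro J hJ
  haveI := (h J).1
  infer_instance

/-- A geometrically normal algebra over a field is geometrically reduced. -/
theorem isGeometricallyReduced_of_isGeomNormal {k S : Type u} [Field k] [CommRing S] [Algebra k S]
    (h : EGA4.IsGeomNormal k S) : Algebra.IsGeometricallyReduced k S := by
  have h2 := (tfae_geometricallyReduced (k := k) (S := S)).out 0 1
  apply h2.mp
  intro k' _ _ hfin _
  exact isReduced_of_isNormalRing (h k' hfin)

/-- A normal homomorphism has geometrically reduced fibres. -/
theorem geomReducedFibres_of_isNormalHom {A A' : Type u} [CommRing A] [CommRing A'] [Algebra A A']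
    (h : EGA4.IsNormalHom A A') (p : Ideal A) [p.IsPrime] :
    Algebra.IsGeometricallyReduced p.ResidueField (p.Fiber A') :=
  isGeometricallyReduced_of_isGeomNormal (h.2 p)

/-- Flat with geometrically reduced fibres over a Noetherian ring: base change of a reduced
algebra is reduced. -/
theorem isReduced_tensor_of_flat_of_geomReducedFibres_of_isReduced (A A' : Type u) [CommRing A]
    [CommRing A'] [IsNoetherianRing A] [Algebra A A'] [Module.Flat A A']
    (hfib : ∀ (p : Ideal A) [p.IsPrime],
      Algebra.IsGeometricallyReduced p.ResidueField (p.Fiber A'))
    (B : Type u) [CommRing B] [Algebra A B] [IsReduced B] : IsReduced (A' ⊗[A] B) := by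
  apply IsReduced.tensorProduct_of_flat_of_forall_fg
  intro B₀ hB₀
  haveI : Algebra.FiniteType A B₀ := (Subalgebra.fg_iff_finiteType B₀).mp hB₀
  haveI : IsNoetherianRing B₀ := Algebra.FiniteType.isNoetherianRing A B₀
  haveI : IsReduced B₀ := isReduced_of_injective B₀.val Subtype.val_injective
  exact isReduced_tensor_of_flat_of_geomReducedFibres hfib B₀

/-- S2729. -/
theorem isReduced_baseChange_of_isNormalHom (A A' : Type u) [CommRing A] [CommRing A']
    [IsNoetherianRing A] [Algebra A A']
    (h : EGA4.IsNormalHom A A') (B : Type u) [CommRing B] [Algebra A B] [IsReduced B] :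
    IsReduced (A' ⊗[A] B) := by
  haveI : Module.Flat A A' := h.1
  exact isReduced_tensor_of_flat_of_geomReducedFibres_of_isReduced A A'
    (fun p _ => geomReducedFibres_of_isNormalHom h p) B

end Groth.Agent.H25.GeomRedNormal
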