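import Mathlib
import Groth.Prelude
import Groth.Agent.S9412
import Groth.Agent.H13.FlatNormal

set_option maxHeartbeats 400000
set_option linter.style.haveILetI false
set_option linter.unusedVariables false
set_option linter.unusedSectionVars false

open TensorProduct

universe u

namespace Groth.Agent.H25.NormalElem

/-- Elementwise characterisation of normality of a ring (all localisations at primes are
integrally closed domains). -/
def ElemNormal (R : Type*) [CommRing R] : Prop :=
  (∀ a b : R, a * b = 0 → ∃ e : R, e * a = 0 ∧ (1 - e) * b = 0) ∧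
  (∀ (n : ℕ) (c : Fin n → R) (a b : R),
      a ^ n + ∑ i : Fin n, c i * a ^ (i : ℕ) * b ^ (n - i) = 0 →
      ∃ e z : R, (1 - e) * b = 0 ∧ e * a = b * z)

theorem elemNormal_of_isNormalRing {R : Type u} [CommRing R] (h : EGA4.IsNormalRing R) :
    ElemNormal R := by
  refine ⟨fun a b hab => ?_, fun n c a b hrel => ?_⟩
  · let I : Ideal R := (Ideal.span {a}).annihilator ⊔ (Ideal.span {b}).annihilator
    have hI : I = ⊤ := by
      by_contra hne
      obtain ⟨M, hM, hIM⟩ := Ideal.exists_le_maximal I hne
      haveI := hM.isPrime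
      obtain ⟨hd, -⟩ := h M
      haveI := hd
      have h0 : algebraMap R (Localization.AtPrime M) a *
          algebraMap R (Localization.AtPrime M) b = 0 := by
        rw [← map_mul, hab, map_zero]
      rcases mul_eq_zero.mp h0 with h1 | h1
      · obtain ⟨u, hu⟩ := (IsLocalization.map_eq_zero_iff M.primeCompl _ a).mp h1
        exact u.2 (hIM (Ideal.mem_sup_left
          ((Submodule.mem_annihilator_span_singleton _ _).mpr hu)))
      · obtain ⟨u, hu⟩ := (IsLocalization.map_eq_zero_iff M.primeCompl _ b).mp h1
        exact u.2 (hIM (Ideal.mem_sup_right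
          ((Submodule.mem_annihilator_span_singleton _ _).mpr hu)))
    have h1 : (1 : R) ∈ I := hI ▸ Submodule.mem_top
    obtain ⟨e, he, e', he', hsum⟩ := Submodule.mem_sup.mp h1
    refine ⟨e, (Submodule.mem_annihilator_span_singleton _ _).mp he, ?_⟩
    have : 1 - e = e' := by rw [← hsum]; ring
    rw [this]
    exact (Submodule.mem_annihilator_span_singleton _ _).mp he'
  · let J : Ideal R := (Ideal.span {b}).annihilator ⊔
        Submodule.comap (LinearMap.toSpanSingleton R R a) (Ideal.span {b})
    have hJ : J = ⊤ := by
      by_contra hne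
      obtain ⟨M, hM, hJM⟩ := Ideal.exists_le_maximal J hne
      haveI := hM.isPrime
      obtain ⟨hd, hic⟩ := h M
      haveI := hd
      by_cases hb : algebraMap R (Localization.AtPrime M) b = 0
      · obtain ⟨u, hu⟩ := (IsLocalization.map_eq_zero_iff M.primeCompl _ b).mp hb
        exact u.2 (hJM (Ideal.mem_sup_left
          ((Submodule.mem_annihilator_span_singleton _ _).mpr hu)))
      · have hinjF := IsFractionRing.injective (Localization.AtPrime M)
          (FractionRing (Localization.AtPrime M))
        have hbF : algebraMap (Localization.AtPrime M) (FractionRing (Localization.AtPrime M))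
            (algebraMap R (Localization.AtPrime M) b) ≠ 0 := by
          intro h0
          exact hb (hinjF (by rw [h0, map_zero]))
        obtain ⟨α, hα⟩ : ∃ α, α = algebraMap (Localization.AtPrime M)
            (FractionRing (Localization.AtPrime M)) (algebraMap R (Localization.AtPrime M) a) :=
          ⟨_, rfl⟩
        obtain ⟨β, hβ⟩ : ∃ β, β = algebraMap (Localization.AtPrime M)
            (FractionRing (Localization.AtPrime M)) (algebraMap R (Localization.AtPrime M) b) :=
          ⟨_, rfl⟩
        rw [← hβ] at hbF
        have hrel' : α ^ n + ∑ i : Fin n, algebraMap (Localization.AtPrime M)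
            (FractionRing (Localization.AtPrime M)) (algebraMap R (Localization.AtPrime M) (c i))
              * α ^ (i : ℕ) * β ^ (n - i) = 0 := by
          have := congrArg (fun x => algebraMap (Localization.AtPrime M)
            (FractionRing (Localization.AtPrime M)) (algebraMap R (Localization.AtPrime M) x)) hrel
          simpa only [map_add, map_sum, map_mul, map_pow, map_zero, ← hα, ← hβ] using this
        have hint : IsIntegral (Localization.AtPrime M) (α / β) := by
          refine ⟨Polynomial.X ^ n + ∑ i : Fin n,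
            Polynomial.C (algebraMap R (Localization.AtPrime M) (c i)) * Polynomial.X ^ (i : ℕ),
            Polynomial.monic_X_pow_add (Polynomial.degree_sum_fin_lt _), ?_⟩
          rw [Polynomial.eval₂_add, Polynomial.eval₂_pow, Polynomial.eval₂_X,
            Polynomial.eval₂_finsetSum]
          simp only [Polynomial.eval₂_mul, Polynomial.eval₂_C, Polynomial.eval₂_pow,
            Polynomial.eval₂_X]
          have hβn : β ^ n ≠ 0 := pow_ne_zero _ hbF
          apply mul_left_cancel₀ hβn
          rw [mul_zero, mul_add, Finset.mul_sum, ← hrel']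
          congr 1
          · rw [div_pow, mul_div_cancel₀ _ hβn]
          · apply Finset.sum_congr rfl
            intro i _
            have hi : β ^ n = β ^ (i : ℕ) * β ^ (n - i) := by
              rw [← pow_add, Nat.add_sub_of_le i.2.le]
            have hβi : β ^ (i : ℕ) ≠ 0 := pow_ne_zero _ hbF
            rw [div_pow, hi]
            field_simp
        obtain ⟨d, hd'⟩ := (isIntegrallyClosed_iff
          (FractionRing (Localization.AtPrime M))).mp hic hint
        obtain ⟨⟨z, s⟩, hzs⟩ := IsLocalization.surj M.primeCompl d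
        have h1 : algebraMap R (Localization.AtPrime M) a =
            algebraMap R (Localization.AtPrime M) b * d := by
          apply hinjF
          rw [map_mul, hd', ← hα, ← hβ, mul_div_cancel₀ _ hbF]
        have h2 : algebraMap R (Localization.AtPrime M) (s * a) =
            algebraMap R (Localization.AtPrime M) (b * z) := by
          rw [map_mul, map_mul, h1, ← hzs]
          ring
        obtain ⟨u, hu⟩ := (IsLocalization.eq_iff_exists M.primeCompl
          (Localization.AtPrime M)).mp h2
        have hmem : (u : R) * s ∈ J := by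
          apply Ideal.mem_sup_right
          rw [Submodule.mem_comap, LinearMap.toSpanSingleton_apply, Ideal.mem_span_singleton']
          refine ⟨u * z, ?_⟩
          rw [smul_eq_mul]
          linear_combination -hu
        exact (M.primeCompl.mul_mem u.2 s.2) (hJM hmem)
    have h1 : (1 : R) ∈ J := hJ ▸ Submodule.mem_top
    obtain ⟨e', he', e, he, hsum⟩ := Submodule.mem_sup.mp h1
    rw [Submodule.mem_comap, LinearMap.toSpanSingleton_apply, Ideal.mem_span_singleton'] at he
    obtain ⟨z, hz⟩ := he
    refine ⟨e, z, ?_, ?_⟩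
    · have : 1 - e = e' := by rw [← hsum]; ring
      rw [this]
      exact (Submodule.mem_annihilator_span_singleton _ _).mp he'
    · rw [mul_comm b z, hz, smul_eq_mul]


theorem isNormalRing_of_elemNormal {R : Type u} [CommRing R] (h : ElemNormal R) :
    EGA4.IsNormalRing R := by
  intro p hp
  have hdom : IsDomain (Localization.AtPrime p) := by
    haveI : NoZeroDivisors (Localization.AtPrime p) := ⟨by
      intro x y hxy
      obtain ⟨a, s, rfl⟩ := IsLocalization.exists_mk'_eq p.primeCompl x
      obtain ⟨b, t, rfl⟩ := IsLocalization.exists_mk'_eq p.primeCompl y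
      rw [← IsLocalization.mk'_mul, IsLocalization.mk'_eq_zero_iff] at hxy
      obtain ⟨u, hu⟩ := hxy
      obtain ⟨e, he1, he2⟩ := h.1 (u * a) b (by rw [mul_assoc]; exact hu)
      by_cases hep : e ∈ p
      · right
        rw [IsLocalization.mk'_eq_zero_iff]
        refine ⟨⟨1 - e, ?_⟩, he2⟩
        intro h1
        apply hp.ne_top
        rw [Ideal.eq_top_iff_one]
        have := p.add_mem h1 hep
        rwa [sub_add_cancel] at this
      · left
        rw [IsLocalization.mk'_eq_zero_iff]
        exact ⟨⟨e * u, p.primeCompl.mul_mem hep u.2⟩, by rw [mul_assoc]; exact he1⟩⟩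
    exact NoZeroDivisors.to_isDomain _
  refine ⟨hdom, ?_⟩
  haveI := hdom
  rw [isIntegrallyClosed_iff (FractionRing (Localization.AtPrime p))]
  intro x hx
  obtain ⟨m, hm⟩ := IsIntegral.exists_multiple_integral_of_isLocalization p.primeCompl x hx
  have hι : ∀ r : R, algebraMap R (FractionRing (Localization.AtPrime p)) r =
      algebraMap (Localization.AtPrime p) (FractionRing (Localization.AtPrime p))
        (algebraMap R (Localization.AtPrime p) r) := fun r =>
    IsScalarTower.algebraMap_apply R (Localization.AtPrime p) _ r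
  have hinjF := IsFractionRing.injective (Localization.AtPrime p)
    (FractionRing (Localization.AtPrime p))
  have hne : ∀ s : R, s ∉ p → algebraMap R (FractionRing (Localization.AtPrime p)) s ≠ 0 := by
    intro s hs h0
    rw [hι] at h0
    have h1 : algebraMap R (Localization.AtPrime p) s = 0 := hinjF (by rw [h0, map_zero])
    have h2 : IsUnit (algebraMap R (Localization.AtPrime p) s) :=
      IsLocalization.map_units _ (⟨s, hs⟩ : p.primeCompl)
    rw [h1] at h2
    exact not_isUnit_zero h2
  obtain ⟨P, hPm, hP⟩ := hm
  obtain ⟨y, hy⟩ : ∃ y, y = m • x := ⟨_, rfl⟩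
  rw [← hy] at hP
  have hyx : y = algebraMap R (FractionRing (Localization.AtPrime p)) (m : R) * x := by
    rw [hy, Submonoid.smul_def, Algebra.smul_def]
  obtain ⟨d1, d2, hd2, hyd⟩ := IsFractionRing.div_surjective (A := Localization.AtPrime p) y
  obtain ⟨⟨a1, s1⟩, h1⟩ := IsLocalization.surj p.primeCompl d1
  obtain ⟨⟨a2, s2⟩, h2⟩ := IsLocalization.surj p.primeCompl d2
  have hd2F : algebraMap (Localization.AtPrime p) (FractionRing (Localization.AtPrime p)) d2
      ≠ 0 := by
    intro h0
    exact nonZeroDivisors.ne_zero hd2 (hinjF (by rw [h0, map_zero]))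
  obtain ⟨a, ha⟩ : ∃ a, a = a1 * s2 := ⟨_, rfl⟩
  obtain ⟨b, hb⟩ : ∃ b, b = a2 * s1 := ⟨_, rfl⟩
  have h1F := congrArg (algebraMap (Localization.AtPrime p)
    (FractionRing (Localization.AtPrime p))) h1
  have h2F := congrArg (algebraMap (Localization.AtPrime p)
    (FractionRing (Localization.AtPrime p))) h2
  simp only [map_mul, ← hι] at h1F h2F
  have hbne : algebraMap R (FractionRing (Localization.AtPrime p)) b ≠ 0 := by
    rw [hb, map_mul, ← h2F]
    exact mul_ne_zero (mul_ne_zero hd2F (hne _ s2.2)) (hne _ s1.2)
  have hyb : y * algebraMap R (FractionRing (Localization.AtPrime p)) b =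
      algebraMap R (FractionRing (Localization.AtPrime p)) a := by
    rw [hb, ha, map_mul, map_mul, ← h2F, ← h1F, ← hyd]
    field_simp
  -- the relation in R
  obtain ⟨n, hn⟩ : ∃ n, n = P.natDegree := ⟨_, rfl⟩
  obtain ⟨hh, hhdef⟩ : ∃ hh : R, hh = a ^ n + ∑ i : Fin n, P.coeff i * a ^ (i : ℕ) * b ^ (n - i) :=
    ⟨_, rfl⟩
  have hh0 : algebraMap R (FractionRing (Localization.AtPrime p)) hh = 0 := by
    rw [Polynomial.eval₂_eq_sum_range, ← hn, Finset.sum_range_succ, Finset.sum_range,
      hn, hPm.coeff_natDegree, ← hn, map_one, one_mul] at hP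
    rw [hhdef, map_add, map_sum, map_pow]
    have hbn : algebraMap R (FractionRing (Localization.AtPrime p)) b ^ n ≠ 0 :=
      pow_ne_zero _ hbne
    have := congrArg (fun t => t * algebraMap R (FractionRing (Localization.AtPrime p)) b ^ n) hP
    simp only [zero_mul, add_mul, Finset.sum_mul] at this
    rw [← this, add_comm]
    congr 1
    · apply Finset.sum_congr rfl
      intro i _
      have hi : algebraMap R (FractionRing (Localization.AtPrime p)) b ^ n =
          algebraMap R (FractionRing (Localization.AtPrime p)) b ^ (i : ℕ) *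
            algebraMap R (FractionRing (Localization.AtPrime p)) b ^ (n - i) := by
        rw [← pow_add, Nat.add_sub_of_le i.2.le]
      rw [map_mul, map_mul, map_pow, map_pow, hi, ← hyb, mul_pow]
      ring
    · rw [← mul_pow, hyb]
  have hh0' : algebraMap R (Localization.AtPrime p) hh = 0 := by
    rw [hι] at hh0
    exact hinjF (by rw [hh0, map_zero])
  obtain ⟨u, hu⟩ := (IsLocalization.map_eq_zero_iff p.primeCompl _ hh).mp hh0'
  have hun : (u : R) ^ n * hh = 0 := by
    rcases Nat.eq_zero_or_pos n with hn0 | hnpos
    · exfalso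
      subst hn0
      have : hh = 1 := by rw [hhdef]; simp
      rw [this, mul_one] at hu
      exact u.2 (hu ▸ p.zero_mem)
    · obtain ⟨n', rfl⟩ : ∃ n', n = n' + 1 := ⟨n - 1, by omega⟩
      rw [pow_succ, mul_assoc, hu, mul_zero]
  have hrel : ((u : R) * a) ^ n + ∑ i : Fin n, P.coeff i * ((u : R) * a) ^ (i : ℕ) *
      ((u : R) * b) ^ (n - i) = 0 := by
    rw [← hun, hhdef, mul_add, Finset.mul_sum]
    congr 1
    · rw [mul_pow]
    · apply Finset.sum_congr rfl
      intro i _
      have hi : (u : R) ^ n = (u : R) ^ (i : ℕ) * (u : R) ^ (n - i) := by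
        rw [← pow_add, Nat.add_sub_of_le i.2.le]
      rw [mul_pow, mul_pow, hi]
      ring
  obtain ⟨e, z, he1, he2⟩ := h.2 n (fun i => P.coeff i) ((u : R) * a) ((u : R) * b) hrel
  by_cases hep : e ∈ p
  · exfalso
    have h1e : (1 - e) ∉ p := by
      intro h1
      apply hp.ne_top
      rw [Ideal.eq_top_iff_one]
      have := p.add_mem h1 hep
      rwa [sub_add_cancel] at this
    have hb0 : algebraMap R (Localization.AtPrime p) b = 0 := by
      rw [IsLocalization.map_eq_zero_iff p.primeCompl]
      exact ⟨⟨(1 - e) * u, p.primeCompl.mul_mem h1e u.2⟩, by rw [mul_assoc]; exact he1⟩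
    apply hbne
    rw [hι, hb0, map_zero]
  · have hez : algebraMap R (FractionRing (Localization.AtPrime p)) e * y =
        algebraMap R (FractionRing (Localization.AtPrime p)) z := by
      have h3 := congrArg (algebraMap R (FractionRing (Localization.AtPrime p))) he2
      simp only [map_mul] at h3
      have hune := hne _ u.2
      apply mul_left_cancel₀ hune
      apply mul_right_cancel₀ hbne
      rw [← hyb] at h3
      linear_combination h3
    refine ⟨IsLocalization.mk' (Localization.AtPrime p) z (⟨e, hep⟩ * m), ?_⟩
    have hem : algebraMap R (FractionRing (Localization.AtPrime p)) (e * (m : R)) ≠ 0 :=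
      hne _ (p.primeCompl.mul_mem hep m.2)
    apply mul_right_cancel₀ hem
    have h4 := congrArg (algebraMap (Localization.AtPrime p)
      (FractionRing (Localization.AtPrime p)))
      (IsLocalization.mk'_spec (Localization.AtPrime p) z (⟨e, hep⟩ * m))
    simp only [map_mul, ← hι, Submonoid.coe_mul] at h4
    rw [map_mul, h4, ← hez, hyx]
    ring

theorem elemNormal_of_directed {R : Type*} [CommRing R] {ι : Type*} (S : ι → Type*)
    [∀ i, CommRing (S i)] (φ : ∀ i, S i →+* R) (hinj : ∀ i, Function.Injective (φ i))
    (hfin : ∀ s : Finset R, ∃ i, (s : Set R) ⊆ Set.range (φ i))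
    (h : ∀ i, ElemNormal (S i)) : ElemNormal R := by
  classical
  refine ⟨fun a b hab => ?_, fun n c a b hrel => ?_⟩
  · obtain ⟨i, hi⟩ := hfin {a, b}
    obtain ⟨a', rfl⟩ := hi (show a ∈ ((({a, b} : Finset R)) : Set R) by simp)
    obtain ⟨b', rfl⟩ := hi (show b ∈ ((({φ i a', b} : Finset R)) : Set R) by simp)
    have : a' * b' = 0 := hinj i (by rw [map_mul, hab, map_zero])
    obtain ⟨e, he1, he2⟩ := (h i).1 a' b' this
    exact ⟨φ i e, by rw [← map_mul, he1, map_zero],
      by rw [← map_one (φ i), ← map_sub, ← map_mul, he2, map_zero]⟩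
  · obtain ⟨i, hi⟩ := hfin ({a, b} ∪ Finset.univ.image c)
    have hc : ∀ j : Fin n, ∃ c', φ i c' = c j := fun j =>
      hi (show c j ∈ ((({a, b} ∪ Finset.univ.image c : Finset R)) : Set R) by simp)
    obtain ⟨a', ha'⟩ := hi (show a ∈ ((({a, b} ∪ Finset.univ.image c : Finset R)) : Set R) by simp)
    obtain ⟨b', hb'⟩ := hi (show b ∈ ((({a, b} ∪ Finset.univ.image c : Finset R)) : Set R) by simp)
    subst ha' hb'
    choose c' hc' using hc
    have : a' ^ n + ∑ j : Fin n, c' j * a' ^ (j : ℕ) * b' ^ (n - j) = 0 := by
      apply hinj i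
      rw [map_zero, ← hrel]
      simp only [map_add, map_pow, map_sum, map_mul, hc']
    obtain ⟨e, z, he1, he2⟩ := (h i).2 n c' a' b' this
    exact ⟨φ i e, φ i z, by rw [← map_one (φ i), ← map_sub, ← map_mul, he1, map_zero],
      by rw [← map_mul, he2, map_mul]⟩

theorem elemNormal_of_ringEquiv {R S : Type*} [CommRing R] [CommRing S] (e : R ≃+* S)
    (h : ElemNormal R) : ElemNormal S :=
  elemNormal_of_directed (ι := Unit) (fun _ => R) (fun _ => e.toRingHom)
    (fun _ => e.injective) (fun s => ⟨(), fun x _ => ⟨e.symm x, by simp⟩⟩) (fun _ => h)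

theorem isNormalRing_of_ringEquiv {R S : Type u} [CommRing R] [CommRing S] (e : R ≃+* S)
    (h : EGA4.IsNormalRing R) : EGA4.IsNormalRing S :=
  isNormalRing_of_elemNormal (elemNormal_of_ringEquiv e (elemNormal_of_isNormalRing h))

/-- Directed unions of normal rings are normal. -/
theorem isNormalRing_of_directed {R : Type u} [CommRing R] {ι : Type*} (S : ι → Type u)
    [∀ i, CommRing (S i)] (φ : ∀ i, S i →+* R) (hinj : ∀ i, Function.Injective (φ i))
    (hfin : ∀ s : Finset R, ∃ i, (s : Set R) ⊆ Set.range (φ i))
    (h : ∀ i, EGA4.IsNormalRing (S i)) : EGA4.IsNormalRing R :=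
  isNormalRing_of_elemNormal (elemNormal_of_directed S φ hinj hfin
    (fun i => elemNormal_of_isNormalRing (h i)))

/-- Flat descent of normality at a prime. -/
theorem isDomain_isIntegrallyClosed_comap_of_flat (A B : Type u) [CommRing A] [CommRing B]
    [Algebra A B] [Module.Flat A B] (P : Ideal B) [P.IsPrime]
    (hP : IsDomain (Localization.AtPrime P) ∧ IsIntegrallyClosed (Localization.AtPrime P)) :
    IsDomain (Localization.AtPrime (P.comap (algebraMap A B))) ∧
      IsIntegrallyClosed (Localization.AtPrime (P.comap (algebraMap A B))) := by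
  obtain ⟨hd, hic⟩ := hP
  have hflat : (Localization.localRingHom (P.comap (algebraMap A B)) P (algebraMap A B) rfl).Flat :=
    RingHom.Flat.localRingHom (f := algebraMap A B)
      (RingHom.flat_algebraMap_iff.mpr inferInstance) P (P.comap (algebraMap A B)) rfl
  exact Groth.Agent.H13.isDomain_isIntegrallyClosed_of_flat_of_isLocalHom
    (Localization.localRingHom (P.comap (algebraMap A B)) P (algebraMap A B) rfl) hflat

/-- Faithfully flat descent of normality. -/
theorem isNormalRing_of_faithfullyFlat (A B : Type u) [CommRing A] [CommRing B] [Algebra A B]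
    [Module.FaithfullyFlat A B] (hB : EGA4.IsNormalRing B) : EGA4.IsNormalRing A := by
  intro p hp
  obtain ⟨⟨P, hP⟩, hPp⟩ := PrimeSpectrum.comap_surjective_of_faithfullyFlat (A := A) (B := B)
    ⟨p, inferInstance⟩
  have hpP : p = P.comap (algebraMap A B) := (congrArg PrimeSpectrum.asIdeal hPp).symm
  haveI := hP
  subst hpP
  exact isDomain_isIntegrallyClosed_comap_of_flat A B P (hB P)

/-- A local normal ring is an integrally closed domain. -/
theorem isDomain_isIntegrallyClosed_of_isLocalRing (B : Type u) [CommRing B] [IsLocalRing B]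
    (h : EGA4.IsNormalRing B) : IsDomain B ∧ IsIntegrallyClosed B := by
  obtain ⟨hd, hic⟩ := h (IsLocalRing.maximalIdeal B)
  have H : (IsLocalRing.maximalIdeal B).primeCompl ≤ IsUnit.submonoid B := by
    intro x hx
    exact IsLocalRing.notMem_maximalIdeal.mp hx
  let e : B ≃ₐ[B] Localization.AtPrime (IsLocalRing.maximalIdeal B) :=
    IsLocalization.atUnits B (IsLocalRing.maximalIdeal B).primeCompl H
  exact ⟨e.toMulEquiv.isDomain _, IsIntegrallyClosed.of_equiv e.symm.toRingEquiv⟩

/-- An integrally closed domain is a normal ring. -/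
theorem isNormalRing_of_isIntegrallyClosed (R : Type u) [CommRing R] [IsDomain R]
    [IsIntegrallyClosed R] : EGA4.IsNormalRing R := by
  intro p hp
  have hle : p.primeCompl ≤ nonZeroDivisors R := p.primeCompl_le_nonZeroDivisors
  exact ⟨IsLocalization.isDomain_localization hle,
    isIntegrallyClosed_of_isLocalization (Localization.AtPrime p) p.primeCompl hle⟩

end Groth.Agent.H25.NormalElem
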