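import Mathlib
import Groth.Agent.H25.GeomRedDesc

set_option maxHeartbeats 400000
set_option linter.style.haveILetI false
set_option linter.unusedVariables false
set_option linter.unusedSectionVars false

open TensorProduct

universe u v w

namespace Groth.Agent.H25.GeomRed

open Groth.Agent.H25.GeomIrr Groth.Agent.H25.GeomDomain Groth.Agent.H25.GeomConn

theorem nilradical_fg_of_essFiniteType {k : Type u} [Field k] (A : Type u) [CommRing A]
    [Algebra k A] [Algebra.EssFiniteType k A] (P : Type u) [Field P] [Algebra k P] :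
    (nilradical (P ⊗[k] A)).FG := by
  haveI : Algebra.EssFiniteType P (P ⊗[k] A) := inferInstance
  haveI : IsNoetherianRing (P ⊗[k] A) := Algebra.EssFiniteType.isNoetherianRing P (P ⊗[k] A)
  exact IsNoetherian.noetherian _

/-- S2514 -/
theorem exists_purelyInseparable_geomReduced_of_finiteType {k : Type u} [Field k]
    (A : Type u) [CommRing A] [Algebra k A] [Algebra.FiniteType k A] :
    ∃ (k' : Type u) (_ : Field k') (_ : Algebra k k'), FiniteDimensional k k' ∧
      IsPurelyInseparable k k' ∧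
      Algebra.IsGeometricallyReduced k' ((k' ⊗[k] A) ⧸ nilradical (k' ⊗[k] A)) :=
  exists_finite_purelyInseparable_geomReduced A (↥(perfectClosure k (AlgebraicClosure k)))
    (nilradical_fg_of_essFiniteType A _)

/-- In `k' ⊗ K` with `k'/k` purely inseparable and `K` a field, every maximal ideal is the
nilradical. -/
theorem maximal_eq_nilradical {k k' K : Type u} [Field k] [Field k'] [Field K] [Algebra k k']
    [Algebra k K] [IsPurelyInseparable k k'] (m : Ideal (k' ⊗[k] K)) (hm : m.IsMaximal) :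
    m = nilradical (k' ⊗[k] K) := by
  haveI : Nontrivial (k' ⊗[k] K) :=
    ⟨⟨0, 1, fun h => hm.ne_top ((Ideal.eq_top_iff_one m).mpr (h ▸ m.zero_mem))⟩⟩
  obtain ⟨q, hq⟩ := ExpChar.exists k
  haveI := hq
  refine le_antisymm (fun x hx => ?_) (nilradical_le_prime m)
  obtain ⟨n, a, ha⟩ := pow_mem_range_of_isPurelyInseparable (k := k) (F := k) (E := k') (R := K)
    q x
  have ha' : Algebra.TensorProduct.map (IsScalarTower.toAlgHom k k k') (AlgHom.id k K) a =
      x ^ q ^ n := ha
  obtain ⟨c, hc⟩ : ∃ c : K, a = (1 : k) ⊗ₜ[k] c :=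
    ⟨Algebra.TensorProduct.lid k K a, by
      rw [← Algebra.TensorProduct.lid_symm_apply, AlgEquiv.symm_apply_apply]⟩
  have hxc : x ^ q ^ n = (1 : k') ⊗ₜ[k] c := by
    rw [← ha', hc, Algebra.TensorProduct.map_tmul, map_one, AlgHom.id_apply]
  rw [mem_nilradical]
  by_cases hc0 : c = 0
  · exact ⟨q ^ n, by rw [hxc, hc0, tmul_zero]⟩
  · exfalso
    have hmem : (1 : k') ⊗ₜ[k] c ∈ m := by
      rw [← hxc]
      exact Ideal.pow_mem_of_mem m hx _ (pow_pos (expChar_pos k q) n)
    have : (1 : k' ⊗[k] K) ∈ m := by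
      have h1 : (1 : k') ⊗ₜ[k] c⁻¹ * ((1 : k') ⊗ₜ[k] c) = (1 : k' ⊗[k] K) := by
        rw [Algebra.TensorProduct.tmul_mul_tmul, one_mul, inv_mul_cancel₀ hc0]
        rfl
      rw [← h1]
      exact m.mul_mem_left _ hmem
    exact hm.ne_top ((Ideal.eq_top_iff_one m).mpr this)

/-- S4677 -/
theorem exists_purelyInseparable_residueFields_geomReduced {k K : Type u} [Field k] [Field K]
    [Algebra k K] [Algebra.EssFiniteType k K] :
    ∃ (k' : Type u) (_ : Field k') (_ : Algebra k k'), FiniteDimensional k k' ∧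
      IsPurelyInseparable k k' ∧
      ∀ (m : Ideal (k' ⊗[k] K)), m.IsMaximal →
        Algebra.IsGeometricallyReduced k' ((k' ⊗[k] K) ⧸ m) := by
  obtain ⟨k', _, _, hfin, hpi, hgr⟩ :=
    exists_finite_purelyInseparable_geomReduced (k := k) K
      (↥(perfectClosure k (AlgebraicClosure k)))
      (nilradical_fg_of_essFiniteType (k := k) K _)
  refine ⟨k', inferInstance, inferInstance, hfin, hpi, fun m hm => ?_⟩
  obtain rfl : m = nilradical (k' ⊗[k] K) := maximal_eq_nilradical m hm
  exact hgr

end Groth.Agent.H25.GeomRed
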