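import Mathlib
import Groth.Prelude
import Groth.Agent.S1182
import Groth.Agent.H25.NormalElem
import Groth.Agent.H25.GeomRedFin

set_option maxHeartbeats 400000
set_option linter.style.haveILetI false
set_option linter.unusedVariables false
set_option linter.unusedSectionVars false

open TensorProduct

universe u

namespace Groth.Agent.H25.NormalSep

open Groth.Agent.H25.NormalElem

/-- MacLane's criterion from geometric reducedness. -/
theorem linearIndepOn_pow_of_geomReduced {k K : Type u} [Field k] [Field K] [Algebra k K]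
    [Algebra.IsGeometricallyReduced k K] (p : ℕ) [hp : Fact p.Prime] [CharP k p]
    (s : Finset K) (hs : LinearIndepOn k id (s : Set K)) :
    LinearIndepOn k (· ^ p) (s : Set K) := by
  classical
  haveI : ExpChar k p := ExpChar.prime hp.out
  have hinj : Function.Injective (algebraMap k (AlgebraicClosure k ⊗[k] K)) :=
    (algebraMap k (AlgebraicClosure k ⊗[k] K)).injective
  haveI : ExpChar (AlgebraicClosure k ⊗[k] K) p := expChar_of_injective_algebraMap hinj p
  haveI : IsReduced (AlgebraicClosure k ⊗[k] K) := inferInstance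
  rw [LinearIndepOn, Fintype.linearIndependent_iff]
  intro g hg
  have hd : ∀ i : (s : Set K), ∃ d : AlgebraicClosure k, d ^ p = algebraMap k _ (g i) :=
    fun i => IsAlgClosed.exists_pow_nat_eq _ hp.out.pos
  choose d hd using hd
  have hz : (∑ i : (s : Set K), d i ⊗ₜ[k] (i : K)) ^ p = 0 := by
    rw [sum_pow_char]
    simp only [Algebra.TensorProduct.tmul_pow, hd]
    have : ∀ i : (s : Set K), (algebraMap k (AlgebraicClosure k) (g i)) ⊗ₜ[k] ((i : K) ^ p) =
        (1 : AlgebraicClosure k) ⊗ₜ[k] (g i • (i : K) ^ p) := by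
      intro i
      rw [Algebra.algebraMap_eq_smul_one, TensorProduct.smul_tmul]
    simp only [this]
    rw [← TensorProduct.tmul_sum, hg, TensorProduct.tmul_zero]
  have hz0 : (∑ i : (s : Set K), d i ⊗ₜ[k] (i : K)) = 0 := IsNilpotent.eq_zero ⟨p, hz⟩
  have hli : LinearIndependent (AlgebraicClosure k)
      (fun i : (s : Set K) => (1 : AlgebraicClosure k) ⊗ₜ[k] (i : K)) :=
    Module.Flat.linearIndependent_one_tmul hs
  rw [Fintype.linearIndependent_iff] at hli
  have hd0 := hli d (by
    rw [← hz0]
    apply Finset.sum_congr rfl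
    intro i _
    rw [TensorProduct.smul_tmul', smul_eq_mul, mul_one])
  intro i
  have h1 := hd i
  rw [hd0 i, zero_pow hp.out.ne_zero] at h1
  exact (map_eq_zero _).mp h1.symm

theorem exists_sepBasis_of_geomReduced (k K : Type u) [Field k] [Field K] [Algebra k K]
    [Algebra.EssFiniteType k K] [Algebra.IsGeometricallyReduced k K] :
    ∃ s : Finset K, IsTranscendenceBasis k ((↑) : s → K) ∧
      Algebra.IsSeparable (IntermediateField.adjoin k (s : Set K)) K := by
  obtain hchar | ⟨p, hp, hpk⟩ := CharP.exists' k
  · have := hchar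
    exact exists_isTranscendenceBasis_and_isSeparable_of_perfectField k K
  · haveI := hp
    haveI := hpk
    exact exists_isTranscendenceBasis_and_isSeparable_of_linearIndepOn_pow_of_essFiniteType
      p hp.out (fun s hs => linearIndepOn_pow_of_geomReduced p s hs)

/-- Abstract form of the finitely generated separable case. -/
theorem isNormalRing_tensor_of_fractionRing_smooth (k P E K A : Type u) [Field k] [CommRing P]
    [Algebra k P] [Algebra.Smooth k P] [Field E] [Algebra k E] [Algebra P E] [IsScalarTower k P E]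
    [IsFractionRing P E] [Field K] [Algebra k K] [Algebra E K] [IsScalarTower k E K]
    [Algebra.IsSeparable E K] [Module.Finite E K] [CommRing A] [Algebra k A]
    (hA : EGA4.IsNormalRing A) : EGA4.IsNormalRing (K ⊗[k] A) := by
  have hN1 : EGA4.IsNormalRing (A ⊗[k] P) := (Groth.Agent.S1182.result A (A ⊗[k] P)).1 hA
  have hN2 : EGA4.IsNormalRing (P ⊗[k] A) :=
    isNormalRing_of_ringEquiv (Algebra.TensorProduct.comm k A P).toRingEquiv hN1
  have hN3 : EGA4.IsNormalRing (E ⊗[k] A) := by
    letI : Algebra (P ⊗[k] A) (E ⊗[k] A) :=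
      (Algebra.TensorProduct.map (IsScalarTower.toAlgHom k P E) (AlgHom.id k A)).toRingHom.toAlgebra
    haveI : IsScalarTower P (P ⊗[k] A) (E ⊗[k] A) := by
      refine IsScalarTower.of_algebraMap_eq' ?_
      ext x
      simp [RingHom.algebraMap_toAlgebra, Algebra.TensorProduct.algebraMap_apply]
    haveI : IsLocalization (Algebra.algebraMapSubmonoid (P ⊗[k] A) (nonZeroDivisors P))
        (E ⊗[k] A) := by
      refine IsLocalization.tensorProduct_tensorProduct k A (nonZeroDivisors P) E ?_
      ext a
      simp [RingHom.algebraMap_toAlgebra]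
    exact Groth.Agent.S9412.isNormalRing_of_isLocalization
      (Algebra.algebraMapSubmonoid (P ⊗[k] A) (nonZeroDivisors P)) _ hN2
  haveI : Algebra.FormallyEtale E K := Algebra.FormallyEtale.of_isSeparable E K
  haveI : Algebra.FinitePresentation E K := Algebra.FinitePresentation.of_finiteType.mp inferInstance
  haveI : Algebra.Smooth E K := ⟨inferInstance, inferInstance⟩
  have hN4 : EGA4.IsNormalRing ((E ⊗[k] A) ⊗[E] K) :=
    (Groth.Agent.S1182.result (E ⊗[k] A) ((E ⊗[k] A) ⊗[E] K)).1 hN3
  exact isNormalRing_of_ringEquiv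
    ((Algebra.TensorProduct.comm E (E ⊗[k] A) K).toRingEquiv.trans
      (Algebra.TensorProduct.cancelBaseChange k E E K A).toRingEquiv) hN4

open scoped IntermediateField.algebraAdjoinAdjoin in
/-- Finitely generated separable (geometrically reduced) field extensions preserve normality. -/
theorem isNormalRing_tensor_of_essFiniteType (k K A : Type u) [Field k] [Field K] [Algebra k K]
    [Algebra.EssFiniteType k K] [Algebra.IsGeometricallyReduced k K] [CommRing A] [Algebra k A]
    (hA : EGA4.IsNormalRing A) : EGA4.IsNormalRing (K ⊗[k] A) := by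
  classical
  obtain ⟨s, hs, hsep⟩ := exists_sepBasis_of_geomReduced k K
  have hrange : Set.range ((↑) : s → K) = (s : Set K) := by
    ext x; simp
  have hgen : ∀ T : Set K, T = (s : Set K) →
      Algebra.IsSeparable (IntermediateField.adjoin k T) K := by
    rintro T rfl; exact hsep
  haveI hsep' := hgen _ hrange
  have hind : AlgebraicIndependent k ((↑) : s → K) := hs.1
  haveI : Algebra.Smooth k (MvPolynomial s k) := ⟨inferInstance, inferInstance⟩
  haveI : Algebra.Smooth k (Algebra.adjoin k (Set.range ((↑) : s → K))) :=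
    Algebra.Smooth.of_equiv hind.aevalEquiv
  haveI : Algebra.IsAlgebraic (IntermediateField.adjoin k (Set.range ((↑) : s → K))) K :=
    Algebra.IsSeparable.isAlgebraic _ K
  haveI : Algebra.EssFiniteType (IntermediateField.adjoin k (Set.range ((↑) : s → K))) K :=
    Algebra.EssFiniteType.of_comp k _ K
  haveI : Module.Finite (IntermediateField.adjoin k (Set.range ((↑) : s → K))) K :=
    Algebra.finite_of_essFiniteType_of_isAlgebraic
  exact isNormalRing_tensor_of_fractionRing_smooth k
    (Algebra.adjoin k (Set.range ((↑) : s → K)))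
    (IntermediateField.adjoin k (Set.range ((↑) : s → K))) K A hA

/-- Directed union over finitely generated subextensions. -/
theorem isNormalRing_tensor_of_forall_finset (k K A : Type u) [Field k] [Field K] [Algebra k K]
    [CommRing A] [Algebra k A]
    (h : ∀ t : Finset K, EGA4.IsNormalRing (↥(IntermediateField.adjoin k (t : Set K)) ⊗[k] A)) :
    EGA4.IsNormalRing (K ⊗[k] A) := by
  classical
  let φ : ∀ t : Finset K, (↥(IntermediateField.adjoin k (t : Set K)) ⊗[k] A) →+* K ⊗[k] A :=
    fun t => (Algebra.TensorProduct.map (IntermediateField.adjoin k (t : Set K)).val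
      (AlgHom.id k A)).toRingHom
  have hφ : ∀ (t : Finset K) (a : ↥(IntermediateField.adjoin k (t : Set K))) (b : A),
      φ t (a ⊗ₜ b) = (a : K) ⊗ₜ b := fun t a b => by simp [φ]
  have hmono : ∀ t t' : Finset K, t ⊆ t' → ∀ y, φ t y ∈ (φ t').range := by
    intro t t' htt' y
    induction y using TensorProduct.induction_on with
    | zero => rw [map_zero]; exact Subring.zero_mem _
    | tmul a b =>
      refine ⟨(⟨a, IntermediateField.adjoin.mono k _ _ (by exact_mod_cast htt') a.2⟩ :
        ↥(IntermediateField.adjoin k (t' : Set K))) ⊗ₜ b, ?_⟩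
      rw [hφ, hφ]
    | add x y hx hy => rw [map_add]; exact Subring.add_mem _ hx hy
  have hone : ∀ x : K ⊗[k] A, ∃ t : Finset K, x ∈ (φ t).range := by
    intro x
    induction x using TensorProduct.induction_on with
    | zero => exact ⟨∅, Subring.zero_mem _⟩
    | tmul a b =>
      refine ⟨{a}, (⟨a, IntermediateField.subset_adjoin k _ (by simp)⟩ :
        ↥(IntermediateField.adjoin k (({a} : Finset K) : Set K))) ⊗ₜ b, ?_⟩
      rw [hφ]
    | add x y hx hy =>
      obtain ⟨t1, x', rfl⟩ := hx
      obtain ⟨t2, y', rfl⟩ := hy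
      exact ⟨t1 ∪ t2, Subring.add_mem _ (hmono t1 (t1 ∪ t2) Finset.subset_union_left x')
        (hmono t2 (t1 ∪ t2) Finset.subset_union_right y')⟩
  have hfin : ∀ s : Finset (K ⊗[k] A), ∃ t, (s : Set (K ⊗[k] A)) ⊆ Set.range (φ t) := by
    intro s
    induction s using Finset.induction_on with
    | empty => exact ⟨∅, by simp⟩
    | insert x s hx ih =>
      obtain ⟨t1, ht1⟩ := ih
      obtain ⟨t2, x', rfl⟩ := hone x
      refine ⟨t1 ∪ t2, ?_⟩
      intro y hy
      rw [Finset.coe_insert, Set.mem_insert_iff] at hy
      rcases hy with rfl | hy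
      · exact hmono t2 (t1 ∪ t2) Finset.subset_union_right x'
      · obtain ⟨y', rfl⟩ := ht1 hy
        exact hmono t1 (t1 ∪ t2) Finset.subset_union_left y'
  refine isNormalRing_of_directed
    (fun t : Finset K => (↥(IntermediateField.adjoin k (t : Set K)) ⊗[k] A)) φ ?_ hfin h
  intro t
  exact Module.Flat.rTensor_preserves_injective_linearMap (M := A)
    (IntermediateField.adjoin k (t : Set K)).val.toLinearMap
    (IntermediateField.adjoin k (t : Set K)).val.injective

/-- S2690: separable (geometrically reduced) field extensions preserve normality. -/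
theorem isNormalRing_tensor_of_geomReduced (k K A : Type u) [Field k] [Field K] [Algebra k K]
    [Algebra.IsGeometricallyReduced k K] [CommRing A] [Algebra k A]
    (hA : EGA4.IsNormalRing A) : EGA4.IsNormalRing (K ⊗[k] A) := by
  apply isNormalRing_tensor_of_forall_finset
  intro t
  haveI : Algebra.EssFiniteType k ↥(IntermediateField.adjoin k (t : Set K)) :=
    IntermediateField.essFiniteType_iff.mpr ⟨t, rfl⟩
  haveI : Algebra.IsGeometricallyReduced k ↥(IntermediateField.adjoin k (t : Set K)) :=
    Algebra.IsGeometricallyReduced.of_injective (IntermediateField.adjoin k (t : Set K)).val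
      (IntermediateField.adjoin k (t : Set K)).val.injective
  exact isNormalRing_tensor_of_essFiniteType k _ A hA

/-- Descent of normality of `L ⊗ S` to `K ⊗ S` along a field extension `L / K`. -/
theorem isNormalRing_tensor_of_tower (k K L S : Type u) [Field k] [Field K] [Field L]
    [Algebra k K] [Algebra k L] [Algebra K L] [IsScalarTower k K L] [CommRing S] [Algebra k S]
    (h : EGA4.IsNormalRing (L ⊗[k] S)) : EGA4.IsNormalRing (K ⊗[k] S) := by
  have hN : EGA4.IsNormalRing ((K ⊗[k] S) ⊗[K] L) :=
    isNormalRing_of_ringEquiv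
      ((Algebra.TensorProduct.cancelBaseChange k K K L S).symm.toRingEquiv.trans
        (Algebra.TensorProduct.comm K (K ⊗[k] S) L).symm.toRingEquiv) h
  haveI : Module.FaithfullyFlat (K ⊗[k] S) ((K ⊗[k] S) ⊗[K] L) := inferInstance
  exact isNormalRing_of_faithfullyFlat (K ⊗[k] S) ((K ⊗[k] S) ⊗[K] L) hN

/-- S2673 core: normality after every finite purely inseparable extension implies normality
after every finitely generated field extension. -/
theorem isNormalRing_tensor_of_forall_purelyInseparable (k S : Type u) [Field k] [CommRing S]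
    [Algebra k S]
    (h : ∀ (k' : Type u) [Field k'] [Algebra k k'], Module.Finite k k' → IsPurelyInseparable k k' →
      EGA4.IsNormalRing (k' ⊗[k] S))
    (K : Type u) [Field K] [Algebra k K] [Algebra.EssFiniteType k K] :
    EGA4.IsNormalRing (K ⊗[k] S) := by
  obtain ⟨k', _, _, hfin, hpi, hgr⟩ :=
    Groth.Agent.H25.GeomRed.exists_purelyInseparable_residueFields_geomReduced (k := k) (K := K)
  obtain ⟨m, hm⟩ := Ideal.exists_maximal (k' ⊗[k] K)
  haveI := hm
  letI : Field ((k' ⊗[k] K) ⧸ m) := Ideal.Quotient.field m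
  haveI := hgr m hm
  have hN1 : EGA4.IsNormalRing (((k' ⊗[k] K) ⧸ m) ⊗[k'] (k' ⊗[k] S)) :=
    isNormalRing_tensor_of_geomReduced k' ((k' ⊗[k] K) ⧸ m) (k' ⊗[k] S) (h k' hfin hpi)
  have hN2 : EGA4.IsNormalRing (((k' ⊗[k] K) ⧸ m) ⊗[k] S) :=
    isNormalRing_of_ringEquiv
      (Algebra.TensorProduct.cancelBaseChange k k' k' ((k' ⊗[k] K) ⧸ m) S).toRingEquiv hN1
  letI : Algebra K ((k' ⊗[k] K) ⧸ m) :=
    ((Ideal.Quotient.mk m).comp
      (Algebra.TensorProduct.includeRight (R := k) (A := k') (B := K)).toRingHom).toAlgebra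
  haveI : IsScalarTower k K ((k' ⊗[k] K) ⧸ m) := by
    refine IsScalarTower.of_algebraMap_eq (fun x => ?_)
    show algebraMap k ((k' ⊗[k] K) ⧸ m) x =
      Ideal.Quotient.mk m ((1 : k') ⊗ₜ[k] (algebraMap k K x))
    rw [IsScalarTower.algebraMap_apply k (k' ⊗[k] K) ((k' ⊗[k] K) ⧸ m),
      Ideal.Quotient.algebraMap_eq, Algebra.TensorProduct.algebraMap_apply']
  exact isNormalRing_tensor_of_tower k K ((k' ⊗[k] K) ⧸ m) S hN2

/-- S2070 core. -/
theorem isNormalRing_tensor_of_forall_purelyInseparable' (k S : Type u) [Field k] [CommRing S]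
    [Algebra k S]
    (h : ∀ (k' : Type u) [Field k'] [Algebra k k'], Module.Finite k k' → IsPurelyInseparable k k' →
      EGA4.IsNormalRing (k' ⊗[k] S))
    (K : Type u) [Field K] [Algebra k K] : EGA4.IsNormalRing (K ⊗[k] S) := by
  apply isNormalRing_tensor_of_forall_finset
  intro t
  haveI : Algebra.EssFiniteType k ↥(IntermediateField.adjoin k (t : Set K)) :=
    IntermediateField.essFiniteType_iff.mpr ⟨t, rfl⟩
  exact isNormalRing_tensor_of_forall_purelyInseparable k S h _

end Groth.Agent.H25.NormalSep
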