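import Mathlib
import Groth.Prelude
import Groth.Agent.H25.NormalElem
import Groth.Agent.H25.NormalSep

set_option maxHeartbeats 400000
set_option linter.style.haveILetI false
set_option linter.unusedVariables false
set_option linter.unusedSectionVars false

open TensorProduct

universe u

namespace Groth.Agent.H25.NormalInter

open Groth.Agent.H25.NormalElem

/-- In a Noetherian (elementwise) normal ring annihilators of elements are generated by
idempotents. -/
theorem exists_idem_ann {T : Type*} [CommRing T] [IsNoetherianRing T] (h : ElemNormal T) (t : T) :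
    ∃ e : T, e * e = e ∧ (1 - e) * t = 0 ∧ ∀ u, u * t = 0 → u * e = 0 := by
  obtain ⟨I, hIdef⟩ : ∃ I : Ideal T, I = (Ideal.span {t}).annihilator := ⟨_, rfl⟩
  have hmem : ∀ u, u ∈ I ↔ u * t = 0 := fun u => by
    rw [hIdef, Submodule.mem_annihilator_span_singleton, smul_eq_mul]
  have hI : IsIdempotentElem I := by
    apply le_antisymm Ideal.mul_le_right
    intro u hu
    obtain ⟨e, he1, he2⟩ := h.1 u t ((hmem u).mp hu)
    have : u = (1 - e) * u := by linear_combination he1
    rw [this]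
    exact Ideal.mul_mem_mul ((hmem _).mpr he2) hu
  obtain ⟨f, hf, hIf⟩ := (Ideal.isIdempotentElem_iff_of_fg I (IsNoetherian.noetherian I)).mp hI
  have hff : f * f = f := hf.eq
  refine ⟨1 - f, by linear_combination hff, ?_, ?_⟩
  · have hfI : f ∈ I := by rw [hIf]; exact Submodule.mem_span_singleton_self f
    have := (hmem f).mp hfI
    linear_combination this
  · intro u hu
    have huI : u ∈ I := (hmem u).mpr hu
    rw [hIf, Submodule.mem_span_singleton] at huI
    obtain ⟨a, rfl⟩ := huI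
    rw [smul_eq_mul]
    linear_combination (-a) * hff

/-- A subring which is integrally closed in an (elementwise) normal ring whose annihilators are
generated by idempotents is (elementwise) normal. -/
theorem elemNormal_of_integrallyClosedIn {R T : Type*} [CommRing R] [CommRing T] (φ : R →+* T)
    (hφ : Function.Injective φ) (hT : ElemNormal T)
    (hPP : ∀ t : T, ∃ e : T, e * e = e ∧ (1 - e) * t = 0 ∧ ∀ u, u * t = 0 → u * e = 0)
    (hic : ∀ t : T, φ.IsIntegralElem t → t ∈ φ.range) : ElemNormal R := by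
  have hidem : ∀ e : T, e * e = e → ∃ e₀ : R, φ e₀ = e := by
    intro e hee
    have hint : φ.IsIntegralElem e := by
      refine ⟨Polynomial.X ^ (1 + 1) - Polynomial.X,
        Polynomial.monic_X_pow_sub (lt_of_le_of_lt Polynomial.degree_X_le
          (by exact_mod_cast Nat.lt_succ_self 1)), ?_⟩
      simp [Polynomial.eval₂_sub, Polynomial.eval₂_X, pow_two, hee]
    exact hic e hint
  refine ⟨fun x y hxy => ?_, fun n c a b hrel => ?_⟩
  · obtain ⟨e, hee, he1, he2⟩ := hPP (φ x)
    obtain ⟨e₀, rfl⟩ := hidem e hee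
    refine ⟨1 - e₀, ?_, ?_⟩
    · apply hφ
      rw [map_mul, map_sub, map_one, he1, map_zero]
    · apply hφ
      have h1 := he2 (φ y) (by rw [← map_mul, mul_comm, hxy, map_zero])
      simp only [map_mul, map_sub, map_one, map_zero]
      linear_combination h1
  · rcases Nat.eq_zero_or_pos n with hn0 | hnpos
    · subst hn0
      have h10 : (1 : R) = 0 := by simpa using hrel
      haveI : Subsingleton R := subsingleton_of_zero_eq_one h10.symm
      exact ⟨0, 0, Subsingleton.elim _ _, Subsingleton.elim _ _⟩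
    obtain ⟨n', rfl⟩ : ∃ n', n = n' + 1 := ⟨n - 1, by omega⟩
    obtain ⟨e, hee, he1, he2⟩ := hPP (φ b)
    obtain ⟨e₀, rfl⟩ := hidem e hee
    have hidemE : IsIdempotentElem (φ e₀) := hee
    have hrelT : φ a ^ (n' + 1) + ∑ i : Fin (n' + 1), φ (c i) * φ a ^ (i : ℕ) *
        φ b ^ (n' + 1 - i) = 0 := by
      have := congrArg φ hrel
      simpa only [map_add, map_sum, map_mul, map_pow, map_zero] using this
    obtain ⟨e', z', he'1, he'2⟩ := hT.2 (n' + 1) (fun i => φ (c i)) (φ a) (φ b) hrelT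
    have hee' : φ e₀ = e' * φ e₀ := by
      have := he2 (1 - e') he'1
      linear_combination this
    obtain ⟨z, hzdef⟩ : ∃ z, z = φ e₀ * z' := ⟨_, rfl⟩
    have hz1 : φ b * z = φ e₀ * φ a := by
      rw [hzdef]
      calc φ b * (φ e₀ * z') = φ e₀ * (φ b * z') := by ring
        _ = φ e₀ * (e' * φ a) := by rw [he'2]
        _ = (e' * φ e₀) * φ a := by ring
        _ = φ e₀ * φ a := by rw [← hee']
    have hz2 : φ e₀ * z = z := by
      rw [hzdef, ← mul_assoc, hee]
    have hzn : φ e₀ * z ^ (n' + 1) = z ^ (n' + 1) := by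
      rw [pow_succ, mul_left_comm, hz2]
    have hen : φ e₀ ^ (n' + 1) = φ e₀ := hidemE.pow_succ_eq n'
    obtain ⟨w, hwdef⟩ : ∃ w, w = z ^ (n' + 1) + ∑ i : Fin (n' + 1), φ (c i) * φ e₀ * z ^ (i : ℕ) :=
      ⟨_, rfl⟩
    have hw : φ b ^ (n' + 1) * w = φ e₀ * (φ a ^ (n' + 1) + ∑ i : Fin (n' + 1), φ (c i) *
        φ a ^ (i : ℕ) * φ b ^ (n' + 1 - i)) := by
      rw [hwdef, mul_add, mul_add, Finset.mul_sum, Finset.mul_sum]
      congr 1
      · rw [← mul_pow, hz1, mul_pow, hen]
      · apply Finset.sum_congr rfl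
        intro i _
        have hi : φ b ^ (n' + 1) = φ b ^ (i : ℕ) * φ b ^ (n' + 1 - i) := by
          rw [← pow_add, Nat.add_sub_of_le i.2.le]
        have hei : φ e₀ ^ ((i : ℕ) + 1) = φ e₀ := hidemE.pow_succ_eq i
        calc φ b ^ (n' + 1) * (φ (c i) * φ e₀ * z ^ (i : ℕ))
            = φ (c i) * φ e₀ * (φ b * z) ^ (i : ℕ) * φ b ^ (n' + 1 - i) := by
              rw [hi, mul_pow]; ring
          _ = φ (c i) * (φ e₀ ^ ((i : ℕ) + 1)) * φ a ^ (i : ℕ) * φ b ^ (n' + 1 - i) := by
              rw [hz1, mul_pow, pow_succ]; ring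
          _ = φ e₀ * (φ (c i) * φ a ^ (i : ℕ) * φ b ^ (n' + 1 - i)) := by
              rw [hei]; ring
    rw [hrelT, mul_zero] at hw
    have hwe : w * φ e₀ = w := by
      rw [hwdef, add_mul, Finset.sum_mul]
      congr 1
      · rw [mul_comm, hzn]
      · apply Finset.sum_congr rfl
        intro i _
        have : φ (c i) * φ e₀ * z ^ (i : ℕ) * φ e₀ = φ (c i) * (φ e₀ * φ e₀) * z ^ (i : ℕ) := by ring
        rw [this, hee]
    have hw0 : ∀ m : ℕ, φ b ^ m * w = 0 → w = 0 := by
      intro m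
      induction m with
      | zero => intro h; simpa using h
      | succ m ih =>
        intro h
        apply ih
        have h1 : (φ b ^ m * w) * φ b = 0 := by rw [← h]; ring
        have h2 := he2 _ h1
        rw [mul_assoc, hwe] at h2
        exact h2
    have hwz : w = 0 := hw0 _ hw
    have hzint : φ.IsIntegralElem z := by
      refine ⟨Polynomial.X ^ (n' + 1) + ∑ i : Fin (n' + 1),
        Polynomial.C (c i * e₀) * Polynomial.X ^ (i : ℕ),
        Polynomial.monic_X_pow_add (Polynomial.degree_sum_fin_lt _), ?_⟩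
      rw [Polynomial.eval₂_add, Polynomial.eval₂_pow, Polynomial.eval₂_X,
        Polynomial.eval₂_finsetSum]
      simp only [Polynomial.eval₂_mul, Polynomial.eval₂_C, Polynomial.eval₂_pow,
        Polynomial.eval₂_X, map_mul]
      rw [← hwdef, hwz]
    obtain ⟨z₀, hz₀⟩ := hic z hzint
    refine ⟨e₀, z₀, ?_, ?_⟩
    · apply hφ
      rw [map_mul, map_sub, map_one, he1, map_zero]
    · apply hφ
      rw [map_mul, map_mul, hz₀, hz1]

/-- Elements integral over an (elementwise) normal ring which become elements of the ring after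
multiplication by a nonzerodivisor that is invertible upstairs lie in the ring. -/
theorem mem_range_of_isIntegralElem {R' T : Type*} [CommRing R'] [CommRing T] (ψ : R' →+* T)
    (hψ : Function.Injective ψ) (hR : ElemNormal R') (t : T) (ht : ψ.IsIntegralElem t)
    (s a : R') (hs : ∀ x, s * x = 0 → x = 0) (hsu : IsUnit (ψ s)) (hst : ψ s * t = ψ a) :
    t ∈ ψ.range := by
  obtain ⟨P, hPm, hP⟩ := ht
  obtain ⟨n, hn⟩ : ∃ n, n = P.natDegree := ⟨_, rfl⟩
  have hrel : a ^ n + ∑ i : Fin n, P.coeff i * a ^ (i : ℕ) * s ^ (n - i) = 0 := by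
    apply hψ
    rw [Polynomial.eval₂_eq_sum_range, ← hn, Finset.sum_range_succ, Finset.sum_range,
      hn, hPm.coeff_natDegree, ← hn, map_one, one_mul] at hP
    have := congrArg (fun x => x * ψ s ^ n) hP
    simp only [zero_mul, add_mul, Finset.sum_mul] at this
    rw [map_zero, ← this, add_comm, map_add, map_sum, map_pow]
    congr 1
    · apply Finset.sum_congr rfl
      intro i _
      have hi : ψ s ^ n = ψ s ^ (i : ℕ) * ψ s ^ (n - i) := by
        rw [← pow_add, Nat.add_sub_of_le i.2.le]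
      rw [map_mul, map_mul, map_pow, map_pow, hi, ← hst, mul_pow]
      ring
    · rw [← hst, mul_pow]; ring
  obtain ⟨e, z, he1, he2⟩ := hR.2 n (fun i => P.coeff i) a s hrel
  have he : e = 1 := by
    have := hs (1 - e) (by rw [mul_comm]; exact he1)
    linear_combination -this
  rw [he, one_mul] at he2
  refine ⟨z, ?_⟩
  apply hsu.mul_left_cancel
  rw [hst, he2, map_mul]

theorem mem_range_map_of_mem_range {k : Type*} [Field k] {A K B L : Type*} [AddCommGroup A]
    [Module k A] [AddCommGroup K] [Module k K] [AddCommGroup B] [Module k B] [AddCommGroup L]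
    [Module k L] (f : A →ₗ[k] K) (g : B →ₗ[k] L) (hf : Function.Injective f) (t : K ⊗[k] L)
    (h1 : t ∈ LinearMap.range (LinearMap.lTensor K g))
    (h2 : t ∈ LinearMap.range (LinearMap.rTensor L f)) :
    t ∈ LinearMap.range (TensorProduct.map f g) := by
  obtain ⟨t₁, rfl⟩ := h1
  obtain ⟨t₂, ht₂⟩ := h2
  have hex : Function.Exact g (LinearMap.range g).mkQ :=
    LinearMap.exact_iff.mpr (Submodule.ker_mkQ _)
  have hsurj : Function.Surjective (LinearMap.range g).mkQ := Submodule.mkQ_surjective _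
  have hexA := lTensor_exact A hex hsurj
  have h3 : LinearMap.lTensor A (LinearMap.range g).mkQ t₂ = 0 := by
    have hinj : Function.Injective (LinearMap.rTensor (L ⧸ LinearMap.range g) f) :=
      Module.Flat.rTensor_preserves_injective_linearMap f hf
    apply hinj
    rw [map_zero]
    have e1 : LinearMap.rTensor (L ⧸ LinearMap.range g) f
        (LinearMap.lTensor A (LinearMap.range g).mkQ t₂) =
        LinearMap.lTensor K (LinearMap.range g).mkQ (LinearMap.rTensor L f t₂) := by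
      rw [← LinearMap.comp_apply, ← LinearMap.comp_apply, LinearMap.rTensor_comp_lTensor,
        LinearMap.lTensor_comp_rTensor]
    rw [e1, ht₂, ← LinearMap.comp_apply, ← LinearMap.lTensor_comp]
    have : (LinearMap.range g).mkQ.comp g = 0 := by
      ext x
      simp
    rw [this, LinearMap.lTensor_zero, LinearMap.zero_apply]
  obtain ⟨t₀, ht₀⟩ := (hexA t₂).mp h3
  refine ⟨t₀, ?_⟩
  rw [← ht₂, ← ht₀, ← LinearMap.comp_apply, LinearMap.rTensor_comp_lTensor]

theorem exists_denom_right (k K B L : Type*) [Field k] [CommRing K] [Algebra k K] [CommRing B]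
    [IsDomain B] [Field L] [Algebra k B] [Algebra k L] [Algebra B L] [IsScalarTower k B L]
    [IsFractionRing B L] (t : K ⊗[k] L) :
    ∃ (b : B) (_ : b ≠ 0) (x : K ⊗[k] B), ((1 : K) ⊗ₜ[k] algebraMap B L b) * t =
      Algebra.TensorProduct.map (AlgHom.id k K) (IsScalarTower.toAlgHom k B L) x := by
  induction t using TensorProduct.induction_on with
  | zero => exact ⟨1, one_ne_zero, 0, by simp⟩
  | tmul κ l =>
    obtain ⟨⟨b₀, s⟩, hs⟩ := IsLocalization.surj (nonZeroDivisors B) l
    refine ⟨s, nonZeroDivisors.ne_zero s.2, κ ⊗ₜ b₀, ?_⟩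
    rw [Algebra.TensorProduct.tmul_mul_tmul, one_mul, Algebra.TensorProduct.map_tmul]
    simp only [AlgHom.coe_id, id_eq, IsScalarTower.coe_toAlgHom']
    rw [← hs, mul_comm]
  | add t₁ t₂ h₁ h₂ =>
    obtain ⟨b₁, hb₁, x₁, hx₁⟩ := h₁
    obtain ⟨b₂, hb₂, x₂, hx₂⟩ := h₂
    refine ⟨b₁ * b₂, mul_ne_zero hb₁ hb₂,
      ((1 : K) ⊗ₜ[k] b₂) * x₁ + ((1 : K) ⊗ₜ[k] b₁) * x₂, ?_⟩
    have hsplit : ((1 : K) ⊗ₜ[k] algebraMap B L (b₁ * b₂)) =
        ((1 : K) ⊗ₜ[k] algebraMap B L b₁) * ((1 : K) ⊗ₜ[k] algebraMap B L b₂) := by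
      rw [Algebra.TensorProduct.tmul_mul_tmul, one_mul, map_mul]
    have hψ : ∀ b : B, Algebra.TensorProduct.map (AlgHom.id k K) (IsScalarTower.toAlgHom k B L)
        ((1 : K) ⊗ₜ[k] b) = (1 : K) ⊗ₜ[k] algebraMap B L b := fun b => by
      rw [Algebra.TensorProduct.map_tmul]
      simp
    calc ((1 : K) ⊗ₜ[k] algebraMap B L (b₁ * b₂)) * (t₁ + t₂)
        = ((1 : K) ⊗ₜ[k] algebraMap B L b₂) * (((1 : K) ⊗ₜ[k] algebraMap B L b₁) * t₁) +
          ((1 : K) ⊗ₜ[k] algebraMap B L b₁) * (((1 : K) ⊗ₜ[k] algebraMap B L b₂) * t₂) := by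
          rw [hsplit]; ring
      _ = _ := by rw [hx₁, hx₂, ← hψ b₂, ← hψ b₁, map_add, map_mul, map_mul]

theorem exists_denom_left (k A K L : Type*) [Field k] [CommRing L] [Algebra k L] [CommRing A]
    [IsDomain A] [Field K] [Algebra k A] [Algebra k K] [Algebra A K] [IsScalarTower k A K]
    [IsFractionRing A K] (t : K ⊗[k] L) :
    ∃ (a : A) (_ : a ≠ 0) (x : A ⊗[k] L), (algebraMap A K a ⊗ₜ[k] (1 : L)) * t =
      Algebra.TensorProduct.map (IsScalarTower.toAlgHom k A K) (AlgHom.id k L) x := by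
  induction t using TensorProduct.induction_on with
  | zero => exact ⟨1, one_ne_zero, 0, by simp⟩
  | tmul κ l =>
    obtain ⟨⟨a₀, s⟩, hs⟩ := IsLocalization.surj (nonZeroDivisors A) κ
    refine ⟨s, nonZeroDivisors.ne_zero s.2, a₀ ⊗ₜ l, ?_⟩
    rw [Algebra.TensorProduct.tmul_mul_tmul, one_mul, Algebra.TensorProduct.map_tmul]
    simp only [AlgHom.coe_id, id_eq, IsScalarTower.coe_toAlgHom']
    rw [← hs, mul_comm]
  | add t₁ t₂ h₁ h₂ =>
    obtain ⟨b₁, hb₁, x₁, hx₁⟩ := h₁
    obtain ⟨b₂, hb₂, x₂, hx₂⟩ := h₂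
    refine ⟨b₁ * b₂, mul_ne_zero hb₁ hb₂,
      (b₂ ⊗ₜ[k] (1 : L)) * x₁ + (b₁ ⊗ₜ[k] (1 : L)) * x₂, ?_⟩
    have hsplit : (algebraMap A K (b₁ * b₂) ⊗ₜ[k] (1 : L)) =
        (algebraMap A K b₁ ⊗ₜ[k] (1 : L)) * (algebraMap A K b₂ ⊗ₜ[k] (1 : L)) := by
      rw [Algebra.TensorProduct.tmul_mul_tmul, one_mul, map_mul]
    have hψ : ∀ b : A, Algebra.TensorProduct.map (IsScalarTower.toAlgHom k A K) (AlgHom.id k L)
        (b ⊗ₜ[k] (1 : L)) = algebraMap A K b ⊗ₜ[k] (1 : L) := fun b => by
      rw [Algebra.TensorProduct.map_tmul]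
      simp
    calc (algebraMap A K (b₁ * b₂) ⊗ₜ[k] (1 : L)) * (t₁ + t₂)
        = (algebraMap A K b₂ ⊗ₜ[k] (1 : L)) * ((algebraMap A K b₁ ⊗ₜ[k] (1 : L)) * t₁) +
          (algebraMap A K b₁ ⊗ₜ[k] (1 : L)) * ((algebraMap A K b₂ ⊗ₜ[k] (1 : L)) * t₂) := by
          rw [hsplit]; ring
      _ = _ := by rw [hx₁, hx₂, ← hψ b₂, ← hψ b₁, map_add, map_mul, map_mul]


/-- Core intersection argument. -/
theorem isNormalRing_tensor_of_fractionFields (k A K B L : Type u) [Field k] [CommRing A]
    [IsDomain A] [Field K] [Algebra k A] [Algebra k K] [Algebra A K] [IsScalarTower k A K]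
    [IsFractionRing A K] [CommRing B] [IsDomain B] [Field L] [Algebra k B] [Algebra k L]
    [Algebra B L] [IsScalarTower k B L] [IsFractionRing B L]
    (h1 : EGA4.IsNormalRing (K ⊗[k] B)) (h2 : EGA4.IsNormalRing (A ⊗[k] L))
    (h3 : EGA4.IsNormalRing (K ⊗[k] L)) [IsNoetherianRing (K ⊗[k] L)] :
    EGA4.IsNormalRing (A ⊗[k] B) := by
  let ιA : A →ₐ[k] K := IsScalarTower.toAlgHom k A K
  let ιB : B →ₐ[k] L := IsScalarTower.toAlgHom k B L
  have hιA : Function.Injective ιA := IsFractionRing.injective A K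
  have hιB : Function.Injective ιB := IsFractionRing.injective B L
  let φ : A ⊗[k] B →ₐ[k] K ⊗[k] L := Algebra.TensorProduct.map ιA ιB
  let ψ₁ : K ⊗[k] B →ₐ[k] K ⊗[k] L := Algebra.TensorProduct.map (AlgHom.id k K) ιB
  let ψ₂ : A ⊗[k] L →ₐ[k] K ⊗[k] L := Algebra.TensorProduct.map ιA (AlgHom.id k L)
  let ρ₁ : A ⊗[k] B →ₐ[k] K ⊗[k] B := Algebra.TensorProduct.map ιA (AlgHom.id k B)
  let ρ₂ : A ⊗[k] B →ₐ[k] A ⊗[k] L := Algebra.TensorProduct.map (AlgHom.id k A) ιB
  have e1 : ∀ y, ψ₁ y = LinearMap.lTensor K ιB.toLinearMap y := fun y => rfl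
  have e2 : ∀ y, ψ₂ y = LinearMap.rTensor L ιA.toLinearMap y := fun y => rfl
  have e3 : ∀ y, ρ₁ y = LinearMap.rTensor B ιA.toLinearMap y := fun y => rfl
  have e0 : ∀ y, φ y = TensorProduct.map ιA.toLinearMap ιB.toLinearMap y := fun y => rfl
  have hψ₁ : Function.Injective ψ₁ := fun x y h =>
    Module.Flat.lTensor_preserves_injective_linearMap (M := K) ιB.toLinearMap hιB
      (by rw [← e1, ← e1, h])
  have hψ₂ : Function.Injective ψ₂ := fun x y h =>
    Module.Flat.rTensor_preserves_injective_linearMap (M := L) ιA.toLinearMap hιA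
      (by rw [← e2, ← e2, h])
  have hρ₁ : Function.Injective ρ₁ := fun x y h =>
    Module.Flat.rTensor_preserves_injective_linearMap (M := B) ιA.toLinearMap hιA
      (by rw [← e3, ← e3, h])
  have hφρ : ∀ x, φ x = ψ₁ (ρ₁ x) := by
    intro x
    induction x using TensorProduct.induction_on with
    | zero => simp
    | tmul a b => simp [φ, ψ₁, ρ₁]
    | add x y hx hy => rw [map_add, map_add, map_add, hx, hy]
  have hφρ₂ : ∀ x, φ x = ψ₂ (ρ₂ x) := by
    intro x
    induction x using TensorProduct.induction_on with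
    | zero => simp
    | tmul a b => simp [φ, ψ₂, ρ₂]
    | add x y hx hy => rw [map_add, map_add, map_add, hx, hy]
  have hφ : Function.Injective φ := fun x y h => hρ₁ (hψ₁ (by rw [← hφρ, ← hφρ, h]))
  apply isNormalRing_of_elemNormal
  refine elemNormal_of_integrallyClosedIn φ.toRingHom hφ (elemNormal_of_isNormalRing h3)
    (exists_idem_ann (elemNormal_of_isNormalRing h3)) ?_
  intro t ht
  have ht1 : (ψ₁ : K ⊗[k] B →+* K ⊗[k] L).IsIntegralElem t := by
    obtain ⟨P, hm, hP⟩ := ht
    refine ⟨P.map (ρ₁ : A ⊗[k] B →+* K ⊗[k] B), hm.map _, ?_⟩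
    rw [Polynomial.eval₂_map]
    have : (ψ₁ : K ⊗[k] B →+* K ⊗[k] L).comp (ρ₁ : A ⊗[k] B →+* K ⊗[k] B) = φ.toRingHom :=
      RingHom.ext (fun x => (hφρ x).symm)
    rw [this]
    exact hP
  have ht2 : (ψ₂ : A ⊗[k] L →+* K ⊗[k] L).IsIntegralElem t := by
    obtain ⟨P, hm, hP⟩ := ht
    refine ⟨P.map (ρ₂ : A ⊗[k] B →+* A ⊗[k] L), hm.map _, ?_⟩
    rw [Polynomial.eval₂_map]
    have : (ψ₂ : A ⊗[k] L →+* K ⊗[k] L).comp (ρ₂ : A ⊗[k] B →+* A ⊗[k] L) = φ.toRingHom :=
      RingHom.ext (fun x => (hφρ₂ x).symm)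
    rw [this]
    exact hP
  have hmem1 : t ∈ (ψ₁ : K ⊗[k] B →+* K ⊗[k] L).range := by
    obtain ⟨b, hb, x, hx⟩ := exists_denom_right k K B L t
    have hψb : ψ₁ ((1 : K) ⊗ₜ[k] b) = (1 : K) ⊗ₜ[k] algebraMap B L b := by
      simp [ψ₁, ιB]
    refine mem_range_of_isIntegralElem _ hψ₁ (elemNormal_of_isNormalRing h1) t ht1
      ((1 : K) ⊗ₜ[k] b) x ?_ ?_ ?_
    · intro y hy
      have hinj : Function.Injective (LinearMap.lTensor K (LinearMap.mulLeft k b)) :=
        Module.Flat.lTensor_preserves_injective_linearMap _ (mul_right_injective₀ hb)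
      have hmul : LinearMap.lTensor K (LinearMap.mulLeft k b) =
          LinearMap.mulLeft k ((1 : K) ⊗ₜ[k] b) := by
        apply TensorProduct.ext'
        intro κ b'
        simp [Algebra.TensorProduct.tmul_mul_tmul]
      apply hinj
      rw [map_zero, hmul]
      exact hy
    · show IsUnit (ψ₁ ((1 : K) ⊗ₜ[k] b))
      rw [hψb]
      have hb' : algebraMap B L b ≠ 0 := fun h0 => hb (hιB (by rw [map_zero]; exact h0))
      refine IsUnit.of_mul_eq_one ((1 : K) ⊗ₜ[k] (algebraMap B L b)⁻¹) ?_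
      rw [Algebra.TensorProduct.tmul_mul_tmul, one_mul, mul_inv_cancel₀ hb']
      rfl
    · show ψ₁ ((1 : K) ⊗ₜ[k] b) * t = ψ₁ x
      rw [hψb]
      exact hx
  have hmem2 : t ∈ (ψ₂ : A ⊗[k] L →+* K ⊗[k] L).range := by
    obtain ⟨a, ha, x, hx⟩ := exists_denom_left k A K L t
    have hψa : ψ₂ (a ⊗ₜ[k] (1 : L)) = algebraMap A K a ⊗ₜ[k] (1 : L) := by
      simp [ψ₂, ιA]
    refine mem_range_of_isIntegralElem _ hψ₂ (elemNormal_of_isNormalRing h2) t ht2
      (a ⊗ₜ[k] (1 : L)) x ?_ ?_ ?_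
    · intro y hy
      have hinj : Function.Injective (LinearMap.rTensor L (LinearMap.mulLeft k a)) :=
        Module.Flat.rTensor_preserves_injective_linearMap _ (mul_right_injective₀ ha)
      have hmul : LinearMap.rTensor L (LinearMap.mulLeft k a) =
          LinearMap.mulLeft k (a ⊗ₜ[k] (1 : L)) := by
        apply TensorProduct.ext'
        intro a' l
        simp [Algebra.TensorProduct.tmul_mul_tmul]
      apply hinj
      rw [map_zero, hmul]
      exact hy
    · show IsUnit (ψ₂ (a ⊗ₜ[k] (1 : L)))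
      rw [hψa]
      have ha' : algebraMap A K a ≠ 0 := fun h0 => ha (hιA (by rw [map_zero]; exact h0))
      refine IsUnit.of_mul_eq_one ((algebraMap A K a)⁻¹ ⊗ₜ[k] (1 : L)) ?_
      rw [Algebra.TensorProduct.tmul_mul_tmul, one_mul, mul_inv_cancel₀ ha']
      rfl
    · show ψ₂ (a ⊗ₜ[k] (1 : L)) * t = ψ₂ x
      rw [hψa]
      exact hx
  obtain ⟨x₁, hx₁⟩ := hmem1
  obtain ⟨x₂, hx₂⟩ := hmem2
  have := mem_range_map_of_mem_range ιA.toLinearMap ιB.toLinearMap hιA t
    ⟨x₁, (e1 x₁).symm.trans hx₁⟩ ⟨x₂, (e2 x₂).symm.trans hx₂⟩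
  obtain ⟨x₀, hx₀⟩ := this
  exact ⟨x₀, (e0 x₀).trans hx₀⟩

section SubB

variable (k B L : Type u) [Field k] [CommRing B] [IsDomain B] [Field L] [Algebra k B] [Algebra k L]
  [Algebra B L] [IsScalarTower k B L] [IsFractionRing B L]

/-- `B ∩ E` for an intermediate field `E` of `Frac B / k`. -/
noncomputable def subB (E : IntermediateField k L) : Subalgebra k B :=
  E.toSubalgebra.comap (IsScalarTower.toAlgHom k B L)

noncomputable def subBHom (E : IntermediateField k L) : subB k B L E →ₐ[k] E :=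
  ((IsScalarTower.toAlgHom k B L).comp (subB k B L E).val).codRestrict E.toSubalgebra
    (fun x => x.2)

noncomputable instance algSubB (E : IntermediateField k L) : Algebra ↥(subB k B L E) ↥E :=
  (subBHom k B L E).toRingHom.toAlgebra

theorem algebraMap_subB_coe (E : IntermediateField k L) (x : subB k B L E) :
    ((algebraMap ↥(subB k B L E) ↥E x : E) : L) = algebraMap B L (x : B) := rfl

instance isScalarTower_subB (E : IntermediateField k L) : IsScalarTower k ↥(subB k B L E) ↥E :=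
  IsScalarTower.of_algebraMap_eq (fun x => ((subBHom k B L E).commutes x).symm)

theorem mem_subB (E : IntermediateField k L) (b : B) : b ∈ subB k B L E ↔ algebraMap B L b ∈ E :=
  Iff.rfl

theorem isFractionRing_subB (F : Finset B) :
    IsFractionRing ↥(subB k B L (IntermediateField.adjoin k ((algebraMap B L) '' (F : Set B))))
      ↥(IntermediateField.adjoin k ((algebraMap B L) '' (F : Set B))) := by
  obtain ⟨E, hE⟩ : ∃ E : IntermediateField k L,
      E = IntermediateField.adjoin k ((algebraMap B L) '' (F : Set B)) := ⟨_, rfl⟩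
  rw [← hE]
  have hinj : Function.Injective (algebraMap ↥(subB k B L E) ↥E) := by
    intro x y h
    have := congrArg (fun z : E => (z : L)) h
    simp only [algebraMap_subB_coe] at this
    exact Subtype.ext (IsFractionRing.injective B L this)
  haveI : FaithfulSMul ↥(subB k B L E) ↥E := (faithfulSMul_iff_algebraMap_injective _ _).mpr hinj
  refine IsFractionRing.of_field _ _ (fun z => ?_)
  have hz2 : (z : L) ∈ IntermediateField.adjoin k ((algebraMap B L) '' (F : Set B)) := by
    have h0 : ∀ (E' : IntermediateField k L), E = E' → (z : L) ∈ E' := fun E' h => h ▸ z.2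
    exact h0 _ hE
  obtain ⟨r, hr, s, hs, hz⟩ := IntermediateField.mem_adjoin_iff_div.mp hz2
  have hadj : Algebra.adjoin k ((algebraMap B L) '' (F : Set B)) =
      (Algebra.adjoin k (F : Set B)).map (IsScalarTower.toAlgHom k B L) :=
    (AlgHom.map_adjoin (IsScalarTower.toAlgHom k B L) (F : Set B)).symm
  rw [hadj] at hr hs
  obtain ⟨r₀, hr₀, rfl⟩ := hr
  obtain ⟨s₀, hs₀, rfl⟩ := hs
  have hle : Algebra.adjoin k (F : Set B) ≤ subB k B L E := by
    apply Algebra.adjoin_le
    intro b hb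
    rw [SetLike.mem_coe, mem_subB, hE]
    exact IntermediateField.subset_adjoin k _ ⟨b, hb, rfl⟩
  refine ⟨⟨r₀, hle hr₀⟩, ⟨s₀, hle hs₀⟩, Subtype.ext ?_⟩
  rw [IntermediateField.coe_div, algebraMap_subB_coe, algebraMap_subB_coe]
  exact hz

theorem isIntegrallyClosed_subB [IsIntegrallyClosed B] (F : Finset B) :
    IsIntegrallyClosed
      ↥(subB k B L (IntermediateField.adjoin k ((algebraMap B L) '' (F : Set B)))) := by
  haveI := isFractionRing_subB k B L F
  obtain ⟨E, hE⟩ : ∃ E : IntermediateField k L,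
      E = IntermediateField.adjoin k ((algebraMap B L) '' (F : Set B)) := ⟨_, rfl⟩
  rw [← hE] at this ⊢
  rw [isIntegrallyClosed_iff ↥E]
  intro x hx
  have hxL : IsIntegral B (x : L) := by
    obtain ⟨P, hm, hP⟩ := hx
    refine ⟨P.map (subB k B L E).val.toRingHom, hm.map _, ?_⟩
    rw [Polynomial.eval₂_map]
    have h2 := Polynomial.hom_eval₂ P (algebraMap ↥(subB k B L E) ↥E) E.val.toRingHom x
    rw [hP, map_zero] at h2
    have hcomp : E.val.toRingHom.comp (algebraMap ↥(subB k B L E) ↥E) =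
        (algebraMap B L).comp (subB k B L E).val.toRingHom := RingHom.ext (fun y => rfl)
    rw [hcomp] at h2
    exact h2.symm
  obtain ⟨b, hb⟩ := IsIntegrallyClosed.isIntegral_iff.mp hxL
  exact ⟨⟨b, (mem_subB k B L E b).mpr (hb ▸ x.2)⟩, Subtype.ext hb⟩

end SubB


/-- Directed union over a monotone family of subalgebras of the right factor. -/
theorem isNormalRing_tensor_of_forall_subalgebra (k A B : Type u) [Field k] [CommRing A]
    [Algebra k A] [CommRing B] [Algebra k B] (Bf : Finset B → Subalgebra k B)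
    (hmonoB : ∀ F F' : Finset B, F ⊆ F' → Bf F ≤ Bf F')
    (hsub : ∀ F : Finset B, (F : Set B) ⊆ Bf F)
    (h : ∀ F : Finset B, EGA4.IsNormalRing (A ⊗[k] ↥(Bf F))) :
    EGA4.IsNormalRing (A ⊗[k] B) := by
  classical
  let φ : ∀ F : Finset B, (A ⊗[k] ↥(Bf F)) →+* A ⊗[k] B :=
    fun F => (Algebra.TensorProduct.map (AlgHom.id k A) (Bf F).val).toRingHom
  have hφ : ∀ (F : Finset B) (a : A) (b : ↥(Bf F)), φ F (a ⊗ₜ b) = a ⊗ₜ (b : B) :=
    fun F a b => by simp [φ]
  have hmono : ∀ F F' : Finset B, F ⊆ F' → ∀ y, φ F y ∈ (φ F').range := by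
    intro F F' hFF' y
    induction y using TensorProduct.induction_on with
    | zero => rw [map_zero]; exact Subring.zero_mem _
    | tmul a b =>
      refine ⟨a ⊗ₜ (⟨b, hmonoB F F' hFF' b.2⟩ : ↥(Bf F')), ?_⟩
      rw [hφ, hφ]
    | add x y hx hy => rw [map_add]; exact Subring.add_mem _ hx hy
  have hone : ∀ x : A ⊗[k] B, ∃ F : Finset B, x ∈ (φ F).range := by
    intro x
    induction x using TensorProduct.induction_on with
    | zero => exact ⟨∅, Subring.zero_mem _⟩
    | tmul a b =>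
      refine ⟨{b}, a ⊗ₜ (⟨b, hsub {b} (by simp)⟩ : ↥(Bf {b})), ?_⟩
      rw [hφ]
    | add x y hx hy =>
      obtain ⟨t1, x', rfl⟩ := hx
      obtain ⟨t2, y', rfl⟩ := hy
      exact ⟨t1 ∪ t2, Subring.add_mem _ (hmono t1 (t1 ∪ t2) Finset.subset_union_left x')
        (hmono t2 (t1 ∪ t2) Finset.subset_union_right y')⟩
  have hfin : ∀ s : Finset (A ⊗[k] B), ∃ F, (s : Set (A ⊗[k] B)) ⊆ Set.range (φ F) := by
    intro s
    induction s using Finset.induction_on with
    | empty => exact ⟨∅, by simp⟩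
    | insert x s hx ih =>
      obtain ⟨t1, ht1⟩ := ih
      obtain ⟨t2, x', rfl⟩ := hone x
      refine ⟨t1 ∪ t2, ?_⟩
      intro y hy
      rw [Finset.coe_insert, Set.mem_insert_iff] at hy
      rcases hy with rfl | hy
      · exact hmono t2 (t1 ∪ t2) Finset.subset_union_right x'
      · obtain ⟨y', rfl⟩ := ht1 hy
        exact hmono t1 (t1 ∪ t2) Finset.subset_union_left y'
  refine isNormalRing_of_directed (fun F : Finset B => (A ⊗[k] ↥(Bf F))) φ ?_ hfin h
  intro F
  exact Module.Flat.lTensor_preserves_injective_linearMap (M := A) (Bf F).val.toLinearMap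
    Subtype.val_injective

/-- Tensor products of normal domains: the general intersection argument. -/
theorem isNormalRing_tensor_of_domains (k A B : Type u) [Field k] [CommRing A] [IsDomain A]
    [CommRing B] [IsDomain B] [IsIntegrallyClosed B] [Algebra k A] [Algebra k B]
    (hK : ∀ (B' : Type u) [CommRing B'] [Algebra k B'], EGA4.IsNormalRing B' →
      EGA4.IsNormalRing (FractionRing A ⊗[k] B'))
    (hL : ∀ E : IntermediateField k (FractionRing B), EGA4.IsNormalRing (A ⊗[k] ↥E)) :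
    EGA4.IsNormalRing (A ⊗[k] B) := by
  classical
  refine isNormalRing_tensor_of_forall_subalgebra k A B
    (fun F => subB k B (FractionRing B)
      (IntermediateField.adjoin k ((algebraMap B (FractionRing B)) '' (F : Set B)))) ?_ ?_ ?_
  · intro F F' hFF' b hb
    rw [mem_subB] at hb ⊢
    exact IntermediateField.adjoin.mono k _ _ (Set.image_mono (by exact_mod_cast hFF')) hb
  · intro F b hb
    rw [SetLike.mem_coe, mem_subB]
    exact IntermediateField.subset_adjoin k _ ⟨b, hb, rfl⟩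
  · intro F
    haveI := isFractionRing_subB k B (FractionRing B) F
    haveI := isIntegrallyClosed_subB k B (FractionRing B) F
    haveI : Algebra.EssFiniteType k
        ↥(IntermediateField.adjoin k ((algebraMap B (FractionRing B)) '' (F : Set B))) :=
      IntermediateField.essFiniteType_iff.mpr
        ⟨F.image (algebraMap B (FractionRing B)), by rw [Finset.coe_image]⟩
    haveI : IsNoetherianRing (FractionRing A ⊗[k]
        ↥(IntermediateField.adjoin k ((algebraMap B (FractionRing B)) '' (F : Set B)))) :=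
      Algebra.EssFiniteType.isNoetherianRing (FractionRing A) _
    exact isNormalRing_tensor_of_fractionFields k A (FractionRing A) _
      ↥(IntermediateField.adjoin k ((algebraMap B (FractionRing B)) '' (F : Set B)))
      (hK _ (isNormalRing_of_isIntegrallyClosed _)) (hL _)
      (hK _ (isNormalRing_of_isIntegrallyClosed _))

end Groth.Agent.H25.NormalInter
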