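import Mathlib
import Groth.Prelude
import Groth.Agent.H25.NormalInter
import Groth.Agent.H25.GeomRedNormal

set_option maxHeartbeats 400000
set_option linter.style.haveILetI false
set_option linter.unusedVariables false
set_option linter.unusedSectionVars false

open TensorProduct

universe u

namespace Groth.Agent.H25.NormalGeneral

open Groth.Agent.H25.NormalElem Groth.Agent.H25.NormalSep Groth.Agent.H25.NormalInter

/-- Normality of `S ⊗ T` can be checked after localizing `S` at its primes. -/
theorem isNormalRing_tensor_of_forall_localization_left (k S T : Type u) [Field k] [CommRing S]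
    [Algebra k S] [CommRing T] [Algebra k T]
    (h : ∀ (q : Ideal S) [q.IsPrime], EGA4.IsNormalRing (Localization.AtPrime q ⊗[k] T)) :
    EGA4.IsNormalRing (S ⊗[k] T) := by
  intro q' _
  have hN2 := h (q'.comap (algebraMap S (S ⊗[k] T)))
  letI : Algebra (S ⊗[k] T)
      (Localization.AtPrime (q'.comap (algebraMap S (S ⊗[k] T))) ⊗[k] T) :=
    (Algebra.TensorProduct.map (IsScalarTower.toAlgHom k S
      (Localization.AtPrime (q'.comap (algebraMap S (S ⊗[k] T))))) (AlgHom.id k T)).toRingHom.toAlgebra
  haveI : IsScalarTower S (S ⊗[k] T)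
      (Localization.AtPrime (q'.comap (algebraMap S (S ⊗[k] T))) ⊗[k] T) := by
    refine IsScalarTower.of_algebraMap_eq' ?_
    ext x
    simp [RingHom.algebraMap_toAlgebra, Algebra.TensorProduct.algebraMap_apply]
  haveI hloc : IsLocalization (Algebra.algebraMapSubmonoid (S ⊗[k] T)
      (q'.comap (algebraMap S (S ⊗[k] T))).primeCompl)
      (Localization.AtPrime (q'.comap (algebraMap S (S ⊗[k] T))) ⊗[k] T) := by
    refine IsLocalization.tensorProduct_tensorProduct k T
      (q'.comap (algebraMap S (S ⊗[k] T))).primeCompl
      (Localization.AtPrime (q'.comap (algebraMap S (S ⊗[k] T)))) ?_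
    ext a
    simp [RingHom.algebraMap_toAlgebra]
  have hM : Algebra.algebraMapSubmonoid (S ⊗[k] T)
      (q'.comap (algebraMap S (S ⊗[k] T))).primeCompl ≤ q'.primeCompl := by
    rintro _ ⟨s, hs, rfl⟩
    exact hs
  have hunits : ∀ y : Algebra.algebraMapSubmonoid (S ⊗[k] T)
      (q'.comap (algebraMap S (S ⊗[k] T))).primeCompl,
      IsUnit (algebraMap (S ⊗[k] T) (Localization.AtPrime q') y) := fun y =>
    IsLocalization.map_units (Localization.AtPrime q') (⟨y, hM y.2⟩ : q'.primeCompl)
  letI : Algebra (Localization.AtPrime (q'.comap (algebraMap S (S ⊗[k] T))) ⊗[k] T)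
      (Localization.AtPrime q') :=
    (IsLocalization.lift (M := Algebra.algebraMapSubmonoid (S ⊗[k] T)
      (q'.comap (algebraMap S (S ⊗[k] T))).primeCompl) hunits).toAlgebra
  haveI : IsScalarTower (S ⊗[k] T)
      (Localization.AtPrime (q'.comap (algebraMap S (S ⊗[k] T))) ⊗[k] T)
      (Localization.AtPrime q') :=
    IsScalarTower.of_algebraMap_eq (fun x => (IsLocalization.lift_eq hunits x).symm)
  haveI := IsLocalization.isLocalization_of_submonoid_le
    (Localization.AtPrime (q'.comap (algebraMap S (S ⊗[k] T))) ⊗[k] T)
    (Localization.AtPrime q') _ q'.primeCompl hM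
  have hN3 : EGA4.IsNormalRing (Localization.AtPrime q') :=
    Groth.Agent.S9412.isNormalRing_of_isLocalization
      (q'.primeCompl.map (algebraMap (S ⊗[k] T)
        (Localization.AtPrime (q'.comap (algebraMap S (S ⊗[k] T))) ⊗[k] T))) _ hN2
  exact isDomain_isIntegrallyClosed_of_isLocalRing _ hN3

/-- S9413: geometrically normal tensor normal is normal, without any finiteness hypothesis. -/
theorem isNormalRing_tensor_of_isGeomNormal_general (k A B : Type u) [Field k] [CommRing A]
    [Algebra k A] [CommRing B] [Algebra k B] (hA : EGA4.IsGeomNormal k A)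
    (hB : EGA4.IsNormalRing B) : EGA4.IsNormalRing (A ⊗[k] B) := by
  apply isNormalRing_of_ringEquiv (Algebra.TensorProduct.comm k B A).toRingEquiv
  apply isNormalRing_tensor_of_forall_localization_left k B A
  intro q _
  apply isNormalRing_of_ringEquiv
    (Algebra.TensorProduct.comm k A (Localization.AtPrime q)).toRingEquiv
  apply isNormalRing_tensor_of_forall_localization_left k A (Localization.AtPrime q)
  intro p _
  obtain ⟨hdB, hicB⟩ := hB q
  have hAn : EGA4.IsNormalRing A :=
    isNormalRing_of_ringEquiv (Algebra.TensorProduct.lid k A).toRingEquiv (hA k inferInstance)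
  obtain ⟨hdA, hicA⟩ := hAn p
  haveI := hdA
  haveI := hicA
  haveI := hdB
  haveI := hicB
  have hAp : EGA4.IsGeomNormal k (Localization.AtPrime p) :=
    Groth.Agent.S9412.result k A p.primeCompl (Localization.AtPrime p) hA
  have hKn : EGA4.IsGeomNormal k (FractionRing (Localization.AtPrime p)) :=
    Groth.Agent.S9412.result k (Localization.AtPrime p) (nonZeroDivisors _)
      (FractionRing (Localization.AtPrime p)) hAp
  haveI : Algebra.IsGeometricallyReduced k (FractionRing (Localization.AtPrime p)) :=
    Groth.Agent.H25.GeomRedNormal.isGeometricallyReduced_of_isGeomNormal hKn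
  exact isNormalRing_tensor_of_domains k (Localization.AtPrime p) (Localization.AtPrime q)
    (fun B' _ _ hB' => isNormalRing_tensor_of_geomReduced k _ B' hB')
    (fun E => isNormalRing_of_ringEquiv
      (Algebra.TensorProduct.comm k ↥E (Localization.AtPrime p)).toRingEquiv
      (isNormalRing_tensor_of_forall_purelyInseparable' k (Localization.AtPrime p)
        (fun k' _ _ hfin _ => hAp k' hfin) ↥E))

end Groth.Agent.H25.NormalGeneral
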