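import Mathlib
import Groth.Prelude
import Groth.Agent.H25.NormalGeneral

set_option maxHeartbeats 400000
set_option linter.style.haveILetI false
set_option linter.unusedVariables false
set_option linter.unusedSectionVars false

open TensorProduct

universe u

namespace Groth.Agent.H25.NormalSepAlg

open Groth.Agent.H25.NormalElem Groth.Agent.H25.NormalSep Groth.Agent.H25.NormalInter
  Groth.Agent.H25.NormalGeneral

/-- A separable algebraic field extension is geometrically reduced. -/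
theorem isGeometricallyReduced_of_isSeparable (k k' : Type u) [Field k] [Field k'] [Algebra k k']
    [Algebra.IsSeparable k k'] : Algebra.IsGeometricallyReduced k k' := by
  haveI : IsReduced (k' ⊗[k] AlgebraicClosure k) :=
    Groth.Agent.H25.GeomRed.isReduced_tensor_of_isSeparable (k := k) k' (AlgebraicClosure k)
  rw [Algebra.isGeometricallyReduced_field_iff]
  exact isReduced_of_injective (Algebra.TensorProduct.comm k (AlgebraicClosure k) k')
    (Algebra.TensorProduct.comm k (AlgebraicClosure k) k').injective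

/-- Geometric normality over a separable algebraic extension implies it over the base. -/
theorem isGeomNormal_of_isGeomNormal_sep (k k' A : Type u) [Field k] [Field k'] [Algebra k k']
    [Algebra.IsSeparable k k'] [CommRing A] [Algebra k' A] [Algebra k A] [IsScalarTower k k' A]
    (hA : EGA4.IsGeomNormal k' A) : EGA4.IsGeomNormal k A := by
  intro L _ _ hfin
  haveI := isGeometricallyReduced_of_isSeparable k k'
  have hB : EGA4.IsNormalRing (k' ⊗[k] L) :=
    isNormalRing_tensor_of_geomReduced k k' L (isNormalRing_of_isIntegrallyClosed L)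
  have h1 : EGA4.IsNormalRing (A ⊗[k'] (k' ⊗[k] L)) :=
    isNormalRing_tensor_of_isGeomNormal_general k' A (k' ⊗[k] L) hA hB
  have h2 : EGA4.IsNormalRing (A ⊗[k] L) :=
    isNormalRing_of_ringEquiv (Algebra.TensorProduct.cancelBaseChange k k' k' A L).toRingEquiv h1
  exact isNormalRing_of_ringEquiv (Algebra.TensorProduct.comm k A L).toRingEquiv h2

theorem exists_mul_sub_eq_zero (k k' L' : Type u) [Field k] [Field k'] [Algebra k k']
    [Field L'] [Algebra k' L'] [Algebra k L'] [IsScalarTower k k' L']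
    (φ : k' ⊗[k] L' →ₐ[k'] L') (hφ : ∀ x l, φ (x ⊗ₜ[k] l) = algebraMap k' L' x * l)
    (x : k') (f : Polynomial k) (hsep : f.Separable) (hfx : Polynomial.aeval x f = 0) :
    ∃ s, φ s ≠ 0 ∧ s * (x ⊗ₜ[k] (1 : L') - 1 ⊗ₜ[k] algebraMap k' L' x) = 0 := by
  have hφa : φ (x ⊗ₜ[k] (1 : L')) = algebraMap k' L' x := by rw [hφ, mul_one]
  have hφb : φ ((1 : k') ⊗ₜ[k] algebraMap k' L' x) = algebraMap k' L' x := by
    rw [hφ, map_one, one_mul]
  have hFa : (f.map (algebraMap k (k' ⊗[k] L'))).eval (x ⊗ₜ[k] (1 : L')) = 0 := by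
    rw [Polynomial.eval_map_algebraMap]
    have : x ⊗ₜ[k] (1 : L') = (Algebra.TensorProduct.includeLeft : k' →ₐ[k] k' ⊗[k] L') x := rfl
    rw [this, Polynomial.aeval_algHom_apply, hfx, map_zero]
  have hFb : (f.map (algebraMap k (k' ⊗[k] L'))).eval ((1 : k') ⊗ₜ[k] algebraMap k' L' x) = 0 := by
    rw [Polynomial.eval_map_algebraMap]
    have : (1 : k') ⊗ₜ[k] algebraMap k' L' x =
        (Algebra.TensorProduct.includeRight : L' →ₐ[k] k' ⊗[k] L') (algebraMap k' L' x) := rfl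
    rw [this, Polynomial.aeval_algHom_apply, Polynomial.aeval_algebraMap_apply, hfx, map_zero,
      map_zero]
  obtain ⟨a, ha⟩ : ∃ a : k' ⊗[k] L', a = x ⊗ₜ[k] (1 : L') := ⟨_, rfl⟩
  obtain ⟨b, hb⟩ : ∃ b : k' ⊗[k] L', b = (1 : k') ⊗ₜ[k] algebraMap k' L' x := ⟨_, rfl⟩
  rw [← ha] at hφa hFa
  rw [← hb] at hφb hFb
  rw [← ha, ← hb]
  obtain ⟨c, hc⟩ := (f.map (algebraMap k (k' ⊗[k] L'))).binomExpansion a (b - a)
  have hab : a + (b - a) = b := by ring
  rw [hab, hFa, hFb, zero_add] at hc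
  refine ⟨(f.map (algebraMap k (k' ⊗[k] L'))).derivative.eval a + c * (b - a), ?_, ?_⟩
  · rw [map_add, map_mul, map_sub, hφa, hφb, sub_self, mul_zero, add_zero]
    have h1 : (f.map (algebraMap k (k' ⊗[k] L'))).derivative.eval a =
        Polynomial.aeval a f.derivative := by
      rw [Polynomial.derivative_map, Polynomial.eval_map_algebraMap]
    rw [h1]
    have h2 : φ (Polynomial.aeval a f.derivative) = Polynomial.aeval (φ a) f.derivative :=
      (Polynomial.aeval_algHom_apply (φ.restrictScalars k) a f.derivative).symm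
    rw [h2, hφa]
    apply hsep.aeval_derivative_ne_zero
    rw [Polynomial.aeval_algebraMap_apply, hfx, map_zero]
  · have : ((f.map (algebraMap k (k' ⊗[k] L'))).derivative.eval a + c * (b - a)) * (a - b) =
        -((f.map (algebraMap k (k' ⊗[k] L'))).derivative.eval a * (b - a) + c * (b - a) ^ 2) := by
      ring
    rw [this, ← hc, neg_zero]

/-- For separable algebraic `k'/k`, every element of the kernel of `k' ⊗[k] L' → L'` is killed by
an element outside the kernel. -/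
theorem exists_mul_eq_zero_of_mem_ker (k k' L' : Type u) [Field k] [Field k'] [Algebra k k']
    [Algebra.IsSeparable k k'] [Field L'] [Algebra k' L'] [Algebra k L'] [IsScalarTower k k' L']
    (φ : k' ⊗[k] L' →ₐ[k'] L') (hφ : ∀ x l, φ (x ⊗ₜ[k] l) = algebraMap k' L' x * l)
    (t : k' ⊗[k] L') (ht : φ t = 0) : ∃ s, φ s ≠ 0 ∧ s * t = 0 := by
  have hadd : ∀ z₁ z₂ : k' ⊗[k] L', (∃ s, φ s ≠ 0 ∧ s * z₁ = 0) → (∃ s, φ s ≠ 0 ∧ s * z₂ = 0) →
      ∃ s, φ s ≠ 0 ∧ s * (z₁ + z₂) = 0 := by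
    rintro z₁ z₂ ⟨s₁, h₁, e₁⟩ ⟨s₂, h₂, e₂⟩
    refine ⟨s₁ * s₂, by rw [map_mul]; exact mul_ne_zero h₁ h₂, ?_⟩
    calc s₁ * s₂ * (z₁ + z₂) = s₂ * (s₁ * z₁) + s₁ * (s₂ * z₂) := by ring
      _ = 0 := by rw [e₁, e₂, mul_zero, mul_zero, add_zero]
  have hmul : ∀ (c z : k' ⊗[k] L'), (∃ s, φ s ≠ 0 ∧ s * z = 0) →
      ∃ s, φ s ≠ 0 ∧ s * (c * z) = 0 := by
    rintro c z ⟨s, h, e⟩
    exact ⟨s, h, by rw [mul_left_comm, e, mul_zero]⟩
  have hgen : ∀ x : k', ∃ s, φ s ≠ 0 ∧
      s * (x ⊗ₜ[k] (1 : L') - 1 ⊗ₜ[k] algebraMap k' L' x) = 0 := fun x =>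
    exists_mul_sub_eq_zero k k' L' φ hφ x (minpoly k x) (Algebra.IsSeparable.isSeparable k x)
      (minpoly.aeval k x)
  have hall : ∀ t : k' ⊗[k] L', ∃ s, φ s ≠ 0 ∧ s * (t - 1 ⊗ₜ[k] φ t) = 0 := by
    intro t
    induction t using TensorProduct.induction_on with
    | zero => exact ⟨1, by rw [map_one]; exact one_ne_zero, by simp⟩
    | tmul x l =>
      have : x ⊗ₜ[k] l - 1 ⊗ₜ[k] φ (x ⊗ₜ[k] l) =
          ((1 : k') ⊗ₜ[k] l) * (x ⊗ₜ[k] (1 : L') - 1 ⊗ₜ[k] algebraMap k' L' x) := by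
        rw [hφ, mul_sub, Algebra.TensorProduct.tmul_mul_tmul, Algebra.TensorProduct.tmul_mul_tmul,
          one_mul, mul_one, one_mul, mul_comm l (algebraMap k' L' x)]
      rw [this]
      exact hmul _ _ (hgen x)
    | add t₁ t₂ h₁ h₂ =>
      have : t₁ + t₂ - 1 ⊗ₜ[k] φ (t₁ + t₂) = (t₁ - 1 ⊗ₜ[k] φ t₁) + (t₂ - 1 ⊗ₜ[k] φ t₂) := by
        rw [map_add, TensorProduct.tmul_add]; ring
      rw [this]
      exact hadd _ _ h₁ h₂
  obtain ⟨s, hs, e⟩ := hall t
  rw [ht, TensorProduct.tmul_zero, sub_zero] at e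
  exact ⟨s, hs, e⟩

/-- Geometric normality over the base implies it over a separable algebraic extension. -/
theorem isGeomNormal_sep_of_isGeomNormal (k k' A : Type u) [Field k] [Field k'] [Algebra k k']
    [Algebra.IsSeparable k k'] [CommRing A] [Algebra k' A] [Algebra k A] [IsScalarTower k k' A]
    (hA : EGA4.IsGeomNormal k A) : EGA4.IsGeomNormal k' A := by
  intro L' _ _ hfin
  letI : Algebra k L' := ((algebraMap k' L').comp (algebraMap k k')).toAlgebra
  haveI : IsScalarTower k k' L' := IsScalarTower.of_algebraMap_eq (fun x => rfl)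
  have hLA : EGA4.IsNormalRing (L' ⊗[k] A) :=
    isNormalRing_tensor_of_forall_purelyInseparable' k A (fun k'' _ _ hfin' _ => hA k'' hfin') L'
  let φ : k' ⊗[k] L' →ₐ[k'] L' :=
    Algebra.TensorProduct.lift (Algebra.ofId k' L') (AlgHom.id k L') (fun _ _ => Commute.all _ _)
  have hφ : ∀ x l, φ (x ⊗ₜ[k] l) = algebraMap k' L' x * l := fun x l => by
    simp [φ, Algebra.ofId_apply]
  letI : Algebra (k' ⊗[k] L') L' := φ.toRingHom.toAlgebra
  haveI : IsScalarTower k' (k' ⊗[k] L') L' :=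
    IsScalarTower.of_algebraMap_eq (fun x => (φ.commutes x).symm)
  haveI hker : (RingHom.ker (algebraMap (k' ⊗[k] L') L')).IsPrime := RingHom.ker_isPrime _
  have hT : EGA4.IsNormalRing ((k' ⊗[k] L') ⊗[k'] A) := by
    have h1 : EGA4.IsNormalRing (A ⊗[k] L') :=
      isNormalRing_of_ringEquiv (Algebra.TensorProduct.comm k L' A).toRingEquiv hLA
    have h2 : EGA4.IsNormalRing (A ⊗[k'] (k' ⊗[k] L')) :=
      isNormalRing_of_ringEquiv
        (Algebra.TensorProduct.cancelBaseChange k k' k' A L').symm.toRingEquiv h1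
    exact isNormalRing_of_ringEquiv
      (Algebra.TensorProduct.comm k' A (k' ⊗[k] L')).toRingEquiv h2
  haveI hloc : IsLocalization (RingHom.ker (algebraMap (k' ⊗[k] L') L')).primeCompl L' := by
    rw [isLocalization_iff]
    refine ⟨?_, ?_, ?_⟩
    · rintro ⟨y, hy⟩
      refine IsUnit.mk0 _ ?_
      intro h
      exact (Ideal.mem_primeCompl_iff.mp hy) (RingHom.mem_ker.mpr h)
    · intro z
      refine ⟨(1 ⊗ₜ[k] z, 1), ?_⟩
      show z * φ ((1 : k' ⊗[k] L')) = φ (1 ⊗ₜ[k] z)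
      rw [hφ, map_one, map_one, one_mul, mul_one]
    · intro x y hxy
      have hxy' : φ (x - y) = 0 := by rw [map_sub]; exact sub_eq_zero.mpr hxy
      obtain ⟨s, hs, e⟩ := exists_mul_eq_zero_of_mem_ker k k' L' φ hφ (x - y) hxy'
      refine ⟨⟨s, Ideal.mem_primeCompl_iff.mpr (fun h => hs (RingHom.mem_ker.mp h))⟩, ?_⟩
      show s * x = s * y
      rw [mul_sub] at e
      exact sub_eq_zero.mp e
  letI : Algebra ((k' ⊗[k] L') ⊗[k'] A) (L' ⊗[k'] A) :=
    (Algebra.TensorProduct.map (IsScalarTower.toAlgHom k' (k' ⊗[k] L') L')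
      (AlgHom.id k' A)).toRingHom.toAlgebra
  haveI : IsScalarTower (k' ⊗[k] L') ((k' ⊗[k] L') ⊗[k'] A) (L' ⊗[k'] A) := by
    refine IsScalarTower.of_algebraMap_eq' (R := k' ⊗[k] L') (S := (k' ⊗[k] L') ⊗[k'] A)
      (A := L' ⊗[k'] A) ?_
    refine RingHom.ext (fun x => ?_)
    simp [RingHom.algebraMap_toAlgebra, Algebra.TensorProduct.algebraMap_apply]
  haveI hloc2 : IsLocalization (Algebra.algebraMapSubmonoid ((k' ⊗[k] L') ⊗[k'] A)
      (RingHom.ker (algebraMap (k' ⊗[k] L') L')).primeCompl) (L' ⊗[k'] A) := by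
    refine IsLocalization.tensorProduct_tensorProduct k' A
      (RingHom.ker (algebraMap (k' ⊗[k] L') L')).primeCompl L' ?_
    ext a
    simp [RingHom.algebraMap_toAlgebra]
  exact Groth.Agent.S9412.isNormalRing_of_isLocalization
    (Algebra.algebraMapSubmonoid ((k' ⊗[k] L') ⊗[k'] A)
      (RingHom.ker (algebraMap (k' ⊗[k] L') L')).primeCompl) _ hT

/-- S9411. -/
theorem isGeomNormal_iff_of_isSeparable (k k' A : Type u) [Field k] [Field k'] [Algebra k k']
    [Algebra.IsSeparable k k'] [CommRing A] [Algebra k' A] [Algebra k A] [IsScalarTower k k' A] :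
    EGA4.IsGeomNormal k A ↔ EGA4.IsGeomNormal k' A :=
  ⟨isGeomNormal_sep_of_isGeomNormal k k' A, isGeomNormal_of_isGeomNormal_sep k k' A⟩

end Groth.Agent.H25.NormalSepAlg
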