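import Mathlib
import Groth.Prelude
import Groth.Agent.H63.StalkBaseChange
import Groth.Agent.H36.TensorLocal
import Groth.Agent.H25.NormalSepAlg

set_option maxHeartbeats 400000
set_option linter.style.haveILetI false
set_option linter.unusedVariables false
set_option linter.unusedSectionVars false

open CategoryTheory CategoryTheory.Limits AlgebraicGeometry TensorProduct IsLocalRing

universe u

namespace Groth.Agent.H25.StalkBC

open Groth.Agent.H25.NormalElem Groth.Agent.H25.NormalSep Groth.Agent.H25.GeomRed

attribute [local instance] Curv2.stalkAlgebra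

/-- helper63's stalk bridge, in the language of `Curv2.bc`. -/
theorem exists_prime_ringEquiv_stalk_bc (k : Type u) [Field k] (X : Scheme.{u})
    [X.Over (Spec (CommRingCat.of k))] (K : Type u) [Field K] [Algebra k K]
    (x' : Curv2.bc k X K) (x : X) (hx : Curv2.bcFst k X K x' = x) :
    ∃ (Q : Ideal (K ⊗[k] X.presheaf.stalk x)) (_ : Q.IsPrime),
      (∀ a ∈ IsLocalRing.maximalIdeal (X.presheaf.stalk x), (1 : K) ⊗ₜ[k] a ∈ Q) ∧
      Nonempty (Localization.AtPrime Q ≃+* (Curv2.bc k X K).presheaf.stalk x') :=
  Groth.Agent.H63.StalkBaseChange.exists_prime_ringEquiv_stalk (K := K)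
    (X ↘ Spec (CommRingCat.of k)) (Curv2.bcFst k X K) (Curv2.bcSnd k X K)
    (IsPullback.of_hasPullback _ _) x' x hx

/-- (after helper63) purely inseparable extensions induce purely inseparable residue fields. -/
theorem isPurelyInseparable_residueField (k k' : Type u) [Field k] [Field k'] [Algebra k k']
    [IsPurelyInseparable k k'] :
    IsPurelyInseparable (ResidueField k) (ResidueField k') := by
  haveI : ExpChar k (ringExpChar k) := ringExpChar.expChar k
  haveI : ExpChar (ResidueField k) (ringExpChar k) :=
    expChar_of_injective_ringHom (residue k).injective (ringExpChar k)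
  rw [isPurelyInseparable_iff_pow_mem (ResidueField k) (ringExpChar k)]
  intro x
  obtain ⟨y, rfl⟩ := residue_surjective x
  obtain ⟨n, c, hc⟩ := (isPurelyInseparable_iff_pow_mem k (ringExpChar k)).mp inferInstance y
  refine ⟨n, residue k c, ?_⟩
  rw [← map_pow, ← hc]
  rfl

/-- (after helper63/helper36) base change of a local ring along a purely inseparable algebraic
field extension is local. -/
theorem isLocalRing_tensor (k k' A : Type u) [Field k] [Field k'] [Algebra k k']
    [Algebra.IsIntegral k k'] [IsPurelyInseparable k k'] [CommRing A] [IsLocalRing A]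
    [Algebra k A] : IsLocalRing (k' ⊗[k] A) := by
  haveI := isPurelyInseparable_residueField k k'
  obtain ⟨hloc, -⟩ := Groth.Agent.H36.tensor_local_right k A k'
  exact (Algebra.TensorProduct.comm k A k').toRingEquiv.isLocalRing

/-- For `k'/k` purely inseparable algebraic and `A` a local `k`-algebra, a prime of `k' ⊗ A`
containing `1 ⊗ m_A` is the maximal ideal, so localizing at it changes nothing. -/
theorem nonempty_ringEquiv_localization_of_purelyInseparable (k k' A : Type u) [Field k]
    [Field k'] [Algebra k k'] [Algebra.IsIntegral k k'] [IsPurelyInseparable k k'] [CommRing A]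
    [IsLocalRing A] [Algebra k A] (Q : Ideal (k' ⊗[k] A)) [hQ : Q.IsPrime]
    (hQm : ∀ a ∈ maximalIdeal A, (1 : k') ⊗ₜ[k] a ∈ Q) :
    Nonempty ((k' ⊗[k] A) ≃+* Localization.AtPrime Q) := by
  haveI : IsLocalRing (k' ⊗[k] A) := isLocalRing_tensor k k' A
  obtain ⟨Q', hQ'⟩ : ∃ Q' : Ideal (A ⊗[k] k'),
      Q' = Q.comap (Algebra.TensorProduct.comm k k' A).symm.toRingEquiv.toRingHom := ⟨_, rfl⟩
  haveI : Q'.IsPrime := by
    rw [hQ']
    infer_instance
  have hcomap : Q'.comap (algebraMap A (A ⊗[k] k')) = maximalIdeal A := by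
    apply le_antisymm
    · exact IsLocalRing.le_maximalIdeal (Ideal.IsPrime.ne_top inferInstance)
    · intro a ha
      rw [Ideal.mem_comap, hQ', Ideal.mem_comap]
      show (Algebra.TensorProduct.comm k k' A).symm (algebraMap A (A ⊗[k] k') a) ∈ Q
      rw [Algebra.TensorProduct.algebraMap_apply, Algebra.algebraMap_self_apply,
        Algebra.TensorProduct.comm_symm_tmul]
      exact hQm a ha
  haveI hQ'max : Q'.IsMaximal :=
    Ideal.isMaximal_of_isIntegral_of_isMaximal_comap Q'
      (hcomap ▸ IsLocalRing.maximalIdeal.isMaximal A)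
  have hQmax : Q.IsMaximal := by
    have hQQ' : Q = Q'.comap (Algebra.TensorProduct.comm k k' A).toRingEquiv.toRingHom := by
      ext t
      rw [Ideal.mem_comap, hQ', Ideal.mem_comap]
      show t ∈ Q ↔ (Algebra.TensorProduct.comm k k' A).symm
        ((Algebra.TensorProduct.comm k k' A) t) ∈ Q
      rw [AlgEquiv.symm_apply_apply]
    rw [hQQ']
    exact Ideal.comap_isMaximal_of_surjective _
      (Algebra.TensorProduct.comm k k' A).toRingEquiv.surjective
  have hQeq : Q = maximalIdeal (k' ⊗[k] A) := IsLocalRing.eq_maximalIdeal hQmax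
  have H : Q.primeCompl ≤ IsUnit.submonoid (k' ⊗[k] A) := by
    intro t ht
    have h1 : t ∉ Q := Ideal.mem_primeCompl_iff.mp ht
    have h2 : t ∉ maximalIdeal (k' ⊗[k] A) := fun h => h1 (by rw [hQeq]; exact h)
    show IsUnit t
    exact IsLocalRing.notMem_maximalIdeal.mp h2
  exact ⟨(IsLocalization.atUnits (k' ⊗[k] A) Q.primeCompl
    (S := Localization.AtPrime Q) H).toRingEquiv⟩

/-- For `k'/k` purely inseparable algebraic, the local ring of `X_{k'}` at a point over `x` is
`k' ⊗ O_{X,x}`. -/
theorem nonempty_ringEquiv_stalk_of_purelyInseparable (k : Type u) [Field k] (X : Scheme.{u})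
    [X.Over (Spec (CommRingCat.of k))] (k' : Type u) [Field k'] [Algebra k k']
    [Algebra.IsIntegral k k'] [IsPurelyInseparable k k']
    (x' : Curv2.bc k X k') (x : X) (hx : Curv2.bcFst k X k' x' = x) :
    Nonempty ((k' ⊗[k] X.presheaf.stalk x) ≃+* (Curv2.bc k X k').presheaf.stalk x') := by
  obtain ⟨Q, hQ, hQm, ⟨e⟩⟩ := exists_prime_ringEquiv_stalk_bc k X k' x' x hx
  haveI := hQ
  obtain ⟨e'⟩ := nonempty_ringEquiv_localization_of_purelyInseparable k k'
    (X.presheaf.stalk x) Q hQm
  exact ⟨e'.trans e⟩

/-- If `K ⊗ O_{X,x}` is a normal ring, the local rings of `X_K` at points over `x` are normal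
domains. -/
theorem stalk_normal_of_isNormalRing_tensor (k : Type u) [Field k] (X : Scheme.{u})
    [X.Over (Spec (CommRingCat.of k))] (K : Type u) [Field K] [Algebra k K]
    (x' : Curv2.bc k X K) (x : X) (hx : Curv2.bcFst k X K x' = x)
    (h : EGA4.IsNormalRing (K ⊗[k] X.presheaf.stalk x)) :
    IsDomain ((Curv2.bc k X K).presheaf.stalk x') ∧
      IsIntegrallyClosed ((Curv2.bc k X K).presheaf.stalk x') := by
  obtain ⟨Q, hQ, -, ⟨e⟩⟩ := exists_prime_ringEquiv_stalk_bc k X K x' x hx
  haveI := hQ
  obtain ⟨hd, hic⟩ := h Q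
  haveI := hd
  haveI := hic
  exact ⟨e.symm.toMulEquiv.isDomain _, IsIntegrallyClosed.of_equiv e⟩

/-- If the local rings of `X_{k'}` over `x` are normal domains for all finite purely inseparable
`k'/k`, then `K ⊗ O_{X,x}` is a normal ring for every field extension `K/k`. -/
theorem isNormalRing_tensor_of_stalks (k : Type u) [Field k] (X : Scheme.{u})
    [X.Over (Spec (CommRingCat.of k))] (x : X)
    (h : ∀ (k' : Type u) [Field k'] [Algebra k k'] [FiniteDimensional k k']
      [IsPurelyInseparable k k'] (x' : Curv2.bc k X k'), Curv2.bcFst k X k' x' = x →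
      IsDomain ((Curv2.bc k X k').presheaf.stalk x') ∧
        IsIntegrallyClosed ((Curv2.bc k X k').presheaf.stalk x'))
    (K : Type u) [Field K] [Algebra k K] : EGA4.IsNormalRing (K ⊗[k] X.presheaf.stalk x) := by
  refine isNormalRing_tensor_of_forall_purelyInseparable' k (X.presheaf.stalk x) ?_ K
  intro k' _ _ hfin hpi
  haveI : FiniteDimensional k k' := hfin
  haveI := hpi
  obtain ⟨x', hx'⟩ := (Curv2.bcFst k X k').surjective x
  obtain ⟨e⟩ := nonempty_ringEquiv_stalk_of_purelyInseparable k X k' x' x hx'
  obtain ⟨hd, hic⟩ := h k' x' hx'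
  haveI := hd
  haveI := hic
  exact isNormalRing_of_ringEquiv e.symm (isNormalRing_of_isIntegrallyClosed _)

theorem stalk_isReduced_of_isReduced_tensor (k : Type u) [Field k] (X : Scheme.{u})
    [X.Over (Spec (CommRingCat.of k))] (K : Type u) [Field K] [Algebra k K]
    (x' : Curv2.bc k X K) (x : X) (hx : Curv2.bcFst k X K x' = x)
    (h : _root_.IsReduced (K ⊗[k] X.presheaf.stalk x)) :
    _root_.IsReduced ((Curv2.bc k X K).presheaf.stalk x') := by
  obtain ⟨Q, hQ, -, ⟨e⟩⟩ := exists_prime_ringEquiv_stalk_bc k X K x' x hx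
  haveI := hQ
  haveI h3 : _root_.IsReduced (Localization.AtPrime Q) :=
    isReduced_localizationPreserves Q.primeCompl (Localization.AtPrime Q) h
  exact isReduced_of_injective e.symm.toRingHom e.symm.injective

theorem isReduced_tensor_of_stalks (k : Type u) [Field k] (X : Scheme.{u})
    [X.Over (Spec (CommRingCat.of k))] (x : X)
    (h : ∀ (k' : Type u) [Field k'] [Algebra k k'] [FiniteDimensional k k']
      [IsPurelyInseparable k k'] (x' : Curv2.bc k X k'), Curv2.bcFst k X k' x' = x →
      _root_.IsReduced ((Curv2.bc k X k').presheaf.stalk x')) :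
    ∀ (k' : Type u) [Field k'] [Algebra k k'] [Module.Finite k k'] [IsPurelyInseparable k k'],
      _root_.IsReduced (k' ⊗[k] X.presheaf.stalk x) := by
  intro k' _ _ hfin hpi
  haveI : FiniteDimensional k k' := hfin
  obtain ⟨x', hx'⟩ := (Curv2.bcFst k X k').surjective x
  obtain ⟨e⟩ := nonempty_ringEquiv_stalk_of_purelyInseparable k X k' x' x hx'
  haveI := h k' x' hx'
  exact isReduced_of_injective e.toRingHom e.injective

/-- Scheme-level geometric reducedness of `Spec K → Spec k` gives the algebra-level one. -/
theorem isGeometricallyReduced_of_specMap (k K : Type u) [Field k] [Field K] [Algebra k K]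
    [GeometricallyReduced (Spec.map (CommRingCat.ofHom (algebraMap k K)))] :
    Algebra.IsGeometricallyReduced k K := by
  rw [Algebra.isGeometricallyReduced_field_iff]
  have hpb := isPullback_SpecMap_of_isPushout _ _ _ _
    (CommRingCat.isPushout_tensorProduct k K (AlgebraicClosure k))
  have hred : AlgebraicGeometry.IsReduced (Spec (CommRingCat.of (K ⊗[k] AlgebraicClosure k))) :=
    GeometricallyReduced.geometrically_isReduced
      (f := Spec.map (CommRingCat.ofHom (algebraMap k K)))
      (Spec.map (CommRingCat.ofHom (algebraMap k (AlgebraicClosure k)))) _ _ hpb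
  have h2 : _root_.IsReduced (K ⊗[k] AlgebraicClosure k) := (affine_isReduced_iff _).mp hred
  exact isReduced_of_injective (Algebra.TensorProduct.comm k (AlgebraicClosure k) K)
    (Algebra.TensorProduct.comm k (AlgebraicClosure k) K).injective

/-- Geometric reducedness at a point can be tested on finite purely inseparable extensions. -/
theorem isGeomReducedAt_of_stalks (k : Type u) [Field k] (X : Scheme.{u})
    [X.Over (Spec (CommRingCat.of k))] (x : X)
    (h : ∀ (k' : Type u) [Field k'] [Algebra k k'] [FiniteDimensional k k']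
      [IsPurelyInseparable k k'] (x' : Curv2.bc k X k'), Curv2.bcFst k X k' x' = x →
      _root_.IsReduced ((Curv2.bc k X k').presheaf.stalk x')) :
    Curv2.IsGeomReducedAt k X x := by
  intro K _ _ x' hx'
  have h1 := isReduced_tensor_of_stalks k X x h
  have h3 : ∀ (K : Type u) [Field K] [Algebra k K],
      _root_.IsReduced (K ⊗[k] X.presheaf.stalk x) :=
    (tfae_geometricallyReduced.out 0 2).mp h1
  exact stalk_isReduced_of_isReduced_tensor k X K x' x hx' (h3 K)

/-- Geometric reducedness at a point is geometric reducedness of the local ring. -/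
theorem isGeomReducedAt_iff_stalk (k : Type u) [Field k] (X : Scheme.{u})
    [X.Over (Spec (CommRingCat.of k))] (x : X) :
    Curv2.IsGeomReducedAt k X x ↔ Algebra.IsGeometricallyReduced k (X.presheaf.stalk x) := by
  constructor
  · intro h
    exact (tfae_geometricallyReduced.out 0 1).mp
      (isReduced_tensor_of_stalks k X x (fun k' _ _ _ _ x' hx' => h k' x' hx'))
  · intro h K _ _ x' hx'
    have h3 : ∀ (K : Type u) [Field K] [Algebra k K],
        _root_.IsReduced (K ⊗[k] X.presheaf.stalk x) :=
      (tfae_geometricallyReduced.out 1 2).mp h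
    exact stalk_isReduced_of_isReduced_tensor k X K x' x hx' (h3 K)

/-- Geometric normality at a point can be tested on finite purely inseparable extensions. -/
theorem geomNormalAt_of_stalks (k : Type u) [Field k] (X : Scheme.{u})
    [X.Over (Spec (CommRingCat.of k))] (x : X)
    (h : ∀ (k' : Type u) [Field k'] [Algebra k k'] [FiniteDimensional k k']
      [IsPurelyInseparable k k'] (x' : Curv2.bc k X k'), Curv2.bcFst k X k' x' = x →
      IsDomain ((Curv2.bc k X k').presheaf.stalk x') ∧
        IsIntegrallyClosed ((Curv2.bc k X k').presheaf.stalk x'))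
    (K : Type u) [Field K] [Algebra k K] (x' : Curv2.bc k X K) (hx' : Curv2.bcFst k X K x' = x) :
    IsDomain ((Curv2.bc k X K).presheaf.stalk x') ∧
      IsIntegrallyClosed ((Curv2.bc k X K).presheaf.stalk x') :=
  stalk_normal_of_isNormalRing_tensor k X K x' x hx' (isNormalRing_tensor_of_stalks k X x h K)

/-- A normal scheme stays normal after a separable (geometrically reduced) field extension. -/
theorem isNormalScheme_bc_of_geomReduced (k : Type u) [Field k] (X : Scheme.{u})
    [X.Over (Spec (CommRingCat.of k))] (hX : Pi1.IsNormalScheme X) (K : Type u) [Field K]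
    [Algebra k K] [Algebra.IsGeometricallyReduced k K] : Pi1.IsNormalScheme (Curv2.bc k X K) := by
  intro x'
  obtain ⟨hd, hic⟩ := hX (Curv2.bcFst k X K x')
  haveI := hd
  haveI := hic
  exact stalk_normal_of_isNormalRing_tensor k X K x' _ rfl
    (isNormalRing_tensor_of_geomReduced k K _ (isNormalRing_of_isIntegrallyClosed _))

end Groth.Agent.H25.StalkBC
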