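import Mathlib
import Groth.Agent.Lead.CompleteNoetherian
import Groth.Agent.H87.HenselLocLim

/-!
# Noetherianity of direct limits of Noetherian local rings (EGA 0_III 10.3.1.3)

* `isNoetherianRing_of_fg_closed`: a ring `B` with a finitely generated ideal `n`, `B ⧸ n`
  Noetherian, in which every finitely generated ideal is closed for the `n`-adic topology, is
  Noetherian.
* `isNoetherianRing_of_stages`: the same conclusion when every finite subset of `B` comes from a
  Noetherian local ring `B'` with a map `g : B' → B` such that `𝔞 B ∩ B' = 𝔞` and `𝔪' B = n`.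
* `flat_of`: in a directed system of rings with flat transition maps, the maps to the direct limit
  are flat.
* `isNoetherianRing_directLimit`: the direct limit of Noetherian local rings along flat local maps
  with `𝔪_i A_j = 𝔪_j` is Noetherian.
-/

set_option autoImplicit false
universe u v

namespace Groth.Agent.H25.DirLimNoeth

open IsLocalRing

section LemmaN

variable {B : Type u} [CommRing B]

theorem comap_map_le_of_closed (n I : Ideal B)
    (hcl : ∀ x, (∀ k, x ∈ I ⊔ n ^ k) → x ∈ I) :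
    (I.map (algebraMap B (AdicCompletion n B))).comap (algebraMap B (AdicCompletion n B)) ≤ I := by
  intro x hx
  refine hcl x fun k => ?_
  have h1 : I.map (algebraMap B (AdicCompletion n B)) ≤
      (I.map (Ideal.Quotient.mk (n ^ k))).comap (AdicCompletion.evalₐ n k).toRingHom := by
    rw [Ideal.map_le_iff_le_comap]
    intro a ha
    simp only [Ideal.mem_comap, AlgHom.toRingHom_eq_coe, RingHom.coe_coe, AlgHom.commutes]
    exact Ideal.mem_map_of_mem _ ha
  have h2 := h1 hx
  simp only [Ideal.mem_comap, AlgHom.toRingHom_eq_coe, RingHom.coe_coe, AlgHom.commutes] at h2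
  obtain ⟨i, hi, hix⟩ := (Ideal.mem_map_iff_of_surjective _ Ideal.Quotient.mk_surjective).mp h2
  have h3 : x - i ∈ n ^ k := by
    rw [← Ideal.Quotient.eq_zero_iff_mem, map_sub, hix]
    exact sub_self _
  have hx' : x = i + (x - i) := by ring
  rw [hx']
  exact Ideal.add_mem _ (Ideal.mem_sup_left hi) (Ideal.mem_sup_right h3)

theorem isNoetherianRing_of_fg_closed (n : Ideal B) (hn : n.FG) [IsNoetherianRing (B ⧸ n)]
    (hcl : ∀ I : Ideal B, I.FG → ∀ x, (∀ k, x ∈ I ⊔ n ^ k) → x ∈ I) : IsNoetherianRing B := by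
  haveI : IsNoetherianRing (AdicCompletion n B) :=
    Groth.Agent.Lead.isNoetherianRing_adicCompletion n hn
  rw [isNoetherianRing_iff_ideal_fg]
  intro I
  let π := algebraMap B (AdicCompletion n B)
  let 𝒮 : Set (Ideal (AdicCompletion n B)) := {M | ∃ I' : Ideal B, I' ≤ I ∧ I'.FG ∧ M = I'.map π}
  have hne : 𝒮.Nonempty := ⟨_, ⊥, bot_le, Submodule.fg_bot, rfl⟩
  obtain ⟨M, ⟨I₀, hI₀le, hI₀fg, rfl⟩, hmax⟩ :=
    (wellFounded_gt (α := Ideal (AdicCompletion n B))).has_min 𝒮 hne
  have hle : I ≤ I₀ := by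
    intro x hx
    have hI₁le : (I₀ ⊔ Ideal.span {x}) ≤ I :=
      sup_le hI₀le ((Ideal.span_singleton_le_iff_mem _).mpr hx)
    have hI₁fg : (I₀ ⊔ Ideal.span {x}).FG := Submodule.FG.sup (show Submodule.FG I₀ from hI₀fg) (Submodule.fg_span_singleton x)
    have hnot := hmax _ ⟨_, hI₁le, hI₁fg, rfl⟩
    have hmono : I₀.map π ≤ (I₀ ⊔ Ideal.span {x}).map π := Ideal.map_mono le_sup_left
    have heq : (I₀ ⊔ Ideal.span {x}).map π = I₀.map π := by
      by_contra hne'
      exact hnot (lt_of_le_of_ne hmono (Ne.symm hne'))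
    have hxmem : π x ∈ I₀.map π := by
      rw [← heq]
      exact Ideal.mem_map_of_mem _ (Ideal.mem_sup_right (Ideal.subset_span rfl))
    exact comap_map_le_of_closed n I₀ (hcl I₀ hI₀fg) hxmem
  rw [le_antisymm hle hI₀le]
  exact hI₀fg

theorem krull_closed {B' : Type u} [CommRing B'] [IsNoetherianRing B'] [IsLocalRing B']
    (I' : Ideal B') (x' : B') (h : ∀ k, x' ∈ I' ⊔ maximalIdeal B' ^ k) : x' ∈ I' := by
  by_cases htop : I' = ⊤
  · rw [htop]; trivial
  haveI : Nontrivial (B' ⧸ I') := Ideal.Quotient.nontrivial_iff.mpr htop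
  haveI : IsLocalRing (B' ⧸ I') :=
    IsLocalRing.of_surjective' (Ideal.Quotient.mk I') Ideal.Quotient.mk_surjective
  have hJ : (maximalIdeal B').map (Ideal.Quotient.mk I') ≠ ⊤ := by
    intro h1
    have h1' : (1 : B' ⧸ I') ∈ (maximalIdeal B').map (Ideal.Quotient.mk I') :=
      h1 ▸ Submodule.mem_top
    obtain ⟨y, hy, hy1⟩ :=
      (Ideal.mem_map_iff_of_surjective _ Ideal.Quotient.mk_surjective).mp h1'
    have h2 : y - 1 ∈ I' := by
      rw [← Ideal.Quotient.eq_zero_iff_mem, map_sub, hy1, map_one, sub_self]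
    have h3 : y - 1 ∈ maximalIdeal B' := IsLocalRing.le_maximalIdeal htop h2
    have h4 : (1 : B') ∈ maximalIdeal B' := by
      have := Ideal.sub_mem _ hy h3
      simpa using this
    exact (Ideal.ne_top_iff_one _).mp (maximalIdeal.isMaximal B').ne_top h4
  have hinf := Ideal.iInf_pow_eq_bot_of_isLocalRing _ hJ
  have hmem : Ideal.Quotient.mk I' x' ∈ ⨅ k, ((maximalIdeal B').map (Ideal.Quotient.mk I')) ^ k := by
    rw [Ideal.mem_iInf]
    intro k
    obtain ⟨a, ha, b, hb, hab⟩ := Submodule.mem_sup.mp (h k)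
    rw [← hab, map_add, Ideal.Quotient.eq_zero_iff_mem.mpr ha, zero_add, ← Ideal.map_pow]
    exact Ideal.mem_map_of_mem _ hb
  rw [hinf] at hmem
  exact Ideal.Quotient.eq_zero_iff_mem.mp hmem

theorem isNoetherianRing_of_stages (n : Ideal B) (hn : n.FG) [IsNoetherianRing (B ⧸ n)]
    (h : ∀ Y : Finset B, ∃ (B' : Type u) (_ : CommRing B') (_ : IsNoetherianRing B')
      (_ : IsLocalRing B') (g : B' →+* B),
      (∀ y ∈ Y, ∃ y', g y' = y) ∧ (∀ 𝔞 : Ideal B', (𝔞.map g).comap g ≤ 𝔞) ∧
        (maximalIdeal B').map g = n) :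
    IsNoetherianRing B := by
  classical
  refine isNoetherianRing_of_fg_closed n hn fun I hI x hx => ?_
  obtain ⟨s, rfl⟩ := hI
  obtain ⟨B', _, _, _, g, hY, hcm, hmax⟩ := h (insert x s)
  obtain ⟨x', rfl⟩ := hY x (Finset.mem_insert_self _ _)
  choose! s' hs' using fun y (hy : y ∈ s) => hY y (Finset.mem_insert_of_mem hy)
  let I' : Ideal B' := Ideal.span (s' '' (s : Set B))
  have hI' : I'.map g = Ideal.span (s : Set B) := by
    rw [Ideal.map_span, ← Set.image_comp]
    congr 1
    ext y
    constructor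
    · rintro ⟨z, hz, rfl⟩
      simpa [hs' z hz] using hz
    · intro hy
      exact ⟨y, hy, hs' y hy⟩
  have hx' : ∀ k, x' ∈ I' ⊔ maximalIdeal B' ^ k := by
    intro k
    apply hcm
    rw [Ideal.mem_comap, Ideal.map_sup, Ideal.map_pow, hI', hmax]
    exact hx k
  have key : x' ∈ I' := krull_closed I' x' hx'
  rw [← hI']
  exact Ideal.mem_map_of_mem g key

end LemmaN

section DirectLimit

variable {ι : Type v} [Preorder ι] [Nonempty ι] [IsDirected ι (· ≤ ·)]
  (G : ι → Type u) [∀ i, CommRing (G i)]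
  (f : ∀ i j, i ≤ j → G i →+* G j) [DirectedSystem G (fun i j h => f i j h)]

local notation "L" => Ring.DirectLimit G (fun i j h => f i j h)
local notation "ofL" => Ring.DirectLimit.of G (fun i j h => f i j h)

open Groth.Agent.H87.HenselLocLim

set_option maxHeartbeats 1600000 in
theorem flat_of (hflat : ∀ i j (h : i ≤ j), (f i j h).Flat) (i : ι) : (ofL i).Flat := by
  letI : Algebra (G i) L := (ofL i).toAlgebra
  change Module.Flat (G i) L
  refine Module.Flat.of_forall_isTrivialRelation ?_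
  intro l r x hrx
  obtain ⟨j₀, x₀, hx₀⟩ := exists_stage_fin G f x
  obtain ⟨j, hij, hj₀j⟩ := exists_ge_ge i j₀
  let x' : Fin l → G j := fun t => f j₀ j hj₀j (x₀ t)
  have hx' : ∀ t, ofL j (x' t) = x t := fun t => by
    change ofL j (f j₀ j hj₀j (x₀ t)) = x t
    rw [Ring.DirectLimit.of_f, hx₀]
  have h0 : ofL j (∑ t, f i j hij (r t) * x' t) = 0 := by
    rw [map_sum, ← hrx]
    refine Finset.sum_congr rfl fun t _ => ?_
    rw [map_mul, Ring.DirectLimit.of_f, hx' t, Algebra.smul_def]
    rfl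
  obtain ⟨k, hjk, hk⟩ := Ring.DirectLimit.of.zero_exact h0
  have hik : i ≤ k := hij.trans hjk
  letI : Algebra (G i) (G k) := (f i k hik).toAlgebra
  haveI : Module.Flat (G i) (G k) := hflat i k hik
  have hrel : ∑ t, r t • (f j k hjk (x' t)) = 0 := by
    rw [map_sum] at hk
    rw [← hk]
    refine Finset.sum_congr rfl fun t _ => ?_
    rw [map_mul, Algebra.smul_def]
    congr 1
    exact (DirectedSystem.map_map (f := fun i j h => f i j h) hij hjk (r t)).symm
  obtain ⟨κ, a, y, hxy, hra⟩ := Module.Flat.isTrivialRelation_of_sum_smul_eq_zero (R := G i) (M := G k) (f := r)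
    (x := fun t => f j k hjk (x' t)) hrel
  have hxy' : ∀ t, f j k hjk (x' t) = ∑ s, a t s • y s := hxy
  refine ⟨κ, a, fun s => ofL k (y s), fun t => ?_, hra⟩
  change x t = ∑ s, a t s • ofL k (y s)
  rw [← hx' t, ← Ring.DirectLimit.of_f hjk (x' t), hxy' t, map_sum]
  refine Finset.sum_congr rfl fun s _ => ?_
  rw [Algebra.smul_def, map_mul, Algebra.smul_def]
  congr 1
  exact Ring.DirectLimit.of_f hik (a t s)

variable [∀ i, IsLocalRing (G i)]

theorem map_maximalIdeal_of (hloc : ∀ i j (h : i ≤ j), IsLocalHom (f i j h))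
    (hmax : ∀ i j (h : i ≤ j), (maximalIdeal (G i)).map (f i j h) = maximalIdeal (G j)) (i : ι) :
    haveI : IsLocalRing L := isLocalRing_L G f hloc
    (maximalIdeal (G i)).map (ofL i) = maximalIdeal L := by
  haveI : IsLocalRing L := isLocalRing_L G f hloc
  apply le_antisymm
  · rw [Ideal.map_le_iff_le_comap]
    intro x hx
    rw [Ideal.mem_comap, mem_maximalIdeal, mem_nonunits_iff]
    intro hu
    exact hx (isUnit_of_isUnit_of G f hloc hu)
  · intro y hy
    obtain ⟨j, y', rfl⟩ := Ring.DirectLimit.exists_of y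
    obtain ⟨k, hik, hjk⟩ := exists_ge_ge i j
    have hy'' : f j k hjk y' ∈ maximalIdeal (G k) := by
      rw [mem_maximalIdeal, mem_nonunits_iff]
      intro hu
      apply hy
      rw [← Ring.DirectLimit.of_f hjk y']
      exact hu.map _
    rw [← hmax i k hik] at hy''
    have h1 : ofL k (f j k hjk y') ∈ ((maximalIdeal (G i)).map (f i k hik)).map (ofL k) :=
      Ideal.mem_map_of_mem _ hy''
    rw [Ideal.map_map, Ring.DirectLimit.of_f] at h1
    have h2 : (ofL k).comp (f i k hik) = ofL i :=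
      RingHom.ext fun x => Ring.DirectLimit.of_f hik x
    rwa [h2] at h1

end DirectLimit

section Main

variable {ι : Type u} [Preorder ι] [Nonempty ι] [IsDirected ι (· ≤ ·)]
  (G : ι → Type u) [∀ i, CommRing (G i)] [∀ i, IsLocalRing (G i)]
  (f : ∀ i j, i ≤ j → G i →+* G j) [DirectedSystem G (fun i j h => f i j h)]

open Groth.Agent.H87.HenselLocLim

theorem isNoetherianRing_directLimit
    (hloc : ∀ i j (h : i ≤ j), IsLocalHom (f i j h))
    [∀ i, IsNoetherianRing (G i)]
    (hmax : ∀ i j (h : i ≤ j), (maximalIdeal (G i)).map (f i j h) = maximalIdeal (G j))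
    (hflat : ∀ i j (h : i ≤ j), (f i j h).Flat) :
    IsNoetherianRing (Ring.DirectLimit G fun i j h => f i j h) := by
  haveI hL : IsLocalRing (Ring.DirectLimit G fun i j h => f i j h) := isLocalRing_L G f hloc
  obtain ⟨i₀⟩ := ‹Nonempty ι›
  have hfg : (maximalIdeal (Ring.DirectLimit G fun i j h => f i j h)).FG := by
    rw [← map_maximalIdeal_of G f hloc hmax i₀]
    exact Ideal.FG.map ((isNoetherianRing_iff_ideal_fg (G i₀)).mp inferInstance
      (maximalIdeal (G i₀))) _
  haveI : IsNoetherianRing ((Ring.DirectLimit G fun i j h => f i j h) ⧸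
      maximalIdeal (Ring.DirectLimit G fun i j h => f i j h)) :=
    inferInstanceAs (IsNoetherianRing (ResidueField (Ring.DirectLimit G fun i j h => f i j h)))
  refine isNoetherianRing_of_stages (maximalIdeal (Ring.DirectLimit G fun i j h => f i j h)) hfg
    fun Y => ?_
  obtain ⟨a, c', hc'⟩ := exists_stage_fin G f (fun y : Y => (y : Ring.DirectLimit G fun i j h => f i j h))
  refine ⟨G a, inferInstance, inferInstance, inferInstance,
    Ring.DirectLimit.of G (fun i j h => f i j h) a, fun y hy => ⟨c' ⟨y, hy⟩, hc' ⟨y, hy⟩⟩, ?_,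
    map_maximalIdeal_of G f hloc hmax a⟩
  intro 𝔞
  letI : Algebra (G a) (Ring.DirectLimit G fun i j h => f i j h) :=
    (Ring.DirectLimit.of G (fun i j h => f i j h) a).toAlgebra
  haveI : Module.Flat (G a) (Ring.DirectLimit G fun i j h => f i j h) := flat_of G f hflat a
  haveI : IsLocalHom (algebraMap (G a) (Ring.DirectLimit G fun i j h => f i j h)) :=
    ⟨fun x hx => isUnit_of_isUnit_of G f hloc hx⟩
  haveI : Module.FaithfullyFlat (G a) (Ring.DirectLimit G fun i j h => f i j h) :=
    Module.FaithfullyFlat.of_flat_of_isLocalHom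
  exact (Ideal.comap_map_eq_self_of_faithfullyFlat (B := Ring.DirectLimit G fun i j h => f i j h) 𝔞).le

end Main

end Groth.Agent.H25.DirLimNoeth
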