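import Mathlib
import Groth.Prelude
import Groth.Agent.H44.RegDescend
import Groth.Agent.H47.SmoothNormal
import Groth.Agent.H29.RedModP
import Groth.Agent.H71.RegularDescent
import Groth.Agent.H25.NormalElem

set_option maxHeartbeats 400000
set_option linter.style.haveILetI false
set_option linter.unusedVariables false
set_option linter.unusedSectionVars false

open CategoryTheory CategoryTheory.Limits AlgebraicGeometry TensorProduct IsLocalRing

universe u

namespace Groth.Agent.H25.SmoothStalk

theorem isReduced_of_eq {B : Type u} [CommRing B] (I q : Ideal B) [hI : I.IsPrime]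
    [hq : q.IsPrime] (h : I = q) (hred : IsReduced (Localization.AtPrime I)) :
    IsReduced (Localization.AtPrime q) := by
  subst h
  exact hred

/-- Smooth algebras: reducedness ascends from `A_p` to `B_Q`. -/
theorem isReduced_atPrime_of_smooth (A B : Type u) [CommRing A] [CommRing B] [Algebra A B]
    [Algebra.Smooth A B] (Q : Ideal B) [Q.IsPrime]
    (hred : IsReduced (Localization.AtPrime (Q.comap (algebraMap A B)))) :
    IsReduced (Localization.AtPrime Q) := by
  haveI := hred
  haveI : Algebra.Smooth (Localization.AtPrime (Q.comap (algebraMap A B)))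
      (Localization (Algebra.algebraMapSubmonoid B (Q.comap (algebraMap A B)).primeCompl)) :=
    Algebra.Smooth.of_equiv
      (Localization.tensorRightAlgEquiv (Q.comap (algebraMap A B)).primeCompl B)
  haveI hB'red : IsReduced
      (Localization (Algebra.algebraMapSubmonoid B (Q.comap (algebraMap A B)).primeCompl)) :=
    Groth.Agent.H29.RedModP.isReduced_of_smooth
      (Localization.AtPrime (Q.comap (algebraMap A B))) _
  have hdisj : Disjoint
      ((Algebra.algebraMapSubmonoid B (Q.comap (algebraMap A B)).primeCompl : Submonoid B) : Set B)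
      (Q : Set B) := by
    rw [Set.disjoint_left]
    rintro _ ⟨a, ha, rfl⟩ hmem
    exact ha hmem
  haveI hQ' : (Q.map (algebraMap B (Localization
      (Algebra.algebraMapSubmonoid B (Q.comap (algebraMap A B)).primeCompl)))).IsPrime :=
    IsLocalization.isPrime_of_isPrime_disjoint _ _ Q inferInstance hdisj
  have hcomap : (Q.map (algebraMap B (Localization
      (Algebra.algebraMapSubmonoid B (Q.comap (algebraMap A B)).primeCompl)))).comap
      (algebraMap B (Localization
        (Algebra.algebraMapSubmonoid B (Q.comap (algebraMap A B)).primeCompl))) = Q :=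
    IsLocalization.under_map_of_isPrime_disjoint _ _ (inferInstance : Q.IsPrime) hdisj
  let e := IsLocalization.localizationLocalizationAtPrimeIsoLocalization
    (Algebra.algebraMapSubmonoid B (Q.comap (algebraMap A B)).primeCompl)
    (Q.map (algebraMap B (Localization
      (Algebra.algebraMapSubmonoid B (Q.comap (algebraMap A B)).primeCompl))))
  haveI h1 : IsReduced (Localization.AtPrime (Q.map (algebraMap B (Localization
      (Algebra.algebraMapSubmonoid B (Q.comap (algebraMap A B)).primeCompl))))) :=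
    isReduced_localizationPreserves (Q.map (algebraMap B (Localization
      (Algebra.algebraMapSubmonoid B (Q.comap (algebraMap A B)).primeCompl)))).primeCompl _ hB'red
  have h2 : IsReduced (Localization.AtPrime ((Q.map (algebraMap B (Localization
      (Algebra.algebraMapSubmonoid B (Q.comap (algebraMap A B)).primeCompl)))).comap
      (algebraMap B (Localization
        (Algebra.algebraMapSubmonoid B (Q.comap (algebraMap A B)).primeCompl))))) :=
    isReduced_of_injective e.toRingEquiv.toRingHom e.toRingEquiv.injective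
  exact isReduced_of_eq _ Q hcomap h2

/-- Flat algebras: reducedness descends from `B_Q` to `A_p`. -/
theorem isReduced_comap_of_flat (A B : Type u) [CommRing A] [CommRing B] [Algebra A B]
    [Module.Flat A B] (Q : Ideal B) [Q.IsPrime] (hred : IsReduced (Localization.AtPrime Q)) :
    IsReduced (Localization.AtPrime (Q.comap (algebraMap A B))) := by
  haveI := hred
  have hflat : (Localization.localRingHom (Q.comap (algebraMap A B)) Q (algebraMap A B) rfl).Flat :=
    RingHom.Flat.localRingHom (f := algebraMap A B)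
      (RingHom.flat_algebraMap_iff.mpr inferInstance) Q (Q.comap (algebraMap A B)) rfl
  letI alg : Algebra (Localization.AtPrime (Q.comap (algebraMap A B))) (Localization.AtPrime Q) :=
    (Localization.localRingHom (Q.comap (algebraMap A B)) Q (algebraMap A B) rfl).toAlgebra
  haveI : Module.Flat (Localization.AtPrime (Q.comap (algebraMap A B))) (Localization.AtPrime Q) :=
    hflat
  haveI : IsLocalHom (algebraMap (Localization.AtPrime (Q.comap (algebraMap A B)))
      (Localization.AtPrime Q)) :=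
    Localization.isLocalHom_localRingHom _ _ _ _
  haveI : Module.FaithfullyFlat (Localization.AtPrime (Q.comap (algebraMap A B)))
      (Localization.AtPrime Q) := Module.FaithfullyFlat.of_flat_of_isLocalHom
  exact isReduced_of_injective (algebraMap (Localization.AtPrime (Q.comap (algebraMap A B)))
      (Localization.AtPrime Q)) (FaithfulSMul.algebraMap_injective _ _)

theorem isLocalization_atPrime_of_eq {R S : Type*} [CommRing R] [CommRing S] [Algebra R S]
    (P P' : Ideal R) [P.IsPrime] [P'.IsPrime] (h : P = P') [IsLocalization.AtPrime S P] :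
    IsLocalization.AtPrime S P' := by
  subst h
  infer_instance

/-- Local rings of source and target as localizations of rings of sections of affine charts. -/
theorem exists_ringEquiv_stalks {X Y : Scheme.{u}} (f : X ⟶ Y) (x : X) (U : Y.Opens)
    (hU : IsAffineOpen U) (V : X.Opens) (hV : IsAffineOpen V) (hVU : V ≤ f ⁻¹ᵁ U)
    (hxV : x ∈ V) :
    letI := (f.appLE U V hVU).hom.toAlgebra
    ∃ (q : Ideal Γ(X, V)) (_ : q.IsPrime),
      Nonempty (Localization.AtPrime q ≃+* X.presheaf.stalk x) ∧
      Nonempty (Localization.AtPrime (q.comap (algebraMap Γ(Y, U) Γ(X, V))) ≃+*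
        Y.presheaf.stalk (f x)) := by
  letI algAB : Algebra Γ(Y, U) Γ(X, V) := (f.appLE U V hVU).hom.toAlgebra
  have hcomap := IsAffineOpen.comap_primeIdealOf_appLE (f := f) (x := x) U hU V hV hVU hxV
  have hp : (hV.primeIdealOf ⟨x, hxV⟩).asIdeal.comap (algebraMap Γ(Y, U) Γ(X, V)) =
      (hU.primeIdealOf ⟨f x, hVU hxV⟩).asIdeal :=
    congrArg PrimeSpectrum.asIdeal hcomap
  letI algX : Algebra Γ(X, V) (X.presheaf.stalk x) :=
    TopCat.Presheaf.algebra_section_stalk X.presheaf ⟨x, hxV⟩
  haveI locX : IsLocalization.AtPrime (X.presheaf.stalk x) (hV.primeIdealOf ⟨x, hxV⟩).asIdeal :=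
    hV.isLocalization_stalk ⟨x, hxV⟩
  letI algY : Algebra Γ(Y, U) (Y.presheaf.stalk (f x)) :=
    TopCat.Presheaf.algebra_section_stalk Y.presheaf ⟨f x, hVU hxV⟩
  haveI locY : IsLocalization.AtPrime (Y.presheaf.stalk (f x))
      ((hV.primeIdealOf ⟨x, hxV⟩).asIdeal.comap (algebraMap Γ(Y, U) Γ(X, V))) := by
    haveI := hU.isLocalization_stalk ⟨f x, hVU hxV⟩
    exact isLocalization_atPrime_of_eq (hU.primeIdealOf ⟨f x, hVU hxV⟩).asIdeal _ hp.symm
  refine ⟨(hV.primeIdealOf ⟨x, hxV⟩).asIdeal, inferInstance, ⟨?_⟩, ⟨?_⟩⟩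
  · exact (IsLocalization.algEquiv (hV.primeIdealOf ⟨x, hxV⟩).asIdeal.primeCompl
      (Localization.AtPrime (hV.primeIdealOf ⟨x, hxV⟩).asIdeal) (X.presheaf.stalk x)).toRingEquiv
  · exact (IsLocalization.algEquiv
      ((hV.primeIdealOf ⟨x, hxV⟩).asIdeal.comap (algebraMap Γ(Y, U) Γ(X, V))).primeCompl
      (Localization.AtPrime ((hV.primeIdealOf ⟨x, hxV⟩).asIdeal.comap
        (algebraMap Γ(Y, U) Γ(X, V)))) (Y.presheaf.stalk (f x))).toRingEquiv

/-- S4989. -/
theorem reduced_normal_iff_of_smoothAt {X Y : Scheme.{u}} (f : X ⟶ Y)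
    [LocallyOfFinitePresentation f] (x : X) (hx : x ∈ f.smoothLocus) :
    (IsReduced (X.presheaf.stalk x) ↔ IsReduced (Y.presheaf.stalk (f x))) ∧
    ((IsDomain (X.presheaf.stalk x) ∧ IsIntegrallyClosed (X.presheaf.stalk x)) ↔
      (IsDomain (Y.presheaf.stalk (f x)) ∧ IsIntegrallyClosed (Y.presheaf.stalk (f x)))) := by
  obtain ⟨U, hU, V, hV, hVU, hxV, hsm⟩ := exists_smooth_of_formallySmooth_stalk f x hx
  letI algAB : Algebra Γ(Y, U) Γ(X, V) := (f.appLE U V hVU).hom.toAlgebra
  haveI : Algebra.Smooth Γ(Y, U) Γ(X, V) := hsm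
  obtain ⟨q, hq, ⟨eX⟩, ⟨eY⟩⟩ := exists_ringEquiv_stalks f x U hU V hV hVU hxV
  haveI := hq
  refine ⟨⟨fun h => ?_, fun h => ?_⟩, ⟨fun h => ?_, fun h => ?_⟩⟩
  · haveI := h
    have h1 : IsReduced (Localization.AtPrime q) :=
      isReduced_of_injective eX.toRingHom eX.injective
    have h2 := isReduced_comap_of_flat Γ(Y, U) Γ(X, V) q h1
    exact isReduced_of_injective eY.symm.toRingHom eY.symm.injective
  · haveI := h
    have h1 : IsReduced (Localization.AtPrime (q.comap (algebraMap Γ(Y, U) Γ(X, V)))) :=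
      isReduced_of_injective eY.toRingHom eY.injective
    have h2 := isReduced_atPrime_of_smooth Γ(Y, U) Γ(X, V) q h1
    exact isReduced_of_injective eX.symm.toRingHom eX.symm.injective
  · obtain ⟨hd, hic⟩ := h
    haveI := hd
    haveI := hic
    have h1 : IsDomain (Localization.AtPrime q) ∧ IsIntegrallyClosed (Localization.AtPrime q) :=
      ⟨MulEquiv.isDomain (X.presheaf.stalk x) eX.toMulEquiv, IsIntegrallyClosed.of_equiv eX.symm⟩
    obtain ⟨k1, k2⟩ :=
      Groth.Agent.H25.NormalElem.isDomain_isIntegrallyClosed_comap_of_flat Γ(Y, U) Γ(X, V) q h1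
    haveI := k1
    haveI := k2
    exact ⟨MulEquiv.isDomain _ eY.symm.toMulEquiv, IsIntegrallyClosed.of_equiv eY⟩
  · obtain ⟨hd, hic⟩ := h
    haveI := hd
    haveI := hic
    haveI : IsDomain (Localization.AtPrime (q.comap (algebraMap Γ(Y, U) Γ(X, V)))) :=
      MulEquiv.isDomain (Y.presheaf.stalk (f x)) eY.toMulEquiv
    haveI : IsIntegrallyClosed (Localization.AtPrime (q.comap (algebraMap Γ(Y, U) Γ(X, V)))) :=
      IsIntegrallyClosed.of_equiv eY.symm
    obtain ⟨k1, k2⟩ :=
      Groth.Agent.H47.EtaleNormal.isDomain_isIntegrallyClosed_atPrime_of_smooth_of_under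
        Γ(Y, U) Γ(X, V) q (q.comap (algebraMap Γ(Y, U) Γ(X, V))) rfl
    haveI := k1
    haveI := k2
    exact ⟨MulEquiv.isDomain _ eX.symm.toMulEquiv, IsIntegrallyClosed.of_equiv eX⟩

/-- Points with a smooth open neighbourhood lie in the smooth locus. -/
theorem mem_smoothLocus_of_smooth_nhd {X Y : Scheme.{u}} (f : X ⟶ Y)
    [LocallyOfFinitePresentation f] (x : X) (hx : ∃ U : X.Opens, x ∈ U ∧ Smooth (U.ι ≫ f)) :
    x ∈ f.smoothLocus := by
  obtain ⟨U, hxU, hsm⟩ := hx
  haveI := hsm
  have h1 : U.ι ⁻¹ᵁ f.smoothLocus = (U.ι ≫ f).smoothLocus :=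
    Scheme.Hom.preimage_smoothLocus_eq U.ι f
  rw [Scheme.Hom.smoothLocus_eq_top (U.ι ≫ f)] at h1
  have h2 : (⟨x, hxU⟩ : U) ∈ U.ι ⁻¹ᵁ f.smoothLocus := by
    rw [h1]
    trivial
  exact h2

/-- S4991. -/
theorem regular_iff_of_smooth_nhd {X Y : Scheme.{u}} (f : X ⟶ Y) [IsLocallyNoetherian Y]
    [LocallyOfFiniteType f] (x : X) (hx : ∃ U : X.Opens, x ∈ U ∧ Smooth (U.ι ≫ f)) :
    IsRegularLocalRing (X.presheaf.stalk x) ↔ IsRegularLocalRing (Y.presheaf.stalk (f x)) := by
  haveI : LocallyOfFinitePresentation f :=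
    LocallyOfFinitePresentation.iff_locallyOfFiniteType.mpr inferInstance
  have hx' := mem_smoothLocus_of_smooth_nhd f x hx
  obtain ⟨U, hU, V, hV, hVU, hxV, hsm⟩ := exists_smooth_of_formallySmooth_stalk f x hx'
  letI algAB : Algebra Γ(Y, U) Γ(X, V) := (f.appLE U V hVU).hom.toAlgebra
  haveI : Algebra.Smooth Γ(Y, U) Γ(X, V) := hsm
  haveI : IsNoetherianRing Γ(Y, U) := IsLocallyNoetherian.component_noetherian ⟨U, hU⟩
  obtain ⟨q, hq, ⟨eX⟩, ⟨eY⟩⟩ := exists_ringEquiv_stalks f x U hU V hV hVU hxV
  haveI := hq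
  constructor
  · intro h
    haveI := h
    haveI h1 : IsRegularLocalRing (Localization.AtPrime q) :=
      IsRegularLocalRing.of_ringEquiv eX.symm
    haveI : q.LiesOver (q.comap (algebraMap Γ(Y, U) Γ(X, V))) := ⟨rfl⟩
    haveI h2 := Groth.Agent.H71.RD.regular_of_flat_liesOver Γ(Y, U) Γ(X, V)
      (q.comap (algebraMap Γ(Y, U) Γ(X, V))) q
    exact IsRegularLocalRing.of_ringEquiv eY
  · intro h
    haveI := h
    have h1 : IsRegularLocalRing (Localization.AtPrime (q.comap (algebraMap Γ(Y, U) Γ(X, V)))) :=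
      IsRegularLocalRing.of_ringEquiv eY.symm
    haveI h2 := Groth.Agent.H44.RegDescend.isRegularLocalRing_of_smooth Γ(Y, U) Γ(X, V) q h1
    exact IsRegularLocalRing.of_ringEquiv eX

end Groth.Agent.H25.SmoothStalk
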