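import Mathlib
import Groth.Prelude.Def_Magnet2
import Groth.Agent.H91.MagnetDense2

/-!
# Attractors `X^N` for `X` affine over `S`: common definitions (helper25, for S18295)
-/

set_option autoImplicit false

universe u

open CategoryTheory Limits AlgebraicGeometry MonoidalCategory CartesianMonoidalCategory MonObj
open Magnet Magnet.MonAct
open scoped TensorProduct
open Groth.Agent.H91.MagnetDense

namespace Groth.Agent.H25.Mag

attribute [local instance 10] algZ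

variable {S : Scheme.{u}} {M : Type} [AddCommMonoid M]

/-- `ψ : A(M) ⊗ T ⟶ X` extends over `A(N) ⊗ T` (uniquely when `X/S` is separated, since
`A(M) ⊗ T ⟶ A(N) ⊗ T` is scheme-theoretically dominant). -/
def Ext (N : AddSubmonoid M) {X T : Over S} (ψ : AMonS S M ⊗ T ⟶ X) : Prop :=
  ∃ φ : AMonS S N ⊗ T ⟶ X, (AMonS.map S N.subtype ▷ T) ≫ φ = ψ

/-- a ring hom as a `ULift ℤ`-algebra hom. -/
noncomputable def zAlgHom {R R1 : Type u} [CommRing R] [CommRing R1] (f : R →+* R1) :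
    R →ₐ[ULift.{u} ℤ] R1 :=
  { f with
    commutes' := fun c => by
      change f (((c.down : ℤ) : R)) = ((c.down : ℤ) : R1)
      exact map_intCast f _ }

@[simp] lemma zAlgHom_apply {R R1 : Type u} [CommRing R] [CommRing R1] (f : R →+* R1) (r : R) :
    zAlgHom f r = f r := rfl

/-- `id ⊗ f : ℤ[M] ⊗ R → ℤ[M] ⊗ R1`. -/
noncomputable def tmap (M : Type) [AddCommMonoid M] {R R1 : Type u} [CommRing R] [CommRing R1]
    (f : R →+* R1) :
    BM.{u} M ⊗[ULift.{u} ℤ] R →ₐ[ULift.{u} ℤ] BM.{u} M ⊗[ULift.{u} ℤ] R1 :=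
  Algebra.TensorProduct.map (AlgHom.id (ULift.{u} ℤ) (BM.{u} M)) (zAlgHom f)

lemma tmap_tmul (M : Type) [AddCommMonoid M] {R R1 : Type u} [CommRing R] [CommRing R1]
    (f : R →+* R1) (b : BM.{u} M) (r : R) : tmap M f (b ⊗ₜ r) = b ⊗ₜ f r := rfl

/-- `phi ⊗ id : ℤ[N] ⊗ R → ℤ[M] ⊗ R`. -/
noncomputable def Phi (N : AddSubmonoid M) (R : Type u) [CommRing R] :
    BM.{u} N ⊗[ULift.{u} ℤ] R →ₐ[ULift.{u} ℤ] BM.{u} M ⊗[ULift.{u} ℤ] R :=
  Algebra.TensorProduct.map (phi N.subtype) (AlgHom.id (ULift.{u} ℤ) R)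

lemma Phi_injective (N : AddSubmonoid M) (R : Type u) [CommRing R] :
    Function.Injective (Phi N R) :=
  tensor_injective N.subtype Subtype.val_injective R

/-- the chart `Spec (ℤ[M] ⊗ R) ≅ (A(M)_S ⊗ (Spec R → S)).left`. -/
noncomputable def chart (S : Scheme.{u}) (M : Type) [AddCommMonoid M] (R : CommRingCat.{u})
    (t : Spec R ⟶ S) :
    Spec (CommRingCat.of (BM.{u} M ⊗[ULift.{u} ℤ] R)) ≅ (AMonS S M ⊗ Over.mk t).left :=
  (isPullback_cmp S M R t).isoPullback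

end Groth.Agent.H25.Mag
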