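import Mathlib

/-!
# A Noetherian local ring with principal maximal ideal generated by a nonzerodivisor is a DVR
-/

set_option autoImplicit false
universe u

namespace Groth.Agent.H25.DvrCrit

open IsLocalRing

theorem exists_isDomain_dvr {C : Type u} [CommRing C] [IsNoetherianRing C] [IsLocalRing C] (π : C)
    (hπ : ∀ x : C, π * x = 0 → x = 0) (hmax : maximalIdeal C = Ideal.span {π}) :
    ∃ (_ : IsDomain C), IsDiscreteValuationRing C := by
  classical
  have hkrull : ⨅ n, maximalIdeal C ^ n = ⊥ :=
    Ideal.iInf_pow_eq_bot_of_isLocalRing _ (maximalIdeal.isMaximal C).ne_top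
  have hfac : ∀ x : C, x ≠ 0 → ∃ (n : ℕ) (u : Cˣ), x = u * π ^ n := by
    intro x hx
    have hex : ∃ n, x ∉ maximalIdeal C ^ n := by
      by_contra hcon
      push Not at hcon
      apply hx
      have : x ∈ ⨅ n, maximalIdeal C ^ n := (Ideal.mem_iInf).mpr hcon
      rwa [hkrull, Ideal.mem_bot] at this
    have hn : x ∉ maximalIdeal C ^ (Nat.find hex) := Nat.find_spec hex
    have hn0 : Nat.find hex ≠ 0 := by
      intro h0
      rw [h0, pow_zero, Ideal.one_eq_top] at hn
      exact hn Submodule.mem_top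
    obtain ⟨m, hm⟩ := Nat.exists_eq_succ_of_ne_zero hn0
    have hxm : x ∈ maximalIdeal C ^ m := by
      by_contra h
      exact Nat.find_min hex (by omega : m < Nat.find hex) h
    rw [hmax, Ideal.span_singleton_pow, Ideal.mem_span_singleton] at hxm
    obtain ⟨u, hu⟩ := hxm
    have huunit : IsUnit u := by
      by_contra hnu
      have h1 : u ∈ maximalIdeal C := (mem_maximalIdeal u).mpr hnu
      rw [hmax, Ideal.mem_span_singleton] at h1
      obtain ⟨v, hv⟩ := h1
      apply hn
      rw [hm, hmax, Ideal.span_singleton_pow, Ideal.mem_span_singleton]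
      exact ⟨v, by rw [hu, hv, pow_succ]; ring⟩
    exact ⟨m, huunit.unit, by rw [hu, IsUnit.unit_spec, mul_comm]⟩
  have hpow : ∀ n, π ^ n ≠ 0 := by
    intro n
    induction n with
    | zero => rw [pow_zero]; exact one_ne_zero
    | succ n ih =>
      intro h
      rw [pow_succ, mul_comm] at h
      exact ih (hπ _ h)
  haveI : NoZeroDivisors C := ⟨fun {a b} hab => by
    by_contra hcon
    push Not at hcon
    obtain ⟨n, u, rfl⟩ := hfac a hcon.1
    obtain ⟨m, v, rfl⟩ := hfac b hcon.2
    have h1 : ((u * v : Cˣ) : C) * π ^ (n + m) = 0 := by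
      rw [← hab, pow_add, Units.val_mul]
      ring
    have h2 : π ^ (n + m) = 0 := (Units.mul_right_eq_zero _).mp h1
    exact hpow (n + m) h2⟩
  have hdom : IsDomain C := NoZeroDivisors.to_isDomain C
  refine ⟨hdom, ?_⟩
  have hnf : ¬ IsField C := by
    rw [IsLocalRing.isField_iff_maximalIdeal_eq, hmax, Ideal.span_singleton_eq_bot]
    have := hpow 1
    rwa [pow_one] at this
  have hprin : (maximalIdeal C).IsPrincipal := ⟨⟨π, hmax⟩⟩
  exact ((IsDiscreteValuationRing.TFAE C hnf).out 0 4).mpr hprin

end Groth.Agent.H25.DvrCrit
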