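import Mathlib
import Groth.Agent.H25.DirLimNoeth

/-!
# Flat local extensions with prescribed residue field (EGA 0_III 10.3.1)

For a local ring `A` and a field `K` which is an `A`-algebra killing the maximal ideal of `A`, we
construct by Zorn's lemma a flat local `A`-algebra `B` with `𝔪_A B = 𝔪_B` and `B / 𝔪_B ≅ K`,
Noetherian when `A` is.
-/

set_option autoImplicit false
universe u

namespace Groth.Agent.H25.ResExt

open IsLocalRing Polynomial

/-- The objects of the Zorn argument: flat local `A`-algebras `B` with `𝔪_A B = 𝔪_B`, an augmentation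
to `K`, and a family of elements indexed by a subset `S ⊆ K` lifting the elements of `S` which
generates `B` as a local `A`-algebra. -/
structure Obj (A : Type u) [CommRing A] [IsLocalRing A] (K : Type u) [Field K] [Algebra A K] :
    Type (u + 1) where
  S : Set K
  B : Type u
  [cr : CommRing B]
  [alg : Algebra A B]
  [loc : IsLocalRing B]
  ev : B →ₐ[A] K
  gen : K → B
  ev_gen : ∀ s ∈ S, ev (gen s) = s
  flat : Module.Flat A B
  max_eq : maximalIdeal B = (maximalIdeal A).map (algebraMap A B)
  gen_top : ∀ T : Subring B, (∀ a, algebraMap A B a ∈ T) → (∀ s ∈ S, gen s ∈ T) →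
      (∀ u : Bˣ, (u : B) ∈ T → ((u⁻¹ : Bˣ) : B) ∈ T) → T = ⊤
  noeth : IsNoetherianRing A → IsNoetherianRing B

attribute [instance] Obj.cr Obj.alg Obj.loc

variable {A : Type u} [CommRing A] [IsLocalRing A] {K : Type u} [Field K] [Algebra A K]

namespace Obj

theorem ev_maximalIdeal (hAK : ∀ x ∈ maximalIdeal A, algebraMap A K x = 0) (O : Obj A K)
    (x : O.B) (hx : x ∈ maximalIdeal O.B) : O.ev x = 0 := by
  rw [O.max_eq] at hx
  have h : (maximalIdeal A).map (algebraMap A O.B) ≤ RingHom.ker (O.ev : O.B →+* K) := by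
    rw [Ideal.map_le_iff_le_comap]
    intro y hy
    rw [Ideal.mem_comap, RingHom.mem_ker]
    change O.ev (algebraMap A O.B y) = 0
    rw [O.ev.commutes]
    exact hAK y hy
  exact h hx

theorem isUnit_of_ev_ne_zero (hAK : ∀ x ∈ maximalIdeal A, algebraMap A K x = 0) (O : Obj A K)
    (x : O.B) (hx : O.ev x ≠ 0) : IsUnit x := by
  by_contra hu
  exact hx (O.ev_maximalIdeal hAK x ((mem_maximalIdeal x).mpr hu))

theorem mem_range_ev (O : Obj A K) {s : K} (hs : s ∈ O.S) : s ∈ Set.range O.ev :=
  ⟨O.gen s, O.ev_gen s hs⟩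

/-- Two algebra homomorphisms out of `O.B` which agree on the generators are equal. -/
theorem hom_ext (O : Obj A K) {C : Type u} [CommRing C] [Algebra A C] (h h' : O.B →ₐ[A] C)
    (hg : ∀ s ∈ O.S, h (O.gen s) = h' (O.gen s)) : h = h' := by
  have htop : RingHom.eqLocus (h : O.B →+* C) (h' : O.B →+* C) = ⊤ := by
    refine O.gen_top _ (fun a => ?_) (fun s hs => hg s hs) (fun u hu => ?_)
    · change h (algebraMap A O.B a) = h' (algebraMap A O.B a)
      rw [h.commutes, h'.commutes]
    · change h ((u⁻¹ : O.Bˣ) : O.B) = h' ((u⁻¹ : O.Bˣ) : O.B)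
      have hu' : h (u : O.B) = h' (u : O.B) := hu
      refine left_inv_eq_right_inv (a := h (u : O.B)) ?_ ?_
      · rw [← map_mul, Units.inv_mul, map_one]
      · rw [hu', ← map_mul, Units.mul_inv, map_one]
  ext x
  have : x ∈ RingHom.eqLocus (h : O.B →+* C) (h' : O.B →+* C) := htop ▸ Subring.mem_top x
  exact this

end Obj

/-- The order relation on objects. -/
def Rel (O₁ O₂ : Obj A K) : Prop :=
  O₁.S ⊆ O₂.S ∧ ∃ h : O₁.B →ₐ[A] O₂.B, (∀ s ∈ O₁.S, h (O₁.gen s) = O₂.gen s) ∧
    (h : O₁.B →+* O₂.B).Flat ∧ O₂.ev.comp h = O₁.ev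

theorem Rel.refl (O : Obj A K) : Rel O O :=
  ⟨subset_rfl, AlgHom.id A O.B, fun _ _ => rfl, RingHom.Flat.of_bijective Function.bijective_id,
    AlgHom.comp_id _⟩

theorem Rel.trans {O₁ O₂ O₃ : Obj A K} (h₁₂ : Rel O₁ O₂) (h₂₃ : Rel O₂ O₃) : Rel O₁ O₃ := by
  obtain ⟨hS, h, hg, hfl, hev⟩ := h₁₂
  obtain ⟨hS', h', hg', hfl', hev'⟩ := h₂₃
  refine ⟨hS.trans hS', h'.comp h, fun s hs => ?_, hfl.comp hfl', ?_⟩
  · rw [AlgHom.comp_apply, hg s hs, hg' s (hS hs)]
  · rw [← AlgHom.comp_assoc, hev', hev]

theorem isLocalHom_of_ev (hAK : ∀ x ∈ maximalIdeal A, algebraMap A K x = 0) {O₁ O₂ : Obj A K}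
    (h : O₁.B →ₐ[A] O₂.B) (hev : O₂.ev.comp h = O₁.ev) : IsLocalHom (h : O₁.B →+* O₂.B) := by
  refine ⟨fun x hx => O₁.isUnit_of_ev_ne_zero hAK x ?_⟩
  have h1 : IsUnit (O₂.ev (h x)) := hx.map O₂.ev
  have h2 : O₂.ev (h x) = O₁.ev x := by rw [← hev]; rfl
  rw [h2] at h1
  exact h1.ne_zero

/-- A comparison map between objects with the same generating set is invertible. -/
theorem Rel.symm_of_subset (hAK : ∀ x ∈ maximalIdeal A, algebraMap A K x = 0) {O₁ O₂ : Obj A K}
    (h₁₂ : Rel O₁ O₂) (hS : O₂.S ⊆ O₁.S) : Rel O₂ O₁ := by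
  obtain ⟨hS', h, hg, hfl, hev⟩ := h₁₂
  haveI hloc : IsLocalHom (h : O₁.B →+* O₂.B) := isLocalHom_of_ev hAK h hev
  -- injective, as a flat local homomorphism
  have hinj : Function.Injective h := by
    letI : Algebra O₁.B O₂.B := (h : O₁.B →+* O₂.B).toAlgebra
    haveI : Module.Flat O₁.B O₂.B := hfl
    haveI : IsLocalHom (algebraMap O₁.B O₂.B) := hloc
    haveI : Module.FaithfullyFlat O₁.B O₂.B := Module.FaithfullyFlat.of_flat_of_isLocalHom
    exact FaithfulSMul.algebraMap_injective O₁.B O₂.B
  -- surjective, by generation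
  have hsurj : Function.Surjective h := by
    have htop : (h : O₁.B →+* O₂.B).range = ⊤ := by
      refine O₂.gen_top _ (fun a => ⟨algebraMap A O₁.B a, h.commutes a⟩)
        (fun s hs => ⟨O₁.gen s, hg s (hS hs)⟩) (fun u hu => ?_)
      obtain ⟨x, hx⟩ := hu
      have hxu : IsUnit x := by
        have : IsUnit ((h : O₁.B →+* O₂.B) x) := by rw [hx]; exact u.isUnit
        exact hloc.map_nonunit x this
      refine ⟨((hxu.unit⁻¹ : O₁.Bˣ) : O₁.B), ?_⟩
      refine left_inv_eq_right_inv (a := (u : O₂.B)) ?_ (Units.mul_inv u)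
      rw [← hx, ← map_mul, IsUnit.val_inv_mul, map_one]
    intro y
    have : y ∈ (h : O₁.B →+* O₂.B).range := htop ▸ Subring.mem_top y
    exact this
  let e : O₁.B ≃ₐ[A] O₂.B := AlgEquiv.ofBijective h ⟨hinj, hsurj⟩
  refine ⟨hS, e.symm, fun s hs => ?_, RingHom.Flat.of_bijective e.symm.bijective, ?_⟩
  · rw [AlgEquiv.coe_toAlgHom, AlgEquiv.symm_apply_eq]
    exact (hg s (hS hs)).symm
  · ext x
    obtain ⟨y, rfl⟩ := e.surjective x
    simp only [AlgHom.comp_apply, AlgEquiv.coe_toAlgHom, AlgEquiv.symm_apply_apply]
    have : O₂.ev (h y) = O₁.ev y := by rw [← hev]; rfl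
    exact this.symm

/-- The base object `A` itself. -/
noncomputable def baseObj (A : Type u) [CommRing A] [IsLocalRing A] (K : Type u) [Field K]
    [Algebra A K] : Obj A K where
  S := ∅
  B := A
  ev := Algebra.ofId A K
  gen := 0
  ev_gen := fun s hs => absurd hs (Set.notMem_empty s)
  flat := inferInstance
  max_eq := by rw [Algebra.algebraMap_self, Ideal.map_id]
  gen_top := fun T hT _ _ => by
    rw [eq_top_iff]
    intro x _
    exact hT x
  noeth := id


section Steps

/-- The map induced by the augmentation on the residue field. -/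
noncomputable def evbar (hAK : ∀ x ∈ maximalIdeal A, algebraMap A K x = 0) (O : Obj A K) :
    ResidueField O.B →+* K :=
  Ideal.Quotient.lift (maximalIdeal O.B) (O.ev : O.B →+* K) (O.ev_maximalIdeal hAK)

theorem evbar_comp_residue (hAK : ∀ x ∈ maximalIdeal A, algebraMap A K x = 0) (O : Obj A K) :
    (evbar hAK O).comp (residue O.B) = (O.ev : O.B →+* K) := by
  ext x
  rfl

theorem exists_poly_or_transc {k K' : Type u} [Field k] [Field K'] (φ : k →+* K') (a : K') :
    (∃ p : k[X], p.Monic ∧ Irreducible p ∧ p.eval₂ φ a = 0) ∨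
      (∀ p : k[X], p.eval₂ φ a = 0 → p = 0) := by
  letI := φ.toAlgebra
  by_cases h : IsIntegral k a
  · refine Or.inl ⟨minpoly k a, minpoly.monic h, minpoly.irreducible h, ?_⟩
    have := minpoly.aeval k a
    rwa [Polynomial.aeval_def, RingHom.algebraMap_toAlgebra] at this
  · right
    intro p hp
    by_contra hne
    apply h
    refine IsAlgebraic.isIntegral ⟨p, hne, ?_⟩
    rw [Polynomial.aeval_def, RingHom.algebraMap_toAlgebra]
    exact hp

variable {B : Type u} [CommRing B] [IsLocalRing B]

theorem isMaximal_map_of_adjoinRoot (F : B[X])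
    (hirr : Irreducible (F.map (residue B))) :
    ((maximalIdeal B).map (AdjoinRoot.of F)).IsMaximal := by
  have hmax : (Ideal.span {F.map (residue B)} : Ideal (ResidueField B)[X]).IsMaximal :=
    PrincipalIdealRing.isMaximal_of_irreducible hirr
  have hfield : IsField ((ResidueField B)[X] ⧸ Ideal.span {F.map (residue B)}) :=
    (Ideal.Quotient.maximal_ideal_iff_isField_quotient _).mp hmax
  have e := (AdjoinRoot.quotAdjoinRootEquivQuotPolynomialQuot (maximalIdeal B) F).toMulEquiv
  exact Ideal.Quotient.maximal_of_isField _ (MulEquiv.isField hfield e)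

theorem isLocalRing_adjoinRoot (F : B[X]) (hF : F.Monic)
    (hirr : Irreducible (F.map (residue B))) :
    IsLocalRing (AdjoinRoot F) := by
  haveI : Module.Finite B (AdjoinRoot F) := (AdjoinRoot.powerBasis' hF).finite
  haveI : Algebra.IsIntegral B (AdjoinRoot F) := Algebra.IsIntegral.of_finite B (AdjoinRoot F)
  have hI := isMaximal_map_of_adjoinRoot F hirr
  refine IsLocalRing.of_unique_max_ideal ⟨_, hI, fun M hM => ?_⟩
  haveI := hM
  have h1 : (M.comap (algebraMap B (AdjoinRoot F))).IsMaximal :=
    Ideal.isMaximal_comap_of_isIntegral_of_isMaximal M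
  have h2 : M.comap (algebraMap B (AdjoinRoot F)) = maximalIdeal B := eq_maximalIdeal h1
  have h3 : (maximalIdeal B).map (AdjoinRoot.of F) ≤ M := by
    rw [← h2]
    exact Ideal.map_comap_le
  exact (hI.eq_of_le hM.ne_top h3).symm

theorem maximalIdeal_adjoinRoot (F : B[X])
    (hirr : Irreducible (F.map (residue B))) [IsLocalRing (AdjoinRoot F)] :
    maximalIdeal (AdjoinRoot F) = (maximalIdeal B).map (AdjoinRoot.of F) :=
  (eq_maximalIdeal (isMaximal_map_of_adjoinRoot F hirr)).symm

theorem exists_step_alg (hAK : ∀ x ∈ maximalIdeal A, algebraMap A K x = 0) (O : Obj A K) (a : K)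
    (ha : a ∉ Set.range O.ev) (p : (ResidueField O.B)[X]) (hp : p.Monic) (hirr : Irreducible p)
    (hpa : p.eval₂ (evbar hAK O) a = 0) : ∃ O' : Obj A K, Rel O O' ∧ a ∈ O'.S := by
  classical
  obtain ⟨F, hFmap, -, hFmonic⟩ := Polynomial.lifts_and_natDegree_eq_and_monic
    (Polynomial.mem_lifts_of_surjective (f := residue O.B) residue_surjective p) hp
  have hFa : F.eval₂ (O.ev : O.B →+* K) a = 0 := by
    rw [← evbar_comp_residue hAK O, ← Polynomial.eval₂_map, hFmap]
    exact hpa
  have hirr' : Irreducible (F.map (residue O.B)) := by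
    rw [hFmap]
    exact hirr
  haveI hlocB' : IsLocalRing (AdjoinRoot F) := isLocalRing_adjoinRoot F hFmonic hirr'
  have hmaxB' := maximalIdeal_adjoinRoot F hirr'
  haveI : Module.Free O.B (AdjoinRoot F) :=
    Module.Free.of_basis (AdjoinRoot.powerBasis' hFmonic).basis
  haveI : Module.Flat A O.B := O.flat
  have haS : a ∉ O.S := fun h => ha (O.mem_range_ev h)
  let ev' : AdjoinRoot F →ₐ[A] K := AdjoinRoot.liftAlgHom F O.ev a hFa
  let O' : Obj A K :=
    { S := insert a O.S
      B := AdjoinRoot F
      ev := ev'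
      gen := fun s => if s = a then AdjoinRoot.root F else AdjoinRoot.of F (O.gen s)
      ev_gen := fun s hs => by
        by_cases hsa : s = a
        · rw [if_pos hsa, hsa]
          exact AdjoinRoot.liftAlgHom_root F O.ev a hFa
        · rw [if_neg hsa]
          have hsS : s ∈ O.S := hs.resolve_left hsa
          exact (AdjoinRoot.liftAlgHom_of F O.ev a hFa (O.gen s)).trans (O.ev_gen s hsS)
      flat := Module.Flat.trans A O.B (AdjoinRoot F)
      max_eq := by
        rw [hmaxB', O.max_eq, Ideal.map_map]
        rfl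
      gen_top := fun T hA hgen hinv => by
        have h0 : T.comap (AdjoinRoot.of F) = ⊤ := by
          refine O.gen_top _ (fun x => hA x) (fun s hs => ?_) (fun u hu => ?_)
          · have h1 := hgen s (Set.mem_insert_of_mem a hs)
            have hsa : s ≠ a := fun h => haS (h ▸ hs)
            rw [if_neg hsa] at h1
            exact h1
          · exact hinv (Units.map (AdjoinRoot.of F : O.B →* AdjoinRoot F) u) hu
        have hof : ∀ b : O.B, AdjoinRoot.of F b ∈ T := fun b => by
          have : b ∈ T.comap (AdjoinRoot.of F) := h0 ▸ Subring.mem_top b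
          exact this
        have hroot : AdjoinRoot.root F ∈ T := by
          have h1 := hgen a (Set.mem_insert a O.S)
          rw [if_pos rfl] at h1
          exact h1
        rw [eq_top_iff]
        intro x _
        induction x using AdjoinRoot.induction_on with
        | ih g =>
          rw [← AdjoinRoot.aeval_eq, Polynomial.aeval_def, Polynomial.eval₂_eq_sum_range]
          refine Subring.sum_mem _ fun n _ => Subring.mul_mem _ ?_ (Subring.pow_mem _ hroot n)
          rw [AdjoinRoot.algebraMap_eq]
          exact hof _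
      noeth := fun hA => by
        haveI := O.noeth hA
        exact isNoetherianRing_of_surjective O.B[X] (AdjoinRoot F) (AdjoinRoot.mk F)
          AdjoinRoot.mk_surjective }
  refine ⟨O', ⟨Set.subset_insert a O.S, IsScalarTower.toAlgHom A O.B (AdjoinRoot F),
    fun s hs => ?_, ?_, ?_⟩, Set.mem_insert a O.S⟩
  · have hsa : s ≠ a := fun h => haS (h ▸ hs)
    change AdjoinRoot.of F (O.gen s) = if s = a then AdjoinRoot.root F else AdjoinRoot.of F (O.gen s)
    rw [if_neg hsa]
  · change (algebraMap O.B (AdjoinRoot F)).Flat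
    rw [RingHom.flat_algebraMap_iff]
    infer_instance
  · ext x
    exact AdjoinRoot.liftAlgHom_of F O.ev a hFa x

theorem exists_step_transc (hAK : ∀ x ∈ maximalIdeal A, algebraMap A K x = 0) (O : Obj A K) (a : K)
    (ha : a ∉ Set.range O.ev)
    (htr : ∀ p : (ResidueField O.B)[X], p.eval₂ (evbar hAK O) a = 0 → p = 0) :
    ∃ O' : Obj A K, Rel O O' ∧ a ∈ O'.S := by
  classical
  let P : Ideal O.B[X] := (maximalIdeal O.B).map (C : O.B →+* O.B[X])
  haveI hPprime : P.IsPrime := Ideal.isPrime_map_C_of_isPrime
  letI : Algebra O.B K := (O.ev : O.B →+* K).toAlgebra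
  haveI : IsScalarTower A O.B K := IsScalarTower.of_algebraMap_eq (fun x => (O.ev.commutes x).symm)
  let φ : O.B[X] →ₐ[A] K := (Polynomial.aeval a : O.B[X] →ₐ[O.B] K).restrictScalars A
  have hφ : ∀ g : O.B[X], φ g = g.eval₂ (O.ev : O.B →+* K) a := fun g => by
    change Polynomial.aeval a g = _
    rw [Polynomial.aeval_def]
    rfl
  have hunit : ∀ y : P.primeCompl, IsUnit (φ y) := by
    intro y
    rw [isUnit_iff_ne_zero, hφ]
    intro h0
    have h1 : ((y : O.B[X]).map (residue O.B)).eval₂ (evbar hAK O) a = 0 := by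
      rw [Polynomial.eval₂_map, evbar_comp_residue]
      exact h0
    have h2 := htr _ h1
    apply y.2
    change (y : O.B[X]) ∈ (maximalIdeal O.B).map (C : O.B →+* O.B[X])
    rw [Ideal.mem_map_C_iff]
    intro n
    have h3 := congrArg (fun q => q.coeff n) h2
    simp only [Polynomial.coeff_map, Polynomial.coeff_zero] at h3
    exact (residue_eq_zero_iff _).mp h3
  haveI : Module.Flat A O.B := O.flat
  haveI : Module.Flat O.B[X] (Localization.AtPrime P) :=
    IsLocalization.flat (Localization.AtPrime P) P.primeCompl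
  haveI : Module.Flat A O.B[X] := Module.Flat.trans A O.B O.B[X]
  haveI : Module.Flat O.B (Localization.AtPrime P) :=
    Module.Flat.trans O.B O.B[X] (Localization.AtPrime P)
  have haS : a ∉ O.S := fun h => ha (O.mem_range_ev h)
  let ev' : Localization.AtPrime P →ₐ[A] K :=
    IsLocalization.liftAlgHom (M := P.primeCompl) (S := Localization.AtPrime P) hunit
  have hev' : ∀ g : O.B[X], ev' (algebraMap O.B[X] (Localization.AtPrime P) g) = φ g := fun g =>
    IsLocalization.lift_eq hunit g
  let O' : Obj A K :=
    { S := insert a O.S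
      B := Localization.AtPrime P
      ev := ev'
      gen := fun s => if s = a then algebraMap O.B[X] (Localization.AtPrime P) X
        else algebraMap O.B (Localization.AtPrime P) (O.gen s)
      ev_gen := fun s hs => by
        by_cases hsa : s = a
        · rw [if_pos hsa, hsa, hev', hφ, Polynomial.eval₂_X]
        · rw [if_neg hsa]
          have hsS : s ∈ O.S := hs.resolve_left hsa
          rw [IsScalarTower.algebraMap_apply O.B O.B[X] (Localization.AtPrime P), hev', hφ,
            Polynomial.algebraMap_apply, Algebra.algebraMap_self, RingHom.id_apply,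
            Polynomial.eval₂_C]
          exact O.ev_gen s hsS
      flat := Module.Flat.trans A O.B[X] (Localization.AtPrime P)
      max_eq := by
        rw [IsScalarTower.algebraMap_eq A O.B[X] (Localization.AtPrime P),
          IsScalarTower.algebraMap_eq A O.B O.B[X], ← Ideal.map_map, ← Ideal.map_map, ← O.max_eq,
          Polynomial.algebraMap_eq]
        exact (IsLocalization.AtPrime.map_eq_maximalIdeal P (Localization.AtPrime P)).symm
      gen_top := fun T hA hgen hinv => by
        have h0 : T.comap (algebraMap O.B (Localization.AtPrime P)) = ⊤ := by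
          refine O.gen_top _ (fun x => ?_) (fun s hs => ?_) (fun u hu => ?_)
          · have := hA x
            rw [IsScalarTower.algebraMap_apply A O.B (Localization.AtPrime P)] at this
            exact this
          · have h1 := hgen s (Set.mem_insert_of_mem a hs)
            have hsa : s ≠ a := fun h => haS (h ▸ hs)
            rw [if_neg hsa] at h1
            exact h1
          · exact hinv (Units.map (algebraMap O.B (Localization.AtPrime P) :
              O.B →* Localization.AtPrime P) u) hu
        have hB : ∀ b : O.B, algebraMap O.B (Localization.AtPrime P) b ∈ T := fun b => by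
          have : b ∈ T.comap (algebraMap O.B (Localization.AtPrime P)) := h0 ▸ Subring.mem_top b
          exact this
        have hX : algebraMap O.B[X] (Localization.AtPrime P) X ∈ T := by
          have h1 := hgen a (Set.mem_insert a O.S)
          rw [if_pos rfl] at h1
          exact h1
        have hpoly : ∀ g : O.B[X], algebraMap O.B[X] (Localization.AtPrime P) g ∈ T := by
          intro g
          induction g using Polynomial.induction_on' with
          | add p q hp hq =>
            rw [map_add]
            exact T.add_mem hp hq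
          | monomial n b =>
            rw [← Polynomial.C_mul_X_pow_eq_monomial, map_mul, map_pow]
            refine T.mul_mem ?_ (T.pow_mem hX n)
            rw [← Polynomial.algebraMap_eq, ← IsScalarTower.algebraMap_apply]
            exact hB b
        rw [eq_top_iff]
        intro x _
        obtain ⟨g, s, rfl⟩ := IsLocalization.exists_mk'_eq P.primeCompl x
        have hu := IsLocalization.map_units (Localization.AtPrime P) s
        have hsT : ((hu.unit : (Localization.AtPrime P)ˣ) : Localization.AtPrime P) ∈ T :=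
          hpoly s
        have hinvT := hinv hu.unit hsT
        have hx : IsLocalization.mk' (Localization.AtPrime P) g s =
            algebraMap O.B[X] (Localization.AtPrime P) g *
              ((hu.unit⁻¹ : (Localization.AtPrime P)ˣ) : Localization.AtPrime P) := by
          rw [IsLocalization.mk'_eq_iff_eq_mul, mul_assoc]
          have h1 : ((hu.unit⁻¹ : (Localization.AtPrime P)ˣ) : Localization.AtPrime P) *
              algebraMap O.B[X] (Localization.AtPrime P) s = 1 := by
            have h2 := Units.inv_mul hu.unit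
            rwa [IsUnit.unit_spec] at h2
          rw [h1, mul_one]
        rw [hx]
        exact T.mul_mem (hpoly g) hinvT
      noeth := fun hA => by
        haveI := O.noeth hA
        exact IsLocalization.isNoetherianRing P.primeCompl (Localization.AtPrime P) inferInstance }
  refine ⟨O', ⟨Set.subset_insert a O.S, IsScalarTower.toAlgHom A O.B (Localization.AtPrime P),
    fun s hs => ?_, ?_, ?_⟩, Set.mem_insert a O.S⟩
  · have hsa : s ≠ a := fun h => haS (h ▸ hs)
    change algebraMap O.B (Localization.AtPrime P) (O.gen s) =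
      if s = a then algebraMap O.B[X] (Localization.AtPrime P) X
        else algebraMap O.B (Localization.AtPrime P) (O.gen s)
    rw [if_neg hsa]
  · change (algebraMap O.B (Localization.AtPrime P)).Flat
    rw [RingHom.flat_algebraMap_iff]
    infer_instance
  · ext x
    change ev' (algebraMap O.B (Localization.AtPrime P) x) = O.ev x
    rw [IsScalarTower.algebraMap_apply O.B O.B[X] (Localization.AtPrime P), hev', hφ,
      Polynomial.algebraMap_apply, Algebra.algebraMap_self, RingHom.id_apply, Polynomial.eval₂_C]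
    rfl

end Steps


section Chain

open Groth.Agent.H25.DirLimNoeth Groth.Agent.H87.HenselLocLim

variable (c : Set (Obj A K))

/-- The index type of a chain: the generating sets of its members. -/
structure Idx (c : Set (Obj A K)) : Type u where
  T : Set K
  ex : ∃ O ∈ c, O.S = T

/-- A chosen member of the chain with given generating set. -/
noncomputable def rep (i : Idx c) : Obj A K := Classical.choose i.ex

theorem rep_mem (i : Idx c) : rep c i ∈ c := (Classical.choose_spec i.ex).1

theorem rep_S (i : Idx c) : (rep c i).S = i.T := (Classical.choose_spec i.ex).2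

instance : Preorder (Idx c) where
  le i j := Rel (rep c i) (rep c j)
  le_refl i := Rel.refl _
  le_trans _ _ _ := Rel.trans

/-- The (unique) transition maps. -/
noncomputable def tr {i j : Idx c} (h : i ≤ j) : (rep c i).B →ₐ[A] (rep c j).B :=
  Classical.choose (h : Rel (rep c i) (rep c j)).2

theorem tr_gen {i j : Idx c} (h : i ≤ j) :
    ∀ s ∈ (rep c i).S, tr c h ((rep c i).gen s) = (rep c j).gen s :=
  (Classical.choose_spec (h : Rel (rep c i) (rep c j)).2).1

theorem tr_flat {i j : Idx c} (h : i ≤ j) : (tr c h : (rep c i).B →+* (rep c j).B).Flat :=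
  (Classical.choose_spec (h : Rel (rep c i) (rep c j)).2).2.1

theorem tr_ev {i j : Idx c} (h : i ≤ j) : (rep c j).ev.comp (tr c h) = (rep c i).ev :=
  (Classical.choose_spec (h : Rel (rep c i) (rep c j)).2).2.2

/-- The transition maps as ring homomorphisms. -/
noncomputable def fr (i j : Idx c) (h : i ≤ j) : (rep c i).B →+* (rep c j).B :=
  (tr c h : (rep c i).B →+* (rep c j).B)

instance : DirectedSystem (fun i : Idx c => (rep c i).B) (fun i j h => fr c i j h) where
  map_self i x := by
    have h1 : tr c (le_refl i) = AlgHom.id A _ :=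
      (rep c i).hom_ext _ _ (fun s hs => by rw [tr_gen c _ s hs]; rfl)
    exact congrArg (fun φ : (rep c i).B →ₐ[A] (rep c i).B => φ x) h1
  map_map k j i hij hjk x := by
    have h1 : (tr c hjk).comp (tr c hij) = tr c (hij.trans hjk) :=
      (rep c i).hom_ext _ _ (fun s hs => by
        rw [AlgHom.comp_apply, tr_gen c hij s hs, tr_gen c hjk s (hij.1 hs),
          tr_gen c (hij.trans hjk) s hs])
    exact congrArg (fun φ : (rep c i).B →ₐ[A] (rep c k).B => φ x) h1

set_option quotPrecheck false in
local notation "LL" => Ring.DirectLimit (fun i : Idx c => (rep c i).B) (fun i j h => fr c i j h)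
set_option quotPrecheck false in
local notation "ofLL" =>
  Ring.DirectLimit.of (fun i : Idx c => (rep c i).B) (fun i j h => fr c i j h)

set_option maxHeartbeats 1600000 in
theorem exists_ub (hAK : ∀ x ∈ maximalIdeal A, algebraMap A K x = 0) (hc : IsChain Rel c)
    (hne : c.Nonempty) : ∃ ub : Obj A K, ∀ O ∈ c, Rel O ub := by
  classical
  have total : ∀ O ∈ c, ∀ O' ∈ c, Rel O O' ∨ Rel O' O := fun O hO O' hO' => by
    by_cases h : O = O'
    · subst h
      exact Or.inl (Rel.refl O)
    · exact hc hO hO' h
  haveI : Nonempty (Idx c) := let ⟨O, hO⟩ := hne; ⟨⟨O.S, O, hO, rfl⟩⟩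
  have tot : ∀ i j : Idx c, i ≤ j ∨ j ≤ i := fun i j => total _ (rep_mem c i) _ (rep_mem c j)
  haveI : IsDirected (Idx c) (· ≤ ·) := ⟨fun i j => by
    rcases tot i j with h | h
    · exact ⟨j, h, le_refl j⟩
    · exact ⟨i, le_refl i, h⟩⟩
  have hloc : ∀ i j (h : i ≤ j), IsLocalHom (fr c i j h) := fun i j h =>
    isLocalHom_of_ev hAK (tr c h) (tr_ev c h)
  have hflat : ∀ i j (h : i ≤ j), (fr c i j h).Flat := fun i j h => tr_flat c h
  have hmax : ∀ i j (h : i ≤ j),
      (maximalIdeal (rep c i).B).map (fr c i j h) = maximalIdeal (rep c j).B := by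
    intro i j h
    rw [(rep c i).max_eq, (rep c j).max_eq, Ideal.map_map]
    congr 1
    exact (tr c h).comp_algebraMap
  haveI hLloc : IsLocalRing LL := isLocalRing_L _ _ hloc
  obtain ⟨i₀⟩ := ‹Nonempty (Idx c)›
  letI algL : Algebra A LL := ((ofLL i₀).comp (algebraMap A (rep c i₀).B)).toAlgebra
  have of_alg : ∀ (i : Idx c) (x : A), ofLL i (algebraMap A (rep c i).B x) = algebraMap A LL x := by
    intro i x
    obtain ⟨k, hik, h0k⟩ := exists_ge_ge i i₀
    change _ = ofLL i₀ (algebraMap A (rep c i₀).B x)
    have e1 : ofLL i (algebraMap A (rep c i).B x) =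
        ofLL k (fr c i k hik (algebraMap A (rep c i).B x)) :=
      (Ring.DirectLimit.of_f hik _).symm
    have e2 : ofLL i₀ (algebraMap A (rep c i₀).B x) =
        ofLL k (fr c i₀ k h0k (algebraMap A (rep c i₀).B x)) :=
      (Ring.DirectLimit.of_f h0k _).symm
    rw [e1, e2]
    change ofLL k (tr c hik (algebraMap A _ x)) = ofLL k (tr c h0k (algebraMap A _ x))
    rw [(tr c hik).commutes, (tr c h0k).commutes]
  let evR : LL →+* K := Ring.DirectLimit.lift _ _ K
    (fun i => ((rep c i).ev : (rep c i).B →+* K)) (fun i j hij x => by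
      change (rep c j).ev (tr c hij x) = (rep c i).ev x
      rw [← tr_ev c hij]
      rfl)
  have evR_of : ∀ (i : Idx c) (x : (rep c i).B), evR (ofLL i x) = (rep c i).ev x := fun i x =>
    Ring.DirectLimit.lift_of _ _ _ _ _
  let evL : LL →ₐ[A] K :=
    { evR with
      commutes' := fun x => by
        change evR (algebraMap A LL x) = _
        rw [← of_alg i₀ x, evR_of]
        exact (rep c i₀).ev.commutes x }
  let genL : K → LL := fun s =>
    if h : ∃ i : Idx c, s ∈ i.T then ofLL (Classical.choose h) ((rep c (Classical.choose h)).gen s)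
    else 0
  have of_gen : ∀ (i : Idx c) (s : K), s ∈ i.T → ofLL i ((rep c i).gen s) = genL s := by
    intro i s hs
    have hex : ∃ i : Idx c, s ∈ i.T := ⟨i, hs⟩
    change _ = dite _ _ _
    rw [dif_pos hex]
    have hsj : s ∈ (Classical.choose hex).T := Classical.choose_spec hex
    rcases tot i (Classical.choose hex) with h | h
    · have e1 : ofLL i ((rep c i).gen s) =
          ofLL (Classical.choose hex) (fr c i _ h ((rep c i).gen s)) :=
        (Ring.DirectLimit.of_f h _).symm
      rw [e1]
      congr 1
      exact tr_gen c h s ((rep_S c i).symm ▸ hs)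
    · have e1 : ofLL (Classical.choose hex) ((rep c (Classical.choose hex)).gen s) =
          ofLL i (fr c _ i h ((rep c (Classical.choose hex)).gen s)) :=
        (Ring.DirectLimit.of_f h _).symm
      rw [e1]
      congr 1
      exact (tr_gen c h s ((rep_S c _).symm ▸ hsj)).symm
  haveI : ∀ i : Idx c, Module.Flat A (rep c i).B := fun i => (rep c i).flat
  letI : Algebra (rep c i₀).B LL := (ofLL i₀).toAlgebra
  haveI : IsScalarTower A (rep c i₀).B LL := IsScalarTower.of_algebraMap_eq (fun x => rfl)
  haveI : Module.Flat (rep c i₀).B LL := flat_of _ _ hflat i₀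
  let ub : Obj A K :=
    { S := ⋃ i : Idx c, i.T
      B := LL
      ev := evL
      gen := genL
      ev_gen := fun s hs => by
        obtain ⟨i, hi⟩ := Set.mem_iUnion.mp hs
        rw [← of_gen i s hi]
        change evR (ofLL i _) = s
        rw [evR_of]
        exact (rep c i).ev_gen s ((rep_S c i).symm ▸ hi)
      flat := Module.Flat.trans A (rep c i₀).B LL
      max_eq := by
        rw [← map_maximalIdeal_of _ _ hloc hmax i₀, (rep c i₀).max_eq, Ideal.map_map]
        rfl
      gen_top := fun T hA hgen hinv => by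
        have h0 : ∀ i : Idx c, T.comap (ofLL i) = ⊤ := fun i => by
          refine (rep c i).gen_top _ (fun x => ?_) (fun s hs => ?_) (fun u hu => ?_)
          · change ofLL i (algebraMap A _ x) ∈ T
            rw [of_alg]
            exact hA x
          · change ofLL i ((rep c i).gen s) ∈ T
            have hs' : s ∈ i.T := (rep_S c i) ▸ hs
            rw [of_gen i s hs']
            exact hgen s (Set.mem_iUnion.mpr ⟨i, hs'⟩)
          · exact hinv (Units.map (ofLL i : (rep c i).B →* LL) u) hu
        rw [eq_top_iff]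
        intro x _
        obtain ⟨i, y, rfl⟩ := Ring.DirectLimit.exists_of x
        have : y ∈ T.comap (ofLL i) := h0 i ▸ Subring.mem_top y
        exact this
      noeth := fun hA => by
        haveI : ∀ i : Idx c, IsNoetherianRing (rep c i).B := fun i => (rep c i).noeth hA
        exact isNoetherianRing_directLimit _ _ hloc hmax hflat }
  refine ⟨ub, fun O hO => ?_⟩
  let i : Idx c := ⟨O.S, O, hO, rfl⟩
  have hrep : Rel (rep c i) ub := by
    refine ⟨?_, { (ofLL i) with commutes' := of_alg i }, fun s hs => ?_, ?_, ?_⟩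
    · intro s hs
      exact Set.mem_iUnion.mpr ⟨i, (rep_S c i) ▸ hs⟩
    · exact of_gen i s ((rep_S c i) ▸ hs)
    · exact flat_of _ _ hflat i
    · ext x
      exact evR_of i x
  have hO' : Rel O (rep c i) := by
    rcases total O hO _ (rep_mem c i) with h | h
    · exact h
    · refine h.symm_of_subset hAK ?_
      rw [rep_S]
  exact hO'.trans hrep

end Chain

section Main

theorem exists_maximal_obj (hAK : ∀ x ∈ maximalIdeal A, algebraMap A K x = 0) :
    ∃ O : Obj A K, Function.Surjective O.ev := by
  obtain ⟨m, hm⟩ := exists_maximal_of_chains_bounded (r := (Rel : Obj A K → Obj A K → Prop))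
    (fun c hc => by
      by_cases hne : c.Nonempty
      · exact exists_ub c hAK hc hne
      · exact ⟨baseObj A K, fun O hO => absurd ⟨O, hO⟩ hne⟩) (fun h h' => h.trans h')
  refine ⟨m, fun a => ?_⟩
  by_contra ha
  have ha' : a ∉ Set.range m.ev := ha
  obtain ⟨O', hrel, haO'⟩ : ∃ O' : Obj A K, Rel m O' ∧ a ∈ O'.S := by
    rcases exists_poly_or_transc (evbar hAK m) a with ⟨p, hp, hirr, hpa⟩ | htr
    · exact exists_step_alg hAK m a ha' p hp hirr hpa
    · exact exists_step_transc hAK m a ha' htr
  have hback := hm O' hrel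
  exact ha' (m.mem_range_ev (hback.1 haO'))

/-- Existence of a flat local extension with prescribed residue field. -/
theorem main (A : Type u) [CommRing A] [IsLocalRing A] (K : Type u) [Field K] [Algebra A K]
    (hAK : ∀ x ∈ maximalIdeal A, algebraMap A K x = 0) :
    ∃ (B : Type u) (_ : CommRing B) (_ : Algebra A B) (_ : IsLocalRing B) (ev : B →ₐ[A] K),
      Function.Surjective ev ∧ (∀ x ∈ maximalIdeal B, ev x = 0) ∧ Module.Flat A B ∧
      maximalIdeal B = (maximalIdeal A).map (algebraMap A B) ∧
      (IsNoetherianRing A → IsNoetherianRing B) := by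
  obtain ⟨O, hO⟩ := exists_maximal_obj (A := A) (K := K) hAK
  exact ⟨O.B, inferInstance, inferInstance, inferInstance, O.ev, hO, O.ev_maximalIdeal hAK, O.flat,
    O.max_eq, O.noeth⟩

end Main

end Groth.Agent.H25.ResExt
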