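import Mathlib
import Groth.Agent.H25.ResExt
import Groth.Agent.H25.DvrCrit

/-!
# Complete discrete valuation rings with prescribed residue field

Over a Noetherian local ring `A` whose maximal ideal is generated by a nonzerodivisor `π`, and for a
field `K` over the residue field of `A`, there is a complete discrete valuation ring `Λ`, flat over
`A`, with uniformizer `π` and residue field `K`.
-/

set_option autoImplicit false
universe u

namespace Groth.Agent.H25.CohenDVR

open IsLocalRing

theorem exists_complete_dvr {A : Type u} [CommRing A] [IsLocalRing A] [IsNoetherianRing A] (π : A)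
    (hπ : ∀ x : A, π * x = 0 → x = 0) (hmaxA : maximalIdeal A = Ideal.span {π})
    (K : Type u) [Field K] [Algebra A K] (hAK : ∀ x ∈ maximalIdeal A, algebraMap A K x = 0) :
    ∃ (Λ : Type u) (_ : CommRing Λ) (_ : Algebra A Λ) (_ : IsDomain Λ)
      (_ : IsDiscreteValuationRing Λ),
      IsAdicComplete (maximalIdeal Λ) Λ ∧ maximalIdeal Λ = Ideal.span {algebraMap A Λ π} ∧
      Module.Flat A Λ ∧
      ∃ e : ResidueField Λ ≃+* K, ∀ a : A, e (residue Λ (algebraMap A Λ a)) = algebraMap A K a := by
  obtain ⟨B, _, _, _, ev, hsurj, hker, hflat, hmax, hnoeth⟩ := Groth.Agent.H25.ResExt.main A K hAK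
  haveI : IsNoetherianRing B := hnoeth inferInstance
  haveI : Module.Flat A B := hflat
  haveI : IsNoetherianRing (AdicCompletion (maximalIdeal B) B) := by
    haveI : IsNoetherianRing (B ⧸ maximalIdeal B) :=
      inferInstanceAs (IsNoetherianRing (ResidueField B))
    exact Groth.Agent.Lead.isNoetherianRing_adicCompletion (maximalIdeal B)
      (maximalIdeal B).fg_of_isNoetherianRing
  haveI : Module.Flat A (AdicCompletion (maximalIdeal B) B) :=
    Module.Flat.trans A B (AdicCompletion (maximalIdeal B) B)
  have h2 : maximalIdeal B = Ideal.span {algebraMap A B π} := by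
    rw [hmax, hmaxA, Ideal.map_span, Set.image_singleton]
  have hmaxΛ : maximalIdeal (AdicCompletion (maximalIdeal B) B) =
      Ideal.span {algebraMap A (AdicCompletion (maximalIdeal B) B) π} := by
    rw [AdicCompletion.maximalIdeal_eq_map]
    refine (congrArg (Ideal.map (algebraMap B (AdicCompletion (maximalIdeal B) B))) h2).trans ?_
    rw [Ideal.map_span, Set.image_singleton, ← IsScalarTower.algebraMap_apply]
  have hreg : IsRegular π := by
    have hl : IsLeftRegular π := fun a b h => by
      have h1 : π * (a - b) = 0 := by
        have h' : π * a = π * b := h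
        rw [mul_sub, h', sub_self]
      exact sub_eq_zero.mp (hπ _ h1)
    exact isLeftRegular_iff_isRegular.mp hl
  have hregΛ : ∀ x : AdicCompletion (maximalIdeal B) B,
      algebraMap A (AdicCompletion (maximalIdeal B) B) π * x = 0 → x = 0 := by
    intro x hx
    have h1 : IsSMulRegular (AdicCompletion (maximalIdeal B) B) π :=
      Module.Flat.isSMulRegular_of_isRegular hreg
    apply h1
    change π • x = π • (0 : AdicCompletion (maximalIdeal B) B)
    rw [smul_zero, Algebra.smul_def]
    exact hx
  obtain ⟨hdom, hdvr⟩ := Groth.Agent.H25.DvrCrit.exists_isDomain_dvr _ hregΛ hmaxΛ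
  refine ⟨AdicCompletion (maximalIdeal B) B, inferInstance, inferInstance, hdom, hdvr,
    inferInstance, hmaxΛ, inferInstance, ?_⟩
  let evb : ResidueField B →+* K := Ideal.Quotient.lift (maximalIdeal B) (ev : B →+* K) hker
  have hevb : Function.Bijective evb := by
    refine ⟨evb.injective, fun a => ?_⟩
    obtain ⟨b, rfl⟩ := hsurj a
    exact ⟨residue B b, rfl⟩
  let e₁ : ResidueField B ≃+* ResidueField (AdicCompletion (maximalIdeal B) B) :=
    RingEquiv.ofBijective
      (IsLocalRing.ResidueField.map (algebraMap B (AdicCompletion (maximalIdeal B) B)))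
      (AdicCompletion.residueField_map_bijective B)
  let e₂ : ResidueField B ≃+* K := RingEquiv.ofBijective evb hevb
  refine ⟨e₁.symm.trans e₂, fun a => ?_⟩
  have h1 : residue (AdicCompletion (maximalIdeal B) B)
      (algebraMap A (AdicCompletion (maximalIdeal B) B) a) = e₁ (residue B (algebraMap A B a)) := by
    rw [IsScalarTower.algebraMap_apply A B (AdicCompletion (maximalIdeal B) B)]
    rfl
  rw [h1, RingEquiv.trans_apply, RingEquiv.symm_apply_apply]
  change ev (algebraMap A B a) = _
  exact ev.commutes a

end Groth.Agent.H25.CohenDVR
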