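import Mathlib
import Groth.Prelude
import Groth.Agent.H25.NormalSep
import Groth.Agent.H29.HomComp

set_option maxHeartbeats 400000
set_option linter.style.haveILetI false
set_option linter.unusedVariables false
set_option linter.unusedSectionVars false

open TensorProduct

universe u

namespace Groth.Agent.H25.NormalHom

open Groth.Agent.H25.NormalElem Groth.Agent.H25.NormalSep

/-- For a field `L` over `B`, `L ⊗[B] C` is a field base change of a fibre of `B → C`. -/
theorem exists_fiber_field_equiv {B : Type u} [CommRing B] (C : Type u) [CommRing C] [Algebra B C]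
    (L : Type u) [Field L] [Algebra B L] :
    ∃ (q : Ideal B) (_ : q.IsPrime) (_ : Algebra q.ResidueField L),
      Nonempty (L ⊗[q.ResidueField] (q.Fiber C) ≃+* L ⊗[B] C) := by
  let q : Ideal B := RingHom.ker (algebraMap B L)
  haveI hq : q.IsPrime := RingHom.ker_isPrime _
  let φ : q.ResidueField →+* L := Ideal.ResidueField.lift q (algebraMap B L) le_rfl (by
    intro x hx
    simp only [Submonoid.mem_comap, IsUnit.mem_submonoid_iff]
    exact IsUnit.mk0 _ (fun h0 => hx (by simpa [q, RingHom.mem_ker] using h0)))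
  letI alg : Algebra q.ResidueField L := φ.toAlgebra
  haveI : IsScalarTower B q.ResidueField L := IsScalarTower.of_algebraMap_eq (fun x => by
    change algebraMap B L x = φ (algebraMap B q.ResidueField x)
    rw [Ideal.ResidueField.lift_algebraMap])
  refine ⟨q, hq, alg, ⟨?_⟩⟩
  exact (Algebra.TensorProduct.cancelBaseChange B q.ResidueField q.ResidueField L C).toRingEquiv

/-- If `B → C` has geometrically normal fibres, then `L ⊗[B] C` is normal for every field `L`
over `B`. -/
theorem isNormalRing_tensor_field {B : Type u} [CommRing B] (C : Type u) [CommRing C]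
    [Algebra B C]
    (hBC : ∀ (q : Ideal B) [q.IsPrime], EGA4.IsGeomNormal q.ResidueField (q.Fiber C))
    (L : Type u) [Field L] [Algebra B L] : EGA4.IsNormalRing (L ⊗[B] C) := by
  obtain ⟨q, hq, alg, ⟨e⟩⟩ := exists_fiber_field_equiv (B := B) C L
  haveI := hq
  letI := alg
  have h : EGA4.IsNormalRing (L ⊗[q.ResidueField] (q.Fiber C)) :=
    isNormalRing_tensor_of_forall_purelyInseparable' q.ResidueField (q.Fiber C)
      (fun k' _ _ hfin _ => hBC q k' hfin) L
  exact isNormalRing_of_ringEquiv e h

/-- EGA IV 6.14.1, Noetherian case: flat base change with normal geometric fibres preserves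
normality. -/
theorem isNormalRing_tensor_of_forall_field {B C : Type u} [CommRing B] [CommRing C] [Algebra B C]
    [Module.Flat B C]
    (hL : ∀ (L : Type u) [Field L] [Algebra B L], EGA4.IsNormalRing (L ⊗[B] C))
    (R : Type u) [CommRing R] [Algebra B R] [IsNoetherianRing R] (hR : EGA4.IsNormalRing R)
    [IsNoetherianRing (R ⊗[B] C)] : EGA4.IsNormalRing (R ⊗[B] C) := by
  have hfib : ∀ (Q : Ideal R) [Q.IsPrime], EGA4.IsNormalRing (Q.Fiber (R ⊗[B] C)) := by
    intro Q _
    have := hL Q.ResidueField
    exact isNormalRing_of_ringEquiv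
      (Algebra.TensorProduct.cancelBaseChange B R R Q.ResidueField C).toRingEquiv.symm this
  intro 𝔔 h𝔔
  obtain ⟨hd, hic⟩ := hR (𝔔.comap (algebraMap R (R ⊗[B] C)))
  haveI := hd
  haveI := hic
  exact Groth.Agent.H15.FlatLoc.normal_of_flat R (R ⊗[B] C)
    (fun q _ => Groth.Agent.H29.HomComp.normal_fibLocRing hfib q) 𝔔

theorem isNormalRing_tensor_of_geomNormalFibres {B C : Type u} [CommRing B] [CommRing C]
    [Algebra B C] [Module.Flat B C]
    (hBC : ∀ (q : Ideal B) [q.IsPrime], EGA4.IsGeomNormal q.ResidueField (q.Fiber C))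
    (R : Type u) [CommRing R] [Algebra B R] [IsNoetherianRing R] (hR : EGA4.IsNormalRing R)
    [IsNoetherianRing (R ⊗[B] C)] : EGA4.IsNormalRing (R ⊗[B] C) :=
  isNormalRing_tensor_of_forall_field (fun L _ _ => isNormalRing_tensor_field C hBC L) R hR

/-- S2693, first part. -/
theorem isNormalRing_tensor_of_isGeomNormal (k S T : Type u) [Field k] [CommRing S] [CommRing T]
    [Algebra k S] [Algebra k T] [IsNoetherianRing S] [IsNoetherianRing (S ⊗[k] T)]
    (hS : EGA4.IsNormalRing S) (hT : EGA4.IsGeomNormal k T) : EGA4.IsNormalRing (S ⊗[k] T) :=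
  isNormalRing_tensor_of_forall_field (B := k) (C := T)
    (fun L _ _ => isNormalRing_tensor_of_forall_purelyInseparable' k T
      (fun k' _ _ hfin _ => hT k' hfin) L) S hS

/-- S2693, second part. -/
theorem isGeomNormal_tensor (k S T : Type u) [Field k] [CommRing S] [CommRing T]
    [Algebra k S] [Algebra k T] [IsNoetherianRing S] [IsNoetherianRing (S ⊗[k] T)]
    (hS : EGA4.IsGeomNormal k S) (hT : EGA4.IsGeomNormal k T) :
    EGA4.IsGeomNormal k (S ⊗[k] T) := by
  intro k' _ _ hfin
  haveI := hfin
  haveI : IsNoetherianRing (S ⊗[k] k') := Algebra.FiniteType.isNoetherianRing S (S ⊗[k] k')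
  haveI : IsNoetherianRing (k' ⊗[k] S) :=
    isNoetherianRing_of_ringEquiv (S ⊗[k] k') (Algebra.TensorProduct.comm k S k').toRingEquiv
  haveI : IsNoetherianRing ((S ⊗[k] T) ⊗[k] k') :=
    Algebra.FiniteType.isNoetherianRing (S ⊗[k] T) ((S ⊗[k] T) ⊗[k] k')
  haveI : IsNoetherianRing ((k' ⊗[k] S) ⊗[k] T) :=
    isNoetherianRing_of_ringEquiv ((S ⊗[k] T) ⊗[k] k')
      ((Algebra.TensorProduct.comm k (S ⊗[k] T) k').toRingEquiv.trans
        (Algebra.TensorProduct.assoc k k k k' S T).symm.toRingEquiv)
  have h := isNormalRing_tensor_of_isGeomNormal k (k' ⊗[k] S) T (hS k' hfin) hT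
  exact isNormalRing_of_ringEquiv (Algebra.TensorProduct.assoc k k k k' S T).toRingEquiv h

end Groth.Agent.H25.NormalHom
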