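import Mathlib
import Groth.Prelude

set_option maxHeartbeats 400000
set_option linter.style.haveILetI false
set_option linter.unusedVariables false
set_option linter.unusedSectionVars false

open TensorProduct

universe u

namespace Groth.Agent.H25.TensorFieldsAss

theorem isDomain_of_ringEquiv {A B : Type*} [CommRing A] [CommRing B] (e : A ≃+* B)
    [IsDomain B] : IsDomain A :=
  Function.Injective.isDomain e.toRingHom e.injective

/-- A flat integral algebra over a domain has no embedded associated primes. -/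
theorem associatedPrimes_subset_minimalPrimes_of_flat_integral (D R : Type*) [CommRing D]
    [IsDomain D] [CommRing R] [Algebra D R] [Module.Flat D R] [Algebra.IsIntegral D R] :
    associatedPrimes R R ⊆ minimalPrimes R := by
  intro P hP
  haveI hPprime : P.IsPrime := hP.1
  obtain ⟨r, hr⟩ := hP.2
  have hbot : P.comap (algebraMap D R) = ⊥ := by
    rw [eq_bot_iff]
    intro d hd
    rw [Ideal.mem_bot]
    by_contra hd0
    rw [Ideal.mem_comap, hr, Ideal.mem_radical_iff] at hd
    obtain ⟨n, hn⟩ := hd
    rw [Submodule.mem_colon_singleton, Submodule.mem_bot, ← map_pow] at hn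
    have hreg : IsSMulRegular R (d ^ n) :=
      Module.Flat.isSMulRegular_of_nonZeroDivisors
        (mem_nonZeroDivisors_of_ne_zero (pow_ne_zero n hd0))
    have h2 : (d ^ n) • r = (d ^ n) • (0 : R) := by
      rw [Algebra.smul_def, smul_zero]
      exact hn
    have hr0 : r = 0 := hreg h2
    apply hPprime.ne_top
    rw [Ideal.eq_top_iff_one, hr, Ideal.mem_radical_iff]
    refine ⟨1, ?_⟩
    rw [Submodule.mem_colon_singleton, Submodule.mem_bot, hr0, smul_zero]
  refine ⟨⟨hPprime, bot_le⟩, ?_⟩
  rintro Q ⟨hQprime, -⟩ hQP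
  by_contra hne
  have hlt : Q < P := lt_of_le_of_ne hQP (fun h => hne (h ▸ le_rfl))
  haveI := hQprime
  have h3 := Ideal.IsIntegral.comap_lt_comap (R := D) hlt
  rw [hbot] at h3
  exact not_lt_bot h3

/-- The tensor product of a purely transcendental extension with any field extension is a
domain. -/
theorem isDomain_fractionRing_mvPolynomial_tensor (k L : Type u) [Field k] [Field L]
    [Algebra k L] (ι : Type u) :
    IsDomain (FractionRing (MvPolynomial ι k) ⊗[k] L) := by
  let θ : MvPolynomial ι k ⊗[k] L ≃+* MvPolynomial ι L :=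
    (Algebra.TensorProduct.comm k (MvPolynomial ι k) L).toRingEquiv.trans
      (MvPolynomial.algebraTensorAlgEquiv k L).toRingEquiv
  haveI hE : IsDomain (MvPolynomial ι k ⊗[k] L) :=
    isDomain_of_ringEquiv (A := MvPolynomial ι k ⊗[k] L) (B := MvPolynomial ι L) θ
  have hθ : ∀ p : MvPolynomial ι k, θ (p ⊗ₜ[k] (1 : L)) = MvPolynomial.map (algebraMap k L) p := by
    intro p
    show (MvPolynomial.algebraTensorAlgEquiv k L)
      ((Algebra.TensorProduct.comm k (MvPolynomial ι k) L) (p ⊗ₜ[k] (1 : L))) = _
    rw [Algebra.TensorProduct.comm_tmul, MvPolynomial.algebraTensorAlgEquiv_tmul, one_smul]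
  have hM : Algebra.algebraMapSubmonoid (MvPolynomial ι k ⊗[k] L)
      (nonZeroDivisors (MvPolynomial ι k)) ≤ nonZeroDivisors (MvPolynomial ι k ⊗[k] L) := by
    rintro _ ⟨p, hp, rfl⟩
    apply mem_nonZeroDivisors_of_ne_zero
    intro h0
    have hp0 : p ≠ 0 := nonZeroDivisors.ne_zero hp
    apply hp0
    have h1 : θ (algebraMap (MvPolynomial ι k) (MvPolynomial ι k ⊗[k] L) p) = 0 := by
      rw [h0, map_zero]
    rw [Algebra.TensorProduct.algebraMap_apply, Algebra.algebraMap_self_apply, hθ] at h1
    exact MvPolynomial.map_injective _ (algebraMap k L).injective (by rw [h1, map_zero])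
  haveI : IsDomain ((MvPolynomial ι k ⊗[k] L) ⊗[MvPolynomial ι k]
      FractionRing (MvPolynomial ι k)) :=
    IsLocalization.isDomain_of_le_nonZeroDivisors (R := MvPolynomial ι k ⊗[k] L)
      ((MvPolynomial ι k ⊗[k] L) ⊗[MvPolynomial ι k] FractionRing (MvPolynomial ι k))
      (M := Algebra.algebraMapSubmonoid (MvPolynomial ι k ⊗[k] L)
        (nonZeroDivisors (MvPolynomial ι k))) hM
  let e : (MvPolynomial ι k ⊗[k] L) ⊗[MvPolynomial ι k] FractionRing (MvPolynomial ι k) ≃+*
      FractionRing (MvPolynomial ι k) ⊗[k] L :=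
    ((Algebra.TensorProduct.comm (MvPolynomial ι k) (MvPolynomial ι k ⊗[k] L)
        (FractionRing (MvPolynomial ι k))).trans
      (Algebra.TensorProduct.cancelBaseChange k (MvPolynomial ι k) (MvPolynomial ι k)
        (FractionRing (MvPolynomial ι k)) L)).toRingEquiv
  exact isDomain_of_ringEquiv (A := FractionRing (MvPolynomial ι k) ⊗[k] L)
    (B := (MvPolynomial ι k ⊗[k] L) ⊗[MvPolynomial ι k] FractionRing (MvPolynomial ι k)) e.symm

/-- If `K/F` is algebraic and `F ⊗[k] L` is a domain then `K ⊗[k] L` has no embedded primes. -/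
theorem associatedPrimes_tensor_of_isDomain (k F K L : Type u) [Field k] [Field F] [Field K]
    [Field L] [Algebra k F] [Algebra F K] [Algebra k K] [IsScalarTower k F K] [Algebra k L]
    [Algebra.IsAlgebraic F K] (hD : IsDomain (F ⊗[k] L)) :
    associatedPrimes (K ⊗[k] L) (K ⊗[k] L) ⊆ minimalPrimes (K ⊗[k] L) := by
  haveI : Algebra.IsIntegral F K := Algebra.IsAlgebraic.isIntegral
  let e : (F ⊗[k] L) ⊗[F] K ≃+* K ⊗[k] L :=
    ((Algebra.TensorProduct.comm F (F ⊗[k] L) K).trans
      (Algebra.TensorProduct.cancelBaseChange k F F K L)).toRingEquiv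
  have key := associatedPrimes_subset_minimalPrimes_of_flat_integral
    (F ⊗[k] L) ((F ⊗[k] L) ⊗[F] K)
  intro P hP
  haveI hPprime : P.IsPrime := hP.1
  obtain ⟨r, hr⟩ := hP.2
  have hP' : P.comap e.toRingHom ∈ associatedPrimes ((F ⊗[k] L) ⊗[F] K) ((F ⊗[k] L) ⊗[F] K) := by
    refine ⟨Ideal.comap_isPrime _ _, e.symm r, ?_⟩
    ext a
    rw [Ideal.mem_comap, hr, Ideal.mem_radical_iff, Ideal.mem_radical_iff]
    apply exists_congr
    intro n
    rw [Submodule.mem_colon_singleton, Submodule.mem_colon_singleton, Submodule.mem_bot,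
      Submodule.mem_bot, smul_eq_mul, smul_eq_mul]
    show (e a) ^ n * r = 0 ↔ a ^ n * e.symm r = 0
    constructor
    · intro h
      apply e.injective
      rw [map_mul, map_pow, RingEquiv.apply_symm_apply, h, map_zero]
    · intro h
      have := congrArg e h
      rwa [map_mul, map_pow, RingEquiv.apply_symm_apply, map_zero] at this
  have hmin := key hP'
  refine ⟨⟨hPprime, bot_le⟩, ?_⟩
  rintro Q ⟨hQprime, -⟩ hQP
  haveI := hQprime
  have h1 : P.comap e.toRingHom ≤ Q.comap e.toRingHom :=
    hmin.2 ⟨Ideal.comap_isPrime _ _, bot_le⟩ (Ideal.comap_mono hQP)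
  intro a ha
  have h2 : e.symm a ∈ P.comap e.toRingHom := by
    rw [Ideal.mem_comap]
    show e (e.symm a) ∈ P
    rw [RingEquiv.apply_symm_apply]
    exact ha
  have h3 := h1 h2
  rw [Ideal.mem_comap] at h3
  have h4 : e (e.symm a) ∈ Q := h3
  rwa [RingEquiv.apply_symm_apply] at h4

/-- S2512: the tensor product of two field extensions has no embedded associated primes. -/
theorem associatedPrimes_tensor_fields (k K L : Type u) [Field k] [Field K] [Field L]
    [Algebra k K] [Algebra k L] :
    associatedPrimes (K ⊗[k] L) (K ⊗[k] L) ⊆ minimalPrimes (K ⊗[k] L) := by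
  obtain ⟨ι, x, hx⟩ := exists_isTranscendenceBasis' k K
  haveI halg : Algebra.IsAlgebraic (IntermediateField.adjoin k (Set.range x)) K :=
    hx.isAlgebraic_field
  have hD : IsDomain ((IntermediateField.adjoin k (Set.range x)) ⊗[k] L) := by
    haveI := isDomain_fractionRing_mvPolynomial_tensor k L ι
    let ψ : (IntermediateField.adjoin k (Set.range x)) ⊗[k] L ≃ₐ[k]
        FractionRing (MvPolynomial ι k) ⊗[k] L :=
      Algebra.TensorProduct.congr hx.1.aevalEquivField.symm AlgEquiv.refl
    exact isDomain_of_ringEquiv (A := (IntermediateField.adjoin k (Set.range x)) ⊗[k] L)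
      (B := FractionRing (MvPolynomial ι k) ⊗[k] L) ψ.toRingEquiv
  exact associatedPrimes_tensor_of_isDomain k (IntermediateField.adjoin k (Set.range x)) K L hD

end Groth.Agent.H25.TensorFieldsAss
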