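import Mathlib
set_option autoImplicit false
universe u

/-! (T2) for helper13's S13109 squad: for a minimal prime `p` over an ideal `I` of a Noetherian
ring, there are `u ∉ p` and `M` with `u * p ^ M ⊆ I`. -/

namespace Groth.Agent.H25.SN_T2

theorem exists_notMem_mul_pow_le {A : Type u} [CommRing A] [IsNoetherianRing A] (I p : Ideal A)
    (hp : p ∈ I.minimalPrimes) : ∃ (u : A) (M : ℕ), u ∉ p ∧ ∀ a ∈ p ^ M, u * a ∈ I := by
  classical
  have hpprime : p.IsPrime := hp.1.1
  have hfin : I.minimalPrimes.Finite := Ideal.finite_minimalPrimes_of_isNoetherianRing A I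
  have hex : ∀ q : Ideal A, ∃ uq : A, uq ∉ p ∧ (q ∈ I.minimalPrimes → q ≠ p → uq ∈ q) := by
    intro q
    by_cases hq : q ∈ I.minimalPrimes ∧ q ≠ p
    · have hnle : ¬ q ≤ p := by
        intro hle
        have hpq : p ≤ q := hp.2 hq.1.1 hle
        exact hq.2 (le_antisymm hle hpq)
      obtain ⟨uq, huq, hup⟩ := SetLike.not_le_iff_exists.mp hnle
      exact ⟨uq, hup, fun _ _ => huq⟩
    · refine ⟨1, ?_, fun h1 h2 => absurd ⟨h1, h2⟩ hq⟩
      exact fun h => hpprime.ne_top ((Ideal.eq_top_iff_one _).mpr h)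
  choose uq huqp huqq using hex
  set u : A := ∏ q ∈ hfin.toFinset, uq q with hu
  have hup : u ∉ p := by
    haveI := hpprime
    rw [hu, Ideal.IsPrime.prod_mem_iff]
    rintro ⟨q, -, hq⟩
    exact huqp q hq
  have hrad : ∀ a ∈ p, u * a ∈ I.radical := by
    intro a ha
    rw [← Ideal.sInf_minimalPrimes, Ideal.mem_sInf]
    intro q hq
    by_cases hqp : q = p
    · subst hqp; exact Ideal.mul_mem_left _ _ ha
    · apply Ideal.mul_mem_right
      have hdvd : uq q ∣ u := Finset.dvd_prod_of_mem _ (hfin.mem_toFinset.mpr hq)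
      exact Ideal.mem_of_dvd _ hdvd (huqq q hq hqp)
  obtain ⟨M, hM⟩ := Ideal.exists_radical_pow_le_of_fg I (IsNoetherian.noetherian _)
  refine ⟨u ^ M, M, fun h => hup (hpprime.mem_of_pow_mem M h), ?_⟩
  intro a ha
  have hle : Ideal.span {u} * p ≤ I.radical := by
    rw [Ideal.span_singleton_mul_le_iff]
    exact hrad
  have h1 : u ^ M * a ∈ (Ideal.span {u} * p) ^ M := by
    rw [mul_pow, Ideal.span_singleton_pow]
    exact Ideal.mul_mem_mul (Ideal.mem_span_singleton_self _) ha
  exact hM (Ideal.pow_right_mono hle M h1)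

end Groth.Agent.H25.SN_T2
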