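import Mathlib
import Groth.Agent.H25.GeomRedFin

set_option maxHeartbeats 400000
set_option linter.style.haveILetI false
set_option linter.unusedVariables false
set_option linter.unusedSectionVars false

open TensorProduct

universe u v w

namespace Groth.Agent.H25.GeomRed

open Groth.Agent.H25.GeomIrr Groth.Agent.H25.GeomDomain Groth.Agent.H25.GeomConn

/-- A commutative ring with a maximal ideal which is finitely generated and nilpotent is
Artinian. -/
theorem isArtinianRing_of_maximal_fg_nilpotent {T : Type*} [CommRing T] (J : Ideal T)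
    (hJ : J.IsMaximal) (hfg : J.FG) (hnil : IsNilpotent J) : IsArtinianRing T := by
  have hle : ∀ m : Ideal T, m.IsMaximal → J ≤ m := by
    intro m hm
    obtain ⟨n, hn⟩ := hnil
    exact hm.isPrime.le_of_pow_le (n := n) (by rw [hn]; exact bot_le)
  haveI : IsLocalRing T := IsLocalRing.of_unique_max_ideal
    ⟨J, hJ, fun m hm => (hJ.eq_of_le hm.ne_top (hle m hm)).symm⟩
  have hJeq : Ring.jacobson T = J :=
    (IsLocalRing.ringJacobson_eq_maximalIdeal T).trans (IsLocalRing.eq_maximalIdeal hJ).symm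
  haveI : (Ring.jacobson T).IsMaximal := hJeq ▸ hJ
  haveI : IsSemiprimaryRing T :=
    ⟨by letI := Ideal.Quotient.field (Ring.jacobson T); infer_instance, hJeq ▸ hnil⟩
  haveI : IsNoetherianRing T := IsSemiprimaryRing.isNoetherianRing_iff_jacobson_fg.mpr (hJeq ▸ hfg)
  exact IsSemiprimaryRing.isNoetherian_iff_isArtinian.mp inferInstance

/-- In `E ⊗ R` with `E/k` purely inseparable, an element whose powers land in `1 ⊗ R` . -/
theorem exists_pow_eq_one_tmul {k E R : Type*} [Field k] [Field E] [Algebra k E]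
    [IsPurelyInseparable k E] [CommRing R] [Algebra k R] [Nontrivial (E ⊗[k] R)]
    (z : E ⊗[k] R) : ∃ (n : ℕ) (r : R), 0 < n ∧ z ^ n = (1 : E) ⊗ₜ[k] r := by
  obtain ⟨q, hq⟩ := ExpChar.exists k
  haveI := hq
  obtain ⟨n, a, ha⟩ := pow_mem_range_of_isPurelyInseparable (k := k) (F := k) (E := E) (R := R)
    q z
  have ha' : Algebra.TensorProduct.map (IsScalarTower.toAlgHom k k E) (AlgHom.id k R) a =
      z ^ q ^ n := ha
  obtain ⟨c, hc⟩ : ∃ c : R, a = (1 : k) ⊗ₜ[k] c :=
    ⟨Algebra.TensorProduct.lid k R a, by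
      rw [← Algebra.TensorProduct.lid_symm_apply, AlgEquiv.symm_apply_apply]⟩
  refine ⟨q ^ n, c, pow_pos (expChar_pos k q) n, ?_⟩
  rw [← ha', hc, Algebra.TensorProduct.map_tmul, map_one, AlgHom.id_apply]

/-- If every nonzero element of `R` is a unit-or-nilpotent..., the same holds in `E ⊗ R`. -/
theorem isNilpotent_or_isUnit_tensor {k E R : Type*} [Field k] [Field E] [Algebra k E]
    [IsPurelyInseparable k E] [CommRing R] [Algebra k R] [Nontrivial (E ⊗[k] R)]
    (hR : ∀ r : R, IsNilpotent r ∨ IsUnit r) (z : E ⊗[k] R) : IsNilpotent z ∨ IsUnit z := by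
  obtain ⟨n, r, hn, hz⟩ := exists_pow_eq_one_tmul (k := k) z
  rcases hR r with h | h
  · left
    have : IsNilpotent (z ^ n) := by
      rw [hz]
      exact h.map (Algebra.TensorProduct.includeRight : R →ₐ[k] E ⊗[k] R)
    exact this.of_pow
  · right
    have : IsUnit (z ^ n) := by
      rw [hz]
      exact h.map (Algebra.TensorProduct.includeRight : R →ₐ[k] E ⊗[k] R)
    exact (isUnit_pow_iff hn.ne').mp this

theorem isArtinianRing_tensor_of_geomReduced {k k' K P : Type u} [Field k] [Field k'] [Field K]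
    [Field P] [Algebra k k'] [Algebra k K] [Algebra k P] [Algebra k' P] [IsScalarTower k k' P]
    [Module.Finite k k'] [IsPurelyInseparable k k'] [IsPurelyInseparable k' P]
    (hgr : Algebra.IsGeometricallyReduced k' ((k' ⊗[k] K) ⧸ nilradical (k' ⊗[k] K))) :
    IsArtinianRing (P ⊗[k'] (k' ⊗[k] K)) := by
  haveI : Algebra.IsIntegral k' P := IsPurelyInseparable.isIntegral
  haveI : Algebra.IsAlgebraic k' P := inferInstance
  haveI hR'nt : Nontrivial (k' ⊗[k] K) :=
    (Algebra.TensorProduct.includeLeft_injective (R := k) (S := k) (A := k') (B := K)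
      (algebraMap k K).injective).nontrivial
  haveI : IsNoetherianRing (K ⊗[k] k') := Algebra.FiniteType.isNoetherianRing K (K ⊗[k] k')
  haveI : IsNoetherianRing (k' ⊗[k] K) :=
    isNoetherianRing_of_ringEquiv (K ⊗[k] k') (Algebra.TensorProduct.comm k K k').toRingEquiv
  have hI'fg : (nilradical (k' ⊗[k] K)).FG := IsNoetherian.noetherian _
  have hI'nil : IsNilpotent (nilradical (k' ⊗[k] K)) :=
    IsNoetherianRing.isNilpotent_nilradical (k' ⊗[k] K)
  have hR' : ∀ x : k' ⊗[k] K, IsNilpotent x ∨ IsUnit x :=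
    isNilpotent_or_isUnit_tensor (k := k) (fun r => by
      by_cases h : r = 0
      · left; rw [h]; exact IsNilpotent.zero
      · right; exact isUnit_iff_ne_zero.mpr h)
  have hI'ne : nilradical (k' ⊗[k] K) ≠ ⊤ := by
    intro h
    have h1 : (1 : k' ⊗[k] K) ∈ nilradical (k' ⊗[k] K) := h ▸ Submodule.mem_top
    obtain ⟨n, hn⟩ := mem_nilradical.mp h1
    rw [one_pow] at hn
    exact one_ne_zero hn
  haveI : Nontrivial ((k' ⊗[k] K) ⧸ nilradical (k' ⊗[k] K)) := Ideal.Quotient.nontrivial_iff.mpr hI'ne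
  have hB : ∀ b : (k' ⊗[k] K) ⧸ nilradical (k' ⊗[k] K), IsNilpotent b ∨ IsUnit b := by
    intro b
    obtain ⟨x, rfl⟩ := Ideal.Quotient.mk_surjective b
    rcases hR' x with h | h
    · left; exact h.map _
    · right; exact h.map _
  haveI := hgr
  haveI hMred : IsReduced (P ⊗[k'] ((k' ⊗[k] K) ⧸ nilradical (k' ⊗[k] K))) := inferInstance
  haveI hMnt : Nontrivial (P ⊗[k'] ((k' ⊗[k] K) ⧸ nilradical (k' ⊗[k] K))) :=
    (Algebra.TensorProduct.includeRight_injective (R := k') (A := P)
      (B := (k' ⊗[k] K) ⧸ nilradical (k' ⊗[k] K)) (algebraMap k' P).injective).nontrivial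
  have hMunit : ∀ z : P ⊗[k'] ((k' ⊗[k] K) ⧸ nilradical (k' ⊗[k] K)), z ≠ 0 → IsUnit z := by
    intro z hz
    rcases isNilpotent_or_isUnit_tensor (k := k') (E := P) hB z with h | h
    · exact absurd h.eq_zero hz
    · exact h
  let μ : P ⊗[k'] (k' ⊗[k] K) →ₐ[k'] P ⊗[k'] ((k' ⊗[k] K) ⧸ nilradical (k' ⊗[k] K)) :=
    Algebra.TensorProduct.map (AlgHom.id k' P)
      (Ideal.Quotient.mkₐ k' (nilradical (k' ⊗[k] K)))
  have hμsurj : Function.Surjective μ := by
    intro z
    induction z using TensorProduct.induction_on with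
    | zero => exact ⟨0, map_zero _⟩
    | tmul p b =>
      obtain ⟨x, rfl⟩ := Ideal.Quotient.mk_surjective b
      exact ⟨p ⊗ₜ[k'] x, rfl⟩
    | add z1 z2 h1 h2 =>
      obtain ⟨y1, rfl⟩ := h1
      obtain ⟨y2, rfl⟩ := h2
      exact ⟨y1 + y2, map_add _ _ _⟩
  have hJker : RingHom.ker μ = (nilradical (k' ⊗[k] K)).map
      (Algebra.TensorProduct.includeRight : (k' ⊗[k] K) →ₐ[k'] P ⊗[k'] (k' ⊗[k] K)) := by
    have hk : RingHom.ker (Ideal.Quotient.mkₐ k' (nilradical (k' ⊗[k] K))) =
        nilradical (k' ⊗[k] K) := by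
      ext x; exact Ideal.Quotient.eq_zero_iff_mem
    rw [Algebra.TensorProduct.lTensor_ker _
      (Ideal.Quotient.mkₐ_surjective k' (nilradical (k' ⊗[k] K))), hk]
  have hJfg : (RingHom.ker μ).FG := by
    rw [hJker]
    exact Ideal.FG.map hI'fg _
  have hJnil : IsNilpotent (RingHom.ker μ) := by
    rw [hJker]
    obtain ⟨n, hn⟩ := hI'nil
    refine ⟨n, ?_⟩
    rw [← Ideal.map_pow, hn, Ideal.zero_eq_bot, Ideal.map_bot]
    rfl
  have hJmax : (RingHom.ker μ).IsMaximal := by
    refine Ideal.isMaximal_iff.mpr ⟨?_, ?_⟩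
    · intro h1
      have : μ 1 = 0 := h1
      rw [map_one] at this
      exact one_ne_zero this
    · intro J' x hle hx hxJ'
      have hμx : μ x ≠ 0 := hx
      obtain ⟨w, hw⟩ := (hMunit _ hμx).exists_right_inv
      obtain ⟨y, rfl⟩ := hμsurj w
      have h2 : x * y - 1 ∈ RingHom.ker μ := by
        rw [RingHom.mem_ker, map_sub, map_mul, hw, map_one, sub_self]
      have h3 : x * y ∈ J' := J'.mul_mem_right _ hxJ'
      have h4 := J'.sub_mem h3 (hle h2)
      rwa [sub_sub_cancel] at h4
  exact isArtinianRing_of_maximal_fg_nilpotent _ hJmax hJfg hJnil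

/-- S5061 -/
theorem isArtinianRing_tensor_perfectClosure_iff (p : ℕ) [Fact p.Prime]
    (k K : Type u) [Field k] [CharP k p] [Field K] [Algebra k K]
    (P : Type u) [Field P] [Algebra k P] [PerfectRing P p] [IsPRadical (algebraMap k P) p] :
    IsArtinianRing (K ⊗[k] P) ↔
      ∃ (k' : Type u) (_ : Field k') (_ : Algebra k k'), Module.Finite k k' ∧
        IsPurelyInseparable k k' ∧
        Algebra.IsGeometricallyReduced k' ((k' ⊗[k] K) ⧸ nilradical (k' ⊗[k] K)) := by
  haveI : ExpChar k p := inferInstance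
  haveI : ExpChar P p := expChar_of_injective_algebraMap (algebraMap k P).injective p
  haveI : PerfectField P := PerfectRing.toPerfectField P p
  haveI : IsPurelyInseparable k P := IsPRadical.isPurelyInseparable k P p
  constructor
  · intro h
    haveI : IsArtinianRing (P ⊗[k] K) :=
      (Algebra.TensorProduct.comm k K P).toRingEquiv.isArtinianRing
    have hfg : (nilradical (P ⊗[k] K)).FG := IsNoetherian.noetherian _
    exact exists_finite_purelyInseparable_geomReduced K P hfg
  · rintro ⟨k', _, _, hfin, hpi, hgr⟩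
    haveI := hfin
    haveI := hpi
    obtain ⟨ι⟩ := exists_algHom_of_purelyInseparable k P k'
    letI : Algebra k' P := ι.toRingHom.toAlgebra
    haveI : IsScalarTower k k' P := IsScalarTower.of_algebraMap_eq (fun x => (ι.commutes x).symm)
    haveI : IsPurelyInseparable k' P := IsPurelyInseparable.tower_top k k' P
    haveI : IsArtinianRing (P ⊗[k'] (k' ⊗[k] K)) := isArtinianRing_tensor_of_geomReduced hgr
    haveI : IsArtinianRing (P ⊗[k] K) :=
      (Algebra.TensorProduct.cancelBaseChange k k' k' P K).toRingEquiv.isArtinianRing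
    exact (Algebra.TensorProduct.comm k P K).toRingEquiv.isArtinianRing

end Groth.Agent.H25.GeomRed
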