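import Mathlib
import Groth.Prelude
import Groth.Agent.H25.TensorFieldsAss

set_option maxHeartbeats 400000
set_option linter.style.haveILetI false
set_option linter.unusedVariables false
set_option linter.unusedSectionVars false

open TensorProduct

universe u

namespace Groth.Agent.H25.AssLoc

/-- "No embedded primes" is invariant under ring isomorphisms. -/
theorem ass_subset_min_of_ringEquiv {R S : Type*} [CommRing R] [CommRing S] (e : R ≃+* S)
    (h : associatedPrimes S S ⊆ minimalPrimes S) : associatedPrimes R R ⊆ minimalPrimes R := by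
  intro P hP
  haveI hPprime : P.IsPrime := hP.1
  obtain ⟨r, hr⟩ := hP.2
  have hP' : P.comap e.symm.toRingHom ∈ associatedPrimes S S := by
    refine ⟨Ideal.comap_isPrime _ _, e r, ?_⟩
    ext a
    rw [Ideal.mem_comap, hr, Ideal.mem_radical_iff, Ideal.mem_radical_iff]
    apply exists_congr
    intro n
    rw [Submodule.mem_colon_singleton, Submodule.mem_colon_singleton, Submodule.mem_bot,
      Submodule.mem_bot, smul_eq_mul, smul_eq_mul]
    show (e.symm a) ^ n * r = 0 ↔ a ^ n * e r = 0
    constructor
    · intro h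
      have := congrArg e h
      rwa [map_mul, map_pow, RingEquiv.apply_symm_apply, map_zero] at this
    · intro h
      apply e.injective
      rw [map_mul, map_pow, RingEquiv.apply_symm_apply, h, map_zero]
  have hmin := h hP'
  refine ⟨⟨hPprime, bot_le⟩, ?_⟩
  rintro Q ⟨hQprime, -⟩ hQP
  haveI := hQprime
  have h1 : P.comap e.symm.toRingHom ≤ Q.comap e.symm.toRingHom :=
    hmin.2 ⟨Ideal.comap_isPrime _ _, bot_le⟩ (Ideal.comap_mono hQP)
  intro a ha
  have h2 : e a ∈ P.comap e.symm.toRingHom := by
    rw [Ideal.mem_comap]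
    show e.symm (e a) ∈ P
    rw [RingEquiv.symm_apply_apply]
    exact ha
  have h3 := h1 h2
  rw [Ideal.mem_comap] at h3
  have h4 : e.symm (e a) ∈ Q := h3
  rwa [RingEquiv.symm_apply_apply] at h4

/-- Associated primes consist of zero divisors: they are disjoint from any submonoid of
non-zero-divisors. -/
theorem disjoint_of_mem_associatedPrimes {R : Type*} [CommRing R] (M : Submonoid R)
    (hM : M ≤ nonZeroDivisors R) {P : Ideal R} (hP : P ∈ associatedPrimes R R) :
    Disjoint (M : Set R) (P : Set R) := by
  haveI hPprime : P.IsPrime := hP.1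
  obtain ⟨r, hr⟩ := hP.2
  rw [Set.disjoint_left]
  intro a haM haP
  have haP' : a ∈ P := haP
  rw [hr, Ideal.mem_radical_iff] at haP'
  obtain ⟨n, hn⟩ := haP'
  rw [Submodule.mem_colon_singleton, Submodule.mem_bot, smul_eq_mul] at hn
  have hnzd : a ^ n ∈ nonZeroDivisors R := pow_mem (hM haM) n
  have hr0 : r = 0 := (mul_left_mem_nonZeroDivisors_eq_zero_iff hnzd).mp hn
  apply hPprime.ne_top
  rw [Ideal.eq_top_iff_one, hr, Ideal.mem_radical_iff]
  refine ⟨1, ?_⟩
  rw [Submodule.mem_colon_singleton, Submodule.mem_bot, hr0, smul_zero]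

/-- If a localization at non-zero-divisors has no embedded primes, neither has the ring. -/
theorem ass_subset_min_of_isLocalization {R T : Type*} [CommRing R] [CommRing T] [Algebra R T]
    (M : Submonoid R) [IsLocalization M T] (hM : M ≤ nonZeroDivisors R)
    (h : associatedPrimes T T ⊆ minimalPrimes T) : associatedPrimes R R ⊆ minimalPrimes R := by
  intro P hP
  haveI hPprime : P.IsPrime := hP.1
  have hdisj := disjoint_of_mem_associatedPrimes M hM hP
  have hP'prime : (P.map (algebraMap R T)).IsPrime :=
    IsLocalization.isPrime_of_isPrime_disjoint M T P hPprime hdisj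
  have hcomap : (P.map (algebraMap R T)).comap (algebraMap R T) = P :=
    IsLocalization.under_map_of_isPrime_disjoint M T hPprime hdisj
  have hP'ass : P.map (algebraMap R T) ∈ associatedPrimes T T := by
    apply Module.associatedPrimes.mem_associatedPrimes_of_comap_mem_associatedPrimes_of_isLocalizedModule
      M (Algebra.linearMap R T)
    rw [hcomap]
    exact hP
  have hmin := h hP'ass
  refine ⟨⟨hPprime, bot_le⟩, ?_⟩
  rintro Q ⟨hQprime, -⟩ hQP
  have hQdisj : Disjoint (M : Set R) (Q : Set R) :=
    Set.disjoint_left.mpr (fun a haM haQ => Set.disjoint_left.mp hdisj haM (hQP haQ))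
  have hQ'prime := IsLocalization.isPrime_of_isPrime_disjoint M T Q hQprime hQdisj
  have hQcomap : (Q.map (algebraMap R T)).comap (algebraMap R T) = Q :=
    IsLocalization.under_map_of_isPrime_disjoint M T hQprime hQdisj
  have h1 : P.map (algebraMap R T) ≤ Q.map (algebraMap R T) :=
    hmin.2 ⟨hQ'prime, bot_le⟩ (Ideal.map_mono hQP)
  have h2 := Ideal.comap_mono (f := algebraMap R T) h1
  rw [hcomap, hQcomap] at h2
  exact h2

/-- Passing from `Frac A ⊗ C` to `A ⊗ C`. -/
theorem ass_subset_min_tensor_of_fractionRing (k A C : Type u) [Field k] [CommRing A] [IsDomain A]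
    [Algebra k A] [CommRing C] [Algebra k C]
    (h : associatedPrimes (FractionRing A ⊗[k] C) (FractionRing A ⊗[k] C) ⊆
      minimalPrimes (FractionRing A ⊗[k] C)) :
    associatedPrimes (A ⊗[k] C) (A ⊗[k] C) ⊆ minimalPrimes (A ⊗[k] C) := by
  let e : (A ⊗[k] C) ⊗[A] FractionRing A ≃+* FractionRing A ⊗[k] C :=
    ((Algebra.TensorProduct.comm A (A ⊗[k] C) (FractionRing A)).trans
      (Algebra.TensorProduct.cancelBaseChange k A A (FractionRing A) C)).toRingEquiv
  have hT : associatedPrimes ((A ⊗[k] C) ⊗[A] FractionRing A) ((A ⊗[k] C) ⊗[A] FractionRing A) ⊆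
      minimalPrimes ((A ⊗[k] C) ⊗[A] FractionRing A) :=
    ass_subset_min_of_ringEquiv e h
  have hM : Algebra.algebraMapSubmonoid (A ⊗[k] C) (nonZeroDivisors A) ≤
      nonZeroDivisors (A ⊗[k] C) := by
    rintro _ ⟨a, ha, rfl⟩
    have hreg : IsSMulRegular (A ⊗[k] C) a := Module.Flat.isSMulRegular_of_nonZeroDivisors ha
    rw [mem_nonZeroDivisors_iff_left]
    intro x hx
    have h2 : a • x = a • (0 : A ⊗[k] C) := by
      rw [Algebra.smul_def, smul_zero]
      exact hx
    exact hreg h2
  exact ass_subset_min_of_isLocalization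
    (Algebra.algebraMapSubmonoid (A ⊗[k] C) (nonZeroDivisors A)) hM hT

/-- EGA IV 4.2.x: the tensor product of two domains over a field has no embedded primes. -/
theorem ass_subset_min_tensor_domains (k A B : Type u) [Field k] [CommRing A] [IsDomain A]
    [Algebra k A] [CommRing B] [IsDomain B] [Algebra k B] :
    associatedPrimes (A ⊗[k] B) (A ⊗[k] B) ⊆ minimalPrimes (A ⊗[k] B) := by
  apply ass_subset_min_tensor_of_fractionRing k A B
  apply ass_subset_min_of_ringEquiv (Algebra.TensorProduct.comm k (FractionRing A) B).toRingEquiv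
  apply ass_subset_min_tensor_of_fractionRing k B (FractionRing A)
  exact Groth.Agent.H25.TensorFieldsAss.associatedPrimes_tensor_fields k (FractionRing B)
    (FractionRing A)

end Groth.Agent.H25.AssLoc
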