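import Mathlib
import Groth.Prelude
import Groth.Agent.H25.StalkBC
import Groth.Agent.H60.CMBC

set_option maxHeartbeats 400000
set_option linter.style.haveILetI false
set_option linter.unusedVariables false
set_option linter.unusedSectionVars false

open CategoryTheory CategoryTheory.Limits AlgebraicGeometry TensorProduct IsLocalRing

universe u

namespace Groth.Agent.H25.CMStalk

attribute [local instance] Curv2.stalkAlgebra

/-- Cohen–Macaulayness of a local ring of `X` versus the local ring of the base change at a point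
above, whenever `k'/k` or `O_{X,x}/k` is essentially of finite type. -/
theorem cm_stalk_iff_bc (k : Type u) [Field k] (X : Scheme.{u}) [X.Over (Spec (CommRingCat.of k))]
    (k' : Type u) [Field k'] [Algebra k k'] (x' : Curv2.bc k X k')
    [IsNoetherianRing (X.presheaf.stalk (Curv2.bcFst k X k' x'))]
    (hE : Algebra.EssFiniteType k k' ∨
      Algebra.EssFiniteType k (X.presheaf.stalk (Curv2.bcFst k X k' x'))) :
    LocCoh.IsCohenMacaulayLocalRing (X.presheaf.stalk (Curv2.bcFst k X k' x')) ↔
      LocCoh.IsCohenMacaulayLocalRing ((Curv2.bc k X k').presheaf.stalk x') := by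
  obtain ⟨Q, hQ, hQm, ⟨e⟩⟩ :=
    Groth.Agent.H25.StalkBC.exists_prime_ringEquiv_stalk_bc k X k' x' _ rfl
  have h := Groth.Agent.H60.CMBC.cm_loc_tensor_iff k k'
    (X.presheaf.stalk (Curv2.bcFst k X k' x')) hE Q hQm
  constructor
  · intro h1
    exact Groth.Agent.H29.FlatCM.isCM_ringEquiv e (h.mpr h1)
  · intro h1
    exact h.mp (Groth.Agent.H29.FlatCM.isCM_ringEquiv e.symm h1)

/-- Local rings of a scheme locally of finite type over a field are essentially of finite type. -/
theorem essFiniteType_stalk (k : Type u) [Field k] (X : Scheme.{u})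
    [X.Over (Spec (CommRingCat.of k))]
    [LocallyOfFiniteType (X ↘ (Spec (CommRingCat.of k)))] (x : X) :
    Algebra.EssFiniteType k (X.presheaf.stalk x) := by
  rw [← RingHom.essFiniteType_algebraMap]
  show (Curv2.stalkMap k X x).EssFiniteType
  have h3 : ((X ↘ Spec (CommRingCat.of k)).stalkMap x).hom.EssFiniteType :=
    LocallyOfFiniteType.stalkMap (X ↘ Spec (CommRingCat.of k)) x
  have h1 : ((Scheme.ΓSpecIso (CommRingCat.of k)).inv.hom).EssFiniteType := by
    apply RingHom.FiniteType.essFiniteType
    apply RingHom.FiniteType.of_surjective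
    exact (ConcreteCategory.bijective_of_isIso (Scheme.ΓSpecIso (CommRingCat.of k)).inv).2
  have h2 : ((Spec (CommRingCat.of k)).presheaf.germ ⊤
      ((X ↘ Spec (CommRingCat.of k)) x) trivial).hom.EssFiniteType := by
    letI := TopCat.Presheaf.algebra_section_stalk (Spec (CommRingCat.of k)).presheaf
      (⟨(X ↘ Spec (CommRingCat.of k)) x, trivial⟩ : (⊤ : (Spec (CommRingCat.of k)).Opens))
    haveI := (isAffineOpen_top (Spec (CommRingCat.of k))).isLocalization_stalk
      (⟨(X ↘ Spec (CommRingCat.of k)) x, trivial⟩ : (⊤ : (Spec (CommRingCat.of k)).Opens))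
    have : Algebra.EssFiniteType Γ(Spec (CommRingCat.of k), ⊤)
        ((Spec (CommRingCat.of k)).presheaf.stalk ((X ↘ Spec (CommRingCat.of k)) x)) :=
      Algebra.EssFiniteType.of_isLocalization _
        ((isAffineOpen_top (Spec (CommRingCat.of k))).primeIdealOf
          (⟨(X ↘ Spec (CommRingCat.of k)) x, trivial⟩ :
            (⊤ : (Spec (CommRingCat.of k)).Opens))).asIdeal.primeCompl
    exact RingHom.essFiniteType_algebraMap.mpr this
  have h := (h1.comp h2).comp h3
  have key : Curv2.stalkMap k X x =
      ((X ↘ Spec (CommRingCat.of k)).stalkMap x).hom.comp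
        (((Spec (CommRingCat.of k)).presheaf.germ ⊤
          ((X ↘ Spec (CommRingCat.of k)) x) trivial).hom.comp
        (Scheme.ΓSpecIso (CommRingCat.of k)).inv.hom) := by
    unfold Curv2.stalkMap Coh.toGlobal
    rw [← RingHom.comp_assoc, ← RingHom.comp_assoc]
    congr 1
    rw [← CommRingCat.hom_comp, ← CommRingCat.hom_comp]
    congr 1
    exact (Scheme.Hom.germ_stalkMap (X ↘ Spec (CommRingCat.of k)) ⊤ x trivial).symm
  rw [key]
  exact h

end Groth.Agent.H25.CMStalk
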