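import Mathlib
import Groth.Prelude
import Groth.Agent.H25.SmoothStalk

/-!
# Krull dimension of local rings along etale and flat morphisms, without noetherian hypotheses
(helper25)
-/

set_option autoImplicit false
set_option maxHeartbeats 400000
set_option linter.style.haveILetI false
set_option linter.unusedVariables false
set_option linter.unusedSectionVars false

universe u

open CategoryTheory CategoryTheory.Limits AlgebraicGeometry TopologicalSpace IsLocalRing

namespace Groth.Agent.H25.EtaleDimStalk

section Ring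

variable {R S : Type*} [CommRing R] [CommRing S] [Algebra R S]

/-- Going-down does not decrease heights. -/
theorem height_le_height_of_liesOver_of_goingDown [Algebra.HasGoingDown R S]
    (p : Ideal R) [hp : p.IsPrime] (P : Ideal S) [hP : P.IsPrime] [hPp : P.LiesOver p] :
    p.height ≤ P.height := by
  have h1 : p.height = Order.height (⟨p, hp⟩ : PrimeSpectrum R) :=
    PrimeSpectrum.height_eq_orderHeight (⟨p, hp⟩ : PrimeSpectrum R)
  have h2 : P.height = Order.height (⟨P, hP⟩ : PrimeSpectrum S) :=
    PrimeSpectrum.height_eq_orderHeight (⟨P, hP⟩ : PrimeSpectrum S)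
  rw [h1, h2, Order.height_eq_iSup_last_eq]
  apply iSup₂_le
  intro l hl
  haveI : P.LiesOver l.last.asIdeal := by
    rw [hl]
    exact hPp
  obtain ⟨L, hlen, hlast, -⟩ := Ideal.exists_ltSeries_of_hasGoingDown l P
  rw [← hlen, ← hlast]
  exact Order.length_le_height_last

/-- Quasi-finite algebras do not increase heights. -/
theorem height_le_height_under_of_quasiFinite [Algebra.QuasiFinite R S] (Q : Ideal S)
    [hQ : Q.IsPrime] : Q.height ≤ (Q.under R).height := by
  have hmono : StrictMono (PrimeSpectrum.comap (algebraMap R S)) := by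
    intro P P' hlt
    have hle : PrimeSpectrum.comap (algebraMap R S) P ≤ PrimeSpectrum.comap (algebraMap R S) P' :=
      Ideal.comap_mono (f := algebraMap R S) (show P.asIdeal ≤ P'.asIdeal from hlt.le)
    refine lt_of_le_of_ne hle ?_
    intro heq
    have h3 : P.asIdeal = P'.asIdeal :=
      Algebra.QuasiFinite.eq_of_le_of_under_eq (R := R) P.asIdeal P'.asIdeal hlt.le
        (congrArg PrimeSpectrum.asIdeal heq)
    exact hlt.ne (PrimeSpectrum.ext h3)
  have h1 : Q.height = Order.height (⟨Q, hQ⟩ : PrimeSpectrum S) :=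
    PrimeSpectrum.height_eq_orderHeight (⟨Q, hQ⟩ : PrimeSpectrum S)
  have h2 : (Q.under R).height =
      Order.height (PrimeSpectrum.comap (algebraMap R S) ⟨Q, hQ⟩) :=
    PrimeSpectrum.height_eq_orderHeight (PrimeSpectrum.comap (algebraMap R S) ⟨Q, hQ⟩)
  rw [h1, h2]
  exact Order.height_le_height_apply_of_strictMono _ hmono _

/-- Etale algebras preserve heights of primes. -/
theorem height_eq_height_under_of_etale [Algebra.Etale R S] (q : Ideal S) [q.IsPrime] :
    q.height = (q.under R).height := by
  haveI : Algebra.QuasiFinite R S := inferInstance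
  haveI : Algebra.Smooth R S := inferInstance
  haveI : Module.Flat R S := inferInstance
  haveI : q.LiesOver (q.under R) := ⟨rfl⟩
  exact le_antisymm (height_le_height_under_of_quasiFinite q)
    (height_le_height_of_liesOver_of_goingDown (q.under R) q)

end Ring

section Scheme

/-- The Krull dimension of the local ring is invariant under etale morphisms. -/
theorem ringKrullDim_stalk_eq_of_etale {V U : Scheme.{u}} (g : V ⟶ U) [Etale g] (v : ↥V) :
    ringKrullDim ↥(V.presheaf.stalk v) = ringKrullDim ↥(U.presheaf.stalk (g v)) := by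
  obtain ⟨U', hU', hgvU', -⟩ := TopologicalSpace.Opens.isBasis_iff_nbhd.mp U.isBasis_affineOpens
    (U := ⊤) (x := g v) trivial
  have hU'a : IsAffineOpen U' := hU'
  obtain ⟨V', hV', hvV', hV'U'⟩ := TopologicalSpace.Opens.isBasis_iff_nbhd.mp
    V.isBasis_affineOpens (U := g ⁻¹ᵁ U') (x := v) hgvU'
  have hV'a : IsAffineOpen V' := hV'
  letI algAB : Algebra Γ(U, U') Γ(V, V') := (g.appLE U' V' hV'U').hom.toAlgebra
  haveI : Algebra.Etale Γ(U, U') Γ(V, V') := Etale.etale_appLE g hU'a hV'a hV'U'
  obtain ⟨q, hq, ⟨eX⟩, ⟨eY⟩⟩ :=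
    Groth.Agent.H25.SmoothStalk.exists_ringEquiv_stalks g v U' hU'a V' hV'a hV'U' hvV'
  haveI := hq
  rw [← ringKrullDim_eq_of_ringEquiv eX, ← ringKrullDim_eq_of_ringEquiv eY,
    IsLocalization.AtPrime.ringKrullDim_eq_height q (Localization.AtPrime q),
    IsLocalization.AtPrime.ringKrullDim_eq_height (q.comap (algebraMap Γ(U, U') Γ(V, V')))
      (Localization.AtPrime (q.comap (algebraMap Γ(U, U') Γ(V, V'))))]
  congr 1
  exact height_eq_height_under_of_etale (R := Γ(U, U')) q

/-- Flat morphisms do not decrease the Krull dimension of local rings. -/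
theorem ringKrullDim_stalk_le_of_flat {W V : Scheme.{u}} (φ : W ⟶ V) [Flat φ] (w : ↥W) :
    ringKrullDim ↥(V.presheaf.stalk (φ w)) ≤ ringKrullDim ↥(W.presheaf.stalk w) := by
  letI alg : Algebra ↥(V.presheaf.stalk (φ w)) ↥(W.presheaf.stalk w) :=
    (φ.stalkMap w).hom.toAlgebra
  haveI : Module.Flat ↥(V.presheaf.stalk (φ w)) ↥(W.presheaf.stalk w) :=
    RingHom.flat_algebraMap_iff.mp (Flat.stalkMap φ w)
  haveI hloc : IsLocalHom (algebraMap ↥(V.presheaf.stalk (φ w)) ↥(W.presheaf.stalk w)) :=
    inferInstanceAs (IsLocalHom (φ.stalkMap w).hom)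
  haveI : (maximalIdeal ↥(W.presheaf.stalk w)).LiesOver
      (maximalIdeal ↥(V.presheaf.stalk (φ w))) :=
    ⟨(IsLocalRing.maximalIdeal_comap
      (algebraMap ↥(V.presheaf.stalk (φ w)) ↥(W.presheaf.stalk w))).symm⟩
  rw [← IsLocalRing.maximalIdeal_height_eq_ringKrullDim,
    ← IsLocalRing.maximalIdeal_height_eq_ringKrullDim]
  exact_mod_cast height_le_height_of_liesOver_of_goingDown
    (maximalIdeal ↥(V.presheaf.stalk (φ w))) (maximalIdeal ↥(W.presheaf.stalk w))

end Scheme

end Groth.Agent.H25.EtaleDimStalk
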