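import Mathlib
import Groth.Prelude
import Groth.Agent.H25.StalkBC
import Groth.Agent.H25.GeomDomain
import Groth.Agent.H25.GeomRedDesc

set_option maxHeartbeats 400000
set_option linter.style.haveILetI false
set_option linter.unusedVariables false
set_option linter.unusedSectionVars false

open CategoryTheory CategoryTheory.Limits AlgebraicGeometry TensorProduct IsLocalRing

universe u

namespace Groth.Agent.H25.StalkDesc

open Groth.Agent.H25.NormalElem Groth.Agent.H25.NormalSep Groth.Agent.H25.GeomRed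
  Groth.Agent.H25.StalkBC

attribute [local instance] Curv2.stalkAlgebra

/-- For `k'/k` purely inseparable algebraic and `A` a local `k`-algebra, a prime of `k' ⊗ A`
containing `1 ⊗ m_A` is the maximal ideal. -/
theorem eq_maximalIdeal_of_one_tmul_mem (k k' A : Type u) [Field k]
    [Field k'] [Algebra k k'] [Algebra.IsIntegral k k'] [IsPurelyInseparable k k'] [CommRing A]
    [IsLocalRing A] [Algebra k A] [IsLocalRing (k' ⊗[k] A)] (Q : Ideal (k' ⊗[k] A)) [hQ : Q.IsPrime]
    (hQm : ∀ a ∈ maximalIdeal A, (1 : k') ⊗ₜ[k] a ∈ Q) :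
    Q = maximalIdeal (k' ⊗[k] A) := by
  obtain ⟨Q', hQ'⟩ : ∃ Q' : Ideal (A ⊗[k] k'),
      Q' = Q.comap (Algebra.TensorProduct.comm k k' A).symm.toRingEquiv.toRingHom := ⟨_, rfl⟩
  haveI : Q'.IsPrime := by
    rw [hQ']
    infer_instance
  have hcomap : Q'.comap (algebraMap A (A ⊗[k] k')) = maximalIdeal A := by
    apply le_antisymm
    · exact IsLocalRing.le_maximalIdeal (Ideal.IsPrime.ne_top inferInstance)
    · intro a ha
      rw [Ideal.mem_comap, hQ', Ideal.mem_comap]
      show (Algebra.TensorProduct.comm k k' A).symm (algebraMap A (A ⊗[k] k') a) ∈ Q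
      rw [Algebra.TensorProduct.algebraMap_apply, Algebra.algebraMap_self_apply,
        Algebra.TensorProduct.comm_symm_tmul]
      exact hQm a ha
  haveI hQ'max : Q'.IsMaximal :=
    Ideal.isMaximal_of_isIntegral_of_isMaximal_comap Q'
      (hcomap ▸ IsLocalRing.maximalIdeal.isMaximal A)
  have hQmax : Q.IsMaximal := by
    have hQQ' : Q = Q'.comap (Algebra.TensorProduct.comm k k' A).toRingEquiv.toRingHom := by
      ext t
      rw [Ideal.mem_comap, hQ', Ideal.mem_comap]
      show t ∈ Q ↔ (Algebra.TensorProduct.comm k k' A).symm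
        ((Algebra.TensorProduct.comm k k' A) t) ∈ Q
      rw [AlgEquiv.symm_apply_apply]
    rw [hQQ']
    exact Ideal.comap_isMaximal_of_surjective _
      (Algebra.TensorProduct.comm k k' A).toRingEquiv.surjective
  exact IsLocalRing.eq_maximalIdeal hQmax

/-- Descent data: for `k''/k` purely inseparable algebraic, `L ⊇ k''` a field extension and `Q` a
prime of `L ⊗ A` over the maximal ideal of the local `k`-algebra `A`, the local ring
`(L ⊗ A)_Q` is (isomorphic to) a faithfully flat `k'' ⊗ A`-algebra. -/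
theorem exists_faithfullyFlat_ringEquiv_localization (k k'' L A : Type u) [Field k] [Field k'']
    [Field L] [Algebra k k''] [Algebra k L] [Algebra k'' L] [IsScalarTower k k'' L]
    [Algebra.IsIntegral k k''] [IsPurelyInseparable k k''] [CommRing A] [IsLocalRing A]
    [Algebra k A] (Q : Ideal (L ⊗[k] A)) [Q.IsPrime]
    (hQm : ∀ a ∈ maximalIdeal A, (1 : L) ⊗ₜ[k] a ∈ Q) :
    ∃ (R : Type u) (_ : CommRing R) (_ : Algebra (k'' ⊗[k] A) R),
      Module.FaithfullyFlat (k'' ⊗[k] A) R ∧ Nonempty (R ≃+* Localization.AtPrime Q) := by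
  haveI : IsLocalRing (k'' ⊗[k] A) := isLocalRing_tensor k k'' A
  let e : (k'' ⊗[k] A) ⊗[k''] L ≃+* L ⊗[k] A :=
    ((Algebra.TensorProduct.comm k'' (k'' ⊗[k] A) L).trans
      (Algebra.TensorProduct.cancelBaseChange k k'' k'' L A)).toRingEquiv
  have he : ∀ a : A, e (((1 : k'') ⊗ₜ[k] a) ⊗ₜ[k''] (1 : L)) = (1 : L) ⊗ₜ[k] a := by
    intro a
    show (Algebra.TensorProduct.cancelBaseChange k k'' k'' L A)
      ((Algebra.TensorProduct.comm k'' (k'' ⊗[k] A) L) (((1 : k'') ⊗ₜ[k] a) ⊗ₜ[k''] (1 : L))) = _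
    rw [Algebra.TensorProduct.comm_tmul, Algebra.TensorProduct.cancelBaseChange_tmul, one_smul]
  haveI hQ₁ : (Q.comap e.toRingHom).IsPrime := inferInstance
  have hP : (Q.comap e.toRingHom).comap
      (algebraMap (k'' ⊗[k] A) ((k'' ⊗[k] A) ⊗[k''] L)) = maximalIdeal (k'' ⊗[k] A) := by
    apply eq_maximalIdeal_of_one_tmul_mem k k'' A
    intro a ha
    rw [Ideal.mem_comap, Ideal.mem_comap, Algebra.TensorProduct.algebraMap_apply,
      Algebra.algebraMap_self_apply]
    show e (((1 : k'') ⊗ₜ[k] a) ⊗ₜ[k''] (1 : L)) ∈ Q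
    rw [he]
    exact hQm a ha
  haveI : Module.Flat ((k'' ⊗[k] A) ⊗[k''] L) (Localization.AtPrime (Q.comap e.toRingHom)) :=
    IsLocalization.flat _ (Q.comap e.toRingHom).primeCompl
  haveI : Module.Flat (k'' ⊗[k] A) (Localization.AtPrime (Q.comap e.toRingHom)) :=
    Module.Flat.trans (k'' ⊗[k] A) ((k'' ⊗[k] A) ⊗[k''] L)
      (Localization.AtPrime (Q.comap e.toRingHom))
  haveI : IsLocalHom (algebraMap (k'' ⊗[k] A) (Localization.AtPrime (Q.comap e.toRingHom))) := by
    refine ⟨fun t ht => ?_⟩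
    by_contra hnu
    have hmem : t ∈ maximalIdeal (k'' ⊗[k] A) := (IsLocalRing.mem_maximalIdeal t).mpr hnu
    rw [← hP, Ideal.mem_comap] at hmem
    have h2 : algebraMap ((k'' ⊗[k] A) ⊗[k''] L) (Localization.AtPrime (Q.comap e.toRingHom))
        (algebraMap (k'' ⊗[k] A) ((k'' ⊗[k] A) ⊗[k''] L) t) ∈
        maximalIdeal (Localization.AtPrime (Q.comap e.toRingHom)) :=
      (IsLocalization.AtPrime.to_map_mem_maximal_iff
        (Localization.AtPrime (Q.comap e.toRingHom)) (Q.comap e.toRingHom) _).mpr hmem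
    rw [IsScalarTower.algebraMap_apply (k'' ⊗[k] A) ((k'' ⊗[k] A) ⊗[k''] L)
      (Localization.AtPrime (Q.comap e.toRingHom))] at ht
    exact (IsLocalRing.mem_maximalIdeal _).mp h2 ht
  refine ⟨Localization.AtPrime (Q.comap e.toRingHom), inferInstance, inferInstance,
    Module.FaithfullyFlat.of_flat_of_isLocalHom, ?_⟩
  exact ⟨IsLocalization.ringEquivOfRingEquiv (M := (Q.comap e.toRingHom).primeCompl)
    (T := Q.primeCompl) (Localization.AtPrime (Q.comap e.toRingHom)) (Localization.AtPrime Q) e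
    (Groth.Agent.H63.StalkBaseChange.primeCompl_map_ringEquiv e Q)⟩

/-- A common field extension of two field extensions. -/
theorem exists_compositum (k K₁ K₂ : Type u) [Field k] [Field K₁] [Field K₂] [Algebra k K₁]
    [Algebra k K₂] :
    ∃ (L : Type u) (_ : Field L) (_ : Algebra k L) (_ : Algebra K₁ L) (_ : Algebra K₂ L),
      IsScalarTower k K₁ L ∧ IsScalarTower k K₂ L := by
  obtain ⟨m, hm⟩ := Ideal.exists_maximal (K₁ ⊗[k] K₂)
  haveI := hm
  letI : Field ((K₁ ⊗[k] K₂) ⧸ m) := Ideal.Quotient.field m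
  letI a1 : Algebra K₁ ((K₁ ⊗[k] K₂) ⧸ m) :=
    ((Ideal.Quotient.mk m).comp
      (Algebra.TensorProduct.includeLeftRingHom (R := k) (A := K₁) (B := K₂))).toAlgebra
  letI a2 : Algebra K₂ ((K₁ ⊗[k] K₂) ⧸ m) :=
    ((Ideal.Quotient.mk m).comp
      (Algebra.TensorProduct.includeRight (R := k) (A := K₁) (B := K₂)).toRingHom).toAlgebra
  refine ⟨(K₁ ⊗[k] K₂) ⧸ m, inferInstance, inferInstance, a1, a2, ?_, ?_⟩
  · refine IsScalarTower.of_algebraMap_eq (fun x => ?_)
    show algebraMap k ((K₁ ⊗[k] K₂) ⧸ m) x =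
      Ideal.Quotient.mk m ((algebraMap k K₁ x) ⊗ₜ[k] (1 : K₂))
    rw [IsScalarTower.algebraMap_apply k (K₁ ⊗[k] K₂) ((K₁ ⊗[k] K₂) ⧸ m),
      Ideal.Quotient.algebraMap_eq, Algebra.TensorProduct.algebraMap_apply]
  · refine IsScalarTower.of_algebraMap_eq (fun x => ?_)
    show algebraMap k ((K₁ ⊗[k] K₂) ⧸ m) x =
      Ideal.Quotient.mk m ((1 : K₁) ⊗ₜ[k] (algebraMap k K₂ x))
    rw [IsScalarTower.algebraMap_apply k (K₁ ⊗[k] K₂) ((K₁ ⊗[k] K₂) ⧸ m),
      Ideal.Quotient.algebraMap_eq, Algebra.TensorProduct.algebraMap_apply']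

/-- The stalk bridge for an iterated base change `(X_{k'})_K`. -/
theorem exists_prime_ringEquiv_stalk_bc_bc (k : Type u) [Field k] (X : Scheme.{u})
    [X.Over (Spec (CommRingCat.of k))] (k' : Type u) [Field k'] [Algebra k k'] (K : Type u)
    [Field K] [Algebra k' K] [Algebra k K] [IsScalarTower k k' K]
    (x'' : @Curv2.bc k' _ (Curv2.bc k X k') ⟨Curv2.bcSnd k X k'⟩ K _ _) (x : X)
    (hx : Curv2.bcFst k X k'
      (@Curv2.bcFst k' _ (Curv2.bc k X k') ⟨Curv2.bcSnd k X k'⟩ K _ _ x'') = x) :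
    ∃ (Q : Ideal (K ⊗[k] X.presheaf.stalk x)) (_ : Q.IsPrime),
      (∀ a ∈ maximalIdeal (X.presheaf.stalk x), (1 : K) ⊗ₜ[k] a ∈ Q) ∧
      Nonempty (Localization.AtPrime Q ≃+*
        (@Curv2.bc k' _ (Curv2.bc k X k') ⟨Curv2.bcSnd k X k'⟩ K _ _).presheaf.stalk x'') := by
  letI : (Curv2.bc k X k').Over (Spec (CommRingCat.of k')) := ⟨Curv2.bcSnd k X k'⟩
  have hpb : IsPullback (Curv2.bcFst k' (Curv2.bc k X k') K ≫ Curv2.bcFst k X k')
      (Curv2.bcSnd k' (Curv2.bc k X k') K) (X ↘ Spec (CommRingCat.of k))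
      (Spec.map (CommRingCat.ofHom (algebraMap k K))) := by
    have h1 : IsPullback (Curv2.bcFst k' (Curv2.bc k X k') K)
        (Curv2.bcSnd k' (Curv2.bc k X k') K) (Curv2.bcSnd k X k')
        (Spec.map (CommRingCat.ofHom (algebraMap k' K))) := IsPullback.of_hasPullback _ _
    have h2 : IsPullback (Curv2.bcFst k X k') (Curv2.bcSnd k X k')
        (X ↘ Spec (CommRingCat.of k)) (Spec.map (CommRingCat.ofHom (algebraMap k k'))) :=
      IsPullback.of_hasPullback _ _
    have h3 := h1.paste_horiz h2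
    have h4 : Spec.map (CommRingCat.ofHom (algebraMap k' K)) ≫
        Spec.map (CommRingCat.ofHom (algebraMap k k')) =
        Spec.map (CommRingCat.ofHom (algebraMap k K)) := by
      rw [← Spec.map_comp, ← CommRingCat.ofHom_comp, ← IsScalarTower.algebraMap_eq]
    rw [h4] at h3
    exact h3
  exact Groth.Agent.H63.StalkBaseChange.exists_prime_ringEquiv_stalk (K := K)
    (X ↘ Spec (CommRingCat.of k)) _ _ hpb x'' x hx

/-- Descent of reducedness in the situation of `exists_faithfullyFlat_ringEquiv_localization`. -/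
theorem isReduced_tensor_of_isReduced_localization (k k'' L A : Type u) [Field k] [Field k'']
    [Field L] [Algebra k k''] [Algebra k L] [Algebra k'' L] [IsScalarTower k k'' L]
    [Algebra.IsIntegral k k''] [IsPurelyInseparable k k''] [CommRing A] [IsLocalRing A]
    [Algebra k A] (Q : Ideal (L ⊗[k] A)) [Q.IsPrime]
    (hQm : ∀ a ∈ maximalIdeal A, (1 : L) ⊗ₜ[k] a ∈ Q)
    (h : _root_.IsReduced (Localization.AtPrime Q)) : _root_.IsReduced (k'' ⊗[k] A) := by
  obtain ⟨R, cR, aR, hff, ⟨eR⟩⟩ := exists_faithfullyFlat_ringEquiv_localization k k'' L A Q hQm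
  letI := cR
  letI := aR
  haveI := hff
  haveI : _root_.IsReduced R := isReduced_of_injective eR.toRingHom eR.injective
  exact isReduced_of_injective (algebraMap (k'' ⊗[k] A) R)
    (FaithfulSMul.algebraMap_injective (k'' ⊗[k] A) R)

/-- Descent of normality in the situation of `exists_faithfullyFlat_ringEquiv_localization`. -/
theorem isNormalRing_tensor_of_isNormalRing_localization (k k'' L A : Type u) [Field k]
    [Field k''] [Field L] [Algebra k k''] [Algebra k L] [Algebra k'' L] [IsScalarTower k k'' L]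
    [Algebra.IsIntegral k k''] [IsPurelyInseparable k k''] [CommRing A] [IsLocalRing A]
    [Algebra k A] (Q : Ideal (L ⊗[k] A)) [Q.IsPrime]
    (hQm : ∀ a ∈ maximalIdeal A, (1 : L) ⊗ₜ[k] a ∈ Q)
    (h : EGA4.IsNormalRing (Localization.AtPrime Q)) : EGA4.IsNormalRing (k'' ⊗[k] A) := by
  obtain ⟨R, cR, aR, hff, ⟨eR⟩⟩ := exists_faithfullyFlat_ringEquiv_localization k k'' L A Q hQm
  letI := cR
  letI := aR
  haveI := hff
  have hR : EGA4.IsNormalRing R := isNormalRing_of_ringEquiv eR.symm h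
  exact isNormalRing_of_faithfullyFlat (k'' ⊗[k] A) R hR

/-- S1545. -/
theorem isGeomReducedAt_iff_baseChange (k : Type u) [Field k] (X : Scheme.{u})
    [X.Over (Spec (CommRingCat.of k))] (k' : Type u) [Field k'] [Algebra k k']
    (x : X) (x' : Curv2.bc k X k') (hx : Curv2.bcFst k X k' x' = x) :
    Curv2.IsGeomReducedAt k X x ↔
      @Curv2.IsGeomReducedAt k' _ (Curv2.bc k X k') ⟨Curv2.bcSnd k X k'⟩ x' := by
  constructor
  · intro h K _ _ x'' hx''
    letI : Algebra k K := ((algebraMap k' K).comp (algebraMap k k')).toAlgebra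
    haveI : IsScalarTower k k' K := IsScalarTower.of_algebraMap_eq (fun _ => rfl)
    obtain ⟨Q, hQ, -, ⟨e⟩⟩ := exists_prime_ringEquiv_stalk_bc_bc k X k' K x'' x
      (by rw [hx'']; exact hx)
    haveI := hQ
    have h3 : ∀ (K : Type u) [Field K] [Algebra k K],
        _root_.IsReduced (K ⊗[k] X.presheaf.stalk x) :=
      ((tfae_geometricallyReduced (k := k) (S := X.presheaf.stalk x)).out 1 2).mp
        ((isGeomReducedAt_iff_stalk k X x).mp h)
    haveI h4 : _root_.IsReduced (Localization.AtPrime Q) :=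
      isReduced_localizationPreserves Q.primeCompl (Localization.AtPrime Q) (h3 K)
    exact isReduced_of_injective e.symm.toRingHom e.symm.injective
  · intro H
    apply isGeomReducedAt_of_stalks
    intro k₂ _ _ hfin hpi y hy
    obtain ⟨ey⟩ := nonempty_ringEquiv_stalk_of_purelyInseparable k X k₂ y x hy
    obtain ⟨L, fL, a0, a1, a2, t1, t2⟩ := exists_compositum k k' k₂
    letI := fL
    letI := a0
    letI := a1
    letI := a2
    haveI := t1
    haveI := t2
    obtain ⟨x'', hx''⟩ := (@Curv2.bcFst k' _ (Curv2.bc k X k') ⟨Curv2.bcSnd k X k'⟩ L _ _).surjective x'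
    obtain ⟨Q, hQ, hQm, ⟨e⟩⟩ := exists_prime_ringEquiv_stalk_bc_bc k X k' L x'' x
      (by rw [hx'']; exact hx)
    haveI := hQ
    haveI hred : _root_.IsReduced
        ((@Curv2.bc k' _ (Curv2.bc k X k') ⟨Curv2.bcSnd k X k'⟩ L _ _).presheaf.stalk x'') :=
      H L x'' hx''
    haveI : _root_.IsReduced (Localization.AtPrime Q) :=
      isReduced_of_injective e.toRingHom e.injective
    haveI : _root_.IsReduced (k₂ ⊗[k] X.presheaf.stalk x) :=
      isReduced_tensor_of_isReduced_localization k k₂ L (X.presheaf.stalk x) Q hQm inferInstance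
    exact isReduced_of_injective ey.symm.toRingHom ey.symm.injective

/-- S7600. -/
theorem geomNormalAt_of_baseChange (k : Type u) [Field k] (X : Scheme.{u})
    [X.Over (Spec (CommRingCat.of k))] (k' : Type u) [Field k'] [Algebra k k']
    (x' : Curv2.bc k X k')
    (h : ∀ (k'' : Type u) [Field k''] [Algebra k' k'']
      (x'' : @Curv2.bc k' _ (Curv2.bc k X k') ⟨Curv2.bcSnd k X k'⟩ k'' _ _),
      @Curv2.bcFst k' _ (Curv2.bc k X k') ⟨Curv2.bcSnd k X k'⟩ k'' _ _ x'' = x' →
      IsDomain ((@Curv2.bc k' _ (Curv2.bc k X k') ⟨Curv2.bcSnd k X k'⟩ k'' _ _).presheaf.stalk x'') ∧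
        IsIntegrallyClosed
          ((@Curv2.bc k' _ (Curv2.bc k X k') ⟨Curv2.bcSnd k X k'⟩ k'' _ _).presheaf.stalk x''))
    (K : Type u) [Field K] [Algebra k K] (y : Curv2.bc k X K)
    (hy : Curv2.bcFst k X K y = Curv2.bcFst k X k' x') :
    IsDomain ((Curv2.bc k X K).presheaf.stalk y) ∧
      IsIntegrallyClosed ((Curv2.bc k X K).presheaf.stalk y) := by
  refine geomNormalAt_of_stalks k X (Curv2.bcFst k X k' x') ?_ K y hy
  intro k₂ _ _ hfin hpi y₂ hy₂
  obtain ⟨ey⟩ := nonempty_ringEquiv_stalk_of_purelyInseparable k X k₂ y₂ _ hy₂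
  obtain ⟨L, fL, a0, a1, a2, t1, t2⟩ := exists_compositum k k' k₂
  letI := fL
  letI := a0
  letI := a1
  letI := a2
  haveI := t1
  haveI := t2
  obtain ⟨x'', hx''⟩ := (@Curv2.bcFst k' _ (Curv2.bc k X k') ⟨Curv2.bcSnd k X k'⟩ L _ _).surjective x'
  obtain ⟨Q, hQ, hQm, ⟨e⟩⟩ := exists_prime_ringEquiv_stalk_bc_bc k X k' L x''
    (Curv2.bcFst k X k' x') (by rw [hx''])
  haveI := hQ
  obtain ⟨hd, hic⟩ := h L x'' hx''
  haveI := hd
  haveI := hic
  have hN1 : EGA4.IsNormalRing (Localization.AtPrime Q) :=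
    isNormalRing_of_ringEquiv e.symm (isNormalRing_of_isIntegrallyClosed _)
  have hN2 : EGA4.IsNormalRing (k₂ ⊗[k] X.presheaf.stalk (Curv2.bcFst k X k' x')) :=
    isNormalRing_tensor_of_isNormalRing_localization k k₂ L _ Q hQm hN1
  have hN3 : EGA4.IsNormalRing ((Curv2.bc k X k₂).presheaf.stalk y₂) :=
    isNormalRing_of_ringEquiv ey hN2
  exact isDomain_isIntegrallyClosed_of_isLocalRing _ hN3

/-- S2521. -/
theorem fbase_isGeomReducedAt_of_perfect {k Ω : Type u} [Field k] [Field Ω] [Algebra k Ω]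
    [PerfectField Ω] {X : Scheme.{u}} (f : X ⟶ Spec (CommRingCat.of k)) (x : X)
    (x' : ↥(FBase.bc f Ω)) (hx' : (FBase.bcπ f Ω).base x' = x)
    (h : FBase.IsReducedAt (FBase.bc f Ω) x') : FBase.IsGeomReducedAt f x := by
  letI : X.Over (Spec (CommRingCat.of k)) := ⟨f⟩
  have key : Curv2.IsGeomReducedAt k X x := by
    apply isGeomReducedAt_of_stalks
    intro k₂ _ _ hfin hpi y hy
    obtain ⟨e⟩ := nonempty_ringEquiv_stalk_of_purelyInseparable k X k₂ y x hy
    obtain ⟨ι⟩ := Groth.Agent.H25.GeomRed.exists_algHom_of_purelyInseparable k Ω k₂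
    letI : Algebra k₂ Ω := ι.toRingHom.toAlgebra
    haveI : IsScalarTower k k₂ Ω := IsScalarTower.of_algebraMap_eq (fun c => (ι.commutes c).symm)
    obtain ⟨Q, hQ, hQm, ⟨eQ⟩⟩ := exists_prime_ringEquiv_stalk_bc k X Ω x' x hx'
    haveI := hQ
    haveI hredS : _root_.IsReduced ((Curv2.bc k X Ω).presheaf.stalk x') := h
    haveI : _root_.IsReduced (Localization.AtPrime Q) :=
      isReduced_of_injective eQ.toRingHom eQ.injective
    haveI : _root_.IsReduced (k₂ ⊗[k] X.presheaf.stalk x) :=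
      isReduced_tensor_of_isReduced_localization k k₂ Ω (X.presheaf.stalk x) Q hQm inferInstance
    exact isReduced_of_injective e.symm.toRingHom e.symm.injective
  exact key

/-- S4631. -/
theorem fbase_isGeomPtIntegralAt_iff_isDomain_stalk {k : Type u} [Field k] [IsAlgClosed k]
    {X : Scheme.{u}} (f : X ⟶ Spec (CommRingCat.of k)) (x : X) :
    FBase.IsGeomPtIntegralAt f x ↔ IsDomain ↑(X.presheaf.stalk x) := by
  letI : X.Over (Spec (CommRingCat.of k)) := ⟨f⟩
  constructor
  · intro h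
    obtain ⟨x', hx'⟩ := (Curv2.bcFst k X k).surjective x
    haveI hd : IsDomain ((Curv2.bc k X k).presheaf.stalk x') := h k x' hx'
    obtain ⟨Q, hQ, hQm, ⟨e⟩⟩ := exists_prime_ringEquiv_stalk_bc k X k x' x hx'
    haveI := hQ
    obtain ⟨e'⟩ := nonempty_ringEquiv_localization_of_purelyInseparable k k
      (X.presheaf.stalk x) Q hQm
    exact (((Algebra.TensorProduct.lid k (X.presheaf.stalk x)).symm.toRingEquiv.trans e').trans
      e).toMulEquiv.isDomain _
  · intro hd K _ _ x' hx'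
    obtain ⟨Q, hQ, -, ⟨e⟩⟩ := exists_prime_ringEquiv_stalk_bc k X K x' x hx'
    haveI := hQ
    haveI : IsDomain (K ⊗[k] X.presheaf.stalk x) :=
      Groth.Agent.H25.GeomDomain.isDomain_tensor k K _
    haveI : IsDomain (Localization.AtPrime Q) :=
      IsLocalization.isDomain_localization Q.primeCompl_le_nonZeroDivisors
    exact e.symm.toMulEquiv.isDomain _

/-- S1542: geometric reducedness at a point passes to generisations. -/
theorem isGeomReducedAt_of_specializes (k : Type u) [Field k] (X : Scheme.{u})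
    [X.Over (Spec (CommRingCat.of k))] (x x' : X) (h : x' ⤳ x)
    (hx : Curv2.IsGeomReducedAt k X x) : Curv2.IsGeomReducedAt k X x' := by
  rw [isGeomReducedAt_iff_stalk] at hx ⊢
  have h3 : ∀ (K : Type u) [Field K] [Algebra k K],
      _root_.IsReduced (K ⊗[k] X.presheaf.stalk x) :=
    ((tfae_geometricallyReduced (k := k) (S := X.presheaf.stalk x)).out 1 2).mp hx
  refine ((tfae_geometricallyReduced (k := k) (S := X.presheaf.stalk x')).out 1 2).mpr ?_
  intro K _ _
  obtain ⟨U, hU, hxU, -⟩ := TopologicalSpace.Opens.isBasis_iff_nbhd.mp X.isBasis_affineOpens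
    (U := ⊤) (x := x) trivial
  have hU : IsAffineOpen U := hU
  have hx'U : x' ∈ U := h.mem_open U.isOpen hxU
  letI algx : Algebra Γ(X, U) (X.presheaf.stalk x) :=
    TopCat.Presheaf.algebra_section_stalk X.presheaf ⟨x, hxU⟩
  letI algx' : Algebra Γ(X, U) (X.presheaf.stalk x') :=
    TopCat.Presheaf.algebra_section_stalk X.presheaf ⟨x', hx'U⟩
  haveI hlx : IsLocalization.AtPrime (X.presheaf.stalk x) (hU.primeIdealOf ⟨x, hxU⟩).asIdeal :=
    hU.isLocalization_stalk ⟨x, hxU⟩
  haveI hlx' : IsLocalization.AtPrime (X.presheaf.stalk x')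
      (hU.primeIdealOf ⟨x', hx'U⟩).asIdeal := hU.isLocalization_stalk ⟨x', hx'U⟩
  letI algσ : Algebra (X.presheaf.stalk x) (X.presheaf.stalk x') :=
    (X.presheaf.stalkSpecializes h).hom.toAlgebra
  haveI : IsScalarTower Γ(X, U) (X.presheaf.stalk x) (X.presheaf.stalk x') := by
    refine IsScalarTower.of_algebraMap_eq (fun s => ?_)
    have h0 := TopCat.Presheaf.germ_stalkSpecializes X.presheaf hxU h
    exact (congrArg (fun φ => φ.hom s) h0).symm
  have hle : (hU.primeIdealOf ⟨x, hxU⟩).asIdeal.primeCompl ≤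
      (hU.primeIdealOf ⟨x', hx'U⟩).asIdeal.primeCompl := by
    intro s hs
    have h1 : IsUnit ((X.presheaf.germ U x hxU).hom s) :=
      (IsLocalization.AtPrime.isUnit_to_map_iff (X.presheaf.stalk x) _ s).mpr hs
    have h2 : x ∈ X.basicOpen s := (X.mem_basicOpen s x hxU).mpr h1
    have h3 : x' ∈ X.basicOpen s := h.mem_open (X.basicOpen s).isOpen h2
    have h4 : IsUnit ((X.presheaf.germ U x' hx'U).hom s) := (X.mem_basicOpen s x' hx'U).mp h3
    exact (IsLocalization.AtPrime.isUnit_to_map_iff (X.presheaf.stalk x') _ s).mp h4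
  haveI hloc : IsLocalization (((hU.primeIdealOf ⟨x', hx'U⟩).asIdeal.primeCompl).map
      (algebraMap Γ(X, U) (X.presheaf.stalk x))) (X.presheaf.stalk x') :=
    IsLocalization.isLocalization_of_submonoid_le (X.presheaf.stalk x) (X.presheaf.stalk x')
      _ _ hle
  haveI : IsScalarTower k (X.presheaf.stalk x) (X.presheaf.stalk x') := by
    refine IsScalarTower.of_algebraMap_eq (fun c => ?_)
    have h0 := TopCat.Presheaf.germ_stalkSpecializes X.presheaf (U := ⊤) (y := x) trivial h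
    exact (congrArg (fun φ => φ.hom
      (Coh.toGlobal (X ↘ Spec (CommRingCat.of k)) c)) h0).symm
  letI : Algebra (K ⊗[k] X.presheaf.stalk x) (K ⊗[k] X.presheaf.stalk x') :=
    (Algebra.TensorProduct.map (AlgHom.id K K)
      (IsScalarTower.toAlgHom k (X.presheaf.stalk x) (X.presheaf.stalk x'))).toRingHom.toAlgebra
  haveI := Groth.Agent.S9412.isLocalization_tensor k (X.presheaf.stalk x)
    (((hU.primeIdealOf ⟨x', hx'U⟩).asIdeal.primeCompl).map
      (algebraMap Γ(X, U) (X.presheaf.stalk x))) (X.presheaf.stalk x') K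
  exact isReduced_localizationPreserves
    ((((hU.primeIdealOf ⟨x', hx'U⟩).asIdeal.primeCompl).map
      (algebraMap Γ(X, U) (X.presheaf.stalk x))).map
        (Algebra.TensorProduct.includeRight (R := k) (A := K) (B := X.presheaf.stalk x)))
    (K ⊗[k] X.presheaf.stalk x') (h3 K)

end Groth.Agent.H25.StalkDesc
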