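import Mathlib
import Groth.Prelude
import Groth.Agent.H25.SmoothStalk
import Groth.Agent.H25.StalkDesc

/-!
# Geometric reducedness at a point is smooth-local; reduced over a perfect field (helper25)
-/

set_option autoImplicit false
set_option maxHeartbeats 400000
set_option linter.style.haveILetI false
set_option linter.unusedVariables false
set_option linter.unusedSectionVars false

universe u

open CategoryTheory CategoryTheory.Limits AlgebraicGeometry TopologicalSpace

namespace Groth.Agent.H25.GeomRedEtale

/-- The base change of `g : V ⟶ U` over `k` to a field extension `K`, as a pullback of `g`. -/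
theorem exists_bcMap {k : Type u} [Field k] {V U : Scheme.{u}} (g : V ⟶ U)
    (fU : U ⟶ Spec (CommRingCat.of k)) (K : Type u) [Field K] [Algebra k K] :
    ∃ gK : FBase.bc (g ≫ fU) K ⟶ FBase.bc fU K,
      IsPullback gK (FBase.bcπ (g ≫ fU) K) (FBase.bcπ fU K) g := by
  let j := Spec.map (CommRingCat.ofHom (algebraMap k K))
  let gK : pullback (g ≫ fU) j ⟶ pullback fU j :=
    pullback.lift (pullback.fst (g ≫ fU) j ≫ g) (pullback.snd (g ≫ fU) j)
      (by rw [Category.assoc]; exact pullback.condition)
  refine ⟨gK, ?_⟩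
  have t : IsPullback (pullback.snd fU j) (pullback.fst fU j) j fU :=
    (IsPullback.of_hasPullback fU j).flip
  have s : IsPullback (gK ≫ pullback.snd fU j) (pullback.fst (g ≫ fU) j) j (g ≫ fU) := by
    have : gK ≫ pullback.snd fU j = pullback.snd (g ≫ fU) j := pullback.lift_snd _ _ _
    rw [this]
    exact (IsPullback.of_hasPullback (g ≫ fU) j).flip
  have p : gK ≫ pullback.fst fU j = pullback.fst (g ≫ fU) j ≫ g := pullback.lift_fst _ _ _
  exact IsPullback.of_right s p t

/-- Geometric reducedness at a point is invariant under smooth morphisms. -/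
theorem isGeomReducedAt_comp_smooth_iff {k : Type u} [Field k] {V U : Scheme.{u}} (g : V ⟶ U)
    [Smooth g] (fU : U ⟶ Spec (CommRingCat.of k)) (v : V) :
    FBase.IsGeomReducedAt (g ≫ fU) v ↔ FBase.IsGeomReducedAt fU (g v) := by
  constructor
  · intro h K _ _ x' hx'
    obtain ⟨gK, sq⟩ := exists_bcMap g fU K
    haveI : Smooth gK := MorphismProperty.of_isPullback (P := @Smooth) sq.flip inferInstance
    have hx'' : (FBase.bcπ fU K) x' = g v := hx'
    obtain ⟨z, hz1, hz2⟩ := Scheme.Pullback.exists_preimage_pullback x' v hx''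
    let z' : ↥(FBase.bc (g ≫ fU) K) := sq.isoPullback.inv z
    have h1 : gK z' = x' := by
      change gK (sq.isoPullback.inv z) = x'
      rw [← Scheme.Hom.comp_apply, sq.isoPullback_inv_fst]
      exact hz1
    have h2 : (FBase.bcπ (g ≫ fU) K) z' = v := by
      change (FBase.bcπ (g ≫ fU) K) (sq.isoPullback.inv z) = v
      rw [← Scheme.Hom.comp_apply, sq.isoPullback_inv_snd]
      exact hz2
    have hred : IsReduced ((FBase.bc (g ≫ fU) K).presheaf.stalk z') := h K z' h2
    have hmem : z' ∈ gK.smoothLocus := by
      rw [Scheme.Hom.smoothLocus_eq_top gK]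
      trivial
    have h3 := ((Groth.Agent.H25.SmoothStalk.reduced_normal_iff_of_smoothAt gK z' hmem).1).mp hred
    rw [h1] at h3
    exact h3
  · intro h K _ _ z' hz'
    obtain ⟨gK, sq⟩ := exists_bcMap g fU K
    haveI : Smooth gK := MorphismProperty.of_isPullback (P := @Smooth) sq.flip inferInstance
    have hz'' : (FBase.bcπ (g ≫ fU) K) z' = v := hz'
    have h1 : (FBase.bcπ fU K) (gK z') = g v := by
      rw [← Scheme.Hom.comp_apply, sq.w, Scheme.Hom.comp_apply, hz'']
    have hred : IsReduced ((FBase.bc fU K).presheaf.stalk (gK z')) := h K (gK z') h1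
    have hmem : z' ∈ gK.smoothLocus := by
      rw [Scheme.Hom.smoothLocus_eq_top gK]
      trivial
    exact ((Groth.Agent.H25.SmoothStalk.reduced_normal_iff_of_smoothAt gK z' hmem).1).mpr hred

/-- A reduced scheme over a perfect field is geometrically reduced at every point. -/
theorem isGeomReducedAt_of_isReduced_of_perfect {k : Type u} [Field k] [PerfectField k]
    {U : Scheme.{u}} [IsReduced U] (f : U ⟶ Spec (CommRingCat.of k)) (u : U) :
    FBase.IsGeomReducedAt f u := by
  haveI hiso : IsIso (Spec.map (CommRingCat.ofHom (algebraMap k k))) := by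
    have : CommRingCat.ofHom (algebraMap k k) = 𝟙 (CommRingCat.of k) := rfl
    rw [this, Spec.map_id]
    infer_instance
  haveI hπ : IsIso (FBase.bcπ f k) :=
    (IsPullback.of_hasPullback f (Spec.map (CommRingCat.ofHom (algebraMap k k)))).isIso_fst_of_isIso
  let x' : ↥(FBase.bc f k) := (inv (FBase.bcπ f k)) u
  have hx' : (FBase.bcπ f k) x' = u := by
    change (FBase.bcπ f k) ((inv (FBase.bcπ f k)) u) = u
    rw [← Scheme.Hom.comp_apply, IsIso.inv_hom_id]
    rfl
  refine Groth.Agent.H25.StalkDesc.fbase_isGeomReducedAt_of_perfect (Ω := k) f u x' hx' ?_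
  change _root_.IsReduced ((FBase.bc f k).presheaf.stalk x')
  haveI : IsIso ((FBase.bcπ f k).stalkMap x') := inferInstance
  let e : U.presheaf.stalk ((FBase.bcπ f k) x') ≃+* (FBase.bc f k).presheaf.stalk x' :=
    (asIso ((FBase.bcπ f k).stalkMap x')).commRingCatIsoToRingEquiv
  exact isReduced_of_injective e.symm.toRingHom e.symm.injective

end Groth.Agent.H25.GeomRedEtale
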