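import Mathlib
import Groth.Prelude
import Groth.Agent.H25.GeomRedEtale
import Groth.Agent.H52.Topology

/-!
# Geometric reducedness at points of algebraic spaces over a field: independence of the chart
(helper25)
-/

set_option autoImplicit false
set_option maxHeartbeats 400000
set_option linter.style.haveILetI false
set_option linter.unusedVariables false
set_option linter.unusedSectionVars false

universe u

open CategoryTheory CategoryTheory.Limits AlgebraicGeometry TopologicalSpace AlgSp

namespace Groth.Agent.H25.GeomRedAlgSp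

/-- Geometric reducedness at a point does not depend on the etale chart through the point. -/
theorem geomReducedAt_transfer {k : Type u} [Field k] {F : Sp (Spec (CommRingCat.of k))}
    {U U' : Over (Spec (CommRingCat.of k))}
    (a : (yon (Spec (CommRingCat.of k))).obj U ⟶ F) (ha : RepWith @Etale a)
    (a' : (yon (Spec (CommRingCat.of k))).obj U' ⟶ F) (ha' : RepWith @Etale a')
    (u : ↥U.left) (u' : ↥U'.left) (h : Points.ofPt a u = Points.ofPt a' u')
    (hGR : FBase.IsGeomReducedAt U.hom u) : FBase.IsGeomReducedAt U'.hom u' := by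
  obtain ⟨V, ψ, fst, sq⟩ := ha.1 a'
  obtain ⟨φ, rfl⟩ := (yon (Spec (CommRingCat.of k))).map_surjective fst
  have hψ : Etale ψ.left := ha.2 _ _ _ sq
  have hφ : Etale φ.left := ha'.2 _ _ _ sq.flip
  obtain ⟨v, hv1, hv2⟩ := Groth.Agent.H52.exists_of_ofPt_eq_ofPt sq u u' h
  haveI : Smooth φ.left := inferInstance
  haveI : Smooth ψ.left := inferInstance
  have h1 : FBase.IsGeomReducedAt (φ.left ≫ U.hom) v :=
    (Groth.Agent.H25.GeomRedEtale.isGeomReducedAt_comp_smooth_iff φ.left U.hom v).mpr
      (by rw [hv1]; exact hGR)
  have h2 : FBase.IsGeomReducedAt (ψ.left ≫ U'.hom) v := by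
    rw [Over.w ψ, ← Over.w φ]
    exact h1
  have h3 := (Groth.Agent.H25.GeomRedEtale.isGeomReducedAt_comp_smooth_iff ψ.left U'.hom v).mp h2
  rw [hv2] at h3
  exact h3

end Groth.Agent.H25.GeomRedAlgSp
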