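import Mathlib
import Groth.Prelude
import Groth.Agent.H25.GeomRedAlgSp
import Groth.Agent.H52.ProdAtlas

/-!
# Geometric reducedness of algebraic spaces over a field: etale morphisms and field extensions
(helper25)
-/

set_option autoImplicit false
set_option maxHeartbeats 400000
set_option linter.style.haveILetI false
set_option linter.unusedVariables false
set_option linter.unusedSectionVars false

universe u

open CategoryTheory CategoryTheory.Limits AlgebraicGeometry TopologicalSpace AlgSp

namespace Groth.Agent.H25.GeomRedAlgSp2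

open Groth.Agent.H25.GeomRedAlgSp Groth.Agent.H25.GeomRedEtale

variable {k : Type u} [Field k]

/-- `X` geometrically reduced at `x` iff `Y` geometrically reduced at `f x` when `f` is etale at `x`
(S10481). -/
theorem geomReducedAt_iff_of_etaleAt {F G : Sp (Spec (CommRingCat.of k))} (f : F ⟶ G)
    (x : Points F)
    (he : HasAtMor (fun U _ h u => ∃ W : U.Opens, u ∈ W ∧ Etale (W.ι ≫ h)) f x) :
    (∃ (U : Over (Spec (CommRingCat.of k)))
        (a : (yon (Spec (CommRingCat.of k))).obj U ⟶ F) (u : ↥U.left),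
        RepWith @Etale a ∧ Points.ofPt a u = x ∧ FBase.IsGeomReducedAt U.hom u) ↔
      (∃ (U : Over (Spec (CommRingCat.of k)))
        (a : (yon (Spec (CommRingCat.of k))).obj U ⟶ G) (u : ↥U.left),
        RepWith @Etale a ∧ Points.ofPt a u = Points.map f x ∧ FBase.IsGeomReducedAt U.hom u) := by
  obtain ⟨U, V, a, b, h, u, ha, hb, hcomm, hu, W, huW, hW⟩ := he
  have hpt : Points.ofPt b (h.left u) = Points.map f x := by
    rw [← hu, Points.map_ofPt, hcomm, Groth.Agent.H52.ofPt_yon_map_comp]
  haveI := hW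
  haveI : Smooth (W.ι ≫ h.left) := inferInstance
  haveI : Smooth W.ι := inferInstance
  have hw : (W.ι ≫ h.left) ≫ V.hom = W.ι ≫ U.hom := by rw [Category.assoc, Over.w h]
  have key : FBase.IsGeomReducedAt U.hom u ↔ FBase.IsGeomReducedAt V.hom (h.left u) := by
    have h1 : FBase.IsGeomReducedAt (W.ι ≫ U.hom) ⟨u, huW⟩ ↔ FBase.IsGeomReducedAt U.hom u :=
      isGeomReducedAt_comp_smooth_iff W.ι U.hom ⟨u, huW⟩
    have h2 : FBase.IsGeomReducedAt ((W.ι ≫ h.left) ≫ V.hom) ⟨u, huW⟩ ↔
        FBase.IsGeomReducedAt V.hom (h.left u) :=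
      isGeomReducedAt_comp_smooth_iff (W.ι ≫ h.left) V.hom ⟨u, huW⟩
    rw [hw] at h2
    exact h1.symm.trans h2
  constructor
  · rintro ⟨U₁, a₁, u₁, ha₁, hu₁, hGR⟩
    exact ⟨V, b, h.left u, hb, hpt,
      key.mp (geomReducedAt_transfer a₁ ha₁ a ha u₁ u (hu₁.trans hu.symm) hGR)⟩
  · rintro ⟨V₁, b₁, v₁, hb₁, hv₁, hGR⟩
    exact ⟨U, a, u, ha, hu,
      key.mpr (geomReducedAt_transfer b₁ hb₁ b hb v₁ (h.left u) (hv₁.trans hpt.symm) hGR)⟩

/-- Geometric reducedness along a surjective etale morphism (S10480). -/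
theorem geomReduced_iff_of_etale_surjective {F G : Sp (Spec (CommRingCat.of k))}
    (hF : IsAlgSpace F) (f : F ⟶ G) (he : IsEtaleMor f) (hs : IsSurjectiveMor f) :
    (∀ x : Points F, ∃ (U : Over (Spec (CommRingCat.of k)))
        (a : (yon (Spec (CommRingCat.of k))).obj U ⟶ F) (u : ↥U.left),
        RepWith @Etale a ∧ Points.ofPt a u = x ∧ FBase.IsGeomReducedAt U.hom u) ↔
      (∀ y : Points G, ∃ (U : Over (Spec (CommRingCat.of k)))
        (a : (yon (Spec (CommRingCat.of k))).obj U ⟶ G) (u : ↥U.left),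
        RepWith @Etale a ∧ Points.ofPt a u = y ∧ FBase.IsGeomReducedAt U.hom u) := by
  constructor
  · intro h y
    obtain ⟨x, rfl⟩ := hs y
    obtain ⟨U, a, u, ha, hu, hGR⟩ := h x
    refine ⟨U, a ≫ f, u, he a ha, ?_, hGR⟩
    rw [← hu]
    rfl
  · intro h x
    obtain ⟨U, p, hp, hsp⟩ := hF.atlas
    obtain ⟨u, hu⟩ := Groth.Agent.H52.surjective_ofPt_of_surjective p hsp x
    obtain ⟨V, b, v, hb, hv, hGR⟩ := h (Points.map f x)
    refine ⟨U, p, u, hp, hu, geomReducedAt_transfer b hb (p ≫ f) (he p hp) v u ?_ hGR⟩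
    rw [hv, ← hu]
    rfl

/-- Base-change invariance of geometric reducedness at a point, in `FBase` form. -/
theorem fbase_isGeomReducedAt_iff_bcStr {X : Scheme.{u}} (f : X ⟶ Spec (CommRingCat.of k))
    (K : Type u) [Field K] [Algebra k K] (x' : ↥(FBase.bc f K)) :
    FBase.IsGeomReducedAt f ((FBase.bcπ f K) x') ↔
      FBase.IsGeomReducedAt (FBase.bcStr f K) x' := by
  letI : X.Over (Spec (CommRingCat.of k)) := ⟨f⟩
  exact Groth.Agent.H25.StalkDesc.isGeomReducedAt_iff_baseChange k X K _ x' rfl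

/-- Reducedness passes between etale charts: if some etale surjective chart is reduced, every
etale chart is reduced. -/
theorem isReduced_of_chart {S : Scheme.{u}} {F : Sp S} {W U : Over S}
    (c : (yon S).obj W ⟶ F) (hc : RepWith @Etale c) (hcs : RepWith @Surjective c)
    [IsReduced W.left] (a : (yon S).obj U ⟶ F) (ha : RepWith @Etale a) : IsReduced U.left := by
  obtain ⟨V, ψ, fst, sq⟩ := hc.1 a
  obtain ⟨φ, rfl⟩ := (yon S).map_surjective fst
  haveI hψ : Etale ψ.left := hc.2 _ _ _ sq
  haveI hψs : Surjective ψ.left := hcs.2 _ _ _ sq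
  haveI hφ : Etale φ.left := ha.2 _ _ _ sq.flip
  haveI : Smooth φ.left := inferInstance
  haveI : Smooth ψ.left := inferInstance
  haveI : ∀ x : ↥U.left, _root_.IsReduced (U.left.presheaf.stalk x) := by
    intro x
    obtain ⟨v, rfl⟩ := hψs.surj x
    have hmemφ : v ∈ φ.left.smoothLocus := by
      rw [Scheme.Hom.smoothLocus_eq_top φ.left]
      trivial
    have hmemψ : v ∈ ψ.left.smoothLocus := by
      rw [Scheme.Hom.smoothLocus_eq_top ψ.left]
      trivial
    have h1 : _root_.IsReduced (V.left.presheaf.stalk v) :=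
      ((Groth.Agent.H25.SmoothStalk.reduced_normal_iff_of_smoothAt φ.left v hmemφ).1).mpr
        inferInstance
    exact ((Groth.Agent.H25.SmoothStalk.reduced_normal_iff_of_smoothAt ψ.left v hmemψ).1).mp h1
  exact isReduced_of_isReduced_stalk U.left

section BC

variable (K : Type u) [Field K] [Algebra k K]

/-- `Spec K` as a scheme over `Spec k`. -/
noncomputable abbrev TK : Over (Spec (CommRingCat.of k)) :=
  Over.mk (Spec.map (CommRingCat.ofHom (algebraMap k K)))

/-- Base change of a chart to `K`. -/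
noncomputable def chartBC {F : Sp (Spec (CommRingCat.of k))} {U : Over (Spec (CommRingCat.of k))}
    (a : (yon (Spec (CommRingCat.of k))).obj U ⟶ F) :
    (yon (Spec (CommRingCat.of k))).obj (U ⨯ TK K) ⟶
      F ⨯ (yon (Spec (CommRingCat.of k))).obj (TK K) :=
  prodComparison (yon (Spec (CommRingCat.of k))) U (TK K) ≫ prod.map a (𝟙 _)

theorem chartBC_fst {F : Sp (Spec (CommRingCat.of k))} {U : Over (Spec (CommRingCat.of k))}
    (a : (yon (Spec (CommRingCat.of k))).obj U ⟶ F) :
    chartBC K a ≫ prod.fst = (yon (Spec (CommRingCat.of k))).map prod.fst ≫ a := by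
  unfold chartBC
  rw [Category.assoc, prod.map_fst, ← Category.assoc, prodComparison_fst]

theorem chartBC_snd {F : Sp (Spec (CommRingCat.of k))} {U : Over (Spec (CommRingCat.of k))}
    (a : (yon (Spec (CommRingCat.of k))).obj U ⟶ F) :
    chartBC K a ≫ prod.snd = (yon (Spec (CommRingCat.of k))).map prod.snd := by
  unfold chartBC
  rw [Category.assoc, prod.map_snd, Category.comp_id, prodComparison_snd]

theorem repWith_chartBC {P : MorphismProperty Scheme.{u}} [P.IsStableUnderBaseChange]
    [P.IsMultiplicative] {F : Sp (Spec (CommRingCat.of k))}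
    {U : Over (Spec (CommRingCat.of k))}
    (a : (yon (Spec (CommRingCat.of k))).obj U ⟶ F) (ha : RepWith P a) :
    RepWith P (chartBC K a) :=
  Groth.Agent.H52.repWith_prodComparison_prod_map ha (repWith_id P (TK K))

/-- Geometric reducedness over `K` of the base-changed chart vs over `k` of the chart. -/
theorem isGeomReducedAt_prod_snd_iff (U : Over (Spec (CommRingCat.of k)))
    (u' : ↥(U ⨯ TK K).left) :
    FBase.IsGeomReducedAt (k := K) (prod.snd : U ⨯ TK K ⟶ TK K).left u' ↔
      FBase.IsGeomReducedAt U.hom ((prod.fst : U ⨯ TK K ⟶ U).left u') := by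
  let ι : (U ⨯ TK K).left ≅ FBase.bc U.hom K := Over.prodLeftIsoPullback U (TK K)
  have h1 : (prod.snd : U ⨯ TK K ⟶ TK K).left = ι.hom ≫ FBase.bcStr U.hom K :=
    (Over.prodLeftIsoPullback_hom_snd U (TK K)).symm
  have h2 : (prod.fst : U ⨯ TK K ⟶ U).left = ι.hom ≫ FBase.bcπ U.hom K :=
    (Over.prodLeftIsoPullback_hom_fst U (TK K)).symm
  haveI : Smooth ι.hom := inferInstance
  have h3 : (ι.hom ≫ FBase.bcπ U.hom K) u' = (FBase.bcπ U.hom K) (ι.hom u') :=
    Scheme.Hom.comp_apply _ _ _
  rw [h1, h2, h3]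
  exact (isGeomReducedAt_comp_smooth_iff (k := K) ι.hom (FBase.bcStr U.hom K) u').trans
    (fbase_isGeomReducedAt_iff_bcStr U.hom K (ι.hom u')).symm

/-- Lifting a point to the base-changed chart. -/
theorem exists_point_chartBC {F : Sp (Spec (CommRingCat.of k))}
    {U : Over (Spec (CommRingCat.of k))}
    (a : (yon (Spec (CommRingCat.of k))).obj U ⟶ F) (u : ↥U.left)
    (x' : Points (F ⨯ (yon (Spec (CommRingCat.of k))).obj (TK K)))
    (hx' : Points.map (prod.fst : F ⨯ (yon (Spec (CommRingCat.of k))).obj (TK K) ⟶ F) x' =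
      Points.ofPt a u) :
    ∃ u' : ↥(U ⨯ TK K).left, (prod.fst : U ⨯ TK K ⟶ U).left u' = u ∧
      Points.ofPt (chartBC K a) u' = x' := by
  have sq := Groth.Agent.H50.isPullback_prod_map_id a
    ((yon (Spec (CommRingCat.of k))).obj (TK K))
  obtain ⟨z, hz1, hz2⟩ := Groth.Agent.H52.exists_point_of_isPullback sq (Points.ofScheme U u) x'
    (by rw [hx', Points.ofPt_eq_map_ofScheme])
  obtain ⟨u', hu'⟩ := (Points.schemeEquiv (U ⨯ TK K)).surjective
    (Points.map (inv (prodComparison (yon (Spec (CommRingCat.of k))) U (TK K))) z)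
  have hu'' : Points.ofScheme (U ⨯ TK K) u' =
      Points.map (inv (prodComparison (yon (Spec (CommRingCat.of k))) U (TK K))) z := hu'
  have hz : Points.map (prodComparison (yon (Spec (CommRingCat.of k))) U (TK K))
      (Points.ofScheme (U ⨯ TK K) u') = z := by
    rw [hu'', ← Points.map_comp, IsIso.inv_hom_id, Points.map_id]
  refine ⟨u', ?_, ?_⟩
  · apply Groth.Agent.H52.ofScheme_injective U
    rw [← Groth.Agent.H52.map_yon_map_ofScheme,
      ← prodComparison_fst (yon (Spec (CommRingCat.of k))) (A := U) (B := TK K),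
      Points.map_comp, hz, hz1]
  · rw [Points.ofPt_eq_map_ofScheme]
    unfold chartBC
    rw [Points.map_comp, hz, hz2]

/-- Independence of the chart, for charts of a sheaf over `Spec K` viewed over `Spec k`. -/
theorem geomReducedAt_transfer_over {F : Sp (Spec (CommRingCat.of k))}
    (π : F ⟶ (yon (Spec (CommRingCat.of k))).obj (TK K))
    {U U' : Over (Spec (CommRingCat.of k))}
    (a : (yon (Spec (CommRingCat.of k))).obj U ⟶ F) (ha : RepWith @Etale a) (q : U ⟶ TK K)
    (hq : a ≫ π = (yon (Spec (CommRingCat.of k))).map q)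
    (a' : (yon (Spec (CommRingCat.of k))).obj U' ⟶ F) (ha' : RepWith @Etale a') (q' : U' ⟶ TK K)
    (hq' : a' ≫ π = (yon (Spec (CommRingCat.of k))).map q')
    (u : ↥U.left) (u' : ↥U'.left) (h : Points.ofPt a u = Points.ofPt a' u')
    (hGR : FBase.IsGeomReducedAt (k := K) q.left u) :
    FBase.IsGeomReducedAt (k := K) q'.left u' := by
  obtain ⟨V, ψ, fst, sq⟩ := ha.1 a'
  obtain ⟨φ, rfl⟩ := (yon (Spec (CommRingCat.of k))).map_surjective fst
  have hψ : Etale ψ.left := ha.2 _ _ _ sq
  have hφ : Etale φ.left := ha'.2 _ _ _ sq.flip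
  obtain ⟨v, hv1, hv2⟩ := Groth.Agent.H52.exists_of_ofPt_eq_ofPt sq u u' h
  haveI : Smooth φ.left := inferInstance
  haveI : Smooth ψ.left := inferInstance
  have hcomp : φ ≫ q = ψ ≫ q' := by
    apply (yon (Spec (CommRingCat.of k))).map_injective
    rw [Functor.map_comp, Functor.map_comp, ← hq, ← hq', ← Category.assoc, ← Category.assoc, sq.w]
  have hcompl : φ.left ≫ q.left = ψ.left ≫ q'.left := by
    have := congrArg CommaMorphism.left hcomp
    simpa using this
  have h1 : FBase.IsGeomReducedAt (k := K) (φ.left ≫ q.left) v :=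
    (isGeomReducedAt_comp_smooth_iff (k := K) φ.left q.left v).mpr (by rw [hv1]; exact hGR)
  rw [hcompl] at h1
  have h3 := (isGeomReducedAt_comp_smooth_iff (k := K) ψ.left q'.left v).mp h1
  rw [hv2] at h3
  exact h3

/-- The stalks of the base change of a chart are reduced when the product chart is reduced. -/
theorem isReduced_stalk_bc_of_isReduced_prod (U : Over (Spec (CommRingCat.of k)))
    [IsReduced (U ⨯ TK K).left] (z : ↥(FBase.bc U.hom K)) :
    _root_.IsReduced ((FBase.bc U.hom K).presheaf.stalk z) := by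
  let ι : FBase.bc U.hom K ≅ (U ⨯ TK K).left := (Over.prodLeftIsoPullback U (TK K)).symm
  haveI : IsIso (ι.hom.stalkMap z) := inferInstance
  let e : (U ⨯ TK K).left.presheaf.stalk (ι.hom z) ≃+* (FBase.bc U.hom K).presheaf.stalk z :=
    (asIso (ι.hom.stalkMap z)).commRingCatIsoToRingEquiv
  exact isReduced_of_injective e.symm.toRingHom e.symm.injective

/-- The product chart is reduced when the chart is geometrically reduced at all points. -/
theorem isReduced_prod_of_forall_geomReducedAt (U : Over (Spec (CommRingCat.of k)))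
    (h : ∀ u : ↥U.left, FBase.IsGeomReducedAt U.hom u) : IsReduced (U ⨯ TK K).left := by
  haveI : ∀ x : ↥(U ⨯ TK K).left, _root_.IsReduced ((U ⨯ TK K).left.presheaf.stalk x) := by
    intro u'
    let ι : (U ⨯ TK K).left ≅ FBase.bc U.hom K := Over.prodLeftIsoPullback U (TK K)
    haveI hred : _root_.IsReduced ((FBase.bc U.hom K).presheaf.stalk (ι.hom u')) :=
      h _ K (ι.hom u') rfl
    haveI : IsIso (ι.hom.stalkMap u') := inferInstance
    let e : (FBase.bc U.hom K).presheaf.stalk (ι.hom u') ≃+*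
        (U ⨯ TK K).left.presheaf.stalk u' :=
      (asIso (ι.hom.stalkMap u')).commRingCatIsoToRingEquiv
    exact isReduced_of_injective e.symm.toRingHom e.symm.injective
  exact isReduced_of_isReduced_stalk (U ⨯ TK K).left

end BC

section Main

/-- All points of an etale chart of a geometrically reduced space are geometrically reduced. -/
theorem forall_geomReducedAt_chart {F : Sp (Spec (CommRingCat.of k))}
    (h : ∀ x : Points F, ∃ (U : Over (Spec (CommRingCat.of k)))
        (a : (yon (Spec (CommRingCat.of k))).obj U ⟶ F) (u : ↥U.left),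
        RepWith @Etale a ∧ Points.ofPt a u = x ∧ FBase.IsGeomReducedAt U.hom u)
    {U : Over (Spec (CommRingCat.of k))} (p : (yon (Spec (CommRingCat.of k))).obj U ⟶ F)
    (hp : RepWith @Etale p) (u : ↥U.left) : FBase.IsGeomReducedAt U.hom u := by
  obtain ⟨U₁, a₁, u₁, ha₁, hu₁, hGR⟩ := h (Points.ofPt p u)
  exact geomReducedAt_transfer a₁ ha₁ p hp u₁ u hu₁ hGR

/-- If every base change has a reduced etale surjective chart, the chart `U` is geometrically
reduced at every point (only the extensions in `Q` are used). -/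
theorem isReduced_stalk_bc_of_etaleLocally {F : Sp (Spec (CommRingCat.of k))}
    {U : Over (Spec (CommRingCat.of k))} (p : (yon (Spec (CommRingCat.of k))).obj U ⟶ F)
    (hp : RepWith @Etale p) (K : Type u) [Field K] [Algebra k K]
    (h : EtaleLocally (fun U => IsReduced U) (F ⨯ (yon (Spec (CommRingCat.of k))).obj (TK K)))
    (z : ↥(FBase.bc U.hom K)) : _root_.IsReduced ((FBase.bc U.hom K).presheaf.stalk z) := by
  obtain ⟨W, c, hc, hcs, hW⟩ := h
  haveI : IsReduced W.left := hW
  haveI : IsReduced (U ⨯ TK K).left :=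
    isReduced_of_chart c hc hcs (chartBC K p) (repWith_chartBC K p hp)
  exact isReduced_stalk_bc_of_isReduced_prod K U z

/-- S10476 (no characteristic assumption needed). -/
theorem geomReduced_iff_forall_bc_isReduced {F : Sp (Spec (CommRingCat.of k))}
    (hF : IsAlgSpace F) :
    (∀ x : Points F, ∃ (U : Over (Spec (CommRingCat.of k)))
        (a : (yon (Spec (CommRingCat.of k))).obj U ⟶ F) (u : ↥U.left),
        RepWith @Etale a ∧ Points.ofPt a u = x ∧ FBase.IsGeomReducedAt U.hom u) ↔
      ∀ (K : Type u) [Field K] [Algebra k K], EtaleLocally (fun U => IsReduced U)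
        (F ⨯ (yon (Spec (CommRingCat.of k))).obj
          (Over.mk (Spec.map (CommRingCat.ofHom (algebraMap k K))))) := by
  obtain ⟨U, p, hp, hs⟩ := hF.atlas
  constructor
  · intro h K _ _
    exact ⟨U ⨯ TK K, chartBC K p, repWith_chartBC K p hp, repWith_chartBC K p hs,
      isReduced_prod_of_forall_geomReducedAt K U (fun u => forall_geomReducedAt_chart h p hp u)⟩
  · intro h x
    obtain ⟨u, hu⟩ := Groth.Agent.H52.surjective_ofPt_of_surjective p hs x
    refine ⟨U, p, u, hp, hu, ?_⟩
    intro K _ _ z hz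
    exact isReduced_stalk_bc_of_etaleLocally p hp K (h K) z

/-- S10478 (no characteristic assumption needed). -/
theorem bc_isReduced_of_bc_finite_purelyInseparable_isReduced
    {F : Sp (Spec (CommRingCat.of k))} (hF : IsAlgSpace F)
    (h : ∀ (k' : Type u) [Field k'] [Algebra k k'], Module.Finite k k' →
      IsPurelyInseparable k k' → EtaleLocally (fun U => IsReduced U)
        (F ⨯ (yon (Spec (CommRingCat.of k))).obj
          (Over.mk (Spec.map (CommRingCat.ofHom (algebraMap k k'))))))
    (K : Type u) [Field K] [Algebra k K] :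
    EtaleLocally (fun U => IsReduced U)
      (F ⨯ (yon (Spec (CommRingCat.of k))).obj
        (Over.mk (Spec.map (CommRingCat.ofHom (algebraMap k K))))) := by
  obtain ⟨U, p, hp, hs⟩ := hF.atlas
  have hGR : ∀ u : ↥U.left, FBase.IsGeomReducedAt U.hom u := by
    intro u
    letI : U.left.Over (Spec (CommRingCat.of k)) := ⟨U.hom⟩
    have key : Curv2.IsGeomReducedAt k U.left u := by
      apply Groth.Agent.H25.StalkBC.isGeomReducedAt_of_stalks
      intro k' _ _ hfin hpi x' hx'
      exact isReduced_stalk_bc_of_etaleLocally p hp k' (h k' hfin hpi) x'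
    exact key
  exact ⟨U ⨯ TK K, chartBC K p, repWith_chartBC K p hp, repWith_chartBC K p hs,
    isReduced_prod_of_forall_geomReducedAt K U hGR⟩

/-- S10479. -/
theorem geomReducedAt_iff_geomReducedAt_bc {F : Sp (Spec (CommRingCat.of k))}
    (hF : IsAlgSpace F) (K : Type u) [Field K] [Algebra k K] (x : Points F)
    (x' : Points (F ⨯ (yon (Spec (CommRingCat.of k))).obj (TK K)))
    (hx' : Points.map (prod.fst : F ⨯ (yon (Spec (CommRingCat.of k))).obj (TK K) ⟶ F) x' = x) :
    (∃ (U : Over (Spec (CommRingCat.of k)))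
        (a : (yon (Spec (CommRingCat.of k))).obj U ⟶ F) (u : ↥U.left),
        RepWith @Etale a ∧ Points.ofPt a u = x ∧ FBase.IsGeomReducedAt U.hom u) ↔
      ∃ (U' : Over (Spec (CommRingCat.of k)))
        (a' : (yon (Spec (CommRingCat.of k))).obj U' ⟶
          F ⨯ (yon (Spec (CommRingCat.of k))).obj (TK K))
        (q : U' ⟶ TK K) (u' : ↥U'.left),
        RepWith @Etale a' ∧ a' ≫ prod.snd = (yon (Spec (CommRingCat.of k))).map q ∧
          Points.ofPt a' u' = x' ∧ FBase.IsGeomReducedAt (k := K) q.left u' := by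
  constructor
  · rintro ⟨U, a, u, ha, hu, hGR⟩
    obtain ⟨u', hu'1, hu'2⟩ := exists_point_chartBC K a u x' (by rw [hx', hu])
    exact ⟨U ⨯ TK K, chartBC K a, prod.snd, u', repWith_chartBC K a ha, chartBC_snd K a, hu'2,
      (isGeomReducedAt_prod_snd_iff K U u').mpr (by rw [hu'1]; exact hGR)⟩
  · rintro ⟨U', a', q, u', ha', hq, hu', hGR⟩
    obtain ⟨U, p, hp, hs⟩ := hF.atlas
    obtain ⟨u, hu⟩ := Groth.Agent.H52.surjective_ofPt_of_surjective p hs x
    obtain ⟨u'', hu''1, hu''2⟩ := exists_point_chartBC K p u x' (by rw [hx', hu])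
    have h1 : FBase.IsGeomReducedAt (k := K) (prod.snd : U ⨯ TK K ⟶ TK K).left u'' :=
      geomReducedAt_transfer_over K prod.snd a' ha' q hq (chartBC K p) (repWith_chartBC K p hp)
        prod.snd (chartBC_snd K p) u' u'' (hu'.trans hu''2.symm) hGR
    refine ⟨U, p, u, hp, hu, ?_⟩
    have h2 := (isGeomReducedAt_prod_snd_iff K U u'').mp h1
    rw [hu''1] at h2
    exact h2

/-- Every point of `F` lifts to the base change. -/
theorem exists_point_bc {F : Sp (Spec (CommRingCat.of k))} (hF : IsAlgSpace F)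
    (K : Type u) [Field K] [Algebra k K] (x : Points F) :
    ∃ x' : Points (F ⨯ (yon (Spec (CommRingCat.of k))).obj (TK K)),
      Points.map (prod.fst : F ⨯ (yon (Spec (CommRingCat.of k))).obj (TK K) ⟶ F) x' = x := by
  obtain ⟨U, p, hp, hs⟩ := hF.atlas
  obtain ⟨u, hu⟩ := Groth.Agent.H52.surjective_ofPt_of_surjective p hs x
  have hsurj : Function.Surjective (pullback.fst U.hom
      (Spec.map (CommRingCat.ofHom (algebraMap k K)))) := Scheme.Hom.surjective _
  obtain ⟨z, hz⟩ := hsurj u
  let ι : FBase.bc U.hom K ≅ (U ⨯ TK K).left := (Over.prodLeftIsoPullback U (TK K)).symm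
  have hfst : ι.hom ≫ (prod.fst : U ⨯ TK K ⟶ U).left = pullback.fst U.hom
      (Spec.map (CommRingCat.ofHom (algebraMap k K))) :=
    Over.prodLeftIsoPullback_inv_fst U (TK K)
  refine ⟨Points.ofPt (chartBC K p) (ι.hom z), ?_⟩
  rw [Points.map_ofPt, chartBC_fst, Groth.Agent.H52.ofPt_yon_map_comp, ← hu]
  congr 1
  have h4 : (ι.hom ≫ (prod.fst : U ⨯ TK K ⟶ U).left) z = u := by
    rw [hfst]
    exact hz
  exact (Scheme.Hom.comp_apply ι.hom (prod.fst : U ⨯ TK K ⟶ U).left z).symm.trans h4

/-- S10502. -/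
theorem geomReduced_iff_geomReduced_bc {F : Sp (Spec (CommRingCat.of k))}
    (hF : IsAlgSpace F) (K : Type u) [Field K] [Algebra k K] :
    (∀ x : Points F, ∃ (U : Over (Spec (CommRingCat.of k)))
        (a : (yon (Spec (CommRingCat.of k))).obj U ⟶ F) (u : ↥U.left),
        RepWith @Etale a ∧ Points.ofPt a u = x ∧ FBase.IsGeomReducedAt U.hom u) ↔
      ∀ x' : Points (F ⨯ (yon (Spec (CommRingCat.of k))).obj (TK K)),
        ∃ (U' : Over (Spec (CommRingCat.of k)))
        (a' : (yon (Spec (CommRingCat.of k))).obj U' ⟶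
          F ⨯ (yon (Spec (CommRingCat.of k))).obj (TK K))
        (q : U' ⟶ TK K) (u' : ↥U'.left),
        RepWith @Etale a' ∧ a' ≫ prod.snd = (yon (Spec (CommRingCat.of k))).map q ∧
          Points.ofPt a' u' = x' ∧ FBase.IsGeomReducedAt (k := K) q.left u' := by
  constructor
  · intro h x'
    exact (geomReducedAt_iff_geomReducedAt_bc hF K _ x' rfl).mp (h _)
  · intro h x
    obtain ⟨x', hx'⟩ := exists_point_bc hF K x
    exact (geomReducedAt_iff_geomReducedAt_bc hF K x x' hx').mpr (h x')

end Main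

end Groth.Agent.H25.GeomRedAlgSp2
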