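import Mathlib
import Groth.Prelude
import Groth.Agent.H25.GeomRedAlgSp2
import Groth.Agent.H52.Decent

/-!
# Geometric reducedness of algebraic spaces over a field: algebraic closure, integrality
(helper25)
-/

set_option autoImplicit false
set_option maxHeartbeats 400000
set_option linter.style.haveILetI false
set_option linter.unusedVariables false
set_option linter.unusedSectionVars false

universe u

open CategoryTheory CategoryTheory.Limits AlgebraicGeometry TopologicalSpace AlgSp

namespace Groth.Agent.H25.GeomRedAlgSp3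

open Groth.Agent.H25.GeomRedAlgSp Groth.Agent.H25.GeomRedEtale Groth.Agent.H25.GeomRedAlgSp2

/-- The projection `F ⨯ h_T ⟶ F` is representable. -/
theorem representable_prod_fst {S : Scheme.{u}} (F : Sp S) (T : Over S) :
    Representable (prod.fst : F ⨯ (yon S).obj T ⟶ F) := by
  intro V g
  refine ⟨V ⨯ T, prod.fst, prodComparison (yon S) V T ≫ prod.map g (𝟙 _), ?_⟩
  have sq := (Groth.Agent.H50.isPullback_prod_map_id g ((yon S).obj T)).flip
  exact IsPullback.of_iso sq (asIso (prodComparison (yon S) V T)).symm (Iso.refl _) (Iso.refl _)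
    (Iso.refl _) (by simp) (by simp) (by simp) (by simp)

variable {k : Type u} [Field k]

/-- S10477 (no characteristic assumption needed). -/
theorem bc_isReduced_of_bc_algClosure_isReduced {F : Sp (Spec (CommRingCat.of k))}
    (hF : IsAlgSpace F) (kbar : Type u) [Field kbar] [Algebra k kbar] [IsAlgClosure k kbar]
    (h : EtaleLocally (fun U => IsReduced U)
      (F ⨯ (yon (Spec (CommRingCat.of k))).obj
        (Over.mk (Spec.map (CommRingCat.ofHom (algebraMap k kbar))))))
    (K : Type u) [Field K] [Algebra k K] :
    EtaleLocally (fun U => IsReduced U)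
      (F ⨯ (yon (Spec (CommRingCat.of k))).obj
        (Over.mk (Spec.map (CommRingCat.ofHom (algebraMap k K))))) := by
  obtain ⟨U, p, hp, hs⟩ := hF.atlas
  haveI : IsAlgClosed kbar := IsAlgClosure.isAlgClosed k
  have hGR : ∀ u : ↥U.left, FBase.IsGeomReducedAt U.hom u := by
    intro u
    have hsurj : Function.Surjective (pullback.fst U.hom
        (Spec.map (CommRingCat.ofHom (algebraMap k kbar)))) := Scheme.Hom.surjective _
    obtain ⟨z, hz⟩ := hsurj u
    exact Groth.Agent.H25.StalkDesc.fbase_isGeomReducedAt_of_perfect (Ω := kbar) U.hom u z hz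
      (isReduced_stalk_bc_of_etaleLocally p hp kbar h z)
  exact ⟨U ⨯ TK K, chartBC K p, repWith_chartBC K p hp, repWith_chartBC K p hs,
    isReduced_prod_of_forall_geomReducedAt K U hGR⟩

/-- S10497. -/
theorem geometricallyIntegral_iff {F : Sp (Spec (CommRingCat.of k))} (hF : IsAlgSpace F)
    (hX : IsDecent F) :
    (∀ (K : Type u) [Field K] [Algebra k K], IsIntegralSp
        (F ⨯ (yon (Spec (CommRingCat.of k))).obj
          (Over.mk (Spec.map (CommRingCat.ofHom (algebraMap k K)))))) ↔
      (∀ x : Points F, ∃ (U : Over (Spec (CommRingCat.of k)))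
        (a : (yon (Spec (CommRingCat.of k))).obj U ⟶ F) (u : ↥U.left),
        RepWith @Etale a ∧ Points.ofPt a u = x ∧ FBase.IsGeomReducedAt U.hom u) ∧
        ∀ (K : Type u) [Field K] [Algebra k K], IrreducibleSpace (Points
          (F ⨯ (yon (Spec (CommRingCat.of k))).obj
            (Over.mk (Spec.map (CommRingCat.ofHom (algebraMap k K)))))) := by
  constructor
  · intro h
    exact ⟨(geomReduced_iff_forall_bc_isReduced hF).mpr (fun K _ _ => (h K).1),
      fun K _ _ => (h K).2.2⟩
  · rintro ⟨h1, h2⟩ K _ _
    exact ⟨(geomReduced_iff_forall_bc_isReduced hF).mp h1 K,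
      Groth.Agent.H52.isDecent_of_representable _ (representable_prod_fst F _) hX, h2 K⟩

end Groth.Agent.H25.GeomRedAlgSp3
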