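import Mathlib
import Groth.Prelude
import Groth.Agent.H25.GeomRedAlgSp3

/-!
# Reducedness of algebraic spaces: perfect closure, pointwise criterion (helper25)
-/

set_option autoImplicit false
set_option maxHeartbeats 400000
set_option linter.style.haveILetI false
set_option linter.unusedVariables false
set_option linter.unusedSectionVars false

universe u

open CategoryTheory CategoryTheory.Limits AlgebraicGeometry TopologicalSpace AlgSp

namespace Groth.Agent.H25.GeomRedAlgSp4

open Groth.Agent.H25.GeomRedAlgSp Groth.Agent.H25.GeomRedEtale Groth.Agent.H25.GeomRedAlgSp2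

/-- Transfer between etale charts of a pointed-scheme property invariant under etale maps. -/
theorem hasAt_transfer {S : Scheme.{u}} (Q : ∀ U : Scheme.{u}, ↥U → Prop)
    (hQ : ∀ {V U : Scheme.{u}} (g : V ⟶ U) [Etale g] (v : ↥V), Q V v ↔ Q U (g v))
    {F : Sp S} {U U' : Over S}
    (a : (yon S).obj U ⟶ F) (ha : RepWith @Etale a)
    (a' : (yon S).obj U' ⟶ F) (ha' : RepWith @Etale a')
    (u : ↥U.left) (u' : ↥U'.left) (h : Points.ofPt a u = Points.ofPt a' u')
    (hu : Q U.left u) : Q U'.left u' := by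
  obtain ⟨V, ψ, fst, sq⟩ := ha.1 a'
  obtain ⟨φ, rfl⟩ := (yon S).map_surjective fst
  haveI hψ : Etale ψ.left := ha.2 _ _ _ sq
  haveI hφ : Etale φ.left := ha'.2 _ _ _ sq.flip
  obtain ⟨v, hv1, hv2⟩ := Groth.Agent.H52.exists_of_ofPt_eq_ofPt sq u u' h
  have h1 : Q V.left v := (hQ φ.left v).mpr (by rw [hv1]; exact hu)
  have h2 := (hQ ψ.left v).mp h1
  rw [hv2] at h2
  exact h2

/-- Reducedness of stalks is invariant under etale maps. -/
theorem isReduced_stalk_iff_of_etale {V U : Scheme.{u}} (g : V ⟶ U) [Etale g] (v : ↥V) :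
    _root_.IsReduced ↥(V.presheaf.stalk v) ↔ _root_.IsReduced ↥(U.presheaf.stalk (g v)) := by
  haveI : Smooth g := inferInstance
  have hmem : v ∈ g.smoothLocus := by
    rw [Scheme.Hom.smoothLocus_eq_top g]
    trivial
  exact (Groth.Agent.H25.SmoothStalk.reduced_normal_iff_of_smoothAt g v hmem).1

/-- S10222. -/
theorem isReducedSp_iff_forall_hasAt {S : Scheme.{u}} {F : Sp S} (hF : IsAlgSpace F) :
    IsReducedSp F ↔
      ∀ x : Points F, HasAt (fun U u => _root_.IsReduced ↥(U.presheaf.stalk u)) F x := by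
  constructor
  · rintro ⟨U, p, hp, hs, hred⟩ x
    obtain ⟨u, hu⟩ := Groth.Agent.H52.surjective_ofPt_of_surjective p hs x
    haveI : IsReduced U.left := hred
    exact ⟨U, p, u, hp, hu, inferInstance⟩
  · intro h
    obtain ⟨U, p, hp, hs⟩ := hF.atlas
    refine ⟨U, p, hp, hs, ?_⟩
    haveI : ∀ x : ↥U.left, _root_.IsReduced (U.left.presheaf.stalk x) := by
      intro u
      obtain ⟨U₁, a₁, u₁, ha₁, hu₁, hred⟩ := h (Points.ofPt p u)
      exact hasAt_transfer (fun U u => _root_.IsReduced ↥(U.presheaf.stalk u))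
        (fun g _ v => isReduced_stalk_iff_of_etale g v) a₁ ha₁ p hp u₁ u hu₁ hred
    exact isReduced_of_isReduced_stalk U.left

variable {k : Type u} [Field k]

/-- S12204 (no characteristic assumption needed). -/
theorem bc_isReduced_of_bc_perfectClosure_isReduced {F : Sp (Spec (CommRingCat.of k))}
    (hF : IsAlgSpace F) (k' : Type u) [Field k'] [Algebra k k'] [PerfectField k']
    (h : EtaleLocally (fun U => IsReduced U)
      (F ⨯ (yon (Spec (CommRingCat.of k))).obj
        (Over.mk (Spec.map (CommRingCat.ofHom (algebraMap k k'))))))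
    (K : Type u) [Field K] [Algebra k K] :
    EtaleLocally (fun U => IsReduced U)
      (F ⨯ (yon (Spec (CommRingCat.of k))).obj
        (Over.mk (Spec.map (CommRingCat.ofHom (algebraMap k K))))) := by
  obtain ⟨U, p, hp, hs⟩ := hF.atlas
  have hGR : ∀ u : ↥U.left, FBase.IsGeomReducedAt U.hom u := by
    intro u
    have hsurj : Function.Surjective (pullback.fst U.hom
        (Spec.map (CommRingCat.ofHom (algebraMap k k')))) := Scheme.Hom.surjective _
    obtain ⟨z, hz⟩ := hsurj u
    exact Groth.Agent.H25.StalkDesc.fbase_isGeomReducedAt_of_perfect (Ω := k') U.hom u z hz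
      (isReduced_stalk_bc_of_etaleLocally p hp k' h z)
  exact ⟨U ⨯ TK K, chartBC K p, repWith_chartBC K p hp, repWith_chartBC K p hs,
    isReduced_prod_of_forall_geomReducedAt K U hGR⟩

end Groth.Agent.H25.GeomRedAlgSp4
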