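import Mathlib
import Groth.Prelude
import Groth.Agent.H25.GeomRedAlgSp4
import Groth.Agent.H25.EtaleDimStalk

/-!
# Dimension of the local ring of an algebraic space at a point (helper25)
-/

set_option autoImplicit false
set_option maxHeartbeats 400000
set_option linter.style.haveILetI false
set_option linter.unusedVariables false
set_option linter.unusedSectionVars false

universe u

open CategoryTheory CategoryTheory.Limits AlgebraicGeometry TopologicalSpace AlgSp

namespace Groth.Agent.H25.AlgSpDim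

open Groth.Agent.H25.GeomRedAlgSp4 Groth.Agent.H25.EtaleDimStalk

/-- S10248. -/
theorem hasAt_ringKrullDim_iff_forall_chart {S : Scheme.{u}} {F : Sp S} (hF : IsAlgSpace F)
    (x : Points F) (d : WithBot ℕ∞) :
    HasAt (fun U u => ringKrullDim ↥(U.presheaf.stalk u) = d) F x ↔
      ∀ (U : Over S) (a : (yon S).obj U ⟶ F) (u : ↥U.left),
        RepWith @Etale a → Points.ofPt a u = x →
          ringKrullDim ↥(U.left.presheaf.stalk u) = d := by
  constructor
  · rintro ⟨U₁, a₁, u₁, ha₁, hu₁, hd⟩ U a u ha hu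
    exact hasAt_transfer (fun U u => ringKrullDim ↥(U.presheaf.stalk u) = d)
      (fun g _ v => by rw [ringKrullDim_stalk_eq_of_etale g v]) a₁ ha₁ a ha u₁ u
      (hu₁.trans hu.symm) hd
  · intro h
    obtain ⟨U, p, hp, hs⟩ := hF.atlas
    obtain ⟨u, hu⟩ := Groth.Agent.H52.surjective_ofPt_of_surjective p hs x
    exact ⟨U, p, u, hp, hu, h U p u hp hu⟩

/-- S10302. -/
theorem codimZero_map_of_flat {S : Scheme.{u}} {F G : Sp S} (hG : IsAlgSpace G) (f : F ⟶ G)
    (hf : LocP @Flat f) (x : Points F)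
    (hx : HasAt (fun U u => ringKrullDim ↥(U.presheaf.stalk u) = 0) F x) :
    HasAt (fun U u => ringKrullDim ↥(U.presheaf.stalk u) = 0) G (Points.map f x) := by
  obtain ⟨U, a, u, ha, hu, hd⟩ := hx
  obtain ⟨V, b, hb, hbs⟩ := hG.atlas
  obtain ⟨W, ψ, fst, sq⟩ := hb.1 (a ≫ f)
  obtain ⟨φ, rfl⟩ := (yon S).map_surjective fst
  haveI hψ : Etale ψ.left := hb.2 _ _ _ sq
  have hψs : Surjective ψ.left := hbs.2 _ _ _ sq
  obtain ⟨w, hw⟩ := hψs.surj u
  have h4 := AlgSp.repWith_isMultiplicative (S := S) @Etale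
  have ha' : RepWith @Etale ((yon S).map ψ ≫ a) :=
    (RepWith @Etale).comp_mem _ _ ((repWith_yon_map_iff _ _).2 hψ) ha
  have hcomm : ((yon S).map ψ ≫ a) ≫ f = (yon S).map φ ≫ b := by
    rw [Category.assoc]
    exact sq.w.symm
  haveI hflat : Flat φ.left := hf ((yon S).map ψ ≫ a) b φ ha' hb hcomm
  have hdw : ringKrullDim ↥(W.left.presheaf.stalk w) = 0 := by
    rw [ringKrullDim_stalk_eq_of_etale ψ.left w, hw]
    exact hd
  have hle := ringKrullDim_stalk_le_of_flat φ.left w
  rw [hdw] at hle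
  have hge : 0 ≤ ringKrullDim ↥(V.left.presheaf.stalk (φ.left w)) :=
    ringKrullDim_nonneg_of_nontrivial
  refine ⟨V, b, φ.left w, hb, ?_, le_antisymm hle hge⟩
  rw [← Groth.Agent.H52.ofPt_yon_map_comp, ← hcomm, ← Points.map_ofPt,
    Groth.Agent.H52.ofPt_yon_map_comp, hw, hu]

end Groth.Agent.H25.AlgSpDim
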