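import Mathlib
import Groth.Prelude
import Groth.Agent.H25.AlgSpDim
import Groth.Agent.H38.IntegralDim
import Groth.Agent.H50.Basic

/-!
# Dimension of algebraic spaces under etale surjective and integral morphisms (helper25)
-/

set_option autoImplicit false
set_option maxHeartbeats 400000
set_option linter.style.haveILetI false
set_option linter.unusedVariables false
set_option linter.unusedSectionVars false

universe u

open CategoryTheory CategoryTheory.Limits AlgebraicGeometry TopologicalSpace AlgSp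

namespace Groth.Agent.H25.AlgSpDim2

open Groth.Agent.H25.GeomRedAlgSp4 Groth.Agent.H25.EtaleDimStalk

theorem topologicalKrullDim_eq_iSup_stalk (X : Scheme.{u}) :
    topologicalKrullDim X = ⨆ x : X, ringKrullDim (X.presheaf.stalk x) := by
  have h1 : topologicalKrullDim X = Order.krullDim X := by
    unfold topologicalKrullDim
    exact Order.krullDim_eq_of_orderIso (irreducibleSetEquivPoints (α := X))
  rw [h1, Order.krullDim_eq_iSup_coheight]
  refine iSup_congr fun x => ?_
  exact (ringKrullDim_stalk_eq_coheight x).symm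

theorem ringKrullDim_stalk_le_topologicalKrullDim (X : Scheme.{u}) (x : X) :
    ringKrullDim (X.presheaf.stalk x) ≤ topologicalKrullDim X := by
  rw [topologicalKrullDim_eq_iSup_stalk]
  exact le_iSup (fun x : X => ringKrullDim (X.presheaf.stalk x)) x

variable {S : Scheme.{u}}

/-- The dimension of the local ring at a point does not depend on the etale chart. -/
theorem stalk_dim_eq_of_charts {F : Sp S} {U U' : Over S}
    (a : (yon S).obj U ⟶ F) (ha : RepWith @Etale a)
    (a' : (yon S).obj U' ⟶ F) (ha' : RepWith @Etale a')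
    (u : ↥U.left) (u' : ↥U'.left) (h : Points.ofPt a u = Points.ofPt a' u') :
    ringKrullDim ↥(U.left.presheaf.stalk u) = ringKrullDim ↥(U'.left.presheaf.stalk u') :=
  (hasAt_transfer
    (fun W w => ringKrullDim ↥(W.presheaf.stalk w) = ringKrullDim ↥(U.left.presheaf.stalk u))
    (fun g _ v => by rw [ringKrullDim_stalk_eq_of_etale g v]) a ha a' ha' u u' h rfl).symm

theorem topologicalKrullDim_le_dim {F : Sp S} {U : Over S} (a : (yon S).obj U ⟶ F)
    (ha : RepWith @Etale a) : topologicalKrullDim ↥U.left ≤ AlgSp.dim F := by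
  unfold AlgSp.dim
  exact le_iSup_of_le U (le_iSup_of_le a (le_iSup_of_le ha le_rfl))

theorem dim_le_of_forall_stalk {F : Sp S} (D : WithBot ℕ∞)
    (h : ∀ (U : Over S) (a : (yon S).obj U ⟶ F), RepWith @Etale a → ∀ u : ↥U.left,
      ringKrullDim ↥(U.left.presheaf.stalk u) ≤ D) : AlgSp.dim F ≤ D := by
  unfold AlgSp.dim
  refine iSup_le fun U => iSup_le fun a => iSup_le fun ha => ?_
  rw [topologicalKrullDim_eq_iSup_stalk]
  exact iSup_le fun u => h U a ha u

/-- Restriction of a chart to an affine open neighbourhood of a point. -/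
theorem exists_affine_chart {F : Sp S} {V : Over S} (b : (yon S).obj V ⟶ F)
    (hb : RepWith @Etale b) (v : ↥V.left) :
    ∃ (V₀ : Over S) (b₀ : (yon S).obj V₀ ⟶ F) (v₀ : ↥V₀.left), IsAffine V₀.left ∧
      RepWith @Etale b₀ ∧ Points.ofPt b₀ v₀ = Points.ofPt b v := by
  obtain ⟨W, hW, hvW, -⟩ := TopologicalSpace.Opens.isBasis_iff_nbhd.mp V.left.isBasis_affineOpens
    (U := ⊤) (x := v) trivial
  let W' : V.left.Opens := W
  have hWa : IsAffineOpen W' := hW
  let j : Over.mk (W'.ι ≫ V.hom) ⟶ V := Over.homMk W'.ι rfl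
  have hj : RepWith @Etale ((yon S).map j) :=
    (repWith_yon_map_iff @Etale j).2 (by change Etale W'.ι; infer_instance)
  have h4 := AlgSp.repWith_isMultiplicative (S := S) @Etale
  refine ⟨Over.mk (W'.ι ≫ V.hom), (yon S).map j ≫ b, (⟨v, hvW⟩ : ↥W'), hWa,
    (RepWith @Etale).comp_mem _ _ hj hb, ?_⟩
  have h5 := Groth.Agent.H52.ofPt_yon_map_comp j b (⟨v, hvW⟩ : ↥W')
  exact h5.trans (congrArg (Points.ofPt b) rfl)

/-- S10250. -/
theorem dim_eq_of_etale_surjective {X Y : Sp S} (hX : IsAlgSpace X) (f : X ⟶ Y)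
    (hf : IsEtaleMor f) (hs : IsSurjectiveMor f) : AlgSp.dim X = AlgSp.dim Y := by
  apply le_antisymm
  · unfold AlgSp.dim
    exact iSup_le fun U => iSup_le fun a => iSup_le fun ha =>
      topologicalKrullDim_le_dim (a ≫ f) (hf a ha)
  · refine dim_le_of_forall_stalk _ fun V b hb v => ?_
    obtain ⟨x, hx⟩ := hs (Points.ofPt b v)
    obtain ⟨U, a, ha, has⟩ := hX.atlas
    obtain ⟨u, hu⟩ := Groth.Agent.H52.surjective_ofPt_of_surjective a has x
    have h1 : Points.ofPt b v = Points.ofPt (a ≫ f) u := by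
      rw [← Points.map_ofPt, hu, hx]
    rw [stalk_dim_eq_of_charts b hb (a ≫ f) (hf a ha) v u h1]
    exact (ringKrullDim_stalk_le_topologicalKrullDim U.left u).trans
      (topologicalKrullDim_le_dim a ha)

/-- S10448. -/
theorem dim_le_of_isIntegralMor {X Y : Sp S} (hY : IsAlgSpace Y) (f : X ⟶ Y)
    (hf : IsIntegralMor f) : AlgSp.dim X ≤ AlgSp.dim Y := by
  refine dim_le_of_forall_stalk _ fun U a ha u => ?_
  obtain ⟨V, b, hb, hbs⟩ := hY.atlas
  obtain ⟨v, hv⟩ := Groth.Agent.H52.surjective_ofPt_of_surjective b hbs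
    (Points.map f (Points.ofPt a u))
  obtain ⟨V₀, b₀, v₀, hV₀, hb₀, hv₀⟩ := exists_affine_chart b hb v
  obtain ⟨W, i, fst, sq, hWaff, hint⟩ := hf hV₀ b₀
  have hfst : RepWith @Etale fst := Groth.Agent.H50.repWith_fst_of_isPullback sq hb₀
  obtain ⟨z, hz1, hz2⟩ := Groth.Agent.H52.exists_point_of_isPullback sq (Points.ofPt a u)
    (Points.ofScheme V₀ v₀) (by rw [← Points.ofPt_eq_map_ofScheme, hv₀, hv])
  obtain ⟨w, rfl⟩ := (Points.schemeEquiv W).surjective z
  change Points.map _ (Points.ofScheme W w) = _ at hz1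
  rw [← Points.ofPt_eq_map_ofScheme] at hz1
  rw [stalk_dim_eq_of_charts a ha fst hfst u w hz1.symm]
  haveI := hint
  exact ((ringKrullDim_stalk_le_topologicalKrullDim W.left w).trans
    (Groth.Agent.H38.IntegralDim.topologicalKrullDim_le_of_isIntegralHom i.left)).trans
    (topologicalKrullDim_le_dim b₀ hb₀)

/-- S10449. -/
theorem dim_le_of_isIntegralMor_surjective {X Y : Sp S} (f : X ⟶ Y)
    (hf : IsIntegralMor f) (hs : IsSurjectiveMor f) : AlgSp.dim Y ≤ AlgSp.dim X := by
  refine dim_le_of_forall_stalk _ fun V b hb v => ?_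
  obtain ⟨V₀, b₀, v₀, hV₀, hb₀, hv₀⟩ := exists_affine_chart b hb v
  obtain ⟨W, i, fst, sq, hWaff, hint⟩ := hf hV₀ b₀
  have hfst : RepWith @Etale fst := Groth.Agent.H50.repWith_fst_of_isPullback sq hb₀
  haveI := hint
  haveI : Surjective i.left := by
    refine ⟨fun t => ?_⟩
    obtain ⟨x', hx'⟩ := hs (Points.ofPt b₀ t)
    obtain ⟨z, hz1, hz2⟩ := Groth.Agent.H52.exists_point_of_isPullback sq x'
      (Points.ofScheme V₀ t) (by rw [← Points.ofPt_eq_map_ofScheme, hx'])
    obtain ⟨w, rfl⟩ := (Points.schemeEquiv W).surjective z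
    change Points.map _ (Points.ofScheme W w) = _ at hz2
    rw [Groth.Agent.H52.map_yon_map_ofScheme] at hz2
    exact ⟨w, Groth.Agent.H52.ofScheme_injective V₀ hz2⟩
  rw [stalk_dim_eq_of_charts b hb b₀ hb₀ v v₀ hv₀.symm]
  have h1 := Groth.Agent.H38.IntegralDim.topologicalKrullDim_eq_of_isIntegralHom_of_surjective
    i.left
  exact ((ringKrullDim_stalk_le_topologicalKrullDim V₀.left v₀).trans h1.ge).trans
    (topologicalKrullDim_le_dim fst hfst)

end Groth.Agent.H25.AlgSpDim2
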