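import Groth.Prelude.Def_EGA43
import Mathlib.AlgebraicGeometry.PullbackCarrier
import Mathlib.AlgebraicGeometry.Morphisms.UnderlyingMap

set_option autoImplicit false
universe u

namespace Groth.Agent.H25

open CategoryTheory AlgebraicGeometry Limits

theorem isOpenAt_comp {α β γ : Type*} [TopologicalSpace α] [TopologicalSpace β]
    [TopologicalSpace γ] (f : α → β) (g : β → γ) (x : α) (hf : EGA43.IsOpenAt f x)
    (hg : EGA43.IsOpenAt g (f x)) : EGA43.IsOpenAt (g ∘ f) x := by
  intro U hU
  rw [Set.image_comp]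
  exact hg _ (hf U hU)

theorem isOpenAt_of_isOpenMap {α β : Type*} [TopologicalSpace α] [TopologicalSpace β]
    (f : α → β) (hf : IsOpenMap f) (x : α) : EGA43.IsOpenAt f x :=
  fun _ hU => hf.image_mem_nhds hU

theorem isOpenAt_of_comp {α β α' : Type*} [TopologicalSpace α]
    [TopologicalSpace β] [TopologicalSpace α'] (ψ : α → β) (γ : α' → α) (hγ : Continuous γ)
    (x' : α') (h : EGA43.IsOpenAt (ψ ∘ γ) x') : EGA43.IsOpenAt ψ (γ x') := by
  intro V hV
  have h1 : γ ⁻¹' V ∈ nhds x' := hγ.continuousAt hV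
  have h2 := h _ h1
  refine Filter.mem_of_superset h2 ?_
  rintro _ ⟨a, ha, rfl⟩
  exact ⟨γ a, ha, rfl⟩

/-- Universal openness at a point can be tested on any pullback square. -/
theorem isOpenAt_of_isPullback {X Y Y' P : Scheme.{u}} {f : X ⟶ Y} {g : Y' ⟶ Y} {p : P ⟶ X}
    {q : P ⟶ Y'} (sq : IsPullback p q f g) (x : X) (h : EGA43.IsUnivOpenAt f x) (x' : P)
    (hx' : p.base x' = x) : EGA43.IsOpenAt q.base x' := by
  have hq : q = sq.isoPullback.hom ≫ pullback.snd f g := by simp
  have hp : p = sq.isoPullback.hom ≫ pullback.fst f g := by simp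
  have h1 := h Y' g (sq.isoPullback.hom.base x') (by rw [← hx', ← Scheme.Hom.comp_apply, IsPullback.isoPullback_hom_fst])
  have h2 : EGA43.IsOpenAt sq.isoPullback.hom.base x' :=
    isOpenAt_of_isOpenMap _ (sq.isoPullback.hom.homeomorph).isOpenMap _
  have h3 := isOpenAt_comp _ _ _ h2 h1
  have h4 : (q.base : P → Y') = (pullback.snd f g).base ∘ sq.isoPullback.hom.base := by
    conv_lhs => rw [hq]
    rfl
  rw [h4]
  exact h3

/-- Universal openness at a point is stable under base change (any pullback square). -/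
theorem isUnivOpenAt_of_isPullback {X Y Y' P : Scheme.{u}} {f : X ⟶ Y} {g : Y' ⟶ Y} {p : P ⟶ X}
    {q : P ⟶ Y'} (sq : IsPullback p q f g) (x : X) (h : EGA43.IsUnivOpenAt f x) (x' : P)
    (hx' : p.base x' = x) : EGA43.IsUnivOpenAt q x' := by
  intro Y'' g' x'' hx''
  -- paste: pullback q g' over P over X
  have sq2 : IsPullback (pullback.fst q g') (pullback.snd q g') q g' := IsPullback.of_hasPullback q g'
  have sq3 : IsPullback (pullback.fst q g' ≫ p) (pullback.snd q g') f (g' ≫ g) :=
    (sq2.flip.paste_vert sq.flip).flip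
  refine isOpenAt_of_isPullback sq3 x h x'' ?_
  rw [← hx', ← hx'']
  rfl

end Groth.Agent.H25
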