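import Mathlib

set_option autoImplicit false
set_option maxHeartbeats 400000
set_option linter.style.haveILetI false
universe u
open AlgebraicGeometry CategoryTheory TopologicalSpace

namespace Groth.Agent.H25.DimLocal

/-- ring level: a minimal prime over `pB` inside `P₀` has height at most the height of `p`. -/
theorem exists_prime_height_le {A B : Type*} [CommRing A] [CommRing B] [IsNoetherianRing A]
    [IsNoetherianRing B]
    (φ : A →+* B) (p : Ideal A) [p.IsPrime] (P₀ : Ideal B) [P₀.IsPrime] (h : P₀.comap φ = p) :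
    ∃ Q : Ideal B, Q.IsPrime ∧ Q ≤ P₀ ∧ Q.comap φ = p ∧ Q.height ≤ p.height := by
  letI : Algebra A B := φ.toAlgebra
  have hle : p.map φ ≤ P₀ := by rw [Ideal.map_le_iff_le_comap, h]
  obtain ⟨Q, hQ, hQP⟩ := Ideal.exists_minimalPrimes_le hle
  haveI : Q.IsPrime := hQ.1.1
  have hQc : Q.comap φ = p := by
    apply le_antisymm
    · rw [← h]; exact Ideal.comap_mono hQP
    · rw [← Ideal.map_le_iff_le_comap]; exact hQ.1.2
  haveI : Q.LiesOver p := ⟨hQc.symm⟩
  refine ⟨Q, inferInstance, hQP, hQc, ?_⟩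
  have h1 := Ideal.height_le_height_add_of_liesOver p Q
  have h2 : (Q.map (Ideal.Quotient.mk (p.map (algebraMap A B)))).height = 0 := by
    have hQ' : Q ∈ (p.map (algebraMap A B)).minimalPrimes := hQ
    rw [Ideal.minimalPrimes_eq_comap] at hQ'
    obtain ⟨q', hq', hq'Q⟩ := hQ'
    rw [← hq'Q, Ideal.map_comap_of_surjective _ Ideal.Quotient.mk_surjective]
    haveI := hq'.1.1
    exact Ideal.height_eq_zero_iff.mpr hq'
  rw [h2, add_zero] at h1
  exact h1

theorem ringKrullDim_eq_add_of_flat {A B : Type*} [CommRing A] [CommRing B] [IsLocalRing A]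
    [IsLocalRing B] [IsNoetherianRing A] [IsNoetherianRing B] (φ : A →+* B) [IsLocalHom φ]
    (hφ : φ.Flat) :
    ringKrullDim B =
      ringKrullDim A + ringKrullDim (B ⧸ (IsLocalRing.maximalIdeal A).map φ) := by
  letI : Algebra A B := φ.toAlgebra
  haveI : Module.Flat A B := hφ
  haveI : IsLocalHom (algebraMap A B) := ‹IsLocalHom φ›
  have h := Ideal.height_eq_height_add_of_liesOver_of_hasGoingDown (IsLocalRing.maximalIdeal A)
    (IsLocalRing.maximalIdeal B)
  have hI : (IsLocalRing.maximalIdeal A).map (algebraMap A B) ≤ IsLocalRing.maximalIdeal B :=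
    IsLocalRing.map_maximalIdeal_le _
  haveI : Nontrivial (B ⧸ (IsLocalRing.maximalIdeal A).map (algebraMap A B)) :=
    Ideal.Quotient.nontrivial_iff.mpr
      (ne_top_of_le_ne_top (IsLocalRing.maximalIdeal.isMaximal B).ne_top hI)
  haveI : IsLocalRing (B ⧸ (IsLocalRing.maximalIdeal A).map (algebraMap A B)) :=
    IsLocalRing.of_surjective' (Ideal.Quotient.mk _) Ideal.Quotient.mk_surjective
  have hmax : (IsLocalRing.maximalIdeal B).map
      (Ideal.Quotient.mk ((IsLocalRing.maximalIdeal A).map (algebraMap A B))) =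
      IsLocalRing.maximalIdeal (B ⧸ (IsLocalRing.maximalIdeal A).map (algebraMap A B)) := by
    apply IsLocalRing.eq_maximalIdeal
    exact Ideal.IsMaximal.map_of_surjective_of_ker_le Ideal.Quotient.mk_surjective
      (by rw [Ideal.mk_ker]; exact hI)
  rw [hmax] at h
  change ringKrullDim B = ringKrullDim A +
    ringKrullDim (B ⧸ (IsLocalRing.maximalIdeal A).map (algebraMap A B))
  rw [← IsLocalRing.maximalIdeal_height_eq_ringKrullDim (R := B),
    ← IsLocalRing.maximalIdeal_height_eq_ringKrullDim (R := A),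
    ← IsLocalRing.maximalIdeal_height_eq_ringKrullDim
      (R := B ⧸ (IsLocalRing.maximalIdeal A).map (algebraMap A B)), h]
  push_cast
  rfl

theorem ringKrullDim_le_of_flat {A B : Type*} [CommRing A] [CommRing B] [IsLocalRing A]
    [IsLocalRing B] [IsNoetherianRing A] [IsNoetherianRing B] (φ : A →+* B) [IsLocalHom φ]
    (hφ : φ.Flat) :
    ringKrullDim A ≤ ringKrullDim B := by
  letI : Algebra A B := φ.toAlgebra
  haveI : Module.Flat A B := hφ
  haveI : IsLocalHom (algebraMap A B) := ‹IsLocalHom φ›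
  have h := Ideal.height_eq_height_add_of_liesOver_of_hasGoingDown (IsLocalRing.maximalIdeal A)
    (IsLocalRing.maximalIdeal B)
  rw [← IsLocalRing.maximalIdeal_height_eq_ringKrullDim (R := B),
    ← IsLocalRing.maximalIdeal_height_eq_ringKrullDim (R := A), h]
  exact_mod_cast le_self_add

theorem exists_point_dim_le {X Y : Scheme.{u}} [IsLocallyNoetherian X] [IsLocallyNoetherian Y]
    (f : X ⟶ Y) (x₀ : X) :
    ∃ x : X, f.base x = f.base x₀ ∧
      ringKrullDim (X.presheaf.stalk x) ≤ ringKrullDim (Y.presheaf.stalk (f.base x₀)) := by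
  obtain ⟨V, hV, hyV, -⟩ := exists_isAffineOpen_mem_and_subset (x := f.base x₀)
    (U := (⊤ : Y.Opens)) trivial
  obtain ⟨U, hU, hxU, hUV⟩ := exists_isAffineOpen_mem_and_subset (x := x₀) (U := f ⁻¹ᵁ V) hyV
  haveI : IsNoetherianRing Γ(X, U) := IsLocallyNoetherian.component_noetherian ⟨U, hU⟩
  haveI : IsNoetherianRing Γ(Y, V) := IsLocallyNoetherian.component_noetherian ⟨V, hV⟩
  have hc : (hU.primeIdealOf ⟨x₀, hxU⟩).asIdeal.comap (f.appLE V U hUV).hom =
      (hV.primeIdealOf ⟨f.base x₀, hUV hxU⟩).asIdeal :=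
    congrArg PrimeSpectrum.asIdeal (IsAffineOpen.comap_primeIdealOf_appLE V hV U hU hUV hxU)
  obtain ⟨Q, hQprime, hQP, hQc, hQh⟩ := exists_prime_height_le (f.appLE V U hUV).hom
    (hV.primeIdealOf ⟨f.base x₀, hUV hxU⟩).asIdeal (hU.primeIdealOf ⟨x₀, hxU⟩).asIdeal hc
  have hxU' : hU.fromSpec.base ⟨Q, hQprime⟩ ∈ U := by
    rw [← SetLike.mem_coe, ← hU.range_fromSpec]
    exact ⟨_, rfl⟩
  have hQ' : hU.primeIdealOf ⟨hU.fromSpec.base ⟨Q, hQprime⟩, hxU'⟩ = ⟨Q, hQprime⟩ :=
    hU.fromSpec.isOpenEmbedding.injective (hU.fromSpec_primeIdealOf ⟨_, hxU'⟩)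
  refine ⟨hU.fromSpec.base ⟨Q, hQprime⟩, ?_, ?_⟩
  · have e1 := IsAffineOpen.comap_primeIdealOf_appLE V hV U hU hUV hxU'
    rw [hQ'] at e1
    have e2 : PrimeSpectrum.comap (f.appLE V U hUV).hom ⟨Q, hQprime⟩ =
        hV.primeIdealOf ⟨f.base x₀, hUV hxU⟩ := PrimeSpectrum.ext hQc
    have e3 := e1.symm.trans e2
    have e4 := hV.fromSpec_primeIdealOf ⟨f.base (hU.fromSpec.base ⟨Q, hQprime⟩), hUV hxU'⟩
    rw [e3] at e4
    have e5 := hV.fromSpec_primeIdealOf ⟨f.base x₀, hUV hxU⟩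
    exact e4.symm.trans e5
  · have d1 : ringKrullDim (X.presheaf.stalk (hU.fromSpec.base ⟨Q, hQprime⟩)) = Q.height := by
      letI := TopCat.Presheaf.algebra_section_stalk X.presheaf
        (⟨hU.fromSpec.base ⟨Q, hQprime⟩, hxU'⟩ : U)
      haveI := hU.isLocalization_stalk ⟨hU.fromSpec.base ⟨Q, hQprime⟩, hxU'⟩
      have := IsLocalization.AtPrime.ringKrullDim_eq_height
        (hU.primeIdealOf ⟨hU.fromSpec.base ⟨Q, hQprime⟩, hxU'⟩).asIdeal
        (X.presheaf.stalk (hU.fromSpec.base ⟨Q, hQprime⟩))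
      rw [this, hQ']
    have d2 : ringKrullDim (Y.presheaf.stalk (f.base x₀)) =
        (hV.primeIdealOf ⟨f.base x₀, hUV hxU⟩).asIdeal.height := by
      letI := TopCat.Presheaf.algebra_section_stalk Y.presheaf (⟨f.base x₀, hUV hxU⟩ : V)
      haveI := hV.isLocalization_stalk ⟨f.base x₀, hUV hxU⟩
      exact IsLocalization.AtPrime.ringKrullDim_eq_height _ _
    rw [d1, d2]
    exact_mod_cast hQh

end Groth.Agent.H25.DimLocal
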