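import Mathlib
import Groth.Prelude.Def_ARSys
set_option autoImplicit false
universe u v₁ u₁
open CategoryTheory CategoryTheory.Limits AlgebraicGeometry Opposite

/-! (L) for helper20's S13620 squad: if the kernel of `v : Y ⟶ F` is AR-null and `lim F = 0`,
then `lim Y = 0`. -/

namespace Groth.Agent.H25.ARNull_L

theorem isZero_limit_of_isARNull_kernel {C : Type u₁} [Category.{v₁} C] [Abelian C] [HasLimitsOfShape ℕᵒᵖ C] {Y F : ARSys.PS C} (v : Y ⟶ F) (hk : ARSys.IsARNull (kernel v)) (h0 : IsZero (limit F)) : IsZero (limit Y) := by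
  obtain ⟨r, hr⟩ := hk
  rw [IsZero.iff_id_eq_zero]
  apply limit.hom_ext
  intro j
  rw [Category.id_comp, zero_comp]
  obtain ⟨n⟩ := j
  let c : (Functor.const ℕᵒᵖ).obj (limit Y) ⟶ Y := (limit.cone Y).π
  have hc : c ≫ v = 0 := by
    ext k
    rw [NatTrans.comp_app, Limits.zero_app]
    show limit.π Y k ≫ v.app k = 0
    rw [← limMap_π, h0.eq_of_tgt (limMap v) 0, zero_comp]
  have hℓ : kernel.lift v c hc ≫ kernel.ι v = c := kernel.lift_ι v c hc
  have h1 : limit.π Y (op (n + r)) =
      (kernel.lift v c hc).app (op (n + r)) ≫ (kernel.ι v).app (op (n + r)) := by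
    rw [← NatTrans.comp_app, hℓ]
    rfl
  have hf' : (kernel v).map (homOfLE (Nat.le_add_right n r)).op = 0 := hr n
  rw [← limit.w Y (homOfLE (Nat.le_add_right n r)).op, h1, Category.assoc,
    ← (kernel.ι v).naturality, hf', zero_comp, comp_zero]

end Groth.Agent.H25.ARNull_L
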