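import Mathlib
import Groth.Prelude

set_option maxHeartbeats 400000
set_option linter.style.haveILetI false
set_option linter.unusedVariables false
set_option linter.unusedSectionVars false

open CategoryTheory CategoryTheory.Limits AlgebraicGeometry TopologicalSpace Opposite TensorProduct

universe u

namespace Groth.Agent.H25.AffineTensor

variable {k : Type u} [Field k]

/-- The `k`-algebra structure on the sections over an open of a `k`-scheme. -/
@[reducible] noncomputable def sectionsAlgebra {X : Scheme.{u}}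
    (f : X ⟶ Spec (CommRingCat.of k)) (U : X.Opens) : Algebra k Γ(X, U) :=
  ((Scheme.ΓSpecIso (CommRingCat.of k)).inv ≫ f.appLE ⊤ U le_top).hom.toAlgebra

/-- Products of affine opens are affine opens of the fibre product. -/
theorem isAffineOpen_inf_preimage {X Y : Scheme.{u}} (f : X ⟶ Spec (CommRingCat.of k))
    (g : Y ⟶ Spec (CommRingCat.of k)) {U : X.Opens} (hU : IsAffineOpen U) {V : Y.Opens}
    (hV : IsAffineOpen V) :
    IsAffineOpen ((pullback.fst f g) ⁻¹ᵁ U ⊓ (pullback.snd f g) ⁻¹ᵁ V) := by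
  have H : IsPullback (pullback.fst f g) (pullback.snd f g) f g := IsPullback.of_hasPullback f g
  have hUS : IsAffineOpen (⊤ : (Spec (CommRingCat.of k)).Opens) := isAffineOpen_top _
  have hUST : V ≤ g ⁻¹ᵁ (⊤ : (Spec (CommRingCat.of k)).Opens) := le_top
  have hUSX : U ≤ f ⁻¹ᵁ (⊤ : (Spec (CommRingCat.of k)).Opens) := le_top
  have : IsAffine _ := hUS
  have : IsAffine _ := hV
  have : IsAffine _ := hU
  exact .of_isIso (Scheme.Hom.isPullback_resLE H hUST hUSX rfl).isoPullback.hom

/-- The ring of sections over a product of affine opens is the tensor product. -/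
theorem exists_ringEquiv_sections_pullback {X Y : Scheme.{u}} (f : X ⟶ Spec (CommRingCat.of k))
    (g : Y ⟶ Spec (CommRingCat.of k)) (U : X.Opens) (hU : IsAffineOpen U) (V : Y.Opens)
    (hV : IsAffineOpen V) :
    letI := sectionsAlgebra f U
    letI := sectionsAlgebra g V
    ∃ e : Γ(X, U) ⊗[k] Γ(Y, V) ≃+*
        Γ(pullback f g, (pullback.fst f g) ⁻¹ᵁ U ⊓ (pullback.snd f g) ⁻¹ᵁ V),
      (∀ a : Γ(X, U), e (a ⊗ₜ[k] 1) = ((pullback.fst f g).appLE U _ inf_le_left).hom a) ∧
      (∀ b : Γ(Y, V), e (1 ⊗ₜ[k] b) = ((pullback.snd f g).appLE V _ inf_le_right).hom b) := by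
  letI algU := sectionsAlgebra f U
  letI algV := sectionsAlgebra g V
  have H : IsPullback (pullback.fst f g) (pullback.snd f g) f g := IsPullback.of_hasPullback f g
  let US : (Spec (CommRingCat.of k)).Opens := ⊤
  have hUS : IsAffineOpen US := isAffineOpen_top _
  have hUST : V ≤ g ⁻¹ᵁ US := le_top
  have hUSX : U ≤ f ⁻¹ᵁ US := le_top
  let W : (pullback f g).Opens := (pullback.fst f g) ⁻¹ᵁ U ⊓ (pullback.snd f g) ⁻¹ᵁ V
  have hW : W = (pullback.fst f g) ⁻¹ᵁ U ⊓ (pullback.snd f g) ⁻¹ᵁ V := rfl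
  have hiso := isIso_pushoutSection_of_isAffineOpen H hUST hUSX hW hUS hV hU
  have hPO := (isIso_pushoutSection_iff H hUST hUSX hW).mp hiso
  let fk : CommRingCat.of k ⟶ Γ(X, U) :=
    (Scheme.ΓSpecIso (CommRingCat.of k)).inv ≫ f.appLE US U hUSX
  let gk : CommRingCat.of k ⟶ Γ(Y, V) :=
    (Scheme.ΓSpecIso (CommRingCat.of k)).inv ≫ g.appLE US V hUST
  have hPO' : IsPushout fk gk ((pullback.fst f g).appLE U W inf_le_left)
      ((pullback.snd f g).appLE V W inf_le_right) := by
    refine IsPushout.of_iso hPO (Scheme.ΓSpecIso (CommRingCat.of k)) (Iso.refl _)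
      (Iso.refl _) (Iso.refl _) ?_ ?_ ?_ ?_
    · simp [fk]
    · simp [gk]
    · simp
    · simp
  have hT := CommRingCat.isPushout_tensorProduct k Γ(X, U) Γ(Y, V)
  have hfk : CommRingCat.ofHom (algebraMap k Γ(X, U)) = fk := rfl
  have hgk : CommRingCat.ofHom (algebraMap k Γ(Y, V)) = gk := rfl
  rw [hfk, hgk] at hT
  let e := hT.isoIsPushout _ _ hPO'
  have he_inl := hT.inl_isoIsPushout_hom _ _ hPO'
  have he_inr := hT.inr_isoIsPushout_hom _ _ hPO'
  refine ⟨e.commRingCatIsoToRingEquiv, fun a => ?_, fun b => ?_⟩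
  · have h1 := congrArg (fun φ => φ.hom a) he_inl
    exact h1
  · have h1 := congrArg (fun φ => φ.hom b) he_inr
    exact h1

/-- The preimage of an affine open in a base change to a field extension is affine. -/
theorem isAffineOpen_preimage_bc {X : Scheme.{u}} (f : X ⟶ Spec (CommRingCat.of k))
    (K : Type u) [Field K] [Algebra k K] {U : X.Opens} (hU : IsAffineOpen U) :
    IsAffineOpen ((pullback.fst f (Spec.map (CommRingCat.ofHom (algebraMap k K)))) ⁻¹ᵁ U) := by
  have H : IsPullback (pullback.fst f (Spec.map (CommRingCat.ofHom (algebraMap k K))))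
      (pullback.snd f (Spec.map (CommRingCat.ofHom (algebraMap k K)))) f
      (Spec.map (CommRingCat.ofHom (algebraMap k K))) := IsPullback.of_hasPullback _ _
  have hUS : IsAffineOpen (⊤ : (Spec (CommRingCat.of k)).Opens) := isAffineOpen_top _
  have hUT : IsAffineOpen (⊤ : (Spec (CommRingCat.of K)).Opens) := isAffineOpen_top _
  have hUST : (⊤ : (Spec (CommRingCat.of K)).Opens) ≤
      (Spec.map (CommRingCat.ofHom (algebraMap k K))) ⁻¹ᵁ (⊤ : (Spec (CommRingCat.of k)).Opens) :=
    le_top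
  have hUSX : U ≤ f ⁻¹ᵁ (⊤ : (Spec (CommRingCat.of k)).Opens) := le_top
  have hUY : (pullback.fst f (Spec.map (CommRingCat.ofHom (algebraMap k K)))) ⁻¹ᵁ U =
      (pullback.fst f (Spec.map (CommRingCat.ofHom (algebraMap k K)))) ⁻¹ᵁ U ⊓
        (pullback.snd f (Spec.map (CommRingCat.ofHom (algebraMap k K)))) ⁻¹ᵁ
          (⊤ : (Spec (CommRingCat.of K)).Opens) := by
    simp
  have : IsAffine _ := hUS
  have : IsAffine _ := hUT
  have : IsAffine _ := hU
  exact .of_isIso (Scheme.Hom.isPullback_resLE H hUST hUSX hUY).isoPullback.hom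

/-- The ring of sections over the preimage of an affine open in a base change to a field
extension `K` is `K ⊗ Γ(X, U)`. -/
theorem exists_ringEquiv_sections_bc {X : Scheme.{u}} (f : X ⟶ Spec (CommRingCat.of k))
    (K : Type u) [Field K] [Algebra k K] (U : X.Opens) (hU : IsAffineOpen U) :
    letI := sectionsAlgebra f U
    ∃ e : K ⊗[k] Γ(X, U) ≃+* Γ(pullback f (Spec.map (CommRingCat.ofHom (algebraMap k K))),
        (pullback.fst f (Spec.map (CommRingCat.ofHom (algebraMap k K)))) ⁻¹ᵁ U),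
      ∀ a : Γ(X, U), e (1 ⊗ₜ[k] a) =
        ((pullback.fst f (Spec.map (CommRingCat.ofHom (algebraMap k K)))).appLE U _ le_rfl).hom a := by
  letI algA := sectionsAlgebra f U
  let ι := Spec.map (CommRingCat.ofHom (algebraMap k K))
  let π := pullback.fst f ι
  let s := pullback.snd f ι
  have H : IsPullback π s f ι := IsPullback.of_hasPullback f ι
  let US : (Spec (CommRingCat.of k)).Opens := ⊤
  let UT : (Spec (CommRingCat.of K)).Opens := ⊤
  have hUS : IsAffineOpen US := isAffineOpen_top _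
  have hUT : IsAffineOpen UT := isAffineOpen_top _
  have hUST : UT ≤ ι ⁻¹ᵁ US := le_top
  have hUSX : U ≤ f ⁻¹ᵁ US := le_top
  let UY : (pullback f ι).Opens := π ⁻¹ᵁ U
  have hUY : UY = π ⁻¹ᵁ U ⊓ s ⁻¹ᵁ UT := by
    simp [UY, UT]
  have hiso := isIso_pushoutSection_of_isAffineOpen H hUST hUSX hUY hUS hUT hU
  have hPO := (isIso_pushoutSection_iff H hUST hUSX hUY).mp hiso
  let fk : CommRingCat.of k ⟶ Γ(X, U) :=
    (Scheme.ΓSpecIso (CommRingCat.of k)).inv ≫ f.appLE US U hUSX
  let fK : CommRingCat.of K ⟶ Γ(pullback f ι, UY) :=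
    (Scheme.ΓSpecIso (CommRingCat.of K)).inv ≫ s.appLE UT UY le_top
  have hPO' : IsPushout fk (CommRingCat.ofHom (algebraMap k K))
      (π.appLE U UY le_rfl) fK := by
    refine IsPushout.of_iso hPO (Scheme.ΓSpecIso (CommRingCat.of k)) (Iso.refl _)
      (Scheme.ΓSpecIso (CommRingCat.of K)) (Iso.refl _) ?_ ?_ ?_ ?_
    · simp [fk]
    · have : ι.appLE US UT hUST = ι.appTop := by
        rw [Scheme.Hom.appTop, Scheme.Hom.app_eq_appLE]
        rfl
      rw [this]
      exact Scheme.ΓSpecIso_naturality _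
    · simp
    · simp [fK]
  have hT := (CommRingCat.isPushout_tensorProduct k K Γ(X, U)).flip
  have hfk : CommRingCat.ofHom (algebraMap k Γ(X, U)) = fk := rfl
  rw [hfk] at hT
  let e := hT.isoIsPushout _ _ hPO'
  have he_inl := hT.inl_isoIsPushout_hom _ _ hPO'
  refine ⟨e.commRingCatIsoToRingEquiv, fun a => ?_⟩
  have h1 := congrArg (fun φ => φ.hom a) he_inl
  exact h1

end Groth.Agent.H25.AffineTensor
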