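import Mathlib
import Groth.Prelude
import Groth.Agent.H25.AlgSpDim2
import Groth.Agent.H50.Descent

/-!
# Local dimension of algebraic spaces is etale local (helper25)
-/

set_option autoImplicit false
set_option maxHeartbeats 400000
set_option linter.style.haveILetI false
set_option linter.unusedVariables false
set_option linter.unusedSectionVars false

universe u

open CategoryTheory CategoryTheory.Limits AlgebraicGeometry TopologicalSpace AlgSp

namespace Groth.Agent.H25.AlgSpLocalDim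

open Groth.Agent.H25.GeomRedAlgSp4 Groth.Agent.H25.EtaleDimStalk

theorem eq_of_specializes_of_locallyQuasiFinite {X Y : Scheme.{u}} (f : X ⟶ Y)
    [LocallyQuasiFinite f] {x x' : X} (h : x' ⤳ x) (hf : f x' = f x) : x' = x := by
  have hd : DiscreteTopology ↥(f ⁻¹' {f x}) := (f.isDiscrete_preimage_singleton (f x)).to_subtype
  have hx : x ∈ f ⁻¹' {f x} := rfl
  have hy : x' ∈ f ⁻¹' {f x} := hf
  have hs : (⟨x', hy⟩ : ↥(f ⁻¹' {f x})) ⤳ ⟨x, hx⟩ := (subtype_specializes_iff _ _).2 h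
  exact congrArg Subtype.val hs.eq

theorem dim_preimage_le {V U : Scheme.{u}} (g : V ⟶ U) [LocallyQuasiFinite g] (O : Set ↥U)
    (hO : IsOpen O) :
    topologicalKrullDim ↥(g ⁻¹' O) ≤ topologicalKrullDim ↥O := by
  have hA : IsOpen (g ⁻¹' O) := hO.preimage g.continuous
  haveI : QuasiSober ↥(g ⁻¹' O) := hA.isOpenEmbedding_subtypeVal.quasiSober
  let r : ↥(g ⁻¹' O) → ↥O := fun x => ⟨g x.1, x.2⟩
  have hr : Continuous r := (g.continuous.comp continuous_subtype_val).subtype_mk _
  refine Groth.Agent.H38.IntegralDim.topologicalKrullDim_le_of_incomparable r hr ?_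
  intro x x' hsp heq
  have h1 : x'.1 ⤳ x.1 := (subtype_specializes_iff _ _).1 hsp
  have h2 : g x'.1 = g x.1 := congrArg Subtype.val heq
  exact Subtype.ext (eq_of_specializes_of_locallyQuasiFinite g h1 h2)

theorem dim_image_le {V U : Scheme.{u}} (g : V ⟶ U) [Flat g] (O' : Set ↥V) (hO' : IsOpen O')
    (hgO : IsOpen (g '' O')) :
    topologicalKrullDim ↥(g '' O') ≤ topologicalKrullDim ↥O' := by
  haveI : QuasiSober ↥(g '' O') := hgO.isOpenEmbedding_subtypeVal.quasiSober
  let r : ↥O' → ↥(g '' O') := fun x => ⟨g x.1, ⟨x.1, x.2, rfl⟩⟩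
  have hr : Continuous r := (g.continuous.comp continuous_subtype_val).subtype_mk _
  have hsurj : Function.Surjective r := by
    rintro ⟨y, x, hx, rfl⟩
    exact ⟨⟨x, hx⟩, rfl⟩
  have hgen : GeneralizingMap r := by
    intro x y' hy'
    have h1 : y'.1 ⤳ g x.1 := (subtype_specializes_iff _ _).1 hy'
    obtain ⟨x'', hx'', hgx''⟩ := Flat.generalizingMap g h1
    have hmem : x'' ∈ O' := hx''.mem_open hO' x.2
    refine ⟨⟨x'', hmem⟩, (subtype_specializes_iff _ _).2 hx'', Subtype.ext hgx''⟩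
  exact Groth.Agent.H38.topologicalKrullDim_le_of_surjective r hr hsurj (Or.inr hgen)

theorem localDim_eq_of_etale {V U : Scheme.{u}} (g : V ⟶ U) [Etale g] (v : ↥V) :
    FlatMor.localDim ↥V v = FlatMor.localDim ↥U (g v) := by
  haveI : LocallyQuasiFinite g := Groth.Agent.H50.locallyQuasiFinite_of_unramified g
  unfold FlatMor.localDim
  apply le_antisymm
  · refine le_iInf fun O => ?_
    let O' : {W : Opens ↥V // v ∈ W} :=
      ⟨⟨g ⁻¹' (O.1 : Set ↥U), O.1.isOpen.preimage g.continuous⟩, O.2⟩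
    refine (iInf_le _ O').trans ?_
    exact dim_preimage_le g (O.1 : Set ↥U) O.1.isOpen
  · refine le_iInf fun O' => ?_
    have hopen : IsOpen (g '' (O'.1 : Set ↥V)) := g.isOpenMap _ O'.1.isOpen
    let O : {W : Opens ↥U // g v ∈ W} :=
      ⟨⟨g '' (O'.1 : Set ↥V), hopen⟩, ⟨v, O'.2, rfl⟩⟩
    refine (iInf_le _ O).trans ?_
    exact dim_image_le g (O'.1 : Set ↥V) O'.1.isOpen hopen

variable {S : Scheme.{u}}

/-- For an etale-invariant pointed-scheme property, `HasAt` is compatible with etale morphisms. -/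
theorem hasAt_iff_of_isEtaleMor (Q : ∀ U : Scheme.{u}, ↥U → Prop)
    (hQ : ∀ {V U : Scheme.{u}} (g : V ⟶ U) [Etale g] (v : ↥V), Q V v ↔ Q U (g v))
    {X Y : Sp S} (hX : IsAlgSpace X) (f : X ⟶ Y) (hf : IsEtaleMor f) (x : Points X) :
    HasAt Q X x ↔ HasAt Q Y (Points.map f x) := by
  constructor
  · rintro ⟨U, a, u, ha, hu, hq⟩
    exact ⟨U, a ≫ f, u, hf a ha, by rw [← Points.map_ofPt, hu], hq⟩
  · rintro ⟨V, b, v, hb, hv, hq⟩
    obtain ⟨U, a, ha, has⟩ := hX.atlas
    obtain ⟨u, hu⟩ := Groth.Agent.H52.surjective_ofPt_of_surjective a has x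
    have h1 : Points.ofPt b v = Points.ofPt (a ≫ f) u := by
      rw [← Points.map_ofPt, hu, hv]
    exact ⟨U, a, u, ha, hu, hasAt_transfer Q hQ b hb (a ≫ f) (hf a ha) v u h1 hq⟩

/-- S10249. -/
theorem hasAt_localDim_and_ringKrullDim_iff {X Y : Sp S} (hX : IsAlgSpace X) (f : X ⟶ Y)
    (hf : IsEtaleMor f) (x : Points X) :
    (∀ d : WithBot ℕ∞,
        HasAt (fun U u => FlatMor.localDim ↥U u = d) X x ↔
          HasAt (fun U u => FlatMor.localDim ↥U u = d) Y (Points.map f x)) ∧
    (∀ d : WithBot ℕ∞,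
        HasAt (fun U u => ringKrullDim ↥(U.presheaf.stalk u) = d) X x ↔
          HasAt (fun U u => ringKrullDim ↥(U.presheaf.stalk u) = d) Y (Points.map f x)) := by
  constructor
  · intro d
    exact hasAt_iff_of_isEtaleMor (fun U u => FlatMor.localDim ↥U u = d)
      (fun g _ v => by rw [localDim_eq_of_etale g v]) hX f hf x
  · intro d
    exact hasAt_iff_of_isEtaleMor (fun U u => ringKrullDim ↥(U.presheaf.stalk u) = d)
      (fun g _ v => by rw [ringKrullDim_stalk_eq_of_etale g v]) hX f hf x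

end Groth.Agent.H25.AlgSpLocalDim
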