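import Mathlib
import Groth.Prelude
import Groth.Agent.H25.NoEmbAffine

set_option maxHeartbeats 400000
set_option linter.style.haveILetI false
set_option linter.unusedVariables false
set_option linter.unusedSectionVars false

open CategoryTheory CategoryTheory.Limits AlgebraicGeometry TensorProduct IsLocalRing

universe u

namespace Groth.Agent.H25.AssFlatPt

open Groth.Agent.H25.NoEmbAffine

/-- If a flat module over a Noetherian local ring has a nonzero element killed by the maximal
ideal, then the maximal ideal is an associated prime of the ring. -/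
theorem maximalIdeal_mem_ass_of_flat (A M : Type*) [CommRing A] [IsLocalRing A]
    [IsNoetherianRing A] [AddCommGroup M] [Module A M] [Module.Flat A M] (s : M) (hs : s ≠ 0)
    (hms : ∀ a ∈ maximalIdeal A, a • s = 0) : maximalIdeal A ∈ associatedPrimes A A := by
  have hdisj : Disjoint (maximalIdeal A : Set A) (nonZeroDivisors A) := by
    rw [Set.disjoint_left]
    intro a ha hnzd
    have hreg : IsSMulRegular M a := Module.Flat.isSMulRegular_of_nonZeroDivisors hnzd
    apply hs
    apply hreg
    show a • s = a • 0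
    rw [smul_zero]
    exact hms a ha
  obtain ⟨P, hP, hle⟩ : ∃ P ∈ associatedPrimes A A, maximalIdeal A ≤ P :=
    ((maximalIdeal A).subset_union_prime_finite (associatedPrimes.finite A A) (f := id) 0 0
      fun _ h _ _ ↦ h.1).1 <|
    biUnion_associatedPrimes_eq_compl_nonZeroDivisors A ▸ hdisj.subset_compl_right
  have : maximalIdeal A = P :=
    (IsLocalRing.maximalIdeal.isMaximal A).eq_of_le hP.1.ne_top hle
  rw [this]
  exact hP

/-- Associated-ness of the maximal ideal of a localization at a prime descends. -/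
theorem mem_ass_of_maximalIdeal_mem_ass (R A : Type*) [CommRing R] [IsNoetherianRing R]
    [CommRing A] [Algebra R A] (p : Ideal R) [p.IsPrime] [IsLocalization.AtPrime A p]
    [IsLocalRing A] (h : maximalIdeal A ∈ associatedPrimes A A) : p ∈ associatedPrimes R R := by
  have h1 := Module.associatedPrimes.comap_mem_associatedPrimes_of_mem_associatedPrimes_of_isLocalizedModule_of_fg
    p.primeCompl (Algebra.linearMap R A) (maximalIdeal A) h
    ((isNoetherianRing_iff_ideal_fg R).mp inferInstance _)
  have h2 : (maximalIdeal A).comap (algebraMap R A) = p :=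
    IsLocalization.AtPrime.under_maximalIdeal A p
  rwa [h2] at h1

/-- S4641: associated points of a module flat over `Y` lie over maximal points when `Y` has no
embedded associated points. -/
theorem eq_of_specializes_of_mem_ass {X Y : Scheme.{u}} (f : X ⟶ Y) [IsLocallyNoetherian X]
    [IsLocallyNoetherian Y] (hY : AssSch.NoEmbedded (Coh.structureModule Y)) (F : X.Modules)
    (hfl : FlatMod.IsFlatOver f F) (x : X) (hx : x ∈ AssSch.Ass F) (y : Y) (hy : y ⤳ f x) :
    y = f x := by
  obtain ⟨_, ⟨U, hU : IsAffineOpen U, rfl⟩, hxU, -⟩ :=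
    Y.isBasis_affineOpens.exists_subset_of_mem_open (Set.mem_univ (f x)) isOpen_univ
  haveI : IsNoetherianRing Γ(Y, U) := IsLocallyNoetherian.component_noetherian ⟨U, hU⟩
  have hyU : y ∈ U := hy.mem_open U.2 hxU
  letI algA : Algebra Γ(Y, U) (Y.presheaf.stalk (f x)) :=
    TopCat.Presheaf.algebra_section_stalk Y.presheaf ⟨f x, hxU⟩
  haveI hloc : IsLocalization.AtPrime (Y.presheaf.stalk (f x))
      (hU.primeIdealOf ⟨f x, hxU⟩).asIdeal := hU.isLocalization_stalk ⟨f x, hxU⟩
  -- the element of the stalk of `F`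
  have hx' : IsAssociatedPrime (maximalIdeal (X.presheaf.stalk x)) (F.presheaf.stalk x) := hx
  rw [isAssociatedPrime_iff] at hx'
  obtain ⟨-, s, hs⟩ := hx'
  have hs0 : s ≠ 0 := by
    rintro rfl
    have h1 : (1 : X.presheaf.stalk x) ∈ maximalIdeal (X.presheaf.stalk x) := by
      rw [hs, Submodule.mem_colon_singleton]
      simp
    exact (Ideal.ne_top_iff_one _).mp (IsLocalRing.maximalIdeal.isMaximal _).ne_top h1
  letI modA := FlatMod.moduleStalkOver f F x
  haveI hflat : Module.Flat (Y.presheaf.stalk (f x)) (F.presheaf.stalk x) := hfl x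
  have hms : ∀ a ∈ maximalIdeal (Y.presheaf.stalk (f x)), a • s = 0 := by
    intro a ha
    show (f.stalkMap x).hom a • s = 0
    have h1 : (f.stalkMap x).hom a ∈ maximalIdeal (X.presheaf.stalk x) := by
      rw [IsLocalRing.mem_maximalIdeal, mem_nonunits_iff] at ha ⊢
      exact fun hu => ha (isUnit_of_map_unit (f.stalkMap x).hom a hu)
    rw [hs, Submodule.mem_colon_singleton, Submodule.mem_bot] at h1
    exact h1
  have h1 := maximalIdeal_mem_ass_of_flat (Y.presheaf.stalk (f x)) (F.presheaf.stalk x) s hs0 hms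
  have h2 := mem_ass_of_maximalIdeal_mem_ass Γ(Y, U) (Y.presheaf.stalk (f x))
    (hU.primeIdealOf ⟨f x, hxU⟩).asIdeal h1
  have hmin := ass_subset_min_of_noEmbedded hY hU h2
  have hle : (hU.primeIdealOf ⟨y, hyU⟩).asIdeal ≤ (hU.primeIdealOf ⟨f x, hxU⟩).asIdeal := by
    have h1 : (hU.primeIdealOf ⟨y, hyU⟩ : Spec Γ(Y, U)) ⤳ hU.primeIdealOf ⟨f x, hxU⟩ :=
      hU.fromSpec.isOpenEmbedding.isInducing.specializes_iff.mp (by
        rw [hU.fromSpec_primeIdealOf ⟨y, hyU⟩, hU.fromSpec_primeIdealOf ⟨f x, hxU⟩]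
        exact hy)
    exact (PrimeSpectrum.le_iff_specializes _ _).mpr h1
  have hge : (hU.primeIdealOf ⟨f x, hxU⟩).asIdeal ≤ (hU.primeIdealOf ⟨y, hyU⟩).asIdeal :=
    hmin.2 ⟨(hU.primeIdealOf ⟨y, hyU⟩).isPrime, bot_le⟩ hle
  have heq : hU.primeIdealOf ⟨y, hyU⟩ = hU.primeIdealOf ⟨f x, hxU⟩ :=
    PrimeSpectrum.ext (le_antisymm hle hge)
  have h3 := congrArg (fun P => hU.fromSpec P) heq
  simp only [hU.fromSpec_primeIdealOf] at h3
  exact h3

end Groth.Agent.H25.AssFlatPt
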