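import Mathlib
import Groth.Prelude
import Groth.Agent.H25.GeomRedAlgSp4

/-!
# Global sections of the structure sheaf of a reduced / integral algebraic space (helper25)
-/

set_option autoImplicit false
set_option maxHeartbeats 400000
set_option linter.style.haveILetI false
set_option linter.unusedVariables false
set_option linter.unusedSectionVars false

universe u

open CategoryTheory CategoryTheory.Limits AlgebraicGeometry TopologicalSpace AlgSp

namespace Groth.Agent.H25.GlobSec

open Groth.Agent.H25.GeomRedAlgSp4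

variable {S : Scheme.{u}}

/-- The structure morphism of an object of the small etale site. -/
abbrev str {X : Sp S} (E : EtOver X) : (yon S).obj E.obj.left ⟶ X := E.obj.hom

/-- Restriction of a global section to an object of the small etale site. -/
noncomputable def res (X : Sp S) (f : ↥(gsectEt (OEt X))) (E : EtOver X) :
    Γ(E.obj.left.left, ⊤) :=
  ((limit.π (OEt X).obj (Opposite.op E)) f).down

theorem res_ext (X : Sp S) (f g : ↥(gsectEt (OEt X))) (h : ∀ E, res X f E = res X g E) :
    f = g := by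
  apply Concrete.limit_ext
  intro j
  have h1 := h j.unop
  exact ULift.ext _ _ h1

theorem res_map (X : Sp S) (f : ↥(gsectEt (OEt X))) {E E' : EtOver X} (g : E ⟶ E') :
    res X f E = g.hom.left.left.appTop.hom (res X f E') := by
  have h1 : (OEt X).obj.map g.op ((limit.π (OEt X).obj (Opposite.op E')) f) =
      (limit.π (OEt X).obj (Opposite.op E)) f := by
    rw [← limit.w (OEt X).obj g.op]
    rfl
  have h2 := OEt_map g ((limit.π (OEt X).obj (Opposite.op E')) f)
  unfold res
  rw [← h1, h2]

theorem res_mul (X : Sp S) (f g : ↥(gsectEt (OEt X))) (E : EtOver X) :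
    res X (f * g) E = res X f E * res X g E := by
  unfold res
  simp
  rfl

theorem res_zero (X : Sp S) (E : EtOver X) : res X 0 E = 0 := by
  unfold res
  simp
  rfl

theorem res_one (X : Sp S) (E : EtOver X) : res X 1 E = 1 := by
  unfold res
  simp
  rfl

theorem res_pow (X : Sp S) (f : ↥(gsectEt (OEt X))) (n : ℕ) (E : EtOver X) :
    res X (f ^ n) E = res X f E ^ n := by
  unfold res
  simp
  rfl

theorem isReduced_etOver {X : Sp S} (hX : IsReducedSp X) (E : EtOver X) :
    IsReduced E.obj.left.left := by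
  obtain ⟨W, p, hpe, hps, hW⟩ := hX
  haveI : IsReduced W.left := hW
  haveI : ∀ u : ↥E.obj.left.left, _root_.IsReduced (E.obj.left.left.presheaf.stalk u) := by
    intro u
    obtain ⟨w, hw⟩ := Groth.Agent.H52.surjective_ofPt_of_surjective p hps (Points.ofPt (str E) u)
    exact hasAt_transfer (fun U u => _root_.IsReduced ↥(U.presheaf.stalk u))
      (fun g _ v => isReduced_stalk_iff_of_etale g v) p hpe (str E) E.property w u hw
      inferInstance
  exact isReduced_of_isReduced_stalk E.obj.left.left

theorem eq_zero_of_basicOpen_eq_bot {X : Sp S} (hX : IsReducedSp X) (f : ↥(gsectEt (OEt X)))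
    (h : ∀ E : EtOver X, E.obj.left.left.basicOpen (res X f E) = ⊥) : f = 0 := by
  apply res_ext
  intro E
  haveI := isReduced_etOver hX E
  rw [res_zero]
  exact (basicOpen_eq_bot_iff _).mp (h E)

/-- S10242. -/
theorem isReduced_gsectEt {X : Sp S} (hX : IsReducedSp X) :
    _root_.IsReduced ↥(gsectEt (OEt X)) ∧
      ∀ f : ↥(gsectEt (OEt X)),
        (∀ E : EtOver X,
            E.obj.left.left.basicOpen ((limit.π (OEt X).obj (Opposite.op E)) f).down = ⊥) →
          f = 0 := by
  refine ⟨⟨fun f hf => ?_⟩, fun f h => eq_zero_of_basicOpen_eq_bot hX f h⟩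
  obtain ⟨n, hn⟩ := hf
  apply res_ext
  intro E
  haveI := isReduced_etOver hX E
  rw [res_zero]
  have h1 : res X f E ^ n = 0 := by rw [← res_pow, hn, res_zero]
  exact IsReduced.eq_zero _ ⟨n, h1⟩

theorem mem_basicOpen_appTop {X Y : Scheme.{u}} (f : X ⟶ Y) (r : Γ(Y, ⊤)) (p : ↥X) :
    p ∈ X.basicOpen (f.appTop.hom r) ↔ f p ∈ Y.basicOpen r := by
  have h := Scheme.preimage_basicOpen_top f r
  constructor
  · intro hp
    have h1 : p ∈ f ⁻¹ᵁ Y.basicOpen r := by
      rw [h]
      exact hp
    exact h1
  · intro hp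
    have h1 : p ∈ f ⁻¹ᵁ Y.basicOpen r := hp
    rw [h] at h1
    exact h1

/-- The non-vanishing locus of a global section in the space of points. -/
def nonVanishing (X : Sp S) (f : ↥(gsectEt (OEt X))) : Set (Points X) :=
  ⋃ E : EtOver X, Points.ofPt (str E) '' (E.obj.left.left.basicOpen (res X f E) : Set _)

theorem isOpen_nonVanishing (X : Sp S) (f : ↥(gsectEt (OEt X))) : IsOpen (nonVanishing X f) :=
  isOpen_iUnion fun E => Groth.Agent.H52.isOpenMap_ofPt_of_etale (str E) E.property _
    (E.obj.left.left.basicOpen (res X f E)).isOpen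

theorem nonVanishing_inter_eq_empty (X : Sp S) (f g : ↥(gsectEt (OEt X))) (hfg : f * g = 0) :
    nonVanishing X f ∩ nonVanishing X g = ∅ := by
  rw [Set.eq_empty_iff_forall_notMem]
  rintro x ⟨hxf, hxg⟩
  obtain ⟨E, u, hu, rfl⟩ := Set.mem_iUnion.mp hxf
  obtain ⟨E', u', hu', hu'x⟩ := Set.mem_iUnion.mp hxg
  obtain ⟨P, ψ, fst, sq⟩ := E.property.1 (str E')
  obtain ⟨φ, rfl⟩ := (yon S).map_surjective fst
  haveI hψ : Etale ψ.left := E.property.2 _ _ _ sq
  haveI hφ : Etale φ.left := E'.property.2 _ _ _ sq.flip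
  obtain ⟨p, hp1, hp2⟩ := Groth.Agent.H52.exists_of_ofPt_eq_ofPt sq u u' hu'x.symm
  have h4 := AlgSp.repWith_isMultiplicative (S := S) @Etale
  have hE'' : RepWith @Etale ((yon S).map φ ≫ str E) :=
    (RepWith @Etale).comp_mem _ _ ((repWith_yon_map_iff @Etale φ).2 hφ) E.property
  let E'' : EtOver X := EtOver.mk ((yon S).map φ ≫ str E) hE''
  let g₁ : E'' ⟶ E := EtOver.homMk φ rfl
  let g₂ : E'' ⟶ E' := EtOver.homMk ψ sq.w.symm
  have h1 : p ∈ P.left.basicOpen (res X f E'') := by
    rw [res_map X f g₁]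
    refine (mem_basicOpen_appTop φ.left (res X f E) p).mpr ?_
    rw [hp1]
    exact hu
  have h2 : p ∈ P.left.basicOpen (res X g E'') := by
    rw [res_map X g g₂]
    refine (mem_basicOpen_appTop ψ.left (res X g E') p).mpr ?_
    rw [hp2]
    exact hu'
  have h3 : p ∈ P.left.basicOpen (res X (f * g) E'') := by
    rw [res_mul, Scheme.basicOpen_mul]
    exact ⟨h1, h2⟩
  rw [hfg, res_zero, Scheme.basicOpen_zero] at h3
  exact h3

/-- S10494. -/
theorem isDomain_gsectEt {X : Sp S} (hXa : IsAlgSpace X) (hX : IsIntegralSp X) :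
    IsDomain ↥(gsectEt (OEt X)) := by
  obtain ⟨hred, hdec, hirr⟩ := hX
  haveI := hirr
  haveI : Nontrivial ↥(gsectEt (OEt X)) := by
    obtain ⟨x⟩ : Nonempty (Points X) := inferInstance
    obtain ⟨W, p, hpe, hps⟩ := hXa.atlas
    obtain ⟨w, hw⟩ := Groth.Agent.H52.surjective_ofPt_of_surjective p hps x
    have hnt : Nontrivial Γ(W.left, ⊤) := @Scheme.component_nontrivial W.left ⊤ ⟨⟨w, trivial⟩⟩
    refine nontrivial_of_ne (0 : ↥(gsectEt (OEt X))) 1 fun h01 => ?_
    have h1 : res X 0 (EtOver.mk p hpe) = res X 1 (EtOver.mk p hpe) := by rw [h01]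
    rw [res_zero, res_one] at h1
    exact (zero_ne_one (α := Γ(W.left, ⊤))) h1
  haveI : NoZeroDivisors ↥(gsectEt (OEt X)) := by
    refine ⟨fun {f g} hfg => ?_⟩
    have hempty := nonVanishing_inter_eq_empty X f g hfg
    have hor : nonVanishing X f = ∅ ∨ nonVanishing X g = ∅ := by
      by_contra hcon
      push Not at hcon
      have := nonempty_preirreducible_inter (isOpen_nonVanishing X f) (isOpen_nonVanishing X g)
        hcon.1 hcon.2
      rw [hempty] at this
      exact Set.not_nonempty_empty this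
    have key : ∀ f' : ↥(gsectEt (OEt X)), nonVanishing X f' = ∅ → f' = 0 := by
      intro f' hf'
      apply eq_zero_of_basicOpen_eq_bot hred
      intro E
      rw [← le_bot_iff]
      intro u hu
      have : Points.ofPt (str E) u ∈ nonVanishing X f' :=
        Set.mem_iUnion.mpr ⟨E, u, hu, rfl⟩
      rw [hf'] at this
      exact this.elim
    rcases hor with h | h
    · exact Or.inl (key f h)
    · exact Or.inr (key g h)
  exact NoZeroDivisors.to_isDomain _

end Groth.Agent.H25.GlobSec
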