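import Mathlib
import Groth.Prelude
import Groth.Agent.H25.GeomRedAlgSp4
import Groth.Agent.H25.GlobSec
import Groth.Agent.H52.FQDecent
import Groth.Agent.H52.FQMor
import Groth.Agent.H52.DecentTop
import Groth.Agent.H52.Topology
import Groth.Agent.H50.Basic

/-!
# Flat proper families over a discrete valuation ring with reduced special fibre (helper25)

If `X` is an algebraic space, flat and proper over the spectrum of a discrete valuation ring `R`, and the special
fibre is reduced, then `X` is reduced and so is the generic fibre (S10669).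
-/

set_option autoImplicit false
set_option maxHeartbeats 400000
set_option linter.style.haveILetI false
set_option linter.unusedVariables false
set_option linter.unusedSectionVars false

universe u

open CategoryTheory CategoryTheory.Limits AlgebraicGeometry TopologicalSpace AlgSp Opposite

namespace Groth.Agent.H25.DVRReduced

section Algebra

/-- Commutative algebra core: a Noetherian flat algebra `A` over a discrete valuation ring `R` whose nilpotents lie in
`𝔪 A` has reduced local rings at all primes generizing a prime containing `𝔪 A`. -/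
theorem isReduced_localization_of_flat_dvr (R : Type u) [CommRing R] [IsDomain R]
    [IsDiscreteValuationRing R] (A : Type u) [CommRing A] [Algebra R A] [IsNoetherianRing A]
    [Module.Flat R A]
    (hH : ∀ n : A, IsNilpotent n → n ∈ (IsLocalRing.maximalIdeal R).map (algebraMap R A))
    (p q : Ideal A) [p.IsPrime] [q.IsPrime] (hqp : q ≤ p)
    (hIp : (IsLocalRing.maximalIdeal R).map (algebraMap R A) ≤ p) :
    _root_.IsReduced (Localization.AtPrime q) := by
  obtain ⟨ϖ, hϖ⟩ := IsDiscreteValuationRing.exists_irreducible R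
  have hIspan : (IsLocalRing.maximalIdeal R).map (algebraMap R A) =
      Ideal.span {algebraMap R A ϖ} := by
    rw [hϖ.maximalIdeal_eq, Ideal.map_span, Set.image_singleton]
  have hπI : algebraMap R A ϖ ∈ (IsLocalRing.maximalIdeal R).map (algebraMap R A) :=
    Ideal.mem_map_of_mem _ ((IsLocalRing.mem_maximalIdeal ϖ).2 hϖ.not_isUnit)
  have hreg : ∀ b : A, algebraMap R A ϖ * b = 0 → b = 0 := by
    intro b hb
    have h1 : IsSMulRegular A ϖ :=
      Module.Flat.isSMulRegular_of_nonZeroDivisors (mem_nonZeroDivisors_of_ne_zero hϖ.ne_zero)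
    apply h1
    show ϖ • b = ϖ • (0 : A)
    rw [smul_zero, Algebra.smul_def]
    exact hb
  have hregpow : ∀ (k : ℕ) (b : A), (algebraMap R A ϖ) ^ k * b = 0 → b = 0 := by
    intro k
    induction k with
    | zero => intro b hb; simpa using hb
    | succ k ih =>
      intro b hb
      apply ih
      apply hreg
      rw [← mul_assoc, ← pow_succ']
      exact hb
  have hN : (nilradical A : Submodule A A) ≤
      ((IsLocalRing.maximalIdeal R).map (algebraMap R A)) • (nilradical A : Submodule A A) := by
    intro n hn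
    have hn' : IsNilpotent n := hn
    have h1 : n ∈ Ideal.span {algebraMap R A ϖ} := by
      rw [← hIspan]
      exact hH n hn'
    obtain ⟨a, rfl⟩ := Ideal.mem_span_singleton'.1 h1
    obtain ⟨k, hk⟩ := hn'
    have ha : a ^ k = 0 := by
      apply hregpow k
      rw [← mul_pow, mul_comm]
      exact hk
    have haN : a ∈ (nilradical A : Submodule A A) := ⟨k, ha⟩
    rw [mul_comm]
    exact Submodule.smul_mem_smul hπI haN
  obtain ⟨r, hr1, hr2⟩ := Submodule.exists_sub_one_mem_and_smul_eq_zero_of_fg_of_le_smul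
    ((IsLocalRing.maximalIdeal R).map (algebraMap R A)) (nilradical A : Submodule A A)
    (IsNoetherian.noetherian _) hN
  have hrp : r ∉ p := by
    intro hr
    have h1 : r - (r - 1) ∈ p := p.sub_mem hr (hIp hr1)
    have h2 : (1 : A) ∈ p := by simpa using h1
    exact (Ideal.IsPrime.ne_top ‹p.IsPrime›) ((Ideal.eq_top_iff_one p).2 h2)
  refine ⟨fun x hx => ?_⟩
  obtain ⟨⟨a, s⟩, rfl⟩ := IsLocalization.mk'_surjective q.primeCompl x
  obtain ⟨k, hk⟩ := hx
  rw [← IsLocalization.mk'_pow, IsLocalization.mk'_eq_zero_iff] at hk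
  obtain ⟨t, ht⟩ := hk
  have hta : (t : A) * a ∈ (nilradical A : Submodule A A) := by
    refine ⟨k + 1, ?_⟩
    calc ((t : A) * a) ^ (k + 1) = (t : A) ^ k * a * ((t : A) * a ^ k) := by ring
      _ = 0 := by rw [ht, mul_zero]
  have h2 : r • ((t : A) * a) = 0 := hr2 _ hta
  rw [IsLocalization.mk'_eq_zero_iff]
  refine ⟨⟨r * t, ?_⟩, ?_⟩
  · exact q.primeCompl.mul_mem (show r ∈ q.primeCompl from fun h => hrp (hqp h)) t.2
  · show r * t * a = 0
    rw [mul_assoc]
    exact h2

/-- The fraction field of a discrete valuation ring is the localization away from a uniformizer. -/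
theorem isLocalization_away_fractionRing (R : Type u) [CommRing R] [IsDomain R]
    [IsDiscreteValuationRing R] (ϖ : R) (hϖ : Irreducible ϖ) :
    IsLocalization.Away ϖ (FractionRing R) := by
  have hinj := IsFractionRing.injective R (FractionRing R)
  refine (isLocalization_iff _ _).2 ⟨?_, ?_, ?_⟩
  · rintro ⟨y, n, rfl⟩
    apply IsUnit.mk0
    exact (map_ne_zero_iff _ hinj).2 (pow_ne_zero n hϖ.ne_zero)
  · intro z
    obtain ⟨x, y, hy, rfl⟩ := IsFractionRing.div_surjective (A := R) z
    have hy0 : y ≠ 0 := nonZeroDivisors.ne_zero hy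
    obtain ⟨n, w, hw⟩ := IsDiscreteValuationRing.eq_unit_mul_pow_irreducible hy0 hϖ
    refine ⟨(x * ((w⁻¹ : Rˣ) : R), ⟨ϖ ^ n, n, rfl⟩), ?_⟩
    have hw0 : algebraMap R (FractionRing R) (w : R) ≠ 0 := (map_ne_zero_iff _ hinj).2 w.ne_zero
    have hp0 : algebraMap R (FractionRing R) (ϖ ^ n) ≠ 0 :=
      (map_ne_zero_iff _ hinj).2 (pow_ne_zero n hϖ.ne_zero)
    have hwi : algebraMap R (FractionRing R) ((w⁻¹ : Rˣ) : R) =
        (algebraMap R (FractionRing R) (w : R))⁻¹ := by
      apply eq_inv_of_mul_eq_one_left
      rw [← map_mul, Units.inv_mul, map_one]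
    show algebraMap R (FractionRing R) x / algebraMap R (FractionRing R) y *
      algebraMap R (FractionRing R) (ϖ ^ n) = algebraMap R (FractionRing R) (x * ((w⁻¹ : Rˣ) : R))
    rw [hw, map_mul, map_mul, hwi]
    field_simp
  · intro x y hxy
    exact ⟨1, by rw [hinj hxy]⟩

/-- The generic point of the spectrum of a discrete valuation ring is open. -/
theorem isOpenImmersion_generic (R : Type u) [CommRing R] [IsDomain R] [IsDiscreteValuationRing R] :
    IsOpenImmersion (Spec.map (CommRingCat.ofHom (algebraMap R (FractionRing R)))) := by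
  obtain ⟨ϖ, hϖ⟩ := IsDiscreteValuationRing.exists_irreducible R
  haveI := isLocalization_away_fractionRing R ϖ hϖ
  exact IsOpenImmersion.of_isLocalization ϖ

end Algebra

section SchemeLevel

/-- Membership in the prime of a point in terms of basic opens. -/
theorem mem_primeAtPt_iff (U : Scheme.{u}) (x : U) (a : Γ(U, ⊤)) :
    a ∈ primeAtPt U x ↔ x ∉ U.basicOpen a := by
  show (U.presheaf.germ ⊤ x trivial).hom a ∈ IsLocalRing.maximalIdeal _ ↔ _
  rw [IsLocalRing.mem_maximalIdeal, mem_nonunits_iff]
  exact not_congr (Scheme.mem_basicOpen_top U a x).symm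

/-- Scheme-level core: on an affine scheme flat and locally of finite type over a discrete valuation ring with
reduced special fibre, the local rings at generizations of points of the special fibre are reduced. -/
theorem isReduced_stalk_of_flat_dvr (R : Type u) [CommRing R] [IsDomain R] [IsDiscreteValuationRing R]
    {U P : Scheme.{u}} [IsAffine U] (g : U ⟶ Spec (CommRingCat.of R)) [Flat g] [LocallyOfFiniteType g]
    (fst : P ⟶ U) (snd : P ⟶ Spec (CommRingCat.of (IsLocalRing.ResidueField R)))
    (sq : IsPullback fst snd g (Spec.map (CommRingCat.ofHom (IsLocalRing.residue R)))) [IsReduced P]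
    (u u₀ : U) (hu : u ⤳ u₀) (hu₀ : g u₀ = IsLocalRing.closedPoint R) :
    _root_.IsReduced (U.presheaf.stalk u) := by
  have hU := isAffineOpen_top U
  let φ : CommRingCat.of R ⟶ Γ(U, ⊤) := (Scheme.ΓSpecIso (CommRingCat.of R)).inv ≫ g.appTop
  letI : Algebra R Γ(U, ⊤) := φ.hom.toAlgebra
  have halg : algebraMap R Γ(U, ⊤) = φ.hom := rfl
  haveI : Module.Flat R Γ(U, ⊤) := by
    have h1 : RingHom.Flat g.appTop.hom :=
      (HasRingHomProperty.iff_of_isAffine (P := @Flat)).1 inferInstance
    have h2 : RingHom.Flat (Scheme.ΓSpecIso (CommRingCat.of R)).inv.hom :=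
      RingHom.Flat.of_bijective
        (ConcreteCategory.bijective_of_isIso (Scheme.ΓSpecIso (CommRingCat.of R)).inv)
    have h3 : RingHom.Flat φ.hom := RingHom.Flat.comp h2 h1
    exact h3
  haveI : IsNoetherianRing R := inferInstance
  haveI : IsLocallyNoetherian U := LocallyOfFiniteType.isLocallyNoetherian g
  haveI : IsNoetherianRing Γ(U, ⊤) := IsLocallyNoetherian.component_noetherian ⟨⊤, hU⟩
  have hH : ∀ n : Γ(U, ⊤), IsNilpotent n →
      n ∈ (IsLocalRing.maximalIdeal R).map (algebraMap R Γ(U, ⊤)) := by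
    intro n hn
    have hpo := isPushout_appTop_of_isPullback sq
    have hker : ∀ a ∈ IsLocalRing.maximalIdeal R,
        ((Ideal.Quotient.mk ((IsLocalRing.maximalIdeal R).map (algebraMap R Γ(U, ⊤)))).comp φ.hom) a = 0 := by
      intro a ha
      rw [RingHom.comp_apply, Ideal.Quotient.eq_zero_iff_mem]
      exact Ideal.mem_map_of_mem _ ha
    have key : φ ≫ CommRingCat.ofHom
          (Ideal.Quotient.mk ((IsLocalRing.maximalIdeal R).map (algebraMap R Γ(U, ⊤)))) =
        CommRingCat.ofHom (IsLocalRing.residue R) ≫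
          CommRingCat.ofHom (Ideal.Quotient.lift (IsLocalRing.maximalIdeal R) _ hker) := by
      apply CommRingCat.hom_ext
      apply RingHom.ext
      intro a
      exact (Ideal.Quotient.lift_mk (IsLocalRing.maximalIdeal R) _ hker).symm
    have hg : g.appTop = (Scheme.ΓSpecIso (CommRingCat.of R)).hom ≫ φ := by
      simp only [φ, Iso.hom_inv_id_assoc]
    have w : g.appTop ≫ CommRingCat.ofHom
          (Ideal.Quotient.mk ((IsLocalRing.maximalIdeal R).map (algebraMap R Γ(U, ⊤)))) =
        (Spec.map (CommRingCat.ofHom (IsLocalRing.residue R))).appTop ≫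
          ((Scheme.ΓSpecIso (CommRingCat.of (IsLocalRing.ResidueField R))).hom ≫
            CommRingCat.ofHom (Ideal.Quotient.lift (IsLocalRing.maximalIdeal R) _ hker)) := by
      rw [hg, Category.assoc, key, Scheme.ΓSpecIso_naturality_assoc]
    have hd : fst.appTop ≫ hpo.desc _ _ w = CommRingCat.ofHom
        (Ideal.Quotient.mk ((IsLocalRing.maximalIdeal R).map (algebraMap R Γ(U, ⊤)))) :=
      hpo.inl_desc _ _ _
    have h0 : fst.appTop.hom n = 0 := by
      haveI : _root_.IsReduced Γ(P, ⊤) := inferInstance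
      exact IsReduced.eq_zero _ (hn.map fst.appTop.hom)
    have h1 : (Ideal.Quotient.mk ((IsLocalRing.maximalIdeal R).map (algebraMap R Γ(U, ⊤)))) n = 0 := by
      have h2 := congrArg (fun ψ => ψ.hom n) hd
      simp only [CommRingCat.hom_comp, RingHom.comp_apply, CommRingCat.hom_ofHom] at h2
      rw [← h2, h0, map_zero]
    exact Ideal.Quotient.eq_zero_iff_mem.1 h1
  have hp : ∀ x : U, primeAtPt U x = (hU.primeIdealOf ⟨x, trivial⟩).asIdeal := fun x =>
    (congrArg PrimeSpectrum.asIdeal (hU.primeIdealOf_eq_map_closedPoint ⟨x, trivial⟩)).symm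
  have hqp : (hU.primeIdealOf ⟨u, trivial⟩).asIdeal ≤ primeAtPt U u₀ := by
    rw [← hp u]
    intro a ha
    rw [mem_primeAtPt_iff] at ha ⊢
    exact fun h => ha (hu.mem_open (U.basicOpen a).isOpen h)
  have hIp : (IsLocalRing.maximalIdeal R).map (algebraMap R Γ(U, ⊤)) ≤ primeAtPt U u₀ := by
    rw [Ideal.map_le_iff_le_comap]
    intro a ha
    rw [Ideal.mem_comap, halg]
    show g.appTop.hom ((Scheme.ΓSpecIso (CommRingCat.of R)).inv.hom a) ∈ primeAtPt U u₀
    rw [mem_primeAtPt_iff, Groth.Agent.H25.GlobSec.mem_basicOpen_appTop, hu₀]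
    intro h
    have hb := basicOpen_eq_of_affine (R := CommRingCat.of R) a
    have h' : IsLocalRing.closedPoint R ∈ PrimeSpectrum.basicOpen a := by
      rw [← hb]
      exact h
    exact h' ha
  haveI : _root_.IsReduced (Localization.AtPrime (hU.primeIdealOf ⟨u, trivial⟩).asIdeal) :=
    isReduced_localization_of_flat_dvr R Γ(U, ⊤) hH (primeAtPt U u₀)
      (hU.primeIdealOf ⟨u, trivial⟩).asIdeal hqp hIp
  letI := TopCat.Presheaf.algebra_section_stalk U.presheaf (⟨u, trivial⟩ : (⊤ : U.Opens))
  haveI := hU.isLocalization_stalk ⟨u, trivial⟩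
  let e := IsLocalization.algEquiv (hU.primeIdealOf ⟨u, trivial⟩).asIdeal.primeCompl
    (U.presheaf.stalk u) (Localization.AtPrime (hU.primeIdealOf ⟨u, trivial⟩).asIdeal)
  exact isReduced_of_injective e e.injective

end SchemeLevel

section Charts

variable {S : Scheme.{u}}

/-- Morphisms from a representable sheaf to the terminal representable sheaf. -/
theorem eq_yon_map_of_terminal {U : Over S} (φ : (yon S).obj U ⟶ (yon S).obj (Over.mk (𝟙 S))) :
    φ = (yon S).map (Over.homMk U.hom (Category.comp_id _) : U ⟶ Over.mk (𝟙 S)) := by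
  obtain ⟨ψ, rfl⟩ := (yon S).map_surjective φ
  congr 1
  exact Over.mkIdTerminal.hom_ext _ _

/-- Base change of an etale chart of `X` over `h_T` along `h_k ⟶ h_T`. -/
theorem exists_chart_bc {X X1 : Sp S} {T k U : Over S} (s : X ⟶ (yon S).obj T) (ι : k ⟶ T)
    (a : (yon S).obj U ⟶ X) (ha : RepWith @Etale a) (h : U ⟶ T) (hah : a ≫ s = (yon S).map h)
    (fst1 : X1 ⟶ X) (snd1 : X1 ⟶ (yon S).obj k) (sq1 : IsPullback fst1 snd1 s ((yon S).map ι)) :
    ∃ c : (yon S).obj (pullback h ι) ⟶ X1, RepWith @Etale c ∧
      (RepWith @Surjective a → RepWith @Surjective c) ∧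
      IsPullback c ((yon S).map (pullback.fst h ι)) fst1 a := by
  have hcomm : ((yon S).map (pullback.fst h ι) ≫ a) ≫ s =
      (yon S).map (pullback.snd h ι) ≫ (yon S).map ι := by
    rw [Category.assoc, hah, ← Functor.map_comp, ← Functor.map_comp, pullback.condition]
  have hc1 : sq1.lift _ _ hcomm ≫ fst1 = (yon S).map (pullback.fst h ι) ≫ a := sq1.lift_fst _ _ _
  have hc2 : sq1.lift _ _ hcomm ≫ snd1 = (yon S).map (pullback.snd h ι) := sq1.lift_snd _ _ _
  have outer : IsPullback ((yon S).map (pullback.fst h ι)) ((yon S).map (pullback.snd h ι))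
      ((yon S).map h) ((yon S).map ι) := (IsPullback.of_hasPullback h ι).map (yon S)
  have left : IsPullback (sq1.lift _ _ hcomm) ((yon S).map (pullback.fst h ι)) fst1 a :=
    IsPullback.of_right (by rw [hc2, hah]; exact outer.flip) hc1 sq1.flip
  haveI := AlgSp.repWith_isStableUnderBaseChange (S := S) @Etale
  haveI := AlgSp.repWith_isStableUnderBaseChange (S := S) @Surjective
  exact ⟨sq1.lift _ _ hcomm, MorphismProperty.of_isPullback left.flip ha,
    fun has => MorphismProperty.of_isPullback left.flip has, left⟩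

end Charts

section Main

variable (R : Type u) [CommRing R] [IsDomain R] [IsDiscreteValuationRing R]

/-- The base scheme. -/
noncomputable abbrev BS : Scheme.{u} := Spec (CommRingCat.of R)

/-- The terminal object over the base. -/
noncomputable abbrev TT : Over (BS R) := Over.mk (𝟙 (BS R))

/-- The closed point as an object over the base. -/
noncomputable abbrev kk : Over (BS R) := Over.mk (Spec.map (CommRingCat.ofHom (IsLocalRing.residue R)))

/-- The inclusion of the closed point. -/
noncomputable abbrev ι0 : kk R ⟶ TT R :=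
  Over.homMk (Spec.map (CommRingCat.ofHom (IsLocalRing.residue R))) (Category.comp_id _)

/-- The generic point as an object over the base. -/
noncomputable abbrev kK : Over (BS R) := Over.mk (Spec.map (CommRingCat.ofHom (algebraMap R (FractionRing R))))

/-- The inclusion of the generic point. -/
noncomputable abbrev ιK : kK R ⟶ TT R :=
  Over.homMk (Spec.map (CommRingCat.ofHom (algebraMap R (FractionRing R)))) (Category.comp_id _)

/-- The structure morphism of an object over the base, as a morphism to the terminal object. -/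
noncomputable abbrev toT (U : Over (BS R)) : U ⟶ TT R := Over.homMk U.hom (Category.comp_id _)

/-- S10669, first part: flat proper with reduced special fibre over a discrete valuation ring implies reduced. -/
theorem isReducedSp_of_special_fibre {X : Sp (BS R)} (hXa : IsAlgSpace X)
    (s : X ⟶ (yon (BS R)).obj (TT R)) (hs1 : IsProperMor s) (hs2 : LocP @Flat s)
    (h0 : ∀ (X0 : Sp (BS R)) (fst : X0 ⟶ X) (snd : X0 ⟶ (yon (BS R)).obj (kk R)),
      IsPullback fst snd s ((yon (BS R)).map (ι0 R)) → EtaleLocally (fun U => IsReduced U) X0) :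
    EtaleLocally (fun U => IsReduced U) X := by
  refine (Groth.Agent.H25.GeomRedAlgSp4.isReducedSp_iff_forall_hasAt hXa).2 ?_
  intro x
  haveI : IsAffine (TT R).left := (inferInstance : IsAffine (Spec (CommRingCat.of R)))
  have hqs : IsQuasiSeparatedSp X :=
    Groth.Agent.H52.isQuasiSeparatedSp_of_quasiSeparated_over_affine s
      (Groth.Agent.H50.repWith_mono
        (fun _ _ g hg => by haveI : IsClosedImmersion g := hg; infer_instance) hs1.1)
  have hdec : IsDecent X := Groth.Agent.H52.isDecent_of_isQuasiSeparatedSp hXa hqs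
  obtain ⟨p, hpx, -, hpq⟩ := hdec x
  have hclosed : IsClosedMap (Points.map s) :=
    hs1.2.2 (IsAlgSpace.yon_obj (TT R)) (𝟙 _) (𝟙 X) s (IsPullback.id_horiz s)
  have hspec : Points.map s x ⤳ Points.ofScheme (TT R) (IsLocalRing.closedPoint R) := by
    have h1 : Points.map s x =
        Points.schemeHomeo (TT R) ((Points.schemeHomeo (TT R)).symm (Points.map s x)) :=
      ((Points.schemeHomeo (TT R)).apply_symm_apply _).symm
    rw [h1]
    exact (IsLocalRing.specializes_closedPoint (R := R) _).map
      (Points.schemeHomeo (TT R)).continuous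
  obtain ⟨x₀, hxx₀, hsx₀⟩ := hclosed.specializingMap hspec
  have hxx₀' : x ⤳ x₀ := hxx₀
  obtain ⟨U, a, u₀, hUaff, ha, hu₀⟩ := Groth.Agent.H52.exists_affine_chart_at hXa x₀
  haveI := hUaff
  obtain ⟨u, huu₀, hux⟩ := Groth.Agent.H52.exists_generization_of_specializes x₀ p
    (by rw [hpx]; exact hxx₀') hpq a ha u₀ hu₀
  have hah : a ≫ s = (yon (BS R)).map (toT R U) := eq_yon_map_of_terminal (a ≫ s)
  haveI : MorphismProperty.ContainsIdentities @Etale.{u} :=
    (inferInstance : MorphismProperty.IsMultiplicative @Etale.{u}).toContainsIdentities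
  haveI hflat : Flat U.hom := hs2 a (𝟙 _) (toT R U) ha (repWith_id @Etale (TT R))
    (by rw [hah, Category.comp_id])
  haveI hlft : LocallyOfFiniteType U.hom := hs1.2.1.1 a (𝟙 _) (toT R U) ha
    (repWith_id @Etale (TT R)) (by rw [hah, Category.comp_id])
  have hcl : U.hom u₀ = IsLocalRing.closedPoint R := by
    have h1 : Points.map s x₀ = Points.ofPt ((yon (BS R)).map (toT R U)) u₀ := by
      rw [← hu₀, Points.map_ofPt, hah]
    have h2 := congrArg (Points.toScheme (TT R)) (h1.symm.trans hsx₀)
    rw [Points.toScheme_ofPt] at h2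
    exact h2.trans (Points.toScheme_ofScheme (TT R) _)
  obtain ⟨W, q, hqe, hqs', hWred⟩ := h0 (pullback s ((yon (BS R)).map (ι0 R)))
    (pullback.fst _ _) (pullback.snd _ _) (IsPullback.of_hasPullback _ _)
  haveI : IsReduced W.left := hWred
  obtain ⟨c, hce, -, -⟩ := exists_chart_bc s (ι0 R) a ha (toT R U) hah
    (pullback.fst _ _) (pullback.snd _ _) (IsPullback.of_hasPullback s ((yon (BS R)).map (ι0 R)))
  haveI hPred : IsReduced (pullback (toT R U) (ι0 R)).left :=
    Groth.Agent.H25.GeomRedAlgSp2.isReduced_of_chart q hqe hqs' c hce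
  have sqS : IsPullback (pullback.fst (toT R U) (ι0 R)).left (pullback.snd (toT R U) (ι0 R)).left
      U.hom (Spec.map (CommRingCat.ofHom (IsLocalRing.residue R))) :=
    (IsPullback.of_hasPullback (toT R U) (ι0 R)).map (Over.forget (BS R))
  have hred := isReduced_stalk_of_flat_dvr R U.hom _ _ sqS u u₀ huu₀ hcl
  exact ⟨U, a, u, ha, hux.trans hpx, hred⟩

/-- S10669, second part: the generic fibre of a reduced algebraic space over a discrete valuation ring is reduced. -/
theorem isReducedSp_generic_fibre {X : Sp (BS R)} (hXa : IsAlgSpace X)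
    (s : X ⟶ (yon (BS R)).obj (TT R)) (hred : EtaleLocally (fun U => IsReduced U) X)
    (Xη : Sp (BS R)) (fst : Xη ⟶ X) (snd : Xη ⟶ (yon (BS R)).obj (kK R))
    (sq : IsPullback fst snd s ((yon (BS R)).map (ιK R))) :
    EtaleLocally (fun U => IsReduced U) Xη := by
  obtain ⟨W, p, hpe, hps⟩ := hXa.atlas
  obtain ⟨W', p', hpe', hps', hW'⟩ := hred
  haveI : IsReduced W'.left := hW'
  haveI : IsReduced W.left := Groth.Agent.H25.GeomRedAlgSp2.isReduced_of_chart p' hpe' hps' p hpe
  obtain ⟨c, hce, hcs, -⟩ := exists_chart_bc s (ιK R) p hpe (toT R W)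
    (eq_yon_map_of_terminal (p ≫ s)) fst snd sq
  refine ⟨pullback (toT R W) (ιK R), c, hce, hcs hps, ?_⟩
  have sqS : IsPullback (pullback.fst (toT R W) (ιK R)).left (pullback.snd (toT R W) (ιK R)).left
      W.hom (Spec.map (CommRingCat.ofHom (algebraMap R (FractionRing R)))) :=
    (IsPullback.of_hasPullback (toT R W) (ιK R)).map (Over.forget (BS R))
  haveI : IsOpenImmersion (Spec.map (CommRingCat.ofHom (algebraMap R (FractionRing R)))) :=
    isOpenImmersion_generic R
  haveI : IsOpenImmersion (pullback.fst (toT R W) (ιK R)).left :=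
    MorphismProperty.of_isPullback (P := @IsOpenImmersion) sqS.flip inferInstance
  exact isReduced_of_isOpenImmersion (pullback.fst (toT R W) (ιK R)).left

end Main

end Groth.Agent.H25.DVRReduced
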