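import Mathlib
import Groth.Prelude
import Groth.Agent.H52.ChartIndep
import Groth.Agent.H52.ChartAt
import Groth.Agent.H70.EtaleSquare
import Groth.Agent.H9.FibreFormula
import Groth.Agent.H25.AlgSpLocalDim

/-!
# Transcendence degrees of residue field extensions on chart diagrams of algebraic spaces (helper25)

* `resTrdeg_comp`: additivity of `Dual3.resTrdeg` along compositions of morphisms of schemes;
  `resTrdeg_eq_of_etale_square`: invariance under etale squares.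
* `resTrdeg_eq_of_charts`, `resTrdeg_eq_of_hasAtMor`: the value of `Dual3.resTrdeg` at a point of a chart diagram only
  depends on the point of the space.
* `exists_chart_over`: a chart diagram of `f` through a given point with prescribed target chart.
* `hasAtMor_fibreDim_eq_add` (S10320), `hasAtMor_resTrdeg_comp` (S10319), `hasAtMor_resTrdeg_comp_lqf_iff` (S10316).
-/

set_option autoImplicit false
set_option maxHeartbeats 400000
set_option linter.style.haveILetI false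
set_option linter.unusedVariables false
set_option linter.unusedSectionVars false

universe u

open CategoryTheory CategoryTheory.Limits AlgebraicGeometry TopologicalSpace AlgSp

namespace Groth.Agent.H25.TrdegCharts

section Field

variable {k K K' : Type u} [Field k] [Field K] [Field K']

theorem trdeg_comp (i : k →+* K) (j : K →+* K') :
    @Algebra.trdeg k K' _ _ (j.comp i).toAlgebra =
      @Algebra.trdeg k K _ _ i.toAlgebra + @Algebra.trdeg K K' _ _ j.toAlgebra := by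
  letI a1 : Algebra k K := i.toAlgebra
  letI a2 : Algebra K K' := j.toAlgebra
  letI a5 : Algebra k K' := (j.comp i).toAlgebra
  haveI : IsScalarTower k K K' := IsScalarTower.of_algebraMap_eq' rfl
  exact (trdeg_add_eq k K (A := K')).symm

theorem trdeg_eq_zero_of_finite (i : k →+* K) (hi : i.Finite) :
    @Algebra.trdeg k K _ _ i.toAlgebra = 0 := by
  letI a1 : Algebra k K := i.toAlgebra
  haveI : Module.Finite k K := hi
  haveI : Algebra.IsAlgebraic k K := Algebra.IsAlgebraic.of_finite k K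
  exact trdeg_eq_zero (R := k) (A := K)

end Field

section Sch

open Groth.Agent.H70.EtaleSquare

theorem resTrdeg_comp {X Y Z : Scheme.{u}} (f : X ⟶ Y) (g : Y ⟶ Z) (x : X) :
    Dual3.resTrdeg (f ≫ g) x = Dual3.resTrdeg g (f x) + Dual3.resTrdeg f x := by
  have h := trdeg_comp (g.residueFieldMap (f x)).hom (f.residueFieldMap x).hom
  have e : ((f ≫ g).residueFieldMap x).hom =
      (f.residueFieldMap x).hom.comp (g.residueFieldMap (f x)).hom := by
    rw [Scheme.residueFieldMap_comp]; rfl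
  change @Algebra.trdeg _ _ _ _ ((f ≫ g).residueFieldMap x).hom.toAlgebra = _
  rw [e]
  exact h

theorem resTrdeg_eq_zero_of_finite {X Y : Scheme.{u}} (f : X ⟶ Y) (x : X)
    (hfin : (f.residueFieldMap x).hom.Finite) : Dual3.resTrdeg f x = 0 :=
  trdeg_eq_zero_of_finite (f.residueFieldMap x).hom hfin

theorem resTrdeg_eq_zero_of_locallyQuasiFinite {X Y : Scheme.{u}} (f : X ⟶ Y)
    [LocallyQuasiFinite f] (x : X) : Dual3.resTrdeg f x = 0 :=
  resTrdeg_eq_zero_of_finite f x (Groth.Agent.H7.finite_residueFieldMap f x (f.quasiFiniteAt x))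

theorem resTrdeg_comp_etale {X Y Z : Scheme.{u}} (f : X ⟶ Y) (g : Y ⟶ Z) [Etale g] (x : X) :
    Dual3.resTrdeg (f ≫ g) x = Dual3.resTrdeg f x := by
  rw [resTrdeg_comp, resTrdeg_eq_zero_of_finite g (f x) (finite_residueFieldMap_of_etale g (f x)),
    zero_add]

theorem resTrdeg_etale_comp {X Y Z : Scheme.{u}} (f : X ⟶ Y) [Etale f] (g : Y ⟶ Z) (x : X) :
    Dual3.resTrdeg (f ≫ g) x = Dual3.resTrdeg g (f x) := by
  rw [resTrdeg_comp, resTrdeg_eq_zero_of_finite f x (finite_residueFieldMap_of_etale f x), add_zero]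

/-- The transcendence degree of the residue field extension is etale local on source and target. -/
theorem resTrdeg_eq_of_etale_square {U U' V V' : Scheme.{u}} (h : U ⟶ V) (h' : U' ⟶ V')
    (a : U' ⟶ U) (b : V' ⟶ V) [Etale a] [Etale b] (comm : h' ≫ b = a ≫ h) (u' : U') :
    Dual3.resTrdeg h (a u') = Dual3.resTrdeg h' u' := by
  rw [← resTrdeg_etale_comp a h u', ← comm, resTrdeg_comp_etale]

/-- Over a Jacobson scheme, the residue field of a closed point of a scheme locally of finite type is a finite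
extension of the residue field of its image. -/
theorem resTrdeg_eq_zero_of_isClosed {X Y : Scheme.{u}} (f : X ⟶ Y) [LocallyOfFiniteType f]
    [JacobsonSpace ↥Y] (x : X) (hx : IsClosed ({x} : Set ↥X)) : Dual3.resTrdeg f x = 0 := by
  refine resTrdeg_eq_zero_of_finite f x ?_
  haveI := isClosed_singleton_iff_isClosedImmersion.mp hx
  have hfin : IsFinite (X.fromSpecResidueField x ≫ f) :=
    (isFinite_iff_locallyOfFiniteType_of_jacobsonSpace
      (f := X.fromSpecResidueField x ≫ f)).mpr inferInstance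
  rw [← Scheme.Hom.SpecMap_residueFieldMap_fromSpecResidueField] at hfin
  haveI : IsFinite (Spec.map (f.residueFieldMap x)) :=
    IsFinite.of_comp _ (Y.fromSpecResidueField (f x))
  exact (IsFinite.SpecMap_iff _).mp this

theorem isClosed_singleton_of_etale {U U₁ : Scheme.{u}} (p : U ⟶ U₁) [Etale p] (u : U)
    (h : IsClosed ({p u} : Set ↥U₁)) : IsClosed ({u} : Set ↥U) := by
  haveI : LocallyQuasiFinite p := locallyQuasiFinite_of_etale p
  have hcl : closure ({u} : Set ↥U) = {u} := by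
    apply Set.Subset.antisymm _ subset_closure
    intro u' hu'
    have hs : u ⤳ u' := specializes_iff_mem_closure.mpr hu'
    have hs' : p u ⤳ p u' := hs.map p.continuous
    have hmem : p u' ∈ closure ({p u} : Set ↥U₁) := specializes_iff_mem_closure.mp hs'
    rw [h.closure_eq] at hmem
    have heq : p u' = p u := hmem
    have := Groth.Agent.H25.AlgSpLocalDim.eq_of_specializes_of_locallyQuasiFinite p hs heq.symm
    exact Set.mem_singleton_iff.mpr this.symm
  rw [← hcl]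
  exact isClosed_closure

end Sch

variable {S : Scheme.{u}}

open Groth.Agent.H52

/-- The transcendence degree at a point of a chart diagram only depends on the image point. -/
theorem resTrdeg_eq_of_charts {X Y : Sp S}
    (f : X ⟶ Y) {U V : Over S} (a : (yon S).obj U ⟶ X) (b : (yon S).obj V ⟶ Y) (h : U ⟶ V)
    (ha : RepWith @Etale a) (hb : RepWith @Etale b)
    (comm : a ≫ f = (yon S).map h ≫ b)
    {U' V' : Over S} (a' : (yon S).obj U' ⟶ X) (b' : (yon S).obj V' ⟶ Y) (h' : U' ⟶ V')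
    (ha' : RepWith @Etale a') (hb' : RepWith @Etale b')
    (comm' : a' ≫ f = (yon S).map h' ≫ b') (u : ↥U.left) (u' : ↥U'.left)
    (hu : Points.ofPt a u = Points.ofPt a' u') :
    Dual3.resTrdeg h.left u = Dual3.resTrdeg h'.left u' := by
  have sqW := ha.rep.isPullback' a'
  have hw₂e : Etale (ha.rep.snd a').left := ha.property_snd a'
  have hw₁e : Etale (ha.rep.fst' a').left := ha'.2 a ((yon S).map (ha.rep.snd a')) _ sqW.flip
  have sqV := hb.rep.isPullback' b'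
  have hv₂e : Etale (hb.rep.snd b').left := hb.property_snd b'
  have hv₁e : Etale (hb.rep.fst' b').left := hb'.2 b ((yon S).map (hb.rep.snd b')) _ sqV.flip
  have hcomp : (yon S).map (ha.rep.fst' a' ≫ h) ≫ b = (yon S).map (ha.rep.snd a' ≫ h') ≫ b' := by
    rw [Functor.map_comp, Functor.map_comp, Category.assoc, Category.assoc, ← comm, ← comm',
      ← Category.assoc, ← Category.assoc, sqW.w]
  obtain ⟨k, hk⟩ := (yon S).map_surjective (sqV.lift _ _ hcomp)
  have hk₁ : k ≫ hb.rep.fst' b' = ha.rep.fst' a' ≫ h := by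
    apply (yon S).map_injective
    rw [Functor.map_comp, hk, sqV.lift_fst]
  have hk₂ : k ≫ hb.rep.snd b' = ha.rep.snd a' ≫ h' := by
    apply (yon S).map_injective
    rw [Functor.map_comp, hk, sqV.lift_snd]
  obtain ⟨w, hw1, hw2⟩ := exists_of_ofPt_eq_ofPt sqW u u' hu
  have e1 := resTrdeg_eq_of_etale_square h.left k.left
    (ha.rep.fst' a').left (hb.rep.fst' b').left (congrArg (fun m => m.left) hk₁) w
  have e2 := resTrdeg_eq_of_etale_square h'.left k.left
    (ha.rep.snd a').left (hb.rep.snd b').left (congrArg (fun m => m.left) hk₂) w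
  rw [← hw1, ← hw2, e1, e2]

/-- A value of the transcendence degree read on some chart diagram is the value on every chart diagram. -/
theorem resTrdeg_eq_of_hasAtMor {X Y : Sp S} (f : X ⟶ Y) (x : Points X) (r : Cardinal.{u})
    (hr : HasAtMor (fun _ _ h u => Dual3.resTrdeg h u = r) f x)
    {U V : Over S} (a : (yon S).obj U ⟶ X) (b : (yon S).obj V ⟶ Y) (h : U ⟶ V)
    (ha : RepWith @Etale a) (hb : RepWith @Etale b)
    (comm : a ≫ f = (yon S).map h ≫ b) (u : ↥U.left) (hu : Points.ofPt a u = x) :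
    Dual3.resTrdeg h.left u = r := by
  obtain ⟨U', V', a', b', h', u', ha', hb', comm', hu', hr'⟩ := hr
  rw [← hr']
  exact resTrdeg_eq_of_charts f a b h ha hb comm a' b' h' ha' hb' comm' u u' (hu.trans hu'.symm)

/-- A chart diagram of `f` through a given point, with prescribed target chart (strong form: the new chart of the
source is etale over the given one). -/
theorem exists_chart_over' {X Y : Sp S} (f : X ⟶ Y) {U₁ U₂ : Over S}
    (a₁ : (yon S).obj U₁ ⟶ X)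
    (a₂ : (yon S).obj U₂ ⟶ Y) (ha₂ : RepWith @Etale a₂) (u₁ : ↥U₁.left) (u₂ : ↥U₂.left)
    (hu : Points.map f (Points.ofPt a₁ u₁) = Points.ofPt a₂ u₂) :
    ∃ (U : Over S) (p : U ⟶ U₁) (h : U ⟶ U₂) (u : ↥U.left), Etale p.left ∧
      ((yon S).map p ≫ a₁) ≫ f = (yon S).map h ≫ a₂ ∧ p.left u = u₁ ∧ h.left u = u₂ := by
  have sqW := ha₂.rep.isPullback' (a₁ ≫ f)
  have hu' : Points.ofPt a₂ u₂ = Points.ofPt (a₁ ≫ f) u₁ := by
    rw [← hu, Points.map_ofPt]
  obtain ⟨w, hw1, hw2⟩ := exists_of_ofPt_eq_ofPt sqW u₂ u₁ hu'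
  refine ⟨_, ha₂.rep.snd (a₁ ≫ f), ha₂.rep.fst' (a₁ ≫ f), w, ha₂.property_snd (a₁ ≫ f), ?_, hw2, hw1⟩
  rw [Category.assoc, sqW.w]

/-- A chart diagram of `f` through a given point, with prescribed target chart. -/
theorem exists_chart_over {X Y : Sp S} (f : X ⟶ Y) {U₁ U₂ : Over S}
    (a₁ : (yon S).obj U₁ ⟶ X) (ha₁ : RepWith @Etale a₁)
    (a₂ : (yon S).obj U₂ ⟶ Y) (ha₂ : RepWith @Etale a₂) (u₁ : ↥U₁.left) (u₂ : ↥U₂.left)
    (hu : Points.map f (Points.ofPt a₁ u₁) = Points.ofPt a₂ u₂) :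
    ∃ (U : Over S) (a : (yon S).obj U ⟶ X) (h : U ⟶ U₂) (u : ↥U.left), RepWith @Etale a ∧
      a ≫ f = (yon S).map h ≫ a₂ ∧ Points.ofPt a u = Points.ofPt a₁ u₁ ∧ h.left u = u₂ := by
  obtain ⟨U, p, h, u, hp, comm, hpu, hhu⟩ := exists_chart_over' f a₁ a₂ ha₂ u₁ u₂ hu
  have h4 := AlgSp.repWith_isMultiplicative (S := S) @Etale
  refine ⟨U, (yon S).map p ≫ a₁, h, u,
    (RepWith @Etale).comp_mem _ _ ((repWith_yon_map_iff @Etale _).2 hp) ha₁, comm, ?_, hhu⟩
  rw [ofPt_yon_map_comp, hpu]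

/-- S10320. -/
theorem hasAtMor_fibreDim_eq_add {X Y : Sp S} (f : X ⟶ Y) (hf : LocP @LocallyOfFiniteType f)
    (x : Points X) (d e : WithBot ℕ∞) (r : Cardinal.{u})
    (hd : HasAtMor (fun _ _ h u => FlatMor.fibreDimAt h u = d) f x)
    (he : HasAtMor (fun _ _ h u =>
      ringKrullDim ↥((h.fiber (h u)).presheaf.stalk (h.asFiber u)) = e) f x)
    (hr : HasAtMor (fun _ _ h u => Dual3.resTrdeg h u = r) f x) :
    d = e + ((Cardinal.toENat r : ℕ∞) : WithBot ℕ∞) := by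
  obtain ⟨U, V, a, b, h, u, ha, hb, comm, hu, he'⟩ := he
  haveI : LocallyOfFiniteType h.left := hf a b h ha hb comm
  obtain ⟨n, m, h1, h2, h3⟩ := Groth.Agent.H9.FibreFormula.fibre_formula h.left u
  have hd' := fibreDimAt_eq_of_hasAtMor f x d hd a b h ha hb comm u hu
  have hr' := resTrdeg_eq_of_hasAtMor f x r hr a b h ha hb comm u hu
  have hrn : r = (n : Cardinal.{u}) := hr'.symm.trans h1
  have hem : e = (m : WithBot ℕ∞) := he'.symm.trans h2
  rw [← hd', h3, hem, hrn, Cardinal.toENat_nat]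
  push_cast
  rw [add_comm]

/-- S10319. -/
theorem hasAtMor_resTrdeg_comp {X Y Z : Sp S} (f : X ⟶ Y) (g : Y ⟶ Z) (x : Points X)
    (r₁ r₂ : Cardinal.{u})
    (h1 : HasAtMor (fun _ _ h u => Dual3.resTrdeg h u = r₁) f x)
    (h2 : HasAtMor (fun _ _ h u => Dual3.resTrdeg h u = r₂) g (Points.map f x)) :
    HasAtMor (fun _ _ h u => Dual3.resTrdeg h u = r₁ + r₂) (f ≫ g) x := by
  obtain ⟨U₁, V₁, a₁, b₁, h₁, u₁, ha₁, hb₁, comm₁, hu₁, hr₁⟩ := h1
  obtain ⟨U₂, V₂, a₂, b₂, h₂, u₂, ha₂, hb₂, comm₂, hu₂, hr₂⟩ := h2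
  obtain ⟨U, a, h, u, ha, comm, hu, hhu⟩ :=
    exists_chart_over f a₁ ha₁ a₂ ha₂ u₁ u₂ (by rw [hu₁, hu₂])
  refine ⟨U, V₂, a, b₂, h ≫ h₂, u, ha, hb₂, ?_, hu.trans hu₁, ?_⟩
  · rw [← Category.assoc, comm, Category.assoc, comm₂, Functor.map_comp, Category.assoc]
  · change Dual3.resTrdeg (h.left ≫ h₂.left) u = r₁ + r₂
    have e := resTrdeg_eq_of_charts f a a₂ h ha ha₂ comm a₁ b₁ h₁ ha₁ hb₁ comm₁ u u₁ hu
    rw [resTrdeg_comp, hhu, hr₂, e, hr₁, add_comm]

/-- S10316. -/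
theorem hasAtMor_resTrdeg_comp_lqf_iff {X Y Z : Sp S} (hX : IsAlgSpace X) (hY : IsAlgSpace Y)
    (hZ : IsAlgSpace Z) (f : X ⟶ Y) (g : Y ⟶ Z)
    (hf : LocP (@LocallyQuasiFinite ⊓ @LocallyOfFiniteType) f) (x : Points X) (r : Cardinal.{u}) :
    HasAtMor (fun _ _ h u => Dual3.resTrdeg h u = r) (f ≫ g) x ↔
      HasAtMor (fun _ _ h u => Dual3.resTrdeg h u = r) g (Points.map f x) := by
  have key : ∀ {U₁ : Over S} (a₁ : (yon S).obj U₁ ⟶ X) (ha₁ : RepWith @Etale a₁) (u₁ : ↥U₁.left)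
      (hu₁ : Points.ofPt a₁ u₁ = x) {U₂ V₂ : Over S} (a₂ : (yon S).obj U₂ ⟶ Y)
      (b₂ : (yon S).obj V₂ ⟶ Z) (h₂ : U₂ ⟶ V₂) (u₂ : ↥U₂.left) (ha₂ : RepWith @Etale a₂)
      (hb₂ : RepWith @Etale b₂) (comm₂ : a₂ ≫ g = (yon S).map h₂ ≫ b₂)
      (hu₂ : Points.ofPt a₂ u₂ = Points.map f x),
      ∃ (U : Over S) (a : (yon S).obj U ⟶ X) (h : U ⟶ V₂) (u : ↥U.left), RepWith @Etale a ∧
        a ≫ (f ≫ g) = (yon S).map h ≫ b₂ ∧ Points.ofPt a u = x ∧
        Dual3.resTrdeg h.left u = Dual3.resTrdeg h₂.left u₂ := by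
    intro U₁ a₁ ha₁ u₁ hu₁ U₂ V₂ a₂ b₂ h₂ u₂ ha₂ hb₂ comm₂ hu₂
    obtain ⟨U, a, h, u, ha, comm, hu, hhu⟩ :=
      exists_chart_over f a₁ ha₁ a₂ ha₂ u₁ u₂ (by rw [hu₁, hu₂])
    refine ⟨U, a, h ≫ h₂, u, ha, ?_, hu.trans hu₁, ?_⟩
    · rw [← Category.assoc, comm, Category.assoc, comm₂, Functor.map_comp, Category.assoc]
    · change Dual3.resTrdeg (h.left ≫ h₂.left) u = _
      have hlqf : LocallyQuasiFinite h.left := (hf a a₂ h ha ha₂ comm).1
      rw [resTrdeg_comp, hhu, resTrdeg_eq_zero_of_locallyQuasiFinite h.left u, add_zero]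
  constructor
  · rintro ⟨U₀, V₀, a₀, b₀, h₀, u₀, ha₀, hb₀, comm₀, hu₀, hr₀⟩
    obtain ⟨U₂, V₂, a₂, b₂, h₂, u₂, ha₂, hb₂, comm₂, hu₂⟩ :=
      exists_chart_diagram_at hY hZ g (Points.map f x)
    obtain ⟨U, a, h, u, ha, comm, hu, htr⟩ :=
      key a₀ ha₀ u₀ hu₀ a₂ b₂ h₂ u₂ ha₂ hb₂ comm₂ hu₂
    refine ⟨U₂, V₂, a₂, b₂, h₂, u₂, ha₂, hb₂, comm₂, hu₂, ?_⟩
    change Dual3.resTrdeg h₂.left u₂ = r
    rw [← htr, ← hr₀]
    exact resTrdeg_eq_of_charts (f ≫ g) a b₂ h ha hb₂ comm a₀ b₀ h₀ ha₀ hb₀ comm₀ u u₀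
      (hu.trans hu₀.symm)
  · rintro ⟨U₂, V₂, a₂, b₂, h₂, u₂, ha₂, hb₂, comm₂, hu₂, hr₂⟩
    obtain ⟨U₁, V₁, a₁, b₁, h₁, u₁, ha₁, hb₁, comm₁, hu₁⟩ := exists_chart_diagram_at hX hY f x
    obtain ⟨U, a, h, u, ha, comm, hu, htr⟩ :=
      key a₁ ha₁ u₁ hu₁ a₂ b₂ h₂ u₂ ha₂ hb₂ comm₂ hu₂
    exact ⟨U, V₂, a, b₂, h, u, ha, hb₂, comm, hu, htr.trans hr₂⟩

/-- S10318. -/
theorem hasAtMor_resTrdeg_zero_of_jacobson {X Y : Sp S} (f : X ⟶ Y)
    (hf : LocP @LocallyOfFiniteType f) (hY : EtaleLocally (fun U => JacobsonSpace ↥U) Y)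
    (x : Points X) (hx : HasAt (fun U u => IsClosed ({u} : Set ↥U)) X x) :
    HasAtMor (fun _ _ h u => Dual3.resTrdeg h u = 0) f x := by
  obtain ⟨V₀, a₀, ha₀, hs₀, hJ⟩ := hY
  obtain ⟨U₁, a₁, u₁, ha₁, hu₁, hcl⟩ := hx
  obtain ⟨v₀, hv₀⟩ := surjective_ofPt_of_surjective a₀ hs₀ (Points.map f x)
  obtain ⟨U, p, h, u, hp, comm, hpu, hhu⟩ :=
    exists_chart_over' f a₁ a₀ ha₀ u₁ v₀ (by rw [hu₁, hv₀])
  have h4 := AlgSp.repWith_isMultiplicative (S := S) @Etale
  have ha : RepWith @Etale ((yon S).map p ≫ a₁) :=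
    (RepWith @Etale).comp_mem _ _ ((repWith_yon_map_iff @Etale _).2 hp) ha₁
  refine ⟨U, V₀, (yon S).map p ≫ a₁, a₀, h, u, ha, ha₀, comm, ?_, ?_⟩
  · rw [ofPt_yon_map_comp, hpu, hu₁]
  · haveI : LocallyOfFiniteType h.left := hf _ a₀ h ha ha₀ comm
    haveI : JacobsonSpace ↥V₀.left := hJ
    haveI : Etale p.left := hp
    exact resTrdeg_eq_zero_of_isClosed h.left u
      (isClosed_singleton_of_etale p.left u (by rw [hpu]; exact hcl))

end Groth.Agent.H25.TrdegCharts
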