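import Mathlib
import Groth.Prelude
import Groth.Agent.S12459
import Groth.Agent.S12447
import Groth.Agent.H38.DimFun
import Groth.Agent.H38.DimFunExists
import Groth.Agent.H60.DimFunX
import Groth.Agent.H9.DimFormulaScheme
import Groth.Agent.H9.DimFormulaLoc
import Groth.Agent.H25.TrdegCharts
import Groth.Agent.H25.DVRReduced
import Groth.Agent.H52.DecentTop
import Groth.Agent.H52.Topology
import Groth.Agent.H52.FQDecent
import Groth.Agent.H69.DecentSober

/-!
# The space of points of a decent algebraic space locally of finite type over a universally catenary base is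
catenary (helper25, S10447)

Strategy: on an etale chart `U` around the generic point of the smaller irreducible closed set, restricted to the
preimage `W` of an open `V` of the base carrying a dimension function, the induced function `δ₀` is a dimension function
(`H60.DimFunX.isDimFun_induced`) which only depends on the image point in `|X|`.  Chains of irreducible closed subsets of
`|X|` lift to chains of specializations in `W` (decency), along which `δ₀` measures the length.
-/

set_option autoImplicit false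
set_option maxHeartbeats 400000
set_option linter.style.haveILetI false
set_option linter.unusedVariables false
set_option linter.unusedSectionVars false

universe u

open CategoryTheory CategoryTheory.Limits AlgebraicGeometry TopologicalSpace AlgSp Opposite

namespace Groth.Agent.H25.CatenarySp

open Groth.Agent.H38

variable {S : Scheme.{u}}

/-- An open subscheme of a locally Noetherian scheme with universally catenary local rings, with a dimension function. -/
theorem isSetup_opens [IsLocallyNoetherian S]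
    (hS : ∀ s : ↥S, CAlg.IsUniversallyCatenary ↥(S.presheaf.stalk s))
    (V : S.Opens) (δV : ↥V → ℤ) (hδV : PtTop.IsDimensionFunction δV) :
    Cyc.IsSetup (V : Scheme.{u}) δV := by
  refine ⟨isLocallyNoetherian_of_isOpenImmersion V.ι, fun y => ?_, ?_⟩
  · exact Groth.Agent.H9.DimFormulaLoc.isUniversallyCatenary_of_ringEquiv
      (V.stalkIso y).symm.commRingCatIsoToRingEquiv (hS y.1)
  · intro x y hxy hne
    exact ⟨hδV.1 x y hxy hne, fun himm => hδV.2 x y ⟨hxy, hne, himm⟩⟩

/-- The transcendence degree of the residue field over the base only depends on the image point in `|X|`. -/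
theorem resTrdeg_eq_of_ofPt_eq {X : Sp S} {U : Over S} (a : (yon S).obj U ⟶ X)
    (ha : RepWith @Etale a) (t t' : ↥U.left) (h : Points.ofPt a t = Points.ofPt a t') :
    Dual3.resTrdeg U.hom t = Dual3.resTrdeg U.hom t' := by
  obtain ⟨R, ψ, fst, sq⟩ := ha.1 a
  obtain ⟨φ, rfl⟩ := (yon S).map_surjective fst
  haveI hψ : Etale ψ.left := ha.2 _ _ _ sq
  haveI hφ : Etale φ.left := ha.2 _ _ _ sq.flip
  obtain ⟨r, hr1, hr2⟩ := Groth.Agent.H52.exists_of_ofPt_eq_ofPt sq t t' h
  have e1 : Dual3.resTrdeg U.hom (φ.left r) = Dual3.resTrdeg R.hom r := by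
    rw [← Over.w φ]
    exact (Groth.Agent.H25.TrdegCharts.resTrdeg_etale_comp φ.left U.hom r).symm
  have e2 : Dual3.resTrdeg U.hom (ψ.left r) = Dual3.resTrdeg R.hom r := by
    rw [← Over.w ψ]
    exact (Groth.Agent.H25.TrdegCharts.resTrdeg_etale_comp ψ.left U.hom r).symm
  rw [← hr1, ← hr2, e1, e2]

/-- The image in the base of a point of a chart only depends on the image point in `|X|`. -/
theorem hom_eq_toScheme {X : Sp S} (p : X ⟶ (yon S).obj (Over.mk (𝟙 S))) {U : Over S}
    (a : (yon S).obj U ⟶ X) (t : ↥U.left) :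
    U.hom t = Points.toScheme (Over.mk (𝟙 S)) (Points.map p (Points.ofPt a t)) := by
  have hah := Groth.Agent.H25.DVRReduced.eq_yon_map_of_terminal (a ≫ p)
  rw [Points.map_ofPt, hah, Points.toScheme_ofPt]
  rfl

/-- A local dimension function on an etale chart which is constant on the fibres of `|U| → |X|`. -/
theorem exists_dimFun_chart [IsLocallyNoetherian S]
    (hS : ∀ s : ↥S, CAlg.IsUniversallyCatenary ↥(S.presheaf.stalk s)) {X : Sp S}
    (p : X ⟶ (yon S).obj (Over.mk (𝟙 S))) {U : Over S} (a : (yon S).obj U ⟶ X)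
    (ha : RepWith @Etale a) [LocallyOfFiniteType U.hom] (u : ↥U.left) :
    ∃ (W : U.left.Opens) (δ₀ : ↥W → ℤ), u ∈ W ∧ Cyc.IsDimFun (W : Scheme.{u}) δ₀ ∧
      ∀ w w' : ↥W, Points.ofPt a w.1 = Points.ofPt a w'.1 → δ₀ w = δ₀ w' := by
  have hScat : PtTop.IsCatenarySpace ↥S :=
    (Groth.Agent.S12459.result S).2 hS S (𝟙 S) inferInstance
  obtain ⟨V, hsV, δV, hδV⟩ := (Groth.Agent.S12447.result S).1 hScat (U.hom u)
  have hsetup := isSetup_opens hS V δV hδV
  haveI : LocallyOfFiniteType (U.hom ∣_ V) := inferInstance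
  choose nn hnn using fun w : ↥(U.hom ⁻¹ᵁ V) =>
    Groth.Agent.H9.DimFormulaScheme.exists_trdeg_eq_nat (U.hom ∣_ V) w
  have hcompat : Cyc.DeltaCompat (U.hom ∣_ V)
      (fun w => δV ((U.hom ∣_ V) w) + (nn w : ℤ)) δV := fun w => ⟨nn w, hnn w, rfl⟩
  have hdim := Groth.Agent.H60.DimFunX.isDimFun_induced (U.hom ∣_ V) δV hsetup _ hcompat
  refine ⟨U.hom ⁻¹ᵁ V, fun w => δV ((U.hom ∣_ V) w) + (nn w : ℤ), hsV, hdim, ?_⟩
  intro w w' h
  have h1 : (U.hom ∣_ V) w = (U.hom ∣_ V) w' := by
    apply Subtype.ext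
    have e1 := morphismRestrict_base_coe U.hom V w
    have e2 := morphismRestrict_base_coe U.hom V w'
    have e3 : U.hom w.1 = U.hom w'.1 := by rw [hom_eq_toScheme p a, hom_eq_toScheme p a, h]
    exact e1.trans (e3.trans e2.symm)
  have e : ∀ t : ↥(U.hom ⁻¹ᵁ V), Dual3.resTrdeg U.hom t.1 = Dual3.resTrdeg (U.hom ∣_ V) t :=
    fun t => Groth.Agent.H25.TrdegCharts.resTrdeg_eq_of_etale_square U.hom (U.hom ∣_ V)
      (U.hom ⁻¹ᵁ V).ι V.ι (morphismRestrict_ι U.hom V) t
  have h2 : Dual3.resTrdeg (U.hom ∣_ V) w = Dual3.resTrdeg (U.hom ∣_ V) w' := by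
    rw [← e w, ← e w']
    exact resTrdeg_eq_of_ofPt_eq a ha _ _ h
  have h3 : ((nn w : ℕ) : Cardinal.{u}) = ((nn w' : ℕ) : Cardinal.{u}) := by
    rw [← hnn w, ← hnn w']
    exact h2
  have h4 : nn w = nn w' := Nat.cast_injective h3
  have h5 : δV ((U.hom ∣_ V) w) = δV ((U.hom ∣_ V) w') := congrArg δV h1
  show δV ((U.hom ∣_ V) w) + (nn w : ℤ) = δV ((U.hom ∣_ V) w') + (nn w' : ℤ)
  rw [h5, h4]

/-- Chains of irreducible closed subsets of `|X|` starting at the closure of the image of `u₀` lift to `W`, and the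
dimension function measures their length. -/
theorem exists_lift_chain {X : Sp S} (hXa : IsAlgSpace X) (hX : IsDecent X)
    [QuasiSober (Points X)] [T0Space (Points X)]
    {U : Over S} (a : (yon S).obj U ⟶ X) (ha : RepWith @Etale a) (W : U.left.Opens) (δ₀ : ↥W → ℤ)
    (hdim : Cyc.IsDimFun (W : Scheme.{u}) δ₀) (u₀ : ↥W)
    (q : LTSeries (IrreducibleCloseds (Points X))) (hq : Points.ofPt a u₀.1 = gpt q.head) :
    ∀ (k : ℕ) (hk : k ≤ q.length), ∃ w : ↥W,
      Points.ofPt a w.1 = gpt (q.toFun ⟨k, Nat.lt_succ_of_le hk⟩) ∧ δ₀ u₀ + k ≤ δ₀ w ∧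
        ((∀ i : Fin q.length, q.toFun i.castSucc ⋖ q.toFun i.succ) → δ₀ w = δ₀ u₀ + k) := by
  intro k
  induction k with
  | zero =>
    intro hk
    exact ⟨u₀, hq, by simp, fun _ => by simp⟩
  | succ k ih =>
    intro hk
    have hk' : k ≤ q.length := Nat.le_of_succ_le hk
    have hklt : k < q.length := hk
    obtain ⟨w, hw, hle, hsat⟩ := ih hk'
    have hlt : q.toFun ⟨k, Nat.lt_succ_of_le hk'⟩ < q.toFun ⟨k + 1, Nat.lt_succ_of_le hk⟩ :=
      q.step ⟨k, hklt⟩
    have hsp : gpt (q.toFun ⟨k + 1, Nat.lt_succ_of_le hk⟩) ⤳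
        gpt (q.toFun ⟨k, Nat.lt_succ_of_le hk'⟩) := gpt_specializes hlt.le
    have hne : gpt (q.toFun ⟨k + 1, Nat.lt_succ_of_le hk⟩) ≠
        gpt (q.toFun ⟨k, Nat.lt_succ_of_le hk'⟩) := fun e => hlt.ne (gpt_injective e).symm
    obtain ⟨pp, hpp, -, hpq⟩ := hX (gpt (q.toFun ⟨k + 1, Nat.lt_succ_of_le hk⟩))
    obtain ⟨u', hu's, hu'⟩ := Groth.Agent.H52.exists_generization_of_specializes
      (gpt (q.toFun ⟨k, Nat.lt_succ_of_le hk'⟩)) pp (by rw [hpp]; exact hsp) hpq a ha w.1 hw
    have hu'W : u' ∈ W := hu's.mem_open W.isOpen w.2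
    have hu'x : Points.ofPt a u' = gpt (q.toFun ⟨k + 1, Nat.lt_succ_of_le hk⟩) := hu'.trans hpp
    have hspW : (⟨u', hu'W⟩ : ↥W) ⤳ w := (Topology.IsInducing.subtypeVal.specializes_iff).1 hu's
    have hneW : (⟨u', hu'W⟩ : ↥W) ≠ w := by
      intro e
      apply hne
      rw [← hu'x, ← hw, ← e]
    obtain ⟨h1, h2⟩ := hdim (⟨u', hu'W⟩ : ↥W) w hspW hneW
    refine ⟨⟨u', hu'W⟩, hu'x, ?_, fun hs => ?_⟩
    · push_cast
      omega
    · have hcov : q.toFun ⟨k, Nat.lt_succ_of_le hk'⟩ ⋖ q.toFun ⟨k + 1, Nat.lt_succ_of_le hk⟩ :=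
        hs ⟨k, hklt⟩
      have himm : ∀ z : ↥W, (⟨u', hu'W⟩ : ↥W) ⤳ z → z ⤳ w → z = (⟨u', hu'W⟩ : ↥W) ∨ z = w := by
        intro z hz1 hz2
        have hz1' : gpt (q.toFun ⟨k + 1, Nat.lt_succ_of_le hk⟩) ⤳ Points.ofPt a z.1 := by
          rw [← hu'x]
          exact (hz1.map continuous_subtype_val).map (Points.continuous_ofPt a)
        have hz2' : Points.ofPt a z.1 ⤳ gpt (q.toFun ⟨k, Nat.lt_succ_of_le hk'⟩) := by
          rw [← hw]
          exact (hz2.map continuous_subtype_val).map (Points.continuous_ofPt a)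
        have hC1 : q.toFun ⟨k, Nat.lt_succ_of_le hk'⟩ ≤ clPt (Points.ofPt a z.1) := by
          rw [← clPt_gpt (q.toFun ⟨k, Nat.lt_succ_of_le hk'⟩)]
          exact clPt_le_iff.mpr hz2'
        have hC2 : clPt (Points.ofPt a z.1) ≤ q.toFun ⟨k + 1, Nat.lt_succ_of_le hk⟩ := by
          rw [← clPt_gpt (q.toFun ⟨k + 1, Nat.lt_succ_of_le hk⟩)]
          exact clPt_le_iff.mpr hz1'
        rcases hcov.eq_or_eq hC1 hC2 with hC | hC
        · right
          have hz : Points.ofPt a z.1 = gpt (q.toFun ⟨k, Nat.lt_succ_of_le hk'⟩) := by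
            rw [← hC, gpt_clPt]
          have := Groth.Agent.H52.eq_of_specializes_of_isDecent hX a ha w.1 z.1 (hw.trans hz.symm)
            (hz2.map continuous_subtype_val)
          exact (Subtype.ext this).symm
        · left
          have hz : Points.ofPt a z.1 = gpt (q.toFun ⟨k + 1, Nat.lt_succ_of_le hk⟩) := by
            rw [← hC, gpt_clPt]
          have := Groth.Agent.H52.eq_of_specializes_of_isDecent hX a ha z.1 u' (hz.trans hu'x.symm)
            (hz1.map continuous_subtype_val)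
          exact Subtype.ext this
      have h3 := h2 himm
      have h4 := hsat hs
      push_cast
      omega

/-- S10447. -/
theorem isCatenarySpace_points [IsLocallyNoetherian S]
    (hS : ∀ s : ↥S, CAlg.IsUniversallyCatenary ↥(S.presheaf.stalk s)) {X : Sp S}
    (hXa : IsAlgSpace X) (hX : IsDecent X) (p : X ⟶ (yon S).obj (Over.mk (𝟙 S)))
    (hp : LocP @LocallyOfFiniteType p) :
    W4stk3decentspacesp2.IsCatenarySpace (Points X) := by
  haveI : QuasiSober (Points X) := Groth.Agent.H69.DecentSober.quasiSober_of_isDecent hXa hX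
  haveI : T0Space (Points X) := Groth.Agent.H52.t0Space_of_isDecent hXa hX
  intro T T' hTT'
  obtain ⟨U, a, u, -, ha, hu⟩ := Groth.Agent.H52.exists_affine_chart_at hXa (gpt T)
  haveI : MorphismProperty.ContainsIdentities @Etale.{u} :=
    (inferInstance : MorphismProperty.IsMultiplicative @Etale.{u}).toContainsIdentities
  have hah := Groth.Agent.H25.DVRReduced.eq_yon_map_of_terminal (a ≫ p)
  haveI hlft : LocallyOfFiniteType U.hom :=
    hp a (𝟙 _) (Over.homMk U.hom (Category.comp_id _)) ha (repWith_id @Etale (Over.mk (𝟙 S)))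
      (by rw [hah, Category.comp_id])
  obtain ⟨W, δ₀, huW, hdim, hinv⟩ := exists_dimFun_chart hS p a ha u
  -- a reference lift of the generic point of `T'`
  obtain ⟨pp, hpp, -, hpq⟩ := hX (gpt T')
  obtain ⟨u', hu's, hu'⟩ := Groth.Agent.H52.exists_generization_of_specializes (gpt T) pp
    (by rw [hpp]; exact gpt_specializes hTT') hpq a ha u hu
  have hu'W : u' ∈ W := hu's.mem_open W.isOpen huW
  have hu'x : Points.ofPt a u' = gpt T' := hu'.trans hpp
  have key : ∀ q : LTSeries (IrreducibleCloseds (Points X)), q.head = T → q.last = T' →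
      δ₀ ⟨u, huW⟩ + q.length ≤ δ₀ ⟨u', hu'W⟩ ∧
        ((∀ i : Fin q.length, q.toFun i.castSucc ⋖ q.toFun i.succ) →
          δ₀ ⟨u', hu'W⟩ = δ₀ ⟨u, huW⟩ + q.length) := by
    intro q hqh hql
    obtain ⟨w, hw, hle, hsat⟩ := exists_lift_chain hXa hX a ha W δ₀ hdim ⟨u, huW⟩ q
      (by rw [hqh]; exact hu) q.length le_rfl
    have hlast : q.toFun ⟨q.length, Nat.lt_succ_of_le le_rfl⟩ = T' := hql
    rw [hlast] at hw
    have hww : δ₀ w = δ₀ ⟨u', hu'W⟩ := hinv w ⟨u', hu'W⟩ (hw.trans hu'x.symm)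
    rw [hww] at hle hsat
    exact ⟨hle, hsat⟩
  refine ⟨⟨(δ₀ ⟨u', hu'W⟩ - δ₀ ⟨u, huW⟩).toNat, fun q hqh hql => ?_⟩, ?_⟩
  · have h1 := (key q hqh hql).1
    have h2 : (q.length : ℤ) ≤ ((δ₀ ⟨u', hu'W⟩ - δ₀ ⟨u, huW⟩).toNat : ℤ) := by
      rw [Int.toNat_of_nonneg (by omega)]
      omega
    exact_mod_cast h2
  · intro q₁ q₂ h1h h1l h2h h2l hs1 hs2
    have e1 := (key q₁ h1h h1l).2 hs1
    have e2 := (key q₂ h2h h2l).2 hs2
    have : (q₁.length : ℤ) = q₂.length := by omega
    exact_mod_cast this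

end Groth.Agent.H25.CatenarySp
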