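import Mathlib
import Groth.Prelude
import Groth.Agent.H25.TrdegCharts
import Groth.Agent.H25.AlgSpDim2
import Groth.Agent.H25.EtaleDimStalk
import Groth.Agent.H9.DimFormulaGen
import Groth.Agent.H7.EquidimSection
import Groth.Agent.H52.ChartIndep2

/-!
# The dimension inequality for morphisms locally of finite type of algebraic spaces (helper25)

* `stalk_dim_add_trdeg_le`: scheme level, `dim O_{X,x} + trdeg κ(x)/κ(f x) ≤ dim O_{Y,f x} + E` where `E` bounds the
  transcendence degrees of the codimension-0 points specialising to `x`.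
* `hasAt_dim_add_trdeg_le` (S10323), `dim_le_dim_add` (S10324).
-/

set_option autoImplicit false
set_option maxHeartbeats 400000
set_option linter.style.haveILetI false
set_option linter.unusedVariables false
set_option linter.unusedSectionVars false

universe u

open CategoryTheory CategoryTheory.Limits AlgebraicGeometry TopologicalSpace AlgSp

namespace Groth.Agent.H25.TrdegDim

open Groth.Agent.H25.TrdegCharts

section Sch

theorem ringKrullDim_stalk_ne_bot (Y : Scheme.{u}) (y : Y) :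
    ∃ b : ℕ∞, ringKrullDim (Y.presheaf.stalk y) = (b : WithBot ℕ∞) := by
  have h0 : ringKrullDim (Y.presheaf.stalk y) ≠ ⊥ := by
    have h1 := ringKrullDim_nonneg_of_nontrivial (R := Y.presheaf.stalk y)
    intro h
    rw [h] at h1
    exact absurd h1 (by simp)
  exact ⟨_, (WithBot.coe_unbot _ h0).symm⟩

/-- The dimension inequality at a point, with `E` bounding the transcendence degrees at the codimension-0 points
specialising to the point. -/
theorem stalk_dim_add_trdeg_le {X Y : Scheme.{u}} [IsLocallyNoetherian Y] (f : X ⟶ Y)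
    [LocallyOfFiniteType f] (x : X) (E n : ℕ)
    (hE : ∀ ξ : X, ξ ⤳ x → ringKrullDim (X.presheaf.stalk ξ) = 0 →
      Dual3.resTrdeg f ξ ≤ (E : Cardinal.{u}))
    (hn : Dual3.resTrdeg f x = (n : Cardinal.{u})) :
    ringKrullDim (X.presheaf.stalk x) + (n : WithBot ℕ∞) ≤
      ringKrullDim (Y.presheaf.stalk (f x)) + (E : WithBot ℕ∞) := by
  obtain ⟨b, hb⟩ := ringKrullDim_stalk_ne_bot Y (f x)
  have hkey : ∀ v : PrimeSpectrum (X.presheaf.stalk x),
      (Order.coheight v : ℕ∞) + (n : ℕ∞) ≤ b + (E : ℕ∞) := by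
    intro v
    obtain ⟨p₀, hp₀min, hp₀le⟩ :=
      Ideal.exists_minimalPrimes_le (I := ⊥) (J := v.asIdeal) bot_le
    haveI : p₀.IsPrime := hp₀min.1.1
    let v₀ : PrimeSpectrum (X.presheaf.stalk x) := ⟨p₀, inferInstance⟩
    have hv₀v : v₀ ≤ v := hp₀le
    have hco : Order.coheight v ≤ Order.coheight v₀ := Order.coheight_anti hv₀v
    have hξx : X.fromSpecStalk x v₀ ⤳ x := by
      have h3 : X.fromSpecStalk x v₀ ∈ Set.range (X.fromSpecStalk x) := ⟨v₀, rfl⟩
      rwa [Scheme.range_fromSpecStalk] at h3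
    have hdim0 : ringKrullDim (X.presheaf.stalk (X.fromSpecStalk x v₀)) = 0 := by
      apply le_antisymm
      · refine (Groth.Agent.H7.ringKrullDim_stalk_fromSpecStalk_le x v₀).trans ?_
        have hh : p₀.height = 0 := Ideal.height_eq_zero_iff.mpr hp₀min
        change ((p₀.height : ℕ∞) : WithBot ℕ∞) ≤ 0
        rw [hh]
        rfl
      · exact ringKrullDim_nonneg_of_nontrivial
    have hEξ := hE _ hξx hdim0
    obtain ⟨Eξ, hEξ'⟩ :=
      Groth.Agent.H9.DimFormulaScheme.exists_trdeg_eq_nat f (X.fromSpecStalk x v₀)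
    have hle : Eξ ≤ E := by
      have h5 : (Eξ : Cardinal.{u}) ≤ (E : Cardinal.{u}) := by
        rw [← hEξ']
        exact hEξ
      exact_mod_cast h5
    have hfs : f (X.fromSpecStalk x v₀) ⤳ f x := hξx.map f.continuous
    obtain ⟨w, hw⟩ : ∃ w : PrimeSpectrum (Y.presheaf.stalk (f x)),
        Y.fromSpecStalk (f x) w = f (X.fromSpecStalk x v₀) := by
      have h6 : f (X.fromSpecStalk x v₀) ∈ Set.range (Y.fromSpecStalk (f x)) := by
        rw [Scheme.range_fromSpecStalk]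
        exact hfs
      exact h6
    have hmain := (Groth.Agent.H9.DimFormulaGen.coheight_add_trdeg_aux f x
      (X.fromSpecStalk x v₀) hξx n Eξ hn hEξ' v₀ rfl w hw).1
    have hwb : (Order.coheight w : ℕ∞) ≤ b := by
      have h7 := Order.coheight_le_krullDim w
      have h8 : ((Order.coheight w : ℕ∞) : WithBot ℕ∞) ≤ (b : WithBot ℕ∞) := by
        rw [← hb]
        exact h7
      exact_mod_cast h8
    have hmain' : (Order.coheight v₀ : ℕ∞) + (n : ℕ∞) ≤ (Order.coheight w : ℕ∞) + (Eξ : ℕ∞) := by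
      exact_mod_cast hmain
    calc (Order.coheight v : ℕ∞) + (n : ℕ∞) ≤ Order.coheight v₀ + (n : ℕ∞) :=
          add_le_add_left hco _
      _ ≤ Order.coheight w + (Eξ : ℕ∞) := hmain'
      _ ≤ b + (E : ℕ∞) := add_le_add hwb (by exact_mod_cast hle)
  rw [hb]
  have h9 : ringKrullDim (X.presheaf.stalk x) =
      ((⨆ v : PrimeSpectrum (X.presheaf.stalk x), Order.coheight v : ℕ∞) : WithBot ℕ∞) :=
    Order.krullDim_eq_iSup_coheight_of_nonempty
  rw [h9]
  have h10 : (⨆ v : PrimeSpectrum (X.presheaf.stalk x), Order.coheight v : ℕ∞) + (n : ℕ∞) ≤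
      b + (E : ℕ∞) := by
    rw [ENat.iSup_add]
    exact iSup_le hkey
  exact_mod_cast h10

end Sch

variable {S : Scheme.{u}}

open Groth.Agent.H52

/-- Common core of S10323 and S10324: a chart diagram with locally Noetherian target chart through a point of a
given chart, on which the scheme-level inequality can be applied. -/
theorem chart_dim_add_trdeg_le {X Y : Sp S} (f : X ⟶ Y) (hY : IsLocNoethSp Y)
    (hf : LocP @LocallyOfFiniteType f) {U₁ : Over S} (a₁ : (yon S).obj U₁ ⟶ X)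
    (ha₁ : RepWith @Etale a₁) (u₁ : ↥U₁.left) (E : ℕ)
    (hE : ∀ ξ : Points X, ξ ⤳ Points.ofPt a₁ u₁ →
      HasAt (fun U u => ringKrullDim ↥(U.presheaf.stalk u) = 0) X ξ →
      ∀ s : Cardinal.{u}, HasAtMor (fun _ _ h u => Dual3.resTrdeg h u = s) f ξ →
        s ≤ (E : Cardinal.{u})) :
    ∃ (U V : Over S) (a : (yon S).obj U ⟶ X) (b : (yon S).obj V ⟶ Y) (h : U ⟶ V) (u : ↥U.left)
      (n : ℕ), RepWith @Etale a ∧ RepWith @Etale b ∧ a ≫ f = (yon S).map h ≫ b ∧
      Points.ofPt a u = Points.ofPt a₁ u₁ ∧ Dual3.resTrdeg h.left u = (n : Cardinal.{u}) ∧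
      ringKrullDim ↥(U.left.presheaf.stalk u) + (n : WithBot ℕ∞) ≤
        ringKrullDim ↥(V.left.presheaf.stalk (h.left u)) + (E : WithBot ℕ∞) := by
  obtain ⟨V₀, a₀, ha₀, hs₀, hN⟩ := hY
  obtain ⟨v₀, hv₀⟩ := surjective_ofPt_of_surjective a₀ hs₀ (Points.map f (Points.ofPt a₁ u₁))
  obtain ⟨U, p, h, u, hp, comm, hpu, hhu⟩ := exists_chart_over' f a₁ a₀ ha₀ u₁ v₀ hv₀.symm
  have h4 := AlgSp.repWith_isMultiplicative (S := S) @Etale
  have ha : RepWith @Etale ((yon S).map p ≫ a₁) :=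
    (RepWith @Etale).comp_mem _ _ ((repWith_yon_map_iff @Etale _).2 hp) ha₁
  have hu : Points.ofPt ((yon S).map p ≫ a₁) u = Points.ofPt a₁ u₁ := by
    rw [ofPt_yon_map_comp, hpu]
  haveI : LocallyOfFiniteType h.left := hf _ a₀ h ha ha₀ comm
  haveI : IsLocallyNoetherian V₀.left := hN
  obtain ⟨n, hn⟩ := Groth.Agent.H9.DimFormulaScheme.exists_trdeg_eq_nat h.left u
  refine ⟨U, V₀, (yon S).map p ≫ a₁, a₀, h, u, n, ha, ha₀, comm, hu, hn, ?_⟩
  refine stalk_dim_add_trdeg_le h.left u E n (fun ξ' hξ' hdim0 => ?_) hn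
  refine hE (Points.ofPt ((yon S).map p ≫ a₁) ξ') ?_ ⟨U, _, ξ', ha, rfl, hdim0⟩ _
    ⟨U, V₀, _, a₀, h, ξ', ha, ha₀, comm, rfl, rfl⟩
  rw [← hu]
  exact hξ'.map (Points.continuous_ofPt _)

/-- S10323. -/
theorem hasAt_dim_add_trdeg_le {X Y : Sp S} (f : X ⟶ Y) (hY : IsLocNoethSp Y)
    (hf : LocP @LocallyOfFiniteType f) (x : Points X) (E : Cardinal.{u})
    (hE : ∀ ξ : Points X, ξ ⤳ x →
      HasAt (fun U u => ringKrullDim ↥(U.presheaf.stalk u) = 0) X ξ →
      ∀ s : Cardinal.{u}, HasAtMor (fun _ _ h u => Dual3.resTrdeg h u = s) f ξ → s ≤ E)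
    (a b : WithBot ℕ∞) (r : Cardinal.{u})
    (ha : HasAt (fun U u => ringKrullDim ↥(U.presheaf.stalk u) = a) X x)
    (hb : HasAt (fun U u => ringKrullDim ↥(U.presheaf.stalk u) = b) Y (Points.map f x))
    (hr : HasAtMor (fun _ _ h u => Dual3.resTrdeg h u = r) f x) :
    a + ((Cardinal.toENat r : ℕ∞) : WithBot ℕ∞) ≤ b + ((Cardinal.toENat E : ℕ∞) : WithBot ℕ∞) := by
  obtain ⟨U₁, a₁, u₁, ha₁, hu₁, hdim₁⟩ := ha
  obtain ⟨V₁, b₁, v₁, hb₁, hv₁, hdimv⟩ := hb
  obtain ⟨b', hb'⟩ := ringKrullDim_stalk_ne_bot V₁.left v₁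
  have hbb : b = (b' : WithBot ℕ∞) := hdimv.symm.trans hb'
  rcases lt_or_ge E Cardinal.aleph0 with hfin | hinf
  · obtain ⟨E₀, rfl⟩ := Cardinal.lt_aleph0.mp hfin
    subst hu₁
    obtain ⟨U, V, a', b'', h, u, n, ha', hb'', comm, hu, hn, hineq⟩ :=
      chart_dim_add_trdeg_le f hY hf a₁ ha₁ u₁ E₀ hE
    have e1 : ringKrullDim ↥(U.left.presheaf.stalk u) = a := by
      rw [← hdim₁]
      exact Groth.Agent.H25.AlgSpDim2.stalk_dim_eq_of_charts a' ha' a₁ ha₁ u u₁ hu
    have e2 : ringKrullDim ↥(V.left.presheaf.stalk (h.left u)) = b := by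
      rw [← hdimv]
      refine Groth.Agent.H25.AlgSpDim2.stalk_dim_eq_of_charts b'' hb'' b₁ hb₁ (h.left u) v₁ ?_
      rw [hv₁, ← hu, Points.map_ofPt, comm, ofPt_yon_map_comp]
    have e3 : r = (n : Cardinal.{u}) := by
      rw [← hn]
      exact (resTrdeg_eq_of_hasAtMor f _ r hr a' b'' h ha' hb'' comm u hu).symm
    rw [e1, e2] at hineq
    rw [e3, Cardinal.toENat_nat, Cardinal.toENat_nat]
    exact hineq
  · have htop : Cardinal.toENat E = ⊤ := Cardinal.toENat_eq_top.mpr hinf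
    rw [htop, hbb]
    have h11 : ((b' : ℕ∞) : WithBot ℕ∞) + ((⊤ : ℕ∞) : WithBot ℕ∞) = ⊤ := by
      rw [← WithBot.coe_add, add_top]
      rfl
    rw [h11]
    exact le_top

/-- S10324. -/
theorem dim_le_dim_add {X Y : Sp S} (f : X ⟶ Y) (hY : IsLocNoethSp Y)
    (hf : LocP @LocallyOfFiniteType f) (E : Cardinal.{u})
    (hE : ∀ ξ : Points X, HasAt (fun U u => ringKrullDim ↥(U.presheaf.stalk u) = 0) X ξ →
      ∀ s : Cardinal.{u}, HasAtMor (fun _ _ h u => Dual3.resTrdeg h u = s) f ξ → s ≤ E) :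
    AlgSp.dim X ≤ AlgSp.dim Y + ((Cardinal.toENat E : ℕ∞) : WithBot ℕ∞) := by
  refine Groth.Agent.H25.AlgSpDim2.dim_le_of_forall_stalk _ fun U₁ a₁ ha₁ u₁ => ?_
  -- a chart of `Y` through the image point, to see that `dim Y ≠ ⊥`
  have hYne : ∃ d : ℕ∞, AlgSp.dim Y = (d : WithBot ℕ∞) := by
    obtain ⟨V₀, a₀, ha₀, hs₀, hN⟩ := hY
    obtain ⟨v₀, hv₀⟩ := surjective_ofPt_of_surjective a₀ hs₀ (Points.map f (Points.ofPt a₁ u₁))
    have h1 := Groth.Agent.H25.AlgSpDim2.topologicalKrullDim_le_dim a₀ ha₀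
    have h2 := Groth.Agent.H25.AlgSpDim2.ringKrullDim_stalk_le_topologicalKrullDim V₀.left v₀
    obtain ⟨b, hb⟩ := ringKrullDim_stalk_ne_bot V₀.left v₀
    have h0 : AlgSp.dim Y ≠ ⊥ := by
      intro h
      have h3 : ((b : ℕ∞) : WithBot ℕ∞) ≤ ⊥ := by
        rw [← hb, ← h]
        exact h2.trans h1
      exact (WithBot.bot_lt_coe b).not_ge h3
    exact ⟨_, (WithBot.coe_unbot _ h0).symm⟩
  obtain ⟨d, hd⟩ := hYne
  rcases lt_or_ge E Cardinal.aleph0 with hfin | hinf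
  · obtain ⟨E₀, rfl⟩ := Cardinal.lt_aleph0.mp hfin
    obtain ⟨U, V, a', b'', h, u, n, ha', hb'', comm, hu, hn, hineq⟩ :=
      chart_dim_add_trdeg_le f hY hf a₁ ha₁ u₁ E₀ (fun ξ _ => hE ξ)
    have e1 : ringKrullDim ↥(U.left.presheaf.stalk u) = ringKrullDim ↥(U₁.left.presheaf.stalk u₁) :=
      Groth.Agent.H25.AlgSpDim2.stalk_dim_eq_of_charts a' ha' a₁ ha₁ u u₁ hu
    have h1 := Groth.Agent.H25.AlgSpDim2.topologicalKrullDim_le_dim b'' hb''
    have h2 := Groth.Agent.H25.AlgSpDim2.ringKrullDim_stalk_le_topologicalKrullDim V.left (h.left u)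
    rw [Cardinal.toENat_nat]
    calc ringKrullDim ↥(U₁.left.presheaf.stalk u₁)
        = ringKrullDim ↥(U.left.presheaf.stalk u) := e1.symm
      _ ≤ ringKrullDim ↥(U.left.presheaf.stalk u) + (n : WithBot ℕ∞) := by
          obtain ⟨c, hc⟩ := ringKrullDim_stalk_ne_bot U.left u
          rw [hc]
          exact_mod_cast le_self_add
      _ ≤ ringKrullDim ↥(V.left.presheaf.stalk (h.left u)) + (E₀ : WithBot ℕ∞) := hineq
      _ ≤ AlgSp.dim Y + (E₀ : WithBot ℕ∞) := add_le_add (h2.trans h1) le_rfl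
  · have htop : Cardinal.toENat E = ⊤ := Cardinal.toENat_eq_top.mpr hinf
    rw [htop, hd]
    have h11 : ((d : ℕ∞) : WithBot ℕ∞) + ((⊤ : ℕ∞) : WithBot ℕ∞) = ⊤ := by
      rw [← WithBot.coe_add, add_top]
      rfl
    rw [h11]
    exact le_top

end Groth.Agent.H25.TrdegDim
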