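import Mathlib
import Groth.Prelude
import Groth.Agent.H25.TrdegDim
import Groth.Agent.H52.DecentTop

/-!
# Dimension inequality for integral algebraic spaces (helper25)

* `eq_of_specializes_of_stalk_dim_zero`: a point of a scheme whose local ring has dimension 0 has no proper generization.
* `eq_of_hasAt_dim_zero_of_isGenericPoint`: on a decent algebraic space with a generic point, the generic point is the only
  codimension-0 point.
* `dim_le_dim_add_of_integral` (S10459).
-/

set_option autoImplicit false
set_option maxHeartbeats 400000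
set_option linter.style.haveILetI false
set_option linter.unusedVariables false
set_option linter.unusedSectionVars false

universe u

open CategoryTheory CategoryTheory.Limits AlgebraicGeometry TopologicalSpace AlgSp

namespace Groth.Agent.H25.TrdegDim2

open Groth.Agent.H25.TrdegCharts Groth.Agent.H25.TrdegDim Groth.Agent.H52

theorem eq_of_specializes_of_stalk_dim_zero {U : Scheme.{u}} {u u' : U} (h : u' ⤳ u)
    (hdim : ringKrullDim (U.presheaf.stalk u) = 0) : u' = u := by
  have h1 : u' ∈ Set.range (U.fromSpecStalk u) := by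
    rw [Scheme.range_fromSpecStalk]
    exact h
  obtain ⟨v, rfl⟩ := h1
  haveI : Ring.KrullDimLE 0 (U.presheaf.stalk u) := Ring.krullDimLE_iff.mpr hdim.le
  have hv : v = IsLocalRing.closedPoint (U.presheaf.stalk u) := by
    apply PrimeSpectrum.ext
    haveI := v.isPrime
    have hmax : v.asIdeal.IsMaximal := Ideal.isMaximal_of_isPrime v.asIdeal
    exact IsLocalRing.eq_maximalIdeal hmax
  rw [hv]
  exact Scheme.fromSpecStalk_closedPoint

variable {S : Scheme.{u}}

/-- On a decent space with a generic point, the generic point is the only point of codimension 0. -/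
theorem eq_of_hasAt_dim_zero_of_isGenericPoint {X : Sp S} (hX : IsDecent X) (x : Points X)
    (hx : IsGenericPoint x (Set.univ : Set (Points X))) (ξ : Points X)
    (hξ : HasAt (fun U u => ringKrullDim ↥(U.presheaf.stalk u) = 0) X ξ) : ξ = x := by
  obtain ⟨U, a, u, ha, hu, hdim⟩ := hξ
  obtain ⟨p, hp, -, hq⟩ := hX x
  have hsp : Points.mk p ⤳ ξ := by
    rw [hp]
    apply specializes_iff_mem_closure.mpr
    rw [hx.def]
    trivial
  obtain ⟨u', hu's, hu'p⟩ := exists_generization_of_specializes ξ p hsp hq a ha u hu
  have hu'u : u' = u := eq_of_specializes_of_stalk_dim_zero hu's hdim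
  rw [← hu, ← hu'u, hu'p, hp]

/-- S10459. -/
theorem dim_le_dim_add_of_integral {X Y : Sp S} (f : X ⟶ Y) (hY : IsLocNoethSp Y)
    (hXd : IsDecent X) (hft : LocP @LocallyOfFiniteType f) (x : Points X)
    (hx : IsGenericPoint x (Set.univ : Set (Points X))) (r : ℕ)
    (hr : HasAtMor (fun _ _ h u => Dual3.resTrdeg h u = (r : Cardinal.{u})) f x) :
    AlgSp.dim X ≤ AlgSp.dim Y + ((r : ℕ∞) : WithBot ℕ∞) := by
  have h := dim_le_dim_add f hY hft (r : Cardinal.{u}) (fun ξ hξ s hs => by
    have hξx : ξ = x := eq_of_hasAt_dim_zero_of_isGenericPoint hXd x hx ξ hξ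
    subst hξx
    obtain ⟨U, V, a, b, h, u, ha, hb, comm, hu, hs'⟩ := hs
    have := resTrdeg_eq_of_hasAtMor f _ (r : Cardinal.{u}) hr a b h ha hb comm u hu
    rw [← hs', this])
  rwa [Cardinal.toENat_nat] at h

end Groth.Agent.H25.TrdegDim2
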