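import Mathlib
import Groth.Prelude
import Groth.Agent.H25.TrdegDim2
import Groth.Agent.H52.Codim0QfSp
import Groth.Agent.H52.FQDecent
import Groth.Agent.H52.Sober
import Groth.Agent.H52.DecentTop
import Groth.Agent.H9.FibreGeneric
import Groth.Agent.S1554
import Groth.Agent.S1608

/-!
# Codimension-0 points of quasi-separated algebraic spaces; quasi-finiteness over codimension ≤ 1 points (helper25)

* `hasAt_dim_zero_iff_isGenericPoint` (S10452).
* `hasAtMor_lqf_of_codim_le_one` (S10455).
-/

set_option autoImplicit false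
set_option maxHeartbeats 400000
set_option linter.style.haveILetI false
set_option linter.unusedVariables false
set_option linter.unusedSectionVars false

universe u

open CategoryTheory CategoryTheory.Limits AlgebraicGeometry TopologicalSpace AlgSp

namespace Groth.Agent.H25.Codim0Pts

open Groth.Agent.H25.TrdegCharts Groth.Agent.H25.TrdegDim Groth.Agent.H25.TrdegDim2 Groth.Agent.H52

variable {S : Scheme.{u}}

/-- S10452. -/
theorem hasAt_dim_zero_iff_isGenericPoint {X : Sp S} (hX : IsAlgSpace X)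
    (hqs : IsQuasiSeparatedSp X) (x : Points X) :
    HasAt (fun U u => ringKrullDim ↥(U.presheaf.stalk u) = 0) X x ↔
      ∃ Z ∈ irreducibleComponents (Points X), IsGenericPoint x Z := by
  have hdec : IsDecent X := isDecent_of_isQuasiSeparatedSp hX hqs
  haveI hT0 : T0Space (Points X) := t0Space_of_isDecent hX hdec
  haveI hsob : QuasiSober (Points X) :=
    quasiSober_of_zarCover_qs (fun _ : PUnit.{u + 1} => X) (fun _ => hX) (fun _ => 𝟙 X)
      (isZarCover_id X) (fun _ => hqs)
  constructor
  · rintro ⟨U, a, u, ha, hu, hdim⟩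
    refine ⟨irreducibleComponent x, irreducibleComponent_mem_irreducibleComponents x, ?_⟩
    have hirr : IsIrreducible (irreducibleComponent x) := isIrreducible_irreducibleComponent
    have hcl : IsClosed (irreducibleComponent x) := isClosed_irreducibleComponent
    obtain ⟨z, hz⟩ := QuasiSober.sober hirr hcl
    have hzx : z ⤳ x := by
      apply specializes_iff_mem_closure.mpr
      rw [hz.def]
      exact mem_irreducibleComponent
    obtain ⟨p, hp, -, hq⟩ := hdec z
    have hzx' : Points.mk p ⤳ x := by rw [hp]; exact hzx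
    obtain ⟨u', hu's, hu'p⟩ := exists_generization_of_specializes x p hzx' hq a ha u hu
    have hu'u : u' = u := eq_of_specializes_of_stalk_dim_zero hu's hdim
    have hzeq : z = x := by rw [← hp, ← hu'p, hu'u, hu]
    subst hzeq
    exact hz
  · rintro ⟨Z, hZ, hx⟩
    obtain ⟨U, a, hae, has⟩ := hX.atlas
    obtain ⟨u, hu⟩ := surjective_ofPt_of_surjective a has x
    refine ⟨U, a, u, hae, hu, ?_⟩
    change ringKrullDim ↥(U.left.presheaf.stalk u) = 0
    rw [ringKrullDim_stalk_eq_zero_iff]
    intro u' hu'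
    have hsp : Points.ofPt a u' ⤳ x := by
      rw [← hu]
      exact hu'.map (Points.continuous_ofPt a)
    have hcl1 : closure {x} ⊆ closure {Points.ofPt a u'} := specializes_iff_closure_subset.mp hsp
    have hmax : closure {Points.ofPt a u'} ⊆ Z := by
      apply hZ.2 isIrreducible_singleton.closure
      rw [← hx.def]
      exact hcl1
    have hxx' : x ⤳ Points.ofPt a u' := by
      apply specializes_iff_mem_closure.mpr
      rw [hx.def]
      exact hmax (subset_closure rfl)
    have heq : Points.ofPt a u' = x := (hsp.antisymm hxx').eq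
    exact (eq_of_specializes_of_isDecent hdec a hae u u' (hu.trans heq.symm) hu').symm

/-- S10455. -/
theorem hasAtMor_lqf_of_codim_le_one {X Y : Sp S} (hXa : IsAlgSpace X) (f : X ⟶ Y)
    (hf : LocP @LocallyOfFiniteType f) (hY : IsLocNoethSp Y) (y : Points Y)
    (hy : HasAt (fun U u => ringKrullDim ↥(U.presheaf.stalk u) ≤ 1) Y y)
    (h : ∀ x : Points X, HasAt (fun U u => ringKrullDim ↥(U.presheaf.stalk u) = 0) X x →
      Points.map f x ⤳ y → HasAtMor (fun _ _ h u => Dual3.resTrdeg h u = 0) f x)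
    (x : Points X) (hx : Points.map f x = y) :
    HasAtMor (fun U _ h u => ∃ W : U.Opens, u ∈ W ∧ LocallyQuasiFinite (W.ι ≫ h) ∧
      LocallyOfFiniteType (W.ι ≫ h)) f x := by
  obtain ⟨U₁, a₁, ha₁, has₁⟩ := hXa.atlas
  obtain ⟨u₁, hu₁⟩ := surjective_ofPt_of_surjective a₁ has₁ x
  obtain ⟨V₀, a₀, ha₀, hs₀, hN⟩ := hY
  obtain ⟨v₀, hv₀⟩ := surjective_ofPt_of_surjective a₀ hs₀ y
  obtain ⟨U, p, h', u, hp, comm, hpu, hhu⟩ :=
    exists_chart_over' f a₁ a₀ ha₀ u₁ v₀ (by rw [hu₁, hx, hv₀])
  have h4 := AlgSp.repWith_isMultiplicative (S := S) @Etale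
  have ha : RepWith @Etale ((yon S).map p ≫ a₁) :=
    (RepWith @Etale).comp_mem _ _ ((repWith_yon_map_iff @Etale _).2 hp) ha₁
  have hu : Points.ofPt ((yon S).map p ≫ a₁) u = x := by
    rw [ofPt_yon_map_comp, hpu, hu₁]
  haveI : LocallyOfFiniteType h'.left := hf _ a₀ h' ha ha₀ comm
  haveI : IsLocallyNoetherian V₀.left := hN
  have hmap : ∀ u' : ↥U.left, Points.map f (Points.ofPt ((yon S).map p ≫ a₁) u') =
      Points.ofPt a₀ (h'.left u') := by
    intro u'
    rw [Points.map_ofPt, comm, ofPt_yon_map_comp]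
  have hdimY : ringKrullDim (V₀.left.presheaf.stalk (h'.left.base u)) ≤ 1 := by
    obtain ⟨V₁, b₁, v₁, hb₁, hv₁, hle⟩ := hy
    have e := Groth.Agent.H25.AlgSpDim2.stalk_dim_eq_of_charts a₀ ha₀ b₁ hb₁ (h'.left u) v₁
      (by rw [hhu, hv₀, hv₁])
    rw [← e] at hle
    exact hle
  have hfd : FlatMor.fibreDimAt h'.left u = ((0 : ℕ) : WithBot ℕ∞) := by
    refine Groth.Agent.S1554.result h'.left u hdimY 0 fun Z hZ huZ η hη => ?_
    have hηu : η ⤳ u := by
      apply specializes_iff_mem_closure.mpr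
      rw [hη.def]
      exact huZ
    have hmax : ∀ ξ' : ↥U.left, ξ' ⤳ η → ξ' = η := by
      intro ξ' hξ'
      have h2 : closure ({ξ'} : Set ↥U.left) ⊆ Z := by
        apply hZ.2 isIrreducible_singleton.closure
        rw [← hη.def]
        exact specializes_iff_closure_subset.mp hξ'
      have h3 : η ⤳ ξ' := by
        apply specializes_iff_mem_closure.mpr
        rw [hη.def]
        exact h2 (subset_closure rfl)
      exact (hξ'.antisymm h3).eq
    have hdim0 : ringKrullDim ↥(U.left.presheaf.stalk η) = 0 :=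
      (ringKrullDim_stalk_eq_zero_iff η).2 hmax
    have hspy : Points.map f (Points.ofPt ((yon S).map p ≫ a₁) η) ⤳ y := by
      rw [hmap, ← hv₀, ← hhu]
      exact (hηu.map h'.left.continuous).map (Points.continuous_ofPt a₀)
    have htr := h (Points.ofPt ((yon S).map p ≫ a₁) η) ⟨U, _, η, ha, rfl, hdim0⟩ hspy
    have htr' : Dual3.resTrdeg h'.left η = 0 :=
      resTrdeg_eq_of_hasAtMor f _ 0 htr _ a₀ h' ha ha₀ comm η rfl
    exact Groth.Agent.H9.FibreGeneric.fibreDimAt_eq_trdeg_of_forall h'.left η hmax 0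
      (by rw [Nat.cast_zero]; exact htr')
  have hq : h'.left.QuasiFiniteAt u :=
    Groth.Agent.S1608.quasiFiniteAt_of_fibreDimAt_eq_zero h'.left u hfd
  have := hasAtMor_lqf_of_quasiFiniteAt f _ a₀ h' ha ha₀ comm u hq
  rwa [hu] at this

end Groth.Agent.H25.Codim0Pts
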