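import Mathlib

/-!
# Coefficient ideals in `A ⊗[k] B` over a field (helper25)

For an ideal `J` of `A ⊗[k] B` (`k` a field) the *coefficient ideal* `coeffIdeal J ⊆ A` is the
ideal generated by all `(id ⊗ ℓ)(x)`, `x ∈ J`, `ℓ : B → k` linear.  It vanishes iff `J` does,
and it is compatible with base change `A → A'`.
-/

set_option autoImplicit false
set_option maxHeartbeats 400000
set_option linter.unusedVariables false
set_option linter.unusedSectionVars false
set_option linter.style.longLine false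
set_option linter.unusedSimpArgs false

universe u

open TensorProduct

namespace Groth.Agent.H25.CoeffIdeal

variable {k : Type u} [Field k] {A A' B : Type u} [CommRing A] [Algebra k A]
  [CommRing A'] [Algebra k A'] [CommRing B] [Algebra k B]

/-- `id ⊗ ℓ : A ⊗[k] B → A`, an `A`-linear map. -/
noncomputable def slice (ℓ : Module.Dual k B) : A ⊗[k] B →ₗ[A] A :=
  (TensorProduct.AlgebraTensorModule.rid k A A).toLinearMap ∘ₗ
    (TensorProduct.AlgebraTensorModule.lTensor A A ℓ)

lemma slice_tmul (ℓ : Module.Dual k B) (a : A) (b : B) :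
    slice ℓ (a ⊗ₜ[k] b) = ℓ b • a := rfl

lemma slice_map (ρ : A →ₐ[k] A') (ℓ : Module.Dual k B) (x : A ⊗[k] B) :
    ρ (slice ℓ x) = slice ℓ (Algebra.TensorProduct.map ρ (AlgHom.id k B) x) := by
  induction x using TensorProduct.induction_on with
  | zero => simp
  | tmul a b =>
    rw [Algebra.TensorProduct.map_tmul, slice_tmul, slice_tmul, map_smul]
    rfl
  | add y z hy hz => rw [map_add, map_add, hy, hz, map_add, map_add]

lemma slice_tmul_mul (ℓ : Module.Dual k B) (a : A) (b : B) (w : A ⊗[k] B) :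
    slice ℓ ((a ⊗ₜ[k] b) * w) = a * slice (ℓ ∘ₗ LinearMap.mulLeft k b) w := by
  induction w using TensorProduct.induction_on with
  | zero => simp
  | tmul a' b' =>
    rw [Algebra.TensorProduct.tmul_mul_tmul, slice_tmul, slice_tmul, LinearMap.comp_apply,
      LinearMap.mulLeft_apply, mul_smul_comm]
  | add y z hy hz => rw [mul_add, map_add, hy, hz, map_add, mul_add]

theorem eq_zero_of_slice_eq_zero (x : A ⊗[k] B)
    (h : ∀ ℓ : Module.Dual k B, slice ℓ x = 0) : x = 0 := by
  classical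
  let b := Module.Free.chooseBasis k B
  have key : ∀ (y : A ⊗[k] B) i,
      (Algebra.TensorProduct.basis A b).repr y i = slice (b.coord i) y := by
    intro y i
    induction y using TensorProduct.induction_on with
    | zero => simp
    | tmul a m =>
      rw [Algebra.TensorProduct.basis_repr_tmul, slice_tmul]
      simp only [Finsupp.smul_apply, Finsupp.mapRange_apply, Module.Basis.coord_apply,
        smul_eq_mul, Algebra.smul_def]
      exact mul_comm _ _
    | add y z hy hz => rw [map_add, Finsupp.add_apply, hy, hz, map_add]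
  have h0 : (Algebra.TensorProduct.basis A b).repr x = 0 := by
    ext i
    rw [key, h]
    rfl
  exact (LinearEquiv.map_eq_zero_iff _).mp h0

/-- The coefficient ideal. -/
def coeffIdeal (J : Ideal (A ⊗[k] B)) : Ideal A :=
  Ideal.span {a | ∃ x ∈ J, ∃ ℓ : Module.Dual k B, slice ℓ x = a}

lemma slice_mem_coeffIdeal {J : Ideal (A ⊗[k] B)} {x : A ⊗[k] B} (hx : x ∈ J)
    (ℓ : Module.Dual k B) : slice ℓ x ∈ coeffIdeal J :=
  Ideal.subset_span ⟨x, hx, ℓ, rfl⟩

theorem eq_bot_of_coeffIdeal_eq_bot (J : Ideal (A ⊗[k] B)) (h : coeffIdeal J = ⊥) : J = ⊥ := by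
  rw [eq_bot_iff]
  intro x hx
  refine (Ideal.mem_bot).mpr (eq_zero_of_slice_eq_zero x fun ℓ => ?_)
  have h1 := slice_mem_coeffIdeal hx ℓ
  rwa [h, Ideal.mem_bot] at h1

theorem coeffIdeal_span (S : Set (A ⊗[k] B)) :
    coeffIdeal (Ideal.span S) =
      Ideal.span {a | ∃ x ∈ S, ∃ ℓ : Module.Dual k B, slice ℓ x = a} := by
  apply le_antisymm
  · have Q : ∀ y ∈ Ideal.span S, ∀ (z : A ⊗[k] B) (ℓ : Module.Dual k B),
        slice ℓ (z * y) ∈ Ideal.span {a | ∃ x ∈ S, ∃ ℓ : Module.Dual k B, slice ℓ x = a} := by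
      intro y hy
      induction hy using Submodule.span_induction with
      | mem y hyS =>
        intro z ℓ
        induction z using TensorProduct.induction_on with
        | zero => simp
        | tmul a b =>
          rw [slice_tmul_mul]
          exact Ideal.mul_mem_left _ _ (Ideal.subset_span ⟨y, hyS, _, rfl⟩)
        | add z₁ z₂ h₁ h₂ =>
          rw [add_mul, map_add]
          exact Ideal.add_mem _ h₁ h₂
      | zero =>
        intro z ℓ
        simp
      | add y₁ y₂ _ _ h₁ h₂ =>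
        intro z ℓ
        rw [mul_add, map_add]
        exact Ideal.add_mem _ (h₁ z ℓ) (h₂ z ℓ)
      | smul w y _ h =>
        intro z ℓ
        rw [smul_eq_mul, ← mul_assoc]
        exact h (z * w) ℓ
    rw [coeffIdeal, Ideal.span_le]
    rintro _ ⟨x, hx, ℓ, rfl⟩
    have := Q x hx 1 ℓ
    rwa [one_mul] at this
  · apply Ideal.span_mono
    rintro _ ⟨x, hx, ℓ, rfl⟩
    exact ⟨x, Ideal.subset_span hx, ℓ, rfl⟩

theorem coeffIdeal_map (ρ : A →ₐ[k] A') (J : Ideal (A ⊗[k] B)) :
    coeffIdeal (J.map (Algebra.TensorProduct.map ρ (AlgHom.id k B))) = (coeffIdeal J).map ρ := by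
  have h1 : J.map (Algebra.TensorProduct.map ρ (AlgHom.id k B)) =
      Ideal.span ((Algebra.TensorProduct.map ρ (AlgHom.id k B)) '' (J : Set (A ⊗[k] B))) := rfl
  have h2 : (coeffIdeal J).map ρ =
      Ideal.span (ρ '' {a | ∃ x ∈ J, ∃ ℓ : Module.Dual k B, slice ℓ x = a}) := by
    rw [coeffIdeal, Ideal.map_span]
  rw [h1, coeffIdeal_span, h2]
  congr 1
  ext a
  constructor
  · rintro ⟨_, ⟨x, hx, rfl⟩, ℓ, rfl⟩
    exact ⟨slice ℓ x, ⟨x, hx, ℓ, rfl⟩, slice_map ρ ℓ x⟩
  · rintro ⟨_, ⟨x, hx, ℓ, rfl⟩, rfl⟩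
    exact ⟨_, ⟨x, hx, rfl⟩, ℓ, (slice_map ρ ℓ x).symm⟩

/-- generators of the coefficient ideal of a mapped ideal. -/
theorem coeffIdeal_map_ringHom {C : Type u} [CommRing C] (φ : C →+* A ⊗[k] B) (I : Ideal C) :
    coeffIdeal (I.map φ) =
      Ideal.span {a | ∃ y ∈ I, ∃ ℓ : Module.Dual k B, slice ℓ (φ y) = a} := by
  have h1 : I.map φ = Ideal.span (φ '' (I : Set C)) := rfl
  rw [h1, coeffIdeal_span]
  congr 1
  ext a
  constructor
  · rintro ⟨_, ⟨y, hy, rfl⟩, ℓ, rfl⟩
    exact ⟨y, hy, ℓ, rfl⟩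
  · rintro ⟨y, hy, ℓ, rfl⟩
    exact ⟨_, ⟨y, hy, rfl⟩, ℓ, rfl⟩

end Groth.Agent.H25.CoeffIdeal
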