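import Mathlib

/-!
# Global sections of products of `k`-schemes (definitions for S18955, helper25)

For `Y : Over (Spec k)` the ring `Γ(Y.left, ⊤)` is a `k`-algebra (`algTop`), a morphism
`u : Y ⟶ Y'` induces a `k`-algebra map `star u`, and `Psi Y T` is the canonical map
`Γ(Y) ⊗[k] Γ(T) → Γ(Y ⊗ T)`.
-/

open CategoryTheory AlgebraicGeometry TensorProduct MonoidalCategory CartesianMonoidalCategory

universe u

namespace Groth.Agent.H25.DXDefs

variable {k : Type u} [Field k]

/-- the `k`-algebra structure on global sections of a `k`-scheme. -/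
@[instance_reducible]
noncomputable def algTop (Y : Over (Spec (CommRingCat.of k))) : Algebra k Γ(Y.left, ⊤) :=
  ((Scheme.ΓSpecIso (CommRingCat.of k)).inv ≫ Y.hom.appTop).hom.toAlgebra

attribute [local instance] algTop

lemma algebraMap_def (Y : Over (Spec (CommRingCat.of k))) (c : k) :
    algebraMap k Γ(Y.left, ⊤) c =
      ((Scheme.ΓSpecIso (CommRingCat.of k)).inv ≫ Y.hom.appTop).hom c := rfl

/-- pullback of global sections along a morphism of `k`-schemes, as a `k`-algebra map. -/
noncomputable def star {Y Y' : Over (Spec (CommRingCat.of k))} (u : Y ⟶ Y') :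
    Γ(Y'.left, ⊤) →ₐ[k] Γ(Y.left, ⊤) :=
  { u.left.appTop.hom with
    commutes' := fun c => by
      change u.left.appTop.hom (((Scheme.ΓSpecIso (CommRingCat.of k)).inv ≫ Y'.hom.appTop).hom c) =
        ((Scheme.ΓSpecIso (CommRingCat.of k)).inv ≫ Y.hom.appTop).hom c
      have h : Y'.hom.appTop ≫ u.left.appTop = Y.hom.appTop := by
        rw [← Scheme.Hom.comp_appTop, Over.w u]
      rw [← h]
      rfl }

@[simp] lemma star_apply {Y Y' : Over (Spec (CommRingCat.of k))} (u : Y ⟶ Y') (b : Γ(Y'.left, ⊤)) :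
    star u b = u.left.appTop.hom b := rfl

lemma star_comp {Y Y' Y'' : Over (Spec (CommRingCat.of k))} (u : Y ⟶ Y') (v : Y' ⟶ Y'') :
    star (u ≫ v) = (star u).comp (star v) := by
  ext b
  rfl

lemma star_id (Y : Over (Spec (CommRingCat.of k))) : star (𝟙 Y) = AlgHom.id k Γ(Y.left, ⊤) := by
  ext b
  simp only [star_apply, Over.id_left, AlgHom.coe_id, id_eq]
  rfl

/-- the canonical map `Γ(Y) ⊗[k] Γ(T) → Γ(Y ⊗ T)`. -/
noncomputable def Psi (Y T : Over (Spec (CommRingCat.of k))) :
    Γ(Y.left, ⊤) ⊗[k] Γ(T.left, ⊤) →ₐ[k] Γ((Y ⊗ T).left, ⊤) :=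
  Algebra.TensorProduct.productMap (star (fst Y T)) (star (snd Y T))

lemma Psi_tmul (Y T : Over (Spec (CommRingCat.of k))) (a : Γ(Y.left, ⊤)) (r : Γ(T.left, ⊤)) :
    Psi Y T (a ⊗ₜ r) = star (fst Y T) a * star (snd Y T) r := by
  unfold Psi
  rw [Algebra.TensorProduct.productMap_apply_tmul]

/-- naturality of `Psi` in both variables. -/
lemma Psi_natural {Y Y' T T' : Over (Spec (CommRingCat.of k))} (u : Y ⟶ Y') (v : T ⟶ T') :
    (star (u ⊗ₘ v)).comp (Psi Y' T') =
      (Psi Y T).comp (Algebra.TensorProduct.map (star u) (star v)) := by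
  apply Algebra.TensorProduct.ext'
  intro a r
  simp only [AlgHom.comp_apply, Algebra.TensorProduct.map_tmul, Psi_tmul, map_mul]
  have h1 : (star (u ⊗ₘ v)).comp (star (fst Y' T')) = (star (fst Y T)).comp (star u) := by
    rw [← star_comp, ← star_comp, tensorHom_fst]
  have h2 : (star (u ⊗ₘ v)).comp (star (snd Y' T')) = (star (snd Y T)).comp (star v) := by
    rw [← star_comp, ← star_comp, tensorHom_snd]
  have h1' := congrArg (fun φ => φ a) h1
  have h2' := congrArg (fun φ => φ r) h2
  simp only [AlgHom.comp_apply] at h1' h2'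
  rw [h1', h2']

end Groth.Agent.H25.DXDefs
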