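import Mathlib
import Groth.Agent.H25.DXDefs
import Groth.Agent.H21.SchDomField

/-!
# `Γ(Y) ⊗[k] Γ(T) ≅ Γ(Y ⊗ T)` for affine `k`-schemes (helper25, for S18955)
-/

open CategoryTheory AlgebraicGeometry TensorProduct MonoidalCategory CartesianMonoidalCategory Limits
open Groth.Agent.H25.DXDefs Groth.Agent.H21.SchDom

universe u

namespace Groth.Agent.H25.DX2

attribute [local instance] Groth.Agent.H25.DXDefs.algTop

variable {k : Type u} [Field k]

lemma isoSpec_inv_appTop_apply (Y : Scheme.{u}) [IsAffine Y] (a : Γ(Y, ⊤)) :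
    (Scheme.ΓSpecIso Γ(Y, ⊤)).hom (Y.isoSpec.inv.appTop a) = a := by
  have h1 : Y.isoSpec.hom.appTop = (Scheme.ΓSpecIso Γ(Y, ⊤)).hom := Scheme.toSpecΓ_appTop Y
  have h3 : Y.isoSpec.inv.appTop ≫ Y.isoSpec.hom.appTop = 𝟙 _ := by
    rw [← Scheme.Hom.comp_appTop, Iso.hom_inv_id]
    rfl
  rw [h1] at h3
  exact congrArg (fun φ => φ.hom a) h3

lemma isoSpec_inv_hom (Y : Over (Spec (CommRingCat.of k))) [IsAffine Y.left] :
    Y.left.isoSpec.inv ≫ Y.hom =
      Spec.map (CommRingCat.ofHom (algebraMap k Γ(Y.left, ⊤))) := by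
  have h := Scheme.isoSpec_inv_naturality Y.hom
  rw [Scheme.isoSpec_Spec_inv, ← Spec.map_comp] at h
  rw [← h]
  rfl

set_option maxHeartbeats 1600000 in
theorem Psi_bijective (Y T : Over (Spec (CommRingCat.of k)))
    [IsAffine Y.left] [IsAffine T.left] : Function.Bijective (Psi Y T) := by
  have hA := isoSpec_inv_hom Y
  have hB := isoSpec_inv_hom T
  have hfst := chart_fst Y.hom T.hom Y.left.isoSpec.inv T.left.isoSpec.inv hA hB
  have hsnd := chart_snd Y.hom T.hom Y.left.isoSpec.inv T.left.isoSpec.inv hA hB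
  haveI : IsIso (chart Y.hom T.hom Y.left.isoSpec.inv T.left.isoSpec.inv hA hB) := by
    unfold chart
    infer_instance
  set Θ := chart Y.hom T.hom Y.left.isoSpec.inv T.left.isoSpec.inv hA hB with hΘ
  have key : ∀ z : Γ(Y.left, ⊤) ⊗[k] Γ(T.left, ⊤),
      (Scheme.ΓSpecIso (CommRingCat.of (Γ(Y.left, ⊤) ⊗[k] Γ(T.left, ⊤)))).hom
        (Θ.appTop.hom (Psi Y T z)) = z := by
    intro z
    induction z using TensorProduct.induction_on with
    | zero => simp only [map_zero]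
    | add x y hx hy => simp only [map_add, hx, hy]
    | tmul a r =>
      rw [Psi_tmul, map_mul, map_mul]
      have e1 : (Scheme.ΓSpecIso (CommRingCat.of (Γ(Y.left, ⊤) ⊗[k] Γ(T.left, ⊤)))).hom
          (Θ.appTop.hom (star (fst Y T) a)) = a ⊗ₜ[k] 1 := by
        have h1 := congrArg (fun f => f.appTop.hom a) hfst
        have h2 := congrArg (fun φ => φ.hom (Y.left.isoSpec.inv.appTop.hom a))
          (Scheme.ΓSpecIso_naturality (CommRingCat.ofHom
            (Algebra.TensorProduct.includeLeftRingHom :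
              Γ(Y.left, ⊤) →+* Γ(Y.left, ⊤) ⊗[k] Γ(T.left, ⊤))))
        have h3 := isoSpec_inv_appTop_apply Y.left a
        change (Scheme.ΓSpecIso _).hom ((Θ ≫ pullback.fst Y.hom T.hom).appTop.hom a) = _
        rw [h1]
        change (Scheme.ΓSpecIso _).hom ((Spec.map _).appTop.hom (Y.left.isoSpec.inv.appTop.hom a)) = _
        refine h2.trans ?_
        change Algebra.TensorProduct.includeLeftRingHom
          ((Scheme.ΓSpecIso Γ(Y.left, ⊤)).hom (Y.left.isoSpec.inv.appTop.hom a)) = _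
        rw [h3]
        rfl
      have e2 : (Scheme.ΓSpecIso (CommRingCat.of (Γ(Y.left, ⊤) ⊗[k] Γ(T.left, ⊤)))).hom
          (Θ.appTop.hom (star (snd Y T) r)) = 1 ⊗ₜ[k] r := by
        have h1 := congrArg (fun f => f.appTop.hom r) hsnd
        have h2 := congrArg (fun φ => φ.hom (T.left.isoSpec.inv.appTop.hom r))
          (Scheme.ΓSpecIso_naturality (CommRingCat.ofHom
            ((Algebra.TensorProduct.includeRight :
              Γ(T.left, ⊤) →ₐ[k] Γ(Y.left, ⊤) ⊗[k] Γ(T.left, ⊤)).toRingHom)))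
        have h3 := isoSpec_inv_appTop_apply T.left r
        change (Scheme.ΓSpecIso _).hom ((Θ ≫ pullback.snd Y.hom T.hom).appTop.hom r) = _
        rw [h1]
        change (Scheme.ΓSpecIso _).hom ((Spec.map _).appTop.hom (T.left.isoSpec.inv.appTop.hom r)) = _
        refine h2.trans ?_
        change (Algebra.TensorProduct.includeRight :
            Γ(T.left, ⊤) →ₐ[k] Γ(Y.left, ⊤) ⊗[k] Γ(T.left, ⊤))
          ((Scheme.ΓSpecIso Γ(T.left, ⊤)).hom (T.left.isoSpec.inv.appTop.hom r)) = _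
        rw [h3]
        rfl
      rw [e1, e2, Algebra.TensorProduct.tmul_mul_tmul, mul_one, one_mul]
  have hΘ1 : ∀ s : Γ(pullback Y.hom T.hom, ⊤), (inv Θ).appTop.hom (Θ.appTop.hom s) = s := by
    intro s
    have h : Θ.appTop ≫ (inv Θ).appTop = 𝟙 _ := by
      rw [← Scheme.Hom.comp_appTop, IsIso.inv_hom_id]
      rfl
    exact congrArg (fun φ => φ.hom s) h
  have hΓ1 : ∀ s : Γ(Spec (CommRingCat.of (Γ(Y.left, ⊤) ⊗[k] Γ(T.left, ⊤))), ⊤),
      (Scheme.ΓSpecIso (CommRingCat.of (Γ(Y.left, ⊤) ⊗[k] Γ(T.left, ⊤)))).inv.hom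
        ((Scheme.ΓSpecIso (CommRingCat.of (Γ(Y.left, ⊤) ⊗[k] Γ(T.left, ⊤)))).hom.hom s) = s := by
    intro s
    exact congrArg (fun φ => φ.hom s)
      (Scheme.ΓSpecIso (CommRingCat.of (Γ(Y.left, ⊤) ⊗[k] Γ(T.left, ⊤)))).hom_inv_id
  constructor
  · intro z z' h
    have h1 : (Scheme.ΓSpecIso (CommRingCat.of (Γ(Y.left, ⊤) ⊗[k] Γ(T.left, ⊤)))).hom
        (Θ.appTop.hom (Psi Y T z)) =
        (Scheme.ΓSpecIso (CommRingCat.of (Γ(Y.left, ⊤) ⊗[k] Γ(T.left, ⊤)))).hom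
        (Θ.appTop.hom (Psi Y T z')) :=
      congrArg (fun s : Γ(pullback Y.hom T.hom, ⊤) =>
        (Scheme.ΓSpecIso (CommRingCat.of (Γ(Y.left, ⊤) ⊗[k] Γ(T.left, ⊤)))).hom
          (Θ.appTop.hom s)) h
    exact (key z).symm.trans (h1.trans (key z'))
  · intro y
    let y' : Γ(pullback Y.hom T.hom, ⊤) := y
    refine ⟨(Scheme.ΓSpecIso (CommRingCat.of (Γ(Y.left, ⊤) ⊗[k] Γ(T.left, ⊤)))).hom.hom
      (Θ.appTop.hom y'), ?_⟩
    have h := key ((Scheme.ΓSpecIso (CommRingCat.of (Γ(Y.left, ⊤) ⊗[k] Γ(T.left, ⊤)))).hom.hom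
      (Θ.appTop.hom y'))
    have h2 := congrArg (fun s =>
      (Scheme.ΓSpecIso (CommRingCat.of (Γ(Y.left, ⊤) ⊗[k] Γ(T.left, ⊤)))).inv.hom s) h
    simp only [hΓ1] at h2
    have h3 := congrArg (fun s => (inv Θ).appTop.hom s) h2
    exact (hΘ1 _).symm.trans (h3.trans (hΘ1 _))

end Groth.Agent.H25.DX2
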