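import Mathlib
import Groth.Prelude.Def_Magnet
import Groth.Agent.H91.UnitsDense
import Groth.Agent.H91.SchDom

/-!
# Equivariant maps out of `M ⊗ T` and extensions of orbit maps (helper25, for S18955)
-/

open CategoryTheory AlgebraicGeometry MonoidalCategory CartesianMonoidalCategory MonObj Opposite
open Magnet Magnet.MonAct

universe u

namespace Groth.Agent.H25.DX4

variable {S : Scheme.{u}} {M G X : Over S} [MonObj M] [MonObj G]

/-- the restriction to `G ⊗ T` of an equivariant map is the orbit map of its value at the unit. -/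
theorem whisker_comp_eq (i : G ⟶ M) [IsMonHom i] (a : MonAct G X) (T : Over S)
    (φ : (eqvHom ((regular M).restrict i) a).obj (op T)) :
    (i ▷ T) ≫ φ.1 =
      (G ◁ ((eqvHom.evalAt ((regular M).restrict i) a η[M]).app (op T) φ)) ≫ a.act := by
  apply hom_ext_lift₂
  intro T' g t
  rw [Groth.Agent.H91.UnitsDense.key_orbit i a T φ g t, lift_whiskerLeft_assoc]
  rfl

theorem evalAt_injective [IsSeparated X.hom] (i : G ⟶ M) [IsMonHom i]
    (hd : ∀ T : Over S, IsSchemeTheoreticallyDominant (i ▷ T).left)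
    (a : MonAct G X) (T : Over S) (φ ψ : (eqvHom ((regular M).restrict i) a).obj (op T))
    (h : (eqvHom.evalAt ((regular M).restrict i) a η[M]).app (op T) φ =
      (eqvHom.evalAt ((regular M).restrict i) a η[M]).app (op T) ψ) : φ = ψ := by
  haveI := hd T
  apply Subtype.ext
  apply Groth.Agent.H91.SchDom.ext_of_dominant (i ▷ T)
  rw [whisker_comp_eq i a T φ, whisker_comp_eq i a T ψ, h]

theorem mem_range_evalAt_iff [IsSeparated X.hom] (i : G ⟶ M) [IsMonHom i]
    (hd : ∀ T : Over S, IsSchemeTheoreticallyDominant (i ▷ T).left)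
    (a : MonAct G X) (T : Over S) (x : T ⟶ X) :
    (∃ φ : (eqvHom ((regular M).restrict i) a).obj (op T),
        (eqvHom.evalAt ((regular M).restrict i) a η[M]).app (op T) φ = x) ↔
      ∃ φ : M ⊗ T ⟶ X, (i ▷ T) ≫ φ = (G ◁ x) ≫ a.act := by
  constructor
  · rintro ⟨φ, rfl⟩
    exact ⟨φ.1, whisker_comp_eq i a T φ⟩
  · rintro ⟨φ₀, h⟩
    have horb : ∀ {T' : Over S} (g : T' ⟶ G) (t : T' ⟶ T),
        lift (g ≫ i) t ≫ φ₀ = lift g (t ≫ x) ≫ a.act := by
      intro T' g t
      rw [← lift_whiskerRight_assoc, h, lift_whiskerLeft_assoc]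
    -- the universal instance of equivariance, on `M ⊗ (T ⊗ G)`
    have hLR : lift (lift (snd M (T ⊗ G) ≫ snd T G) (fst M (T ⊗ G)) ≫
          ((regular M).restrict i).act) (snd M (T ⊗ G) ≫ fst T G) ≫ φ₀ =
        lift (snd M (T ⊗ G) ≫ snd T G)
          (lift (fst M (T ⊗ G)) (snd M (T ⊗ G) ≫ fst T G) ≫ φ₀) ≫ a.act := by
      haveI := hd (T ⊗ G)
      apply Groth.Agent.H91.SchDom.ext_of_dominant (i ▷ (T ⊗ G))
      apply hom_ext_lift₂
      intro T'' g' s
      have eL : lift g' s ≫ (i ▷ (T ⊗ G)) ≫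
          lift (lift (snd M (T ⊗ G) ≫ snd T G) (fst M (T ⊗ G)) ≫
            ((regular M).restrict i).act) (snd M (T ⊗ G) ≫ fst T G) ≫ φ₀ =
          lift (s ≫ snd T G) (lift g' ((s ≫ fst T G) ≫ x) ≫ a.act) ≫ a.act := by
        simp only [lift_whiskerRight_assoc, comp_lift_assoc, lift_fst, lift_snd, lift_fst_assoc,
          lift_snd_assoc]
        rw [lift_restrict_act, lift_regular_act, ← MonObj.mul_comp, horb, a.lift_mul_act]
      have eR : lift g' s ≫ (i ▷ (T ⊗ G)) ≫
          lift (snd M (T ⊗ G) ≫ snd T G)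
            (lift (fst M (T ⊗ G)) (snd M (T ⊗ G) ≫ fst T G) ≫ φ₀) ≫ a.act =
          lift (s ≫ snd T G) (lift g' ((s ≫ fst T G) ≫ x) ≫ a.act) ≫ a.act := by
        simp only [lift_whiskerRight_assoc, comp_lift_assoc, lift_fst, lift_snd, lift_fst_assoc,
          lift_snd_assoc]
        rw [horb]
      rw [eL, eR]
    have hpts : ∀ (T' : Over S) (g : T' ⟶ G) (b : T' ⟶ M) (t : T' ⟶ T),
        lift (lift g b ≫ ((regular M).restrict i).act) t ≫ φ₀ =
          lift g (lift b t ≫ φ₀) ≫ a.act := by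
      intro T' g b t
      have h2 := congrArg (fun f => lift b (lift t g) ≫ f) hLR
      simp only [comp_lift_assoc, lift_fst, lift_snd, lift_fst_assoc, lift_snd_assoc] at h2
      exact h2
    refine ⟨⟨φ₀, (mem_eqvHom_iff φ₀).mpr hpts⟩, ?_⟩
    change lift (toUnit T ≫ η[M]) (𝟙 T) ≫ φ₀ = x
    have h1 : toUnit T ≫ η[M] = (toUnit T ≫ η[G]) ≫ i := by
      rw [Category.assoc, IsMonHom.one_hom]
    rw [h1, horb, Category.id_comp, ← Hom.one_def, a.lift_one_act]

end Groth.Agent.H25.DX4
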