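import Mathlib
import Groth.Agent.H21.SchDomField
import Groth.Agent.H25.CoeffIdeal

/-!
# Base change over a field of scheme-theoretically dominant open immersions (helper25)

`IsSchemeTheoreticallyDominant` in Mathlib is the weak form `ker = ⊥` (no nonzero quasi-coherent
ideal is killed).  We show that for an open immersion `j : U ⟶ Y` of `k`-schemes (`k` a field) which
is scheme-theoretically dominant, every base change of `j` along a projection `Y ×ₖ T ⟶ Y` is again
scheme-theoretically dominant; no quasi-compactness is needed.  The proof builds, for a quasi-coherent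
ideal `J'` on `Y ×ₖ T` and an affine open `Spec B ⊆ T`, the *coefficient ideal sheaf* on `Y`.
-/

set_option autoImplicit false
set_option maxHeartbeats 400000
set_option linter.unusedVariables false
set_option linter.unusedSectionVars false
set_option linter.style.longLine false
set_option linter.unusedSimpArgs false
set_option linter.style.haveILetI false

universe u

open CategoryTheory AlgebraicGeometry TensorProduct Opposite Limits TopologicalSpace
open Groth.Agent.H21.SchDom Groth.Agent.H25.CoeffIdeal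

namespace Groth.Agent.H25.DomBC

/-! ### Pulling sections back along `Spec R ⟶ P` -/

lemma pullSection_natural {P : Scheme.{u}} {R D : CommRingCat.{u}} (J₁ : Spec R ⟶ P)
    (J₂ : Spec D ⟶ P) (ψ : R ⟶ D) (hJ : J₂ = Spec.map ψ ≫ J₁) {V₁ V₂ : P.Opens} (h21 : V₂ ≤ V₁)
    (h₁ : ⊤ ≤ J₁ ⁻¹ᵁ V₁) (h₂ : ⊤ ≤ J₂ ⁻¹ᵁ V₂) (t : Γ(P, V₁)) :
    pullSection J₂ V₂ h₂ (P.presheaf.map (homOfLE h21).op t) = ψ (pullSection J₁ V₁ h₁ t) := by
  subst hJ
  have e : P.presheaf.map (homOfLE h21).op ≫ pullSection (Spec.map ψ ≫ J₁) V₂ h₂ =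
      pullSection J₁ V₁ h₁ ≫ ψ := by
    unfold pullSection
    have hle0 : (⊤ : (Spec D).Opens) ≤ Spec.map ψ ⁻¹ᵁ ⊤ := le_rfl
    have happ : (Spec.map ψ).appTop = (Spec.map ψ).appLE ⊤ ⊤ hle0 :=
      Scheme.Hom.app_eq_appLE (Spec.map ψ) (U := ⊤)
    rw [Scheme.Hom.map_appLE_assoc, Category.assoc, ← Scheme.ΓSpecIso_naturality, happ,
      ← Category.assoc, Scheme.Hom.appLE_comp_appLE]
  have h3 := congrArg (fun φ => φ t) e
  simpa only [CommRingCat.comp_apply] using h3

lemma pullSection_comp_eq_zero {P Q : Scheme.{u}} {R : CommRingCat.{u}} (l : Spec R ⟶ Q)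
    (g : Q ⟶ P) (V : P.Opens) (h : ⊤ ≤ (l ≫ g) ⁻¹ᵁ V) (t : Γ(P, V)) (ht : g.app V t = 0) :
    pullSection (l ≫ g) V h t = 0 := by
  unfold pullSection
  rw [Scheme.Hom.comp_appLE]
  simp only [CommRingCat.comp_apply]
  rw [ht, map_zero, map_zero]

variable {k : Type u} [Field k]

/-! ### `k`-algebra structures on sections over affine opens -/

section Alg

variable {X : Scheme.{u}} [X.Over (Spec (CommRingCat.of k))]

/-- the `k`-algebra structure on `Γ(X, W)`, `W` affine open of a `k`-scheme. -/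
@[instance_reducible]
noncomputable def algSec (W : X.affineOpens) : Algebra k Γ(X, W.1) :=
  (Spec.preimage (W.2.fromSpec ≫ (X ↘ Spec (CommRingCat.of k)))).hom.toAlgebra

attribute [local instance] algSec

lemma algSec_spec (W : X.affineOpens) :
    W.2.fromSpec ≫ (X ↘ Spec (CommRingCat.of k)) =
      Spec.map (CommRingCat.ofHom (algebraMap k Γ(X, W.1))) :=
  (Spec.map_preimage _).symm

lemma res_algebraMap {W₁ W₂ : X.affineOpens} (h : W₂ ≤ W₁) (r : k) :
    (X.presheaf.map (homOfLE h).op).hom (algebraMap k Γ(X, W₁.1) r) =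
      algebraMap k Γ(X, W₂.1) r := by
  have key : Spec.preimage (W₁.2.fromSpec ≫ (X ↘ Spec (CommRingCat.of k))) ≫
      X.presheaf.map (homOfLE h).op =
      Spec.preimage (W₂.2.fromSpec ≫ (X ↘ Spec (CommRingCat.of k))) := by
    apply Spec.map_injective
    rw [Spec.map_comp, Spec.map_preimage, Spec.map_preimage, ← Category.assoc,
      W₁.2.map_fromSpec W₂.2]
  have h3 : (Spec.preimage (W₁.2.fromSpec ≫ (X ↘ Spec (CommRingCat.of k))) ≫
      X.presheaf.map (homOfLE h).op).hom r =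
      (Spec.preimage (W₂.2.fromSpec ≫ (X ↘ Spec (CommRingCat.of k)))).hom r := by rw [key]
  exact h3

/-- restriction as a `k`-algebra map. -/
noncomputable def resAlg {W₁ W₂ : X.affineOpens} (h : W₂ ≤ W₁) : Γ(X, W₁.1) →ₐ[k] Γ(X, W₂.1) :=
  { (X.presheaf.map (homOfLE h).op).hom with commutes' := res_algebraMap h }

lemma resAlg_apply {W₁ W₂ : X.affineOpens} (h : W₂ ≤ W₁) (a : Γ(X, W₁.1)) :
    resAlg (k := k) h a = (X.presheaf.map (homOfLE h).op).hom a := rfl

end Alg

attribute [local instance] algSec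

/-! ### Product charts -/

section Main

variable {Y T : Scheme.{u}} [Y.Over (Spec (CommRingCat.of k))] [T.Over (Spec (CommRingCat.of k))]

/-- the product chart `Spec (Γ(Y,W) ⊗ Γ(T,VT)) ⟶ Y ×ₖ T`. -/
noncomputable def ch (W : Y.affineOpens) (VT : T.affineOpens) :
    Spec (CommRingCat.of (Γ(Y, W.1) ⊗[k] Γ(T, VT.1))) ⟶
      pullback (Y ↘ Spec (CommRingCat.of k)) (T ↘ Spec (CommRingCat.of k)) :=
  chart (Y ↘ Spec (CommRingCat.of k)) (T ↘ Spec (CommRingCat.of k)) W.2.fromSpec VT.2.fromSpec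
    (algSec_spec W) (algSec_spec VT)

instance (W : Y.affineOpens) (VT : T.affineOpens) : IsOpenImmersion (ch (k := k) W VT) := by
  unfold ch
  haveI : IsOpenImmersion W.2.fromSpec := IsAffineOpen.isOpenImmersion_fromSpec W.2
  haveI : IsOpenImmersion VT.2.fromSpec := IsAffineOpen.isOpenImmersion_fromSpec VT.2
  unfold chart
  infer_instance

lemma ch_fst (W : Y.affineOpens) (VT : T.affineOpens) :
    ch (k := k) W VT ≫ pullback.fst _ _ =
      Spec.map (CommRingCat.ofHom Algebra.TensorProduct.includeLeftRingHom) ≫ W.2.fromSpec :=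
  chart_fst _ _ _ _ _ _

lemma ch_snd (W : Y.affineOpens) (VT : T.affineOpens) :
    ch (k := k) W VT ≫ pullback.snd _ _ =
      Spec.map (CommRingCat.ofHom (Algebra.TensorProduct.includeRight :
        Γ(T, VT.1) →ₐ[k] Γ(Y, W.1) ⊗[k] Γ(T, VT.1)).toRingHom) ≫ VT.2.fromSpec :=
  chart_snd _ _ _ _ _ _

/-- the affine open of `Y ×ₖ T` covered by the chart. -/
noncomputable def VV (W : Y.affineOpens) (VT : T.affineOpens) :
    (pullback (Y ↘ Spec (CommRingCat.of k)) (T ↘ Spec (CommRingCat.of k))).affineOpens :=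
  ⟨(ch (k := k) W VT).opensRange, isAffineOpen_opensRange _⟩

lemma le_preimage (W : Y.affineOpens) (VT : T.affineOpens) :
    ⊤ ≤ (ch (k := k) W VT) ⁻¹ᵁ (VV (k := k) W VT).1 := fun x _ => ⟨x, rfl⟩

/-- sections over the chart as elements of the tensor product. -/
noncomputable def phi (W : Y.affineOpens) (VT : T.affineOpens) :
    Γ(pullback (Y ↘ Spec (CommRingCat.of k)) (T ↘ Spec (CommRingCat.of k)), (VV (k := k) W VT).1) →+*
      Γ(Y, W.1) ⊗[k] Γ(T, VT.1) :=
  (pullSection (ch (k := k) W VT) (VV (k := k) W VT).1 (le_preimage W VT)).hom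

lemma phi_injective (W : Y.affineOpens) (VT : T.affineOpens) :
    Function.Injective (phi (k := k) W VT) := by
  rw [injective_iff_map_eq_zero]
  intro t ht
  have h0 : (ch (k := k) W VT).app (VV (k := k) W VT).1 t = 0 :=
    app_eq_zero_of_pullSection _ _ (le_preimage W VT) t ht
  haveI : IsIso ((ch (k := k) W VT).app (VV (k := k) W VT).1) :=
    (ch (k := k) W VT).isIso_app _ le_rfl
  exact (ConcreteCategory.bijective_of_isIso ((ch (k := k) W VT).app (VV (k := k) W VT).1)).1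
    (h0.trans (map_zero _).symm)

/-- the ring map `ρ ⊗ id` induced by restriction. -/
noncomputable def resT {W₁ W₂ : Y.affineOpens} (h : W₂ ≤ W₁) (VT : T.affineOpens) :
    Γ(Y, W₁.1) ⊗[k] Γ(T, VT.1) →ₐ[k] Γ(Y, W₂.1) ⊗[k] Γ(T, VT.1) :=
  Algebra.TensorProduct.map (resAlg (k := k) h) (AlgHom.id k Γ(T, VT.1))

lemma ch_res {W₁ W₂ : Y.affineOpens} (h : W₂ ≤ W₁) (VT : T.affineOpens) :
    ch (k := k) W₂ VT =
      Spec.map (CommRingCat.ofHom (resT (k := k) h VT).toRingHom) ≫ ch (k := k) W₁ VT := by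
  have e1 : Y.presheaf.map (homOfLE h).op ≫ CommRingCat.ofHom
        (Algebra.TensorProduct.includeLeftRingHom :
          Γ(Y, W₂.1) →+* Γ(Y, W₂.1) ⊗[k] Γ(T, VT.1)) =
      CommRingCat.ofHom (Algebra.TensorProduct.includeLeftRingHom :
          Γ(Y, W₁.1) →+* Γ(Y, W₁.1) ⊗[k] Γ(T, VT.1)) ≫
        CommRingCat.ofHom (resT (k := k) h VT).toRingHom := by
    ext a
    change ((Y.presheaf.map (homOfLE h).op).hom a) ⊗ₜ[k] (1 : Γ(T, VT.1)) =
      resT (k := k) h VT (a ⊗ₜ[k] (1 : Γ(T, VT.1)))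
    rw [resT, Algebra.TensorProduct.map_tmul, map_one, resAlg_apply]
  have e2 : CommRingCat.ofHom (Algebra.TensorProduct.includeRight :
        Γ(T, VT.1) →ₐ[k] Γ(Y, W₂.1) ⊗[k] Γ(T, VT.1)).toRingHom =
      CommRingCat.ofHom (Algebra.TensorProduct.includeRight :
        Γ(T, VT.1) →ₐ[k] Γ(Y, W₁.1) ⊗[k] Γ(T, VT.1)).toRingHom ≫
        CommRingCat.ofHom (resT (k := k) h VT).toRingHom := by
    ext b
    change (1 : Γ(Y, W₂.1)) ⊗ₜ[k] b = resT (k := k) h VT ((1 : Γ(Y, W₁.1)) ⊗ₜ[k] b)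
    rw [resT, Algebra.TensorProduct.map_tmul, map_one, AlgHom.id_apply]
  apply pullback.hom_ext
  · calc ch (k := k) W₂ VT ≫ pullback.fst _ _
        = Spec.map (CommRingCat.ofHom Algebra.TensorProduct.includeLeftRingHom) ≫
            W₂.2.fromSpec := ch_fst W₂ VT
      _ = Spec.map (CommRingCat.ofHom Algebra.TensorProduct.includeLeftRingHom) ≫
            Spec.map (Y.presheaf.map (homOfLE h).op) ≫ W₁.2.fromSpec := by
          rw [W₁.2.map_fromSpec W₂.2]
      _ = Spec.map (Y.presheaf.map (homOfLE h).op ≫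
            CommRingCat.ofHom Algebra.TensorProduct.includeLeftRingHom) ≫ W₁.2.fromSpec := by
          rw [Spec.map_comp, Category.assoc]
      _ = Spec.map (CommRingCat.ofHom Algebra.TensorProduct.includeLeftRingHom ≫
            CommRingCat.ofHom (resT (k := k) h VT).toRingHom) ≫ W₁.2.fromSpec := by
          rw [e1]
      _ = Spec.map (CommRingCat.ofHom (resT (k := k) h VT).toRingHom) ≫
            Spec.map (CommRingCat.ofHom Algebra.TensorProduct.includeLeftRingHom) ≫
              W₁.2.fromSpec := by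
          rw [Spec.map_comp, Category.assoc]
      _ = Spec.map (CommRingCat.ofHom (resT (k := k) h VT).toRingHom) ≫
            ch (k := k) W₁ VT ≫ pullback.fst _ _ := by
          rw [ch_fst W₁ VT]
      _ = (Spec.map (CommRingCat.ofHom (resT (k := k) h VT).toRingHom) ≫ ch (k := k) W₁ VT) ≫
            pullback.fst _ _ := (Category.assoc _ _ _).symm
  · calc ch (k := k) W₂ VT ≫ pullback.snd _ _
        = Spec.map (CommRingCat.ofHom (Algebra.TensorProduct.includeRight :
            Γ(T, VT.1) →ₐ[k] Γ(Y, W₂.1) ⊗[k] Γ(T, VT.1)).toRingHom) ≫ VT.2.fromSpec :=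
          ch_snd W₂ VT
      _ = Spec.map (CommRingCat.ofHom (resT (k := k) h VT).toRingHom) ≫
            Spec.map (CommRingCat.ofHom (Algebra.TensorProduct.includeRight :
              Γ(T, VT.1) →ₐ[k] Γ(Y, W₁.1) ⊗[k] Γ(T, VT.1)).toRingHom) ≫ VT.2.fromSpec := by
          rw [e2, Spec.map_comp, Category.assoc]
      _ = Spec.map (CommRingCat.ofHom (resT (k := k) h VT).toRingHom) ≫
            ch (k := k) W₁ VT ≫ pullback.snd _ _ := by
          rw [ch_snd W₁ VT]
      _ = (Spec.map (CommRingCat.ofHom (resT (k := k) h VT).toRingHom) ≫ ch (k := k) W₁ VT) ≫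
            pullback.snd _ _ := (Category.assoc _ _ _).symm

lemma VV_mono {W₁ W₂ : Y.affineOpens} (h : W₂ ≤ W₁) (VT : T.affineOpens) :
    (VV (k := k) W₂ VT).1 ≤ (VV (k := k) W₁ VT).1 := by
  intro y hy
  obtain ⟨x, rfl⟩ : y ∈ Set.range (ch (k := k) W₂ VT) := hy
  change (ch (k := k) W₂ VT) x ∈ Set.range (ch (k := k) W₁ VT)
  rw [ch_res h VT, Scheme.Hom.comp_apply]
  exact ⟨_, rfl⟩

lemma phi_res {W₁ W₂ : Y.affineOpens} (h : W₂ ≤ W₁) (VT : T.affineOpens)
    (t : Γ(pullback (Y ↘ Spec (CommRingCat.of k)) (T ↘ Spec (CommRingCat.of k)),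
      (VV (k := k) W₁ VT).1)) :
    phi (k := k) W₂ VT ((pullback (Y ↘ Spec (CommRingCat.of k))
      (T ↘ Spec (CommRingCat.of k))).presheaf.map (homOfLE (VV_mono h VT)).op t) =
      resT (k := k) h VT (phi (k := k) W₁ VT t) :=
  pullSection_natural (ch (k := k) W₁ VT) (ch (k := k) W₂ VT)
    (CommRingCat.ofHom (resT (k := k) h VT).toRingHom) (ch_res h VT) (VV_mono h VT)
    (le_preimage W₁ VT) (le_preimage W₂ VT) t

/-! ### The coefficient ideal sheaf -/

/-- coefficient ideal of `J'` on the chart over `W`. -/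
noncomputable def cIdeal
    (J' : (pullback (Y ↘ Spec (CommRingCat.of k)) (T ↘ Spec (CommRingCat.of k))).IdealSheafData)
    (VT : T.affineOpens) (W : Y.affineOpens) : Ideal Γ(Y, W.1) :=
  coeffIdeal (Ideal.map (phi (k := k) W VT) (J'.ideal (VV (k := k) W VT)))

lemma cIdeal_map
    (J' : (pullback (Y ↘ Spec (CommRingCat.of k)) (T ↘ Spec (CommRingCat.of k))).IdealSheafData)
    (VT : T.affineOpens) {W₁ W₂ : Y.affineOpens} (h : W₂ ≤ W₁) :
    (cIdeal (k := k) J' VT W₁).map (Y.presheaf.map (homOfLE h).op).hom = cIdeal (k := k) J' VT W₂ := by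
  have e0 : (cIdeal (k := k) J' VT W₁).map (Y.presheaf.map (homOfLE h).op).hom =
      (cIdeal (k := k) J' VT W₁).map (resAlg (k := k) h) := rfl
  rw [e0]
  unfold cIdeal
  rw [← coeffIdeal_map]
  congr 1
  have e1 : Ideal.map (Algebra.TensorProduct.map (resAlg (k := k) h) (AlgHom.id k Γ(T, VT.1)))
        (Ideal.map (phi (k := k) W₁ VT) (J'.ideal (VV (k := k) W₁ VT))) =
      Ideal.map (resT (k := k) h VT).toRingHom
        (Ideal.map (phi (k := k) W₁ VT) (J'.ideal (VV (k := k) W₁ VT))) := rfl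
  rw [e1, Ideal.map_map]
  have e2 : (resT (k := k) h VT).toRingHom.comp (phi (k := k) W₁ VT) =
      (phi (k := k) W₂ VT).comp ((pullback (Y ↘ Spec (CommRingCat.of k))
        (T ↘ Spec (CommRingCat.of k))).presheaf.map (homOfLE (VV_mono h VT)).op).hom := by
    ext t
    exact (phi_res h VT t).symm
  rw [e2, ← Ideal.map_map]
  congr 1
  exact J'.map_ideal (U := VV (k := k) W₂ VT) (V := VV (k := k) W₁ VT) (VV_mono h VT)

/-- the coefficient ideal sheaf on `Y` of an ideal sheaf on `Y ×ₖ T`, relative to `VT ⊆ T`. -/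
noncomputable def cSheaf
    (J' : (pullback (Y ↘ Spec (CommRingCat.of k)) (T ↘ Spec (CommRingCat.of k))).IdealSheafData)
    (VT : T.affineOpens) : Y.IdealSheafData where
  ideal W := cIdeal (k := k) J' VT W
  map_ideal_basicOpen W f :=
    cIdeal_map (k := k) J' VT (W₁ := W) (W₂ := Y.affineBasicOpen f) (Y.basicOpen_le f)

/-! ### The coefficient ideal sheaf is killed by `j` -/

variable {U U' : Scheme.{u}} (j : U ⟶ Y) [IsOpenImmersion j] (f' : U' ⟶ U)
  (j' : U' ⟶ pullback (Y ↘ Spec (CommRingCat.of k)) (T ↘ Spec (CommRingCat.of k)))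
  (hpb : IsPullback f' j' j (pullback.fst _ _))

include hpb in
lemma phi_eq_zero_of_le_range (VT : T.affineOpens) (W : Y.affineOpens)
    (hW : W.1 ≤ j.opensRange)
    {V : (pullback (Y ↘ Spec (CommRingCat.of k)) (T ↘ Spec (CommRingCat.of k))).Opens}
    (hV : ⊤ ≤ (ch (k := k) W VT) ⁻¹ᵁ V)
    (y : Γ(pullback (Y ↘ Spec (CommRingCat.of k)) (T ↘ Spec (CommRingCat.of k)), V))
    (hy : j'.app V y = 0) :
    pullSection (ch (k := k) W VT) V hV y = 0 := by
  have hr : Set.range W.2.fromSpec ⊆ Set.range j := by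
    rw [W.2.range_fromSpec]
    exact hW
  let m₁ : Spec (CommRingCat.of (Γ(Y, W.1) ⊗[k] Γ(T, VT.1))) ⟶ U :=
    Spec.map (CommRingCat.ofHom Algebra.TensorProduct.includeLeftRingHom) ≫
      IsOpenImmersion.lift j W.2.fromSpec hr
  have hm : m₁ ≫ j = ch (k := k) W VT ≫ pullback.fst _ _ := by
    rw [ch_fst, Category.assoc, IsOpenImmersion.lift_fac]
  have hl : hpb.lift m₁ (ch (k := k) W VT) hm ≫ j' = ch (k := k) W VT := hpb.lift_snd _ _ _
  have hV' : ⊤ ≤ (hpb.lift m₁ (ch (k := k) W VT) hm ≫ j') ⁻¹ᵁ V := by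
    rw [hl]; exact hV
  have h0 := pullSection_comp_eq_zero (hpb.lift m₁ (ch (k := k) W VT) hm) j' V hV' y hy
  have hgen : ∀ (J₁ J₂ : Spec (CommRingCat.of (Γ(Y, W.1) ⊗[k] Γ(T, VT.1))) ⟶
      pullback (Y ↘ Spec (CommRingCat.of k)) (T ↘ Spec (CommRingCat.of k))) (e : J₁ = J₂)
      (h₁ : ⊤ ≤ J₁ ⁻¹ᵁ V) (h₂ : ⊤ ≤ J₂ ⁻¹ᵁ V), pullSection J₁ V h₁ y = pullSection J₂ V h₂ y := by
    intro J₁ J₂ e h₁ h₂
    subst e
    rfl
  rw [← hgen _ _ hl hV' hV]
  exact h0

include hpb in
lemma cIdeal_le_ker (VT : T.affineOpens) (W : Y.affineOpens) :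
    cIdeal (k := k) j'.ker VT W ≤ RingHom.ker (j.app W.1).hom := by
  unfold cIdeal
  rw [coeffIdeal_map_ringHom, Ideal.span_le]
  rintro _ ⟨y, hy, ℓ, rfl⟩
  have hy0 : (j'.app (VV (k := k) W VT).1) y = 0 :=
    RingHom.mem_ker.mp (j'.ideal_ker_le _ hy)
  -- Step 1: the coefficient vanishes on every affine open inside `W ⊓ range j`
  have step1 : ∀ (W' : Y.affineOpens) (h : W'.1 ≤ W.1), W'.1 ≤ j.opensRange →
      (Y.presheaf.map (homOfLE h).op).hom (slice ℓ (phi (k := k) W VT y)) = 0 := by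
    intro W' h hW'
    have e1 : (Y.presheaf.map (homOfLE h).op).hom (slice ℓ (phi (k := k) W VT y)) =
        slice ℓ (resT (k := k) h VT (phi (k := k) W VT y)) :=
      slice_map (resAlg (k := k) h) ℓ (phi (k := k) W VT y)
    rw [e1, ← phi_res h VT y]
    have e2 : phi (k := k) W' VT ((pullback (Y ↘ Spec (CommRingCat.of k))
        (T ↘ Spec (CommRingCat.of k))).presheaf.map (homOfLE (VV_mono h VT)).op y) = 0 := by
      apply phi_eq_zero_of_le_range j f' j' hpb VT W' hW' (le_preimage W' VT)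
      have nat := j'.naturality (homOfLE (VV_mono (k := k) h VT)).op
      have h1 := congrArg (fun φ => φ y) nat
      simp only [CommRingCat.comp_apply] at h1
      rw [h1, hy0, map_zero]
    rw [e2, map_zero]
  -- Step 2: glue
  set a := slice ℓ (phi (k := k) W VT y) with ha
  refine SetLike.mem_coe.mpr (RingHom.mem_ker.mpr ?_)
  have hle : W.1 ⊓ j.opensRange ≤ W.1 := inf_le_left
  have h2 : Y.presheaf.map (homOfLE hle).op a = 0 := by
    apply eq_zero_of_forall_res _ (fun W' => IsAffineOpen W')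
    · intro x hx
      obtain ⟨W', hW', hxW', hW'le⟩ := Opens.isBasis_iff_nbhd.mp Y.isBasis_affineOpens hx
      exact ⟨W', hxW', hW'le, hW'⟩
    · intro W' hW'le hW'
      have h3 := step1 ⟨W', hW'⟩ (hW'le.trans hle) (hW'le.trans inf_le_right)
      rw [← h3]
      change (Y.presheaf.map (homOfLE hle).op ≫ Y.presheaf.map (homOfLE hW'le).op) a = _
      rw [← Functor.map_comp]
      rfl
  have nat := j.naturality (homOfLE hle).op
  have h4 := congrArg (fun φ => φ a) nat
  simp only [CommRingCat.comp_apply] at h4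
  rw [h2, map_zero] at h4
  have hge : j ⁻¹ᵁ W.1 ≤ j ⁻¹ᵁ (W.1 ⊓ j.opensRange) := fun x hx => ⟨hx, ⟨x, rfl⟩⟩
  have hle' : j ⁻¹ᵁ (W.1 ⊓ j.opensRange) ≤ j ⁻¹ᵁ W.1 := fun x hx => hx.1
  exact res_injective_of_ge hle' hge (h4.symm.trans (map_zero _).symm)

include hpb in
/-- **Base change over a field preserves scheme-theoretic dominance of open immersions**
(no quasi-compactness). -/
theorem dominant_of_isPullback [IsSchemeTheoreticallyDominant j] :
    IsSchemeTheoreticallyDominant j' := by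
  rw [isSchemeTheoreticallyDominant_iff]
  have hc : ∀ VT : T.affineOpens, cSheaf (k := k) j'.ker VT = ⊥ := by
    intro VT
    have hle : cSheaf (k := k) j'.ker VT ≤ j.ker :=
      Scheme.IdealSheafData.le_ofIdeals_iff.mpr (fun W => cIdeal_le_ker j f' j' hpb VT W)
    rw [j.ker_eq_bot] at hle
    exact le_bot_iff.mp hle
  refine Scheme.IdealSheafData.ext_of_iSup_eq_top
    (fun i : Y.affineOpens × T.affineOpens => VV (k := k) i.1 i.2) ?_ ?_
  · rw [eq_top_iff]
    intro x _
    obtain ⟨W, hW, hxW, -⟩ := Opens.isBasis_iff_nbhd.mp Y.isBasis_affineOpens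
      (show (pullback.fst (Y ↘ Spec (CommRingCat.of k)) (T ↘ Spec (CommRingCat.of k))) x ∈
        (⊤ : Y.Opens) from trivial)
    obtain ⟨VT, hVT, hxT, -⟩ := Opens.isBasis_iff_nbhd.mp T.isBasis_affineOpens
      (show (pullback.snd (Y ↘ Spec (CommRingCat.of k)) (T ↘ Spec (CommRingCat.of k))) x ∈
        (⊤ : T.Opens) from trivial)
    refine Opens.mem_iSup.mpr ⟨(⟨W, hW⟩, ⟨VT, hVT⟩), ?_⟩
    change x ∈ Set.range (ch (k := k) ⟨W, hW⟩ ⟨VT, hVT⟩)
    unfold ch
    rw [range_chart, hW.range_fromSpec, hVT.range_fromSpec]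
    exact ⟨hxW, hxT⟩
  · rintro ⟨W, VT⟩
    rw [Scheme.IdealSheafData.ideal_bot, Pi.bot_apply]
    have h1 : cIdeal (k := k) j'.ker VT W = ⊥ := by
      have h := congrArg (fun I : Y.IdealSheafData => I.ideal W) (hc VT)
      exact h
    have h2 := eq_bot_of_coeffIdeal_eq_bot _ h1
    rw [eq_bot_iff]
    intro y hy
    have h3 : phi (k := k) W VT y ∈ Ideal.map (phi (k := k) W VT)
        (j'.ker.ideal (VV (k := k) W VT)) := Ideal.mem_map_of_mem _ hy
    rw [h2, Ideal.mem_bot] at h3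
    exact (Ideal.mem_bot).mpr (phi_injective W VT (h3.trans (map_zero _).symm))

end Main

end Groth.Agent.H25.DomBC
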