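import Mathlib
import Groth.Prelude.Def_Magnet
import Groth.Agent.H25.DXDefs
import Groth.Agent.H25.DomBC
import Groth.Agent.H91.UnitsDense
import Groth.Agent.H91.SchDom
import Groth.Agent.H58.DX1
import Groth.Agent.H64.DX3
import Groth.Agent.H27.DX5
import Groth.Agent.H25.DX2
import Groth.Agent.H25.DX4

/-!
# Representability of equivariant maps out of `M ⊗ -` into an affine `G`-scheme (S18955, helper25)
-/

open CategoryTheory AlgebraicGeometry TensorProduct MonoidalCategory CartesianMonoidalCategory MonObj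
  Opposite Limits
open Magnet Magnet.MonAct
open Groth.Agent.H25.DXDefs
open Groth.Agent.H58.DX1 Groth.Agent.H64.DX3 Groth.Agent.H27.DX5 Groth.Agent.H25.DX2 Groth.Agent.H25.DX4

universe u

namespace Groth.Agent.H25.DXAsm

attribute [local instance] Groth.Agent.H25.DXDefs.algTop

variable {k : Type u} [Field k]

theorem dense_whisker' {G M : Over (Spec (CommRingCat.of k))} (i : G ⟶ M)
    [IsOpenImmersion i.left] [IsSchemeTheoreticallyDominant i.left]
    (T : Over (Spec (CommRingCat.of k))) :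
    IsSchemeTheoreticallyDominant (i ▷ T).left := by
  letI : M.left.Over (Spec (CommRingCat.of k)) := ⟨M.hom⟩
  letI : T.left.Over (Spec (CommRingCat.of k)) := ⟨T.hom⟩
  exact Groth.Agent.H25.DomBC.dominant_of_isPullback i.left
    (Limits.pullback.fst G.hom T.hom) (i ▷ T).left
    (Groth.Agent.H91.UnitsDense.isPullback_whisker i T)

lemma star_whiskerLeft_Psi (Y : Over (Spec (CommRingCat.of k)))
    {T T' : Over (Spec (CommRingCat.of k))} (v : T ⟶ T')
    (z : Γ(Y.left, ⊤) ⊗[k] Γ(T'.left, ⊤)) :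
    star (Y ◁ v) (Psi Y T' z) =
      Psi Y T (Algebra.TensorProduct.map (AlgHom.id k Γ(Y.left, ⊤)) (star v) z) := by
  have h := Psi_natural (𝟙 Y) v
  rw [id_tensorHom, star_id] at h
  exact congrArg (fun φ => φ z) h

lemma star_whiskerRight_Psi {Y Y' : Over (Spec (CommRingCat.of k))} (u : Y ⟶ Y')
    (T : Over (Spec (CommRingCat.of k))) (z : Γ(Y'.left, ⊤) ⊗[k] Γ(T.left, ⊤)) :
    star (u ▷ T) (Psi Y' T z) =
      Psi Y T (Algebra.TensorProduct.map (star u) (AlgHom.id k Γ(T.left, ⊤)) z) := by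
  have h := Psi_natural u (𝟙 T)
  rw [tensorHom_id, star_id] at h
  exact congrArg (fun φ => φ z) h

section Crit

variable {M G X : Over (Spec (CommRingCat.of k))} [IsAffine M.left] [IsAffine G.left]
  [IsAffine X.left]

/-- the coaction `Γ(X) → Γ(G) ⊗ Γ(X)` of a morphism `G ⊗ X ⟶ X`. -/
noncomputable def co (act : G ⊗ X ⟶ X) :
    Γ(X.left, ⊤) →ₐ[k] Γ(G.left, ⊤) ⊗[k] Γ(X.left, ⊤) :=
  ((AlgEquiv.ofBijective (Psi G X) (Psi_bijective G X)).symm :
    Γ((G ⊗ X).left, ⊤) →ₐ[k] Γ(G.left, ⊤) ⊗[k] Γ(X.left, ⊤)).comp (star act)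

lemma Psi_co (act : G ⊗ X ⟶ X) (b : Γ(X.left, ⊤)) : Psi G X (co act b) = star act b := by
  unfold co
  exact AlgEquiv.ofBijective_apply_symm_apply (Psi G X) (Psi_bijective G X) (star act b)

theorem crit (i : G ⟶ M) (act : G ⊗ X ⟶ X) (I : Ideal Γ(X.left, ⊤))
    (hI : ∀ (R : Type u) [CommRing R] [Algebra k R] (ξ : Γ(X.left, ⊤) →ₐ[k] R),
      I ≤ RingHom.ker ξ ↔ ∀ b : Γ(X.left, ⊤),
        (Algebra.TensorProduct.map (AlgHom.id k Γ(G.left, ⊤)) ξ) (co act b) ∈
          Set.range (Algebra.TensorProduct.map (star i) (AlgHom.id k R)))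
    (T : Over (Spec (CommRingCat.of k))) [IsAffine T.left]
    [IsSchemeTheoreticallyDominant (i ▷ T).left] (x : T ⟶ X) :
    (∃ φ : M ⊗ T ⟶ X, (i ▷ T) ≫ φ = (G ◁ x) ≫ act) ↔ I ≤ RingHom.ker x.left.appTop.hom := by
  have hx := hI Γ(T.left, ⊤) (star x)
  have hker : I ≤ RingHom.ker (star x) ↔ I ≤ RingHom.ker x.left.appTop.hom := Iff.rfl
  rw [← hker, hx]
  constructor
  · rintro ⟨φ, hφ⟩ b
    have e1 : star (i ▷ T) (star φ b) = star (G ◁ x) (star act b) := by
      have h := congrArg (fun ψ => star ψ b) hφ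
      simpa only [star_comp, AlgHom.comp_apply] using h
    obtain ⟨c', hc'⟩ := (Psi_bijective M T).2 (star φ b)
    refine ⟨c', (Psi_bijective G T).1 ?_⟩
    rw [← star_whiskerRight_Psi, hc', e1, ← Psi_co, star_whiskerLeft_Psi]
  · intro hr
    have hex : ∃ φ₀ : (M ⊗ T).left ⟶ X.left,
        (i ▷ T).left ≫ φ₀ = ((G ◁ x) ≫ act).left := by
      rw [exists_ext_iff]
      intro b
      obtain ⟨c', hc'⟩ := hr b
      refine ⟨Psi M T c', ?_⟩
      have e2 : star (i ▷ T) (Psi M T c') = star (G ◁ x) (star act b) := by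
        rw [star_whiskerRight_Psi, hc', ← star_whiskerLeft_Psi, Psi_co]
      exact e2
    obtain ⟨φ₀, hφ₀⟩ := hex
    have hw : φ₀ ≫ X.hom = (M ⊗ T).hom := by
      apply cancel_dominant_affine (i ▷ T).left
      rw [← Category.assoc, hφ₀, Over.w, Over.w]
    exact ⟨Over.homMk φ₀ hw, by ext1; exact hφ₀⟩

end Crit

section Main

variable (M G X : Over (Spec (CommRingCat.of k))) [MonObj M] [MonObj G] [IsAffine M.left]
  [IsAffine G.left] [IsAffine X.left] (i : G ⟶ M) [IsMonHom i] [IsOpenImmersion i.left]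
  [IsSchemeTheoreticallyDominant i.left] (α : MonAct G X)

set_option quotPrecheck false in
local notation "FF" => eqvHom ((regular M).restrict i) α
set_option quotPrecheck false in
local notation "ev" => eqvHom.evalAt ((regular M).restrict i) α η[M]

omit [IsAffine M.left] [IsAffine G.left] [IsAffine X.left] [IsOpenImmersion i.left]
  [IsSchemeTheoreticallyDominant i.left] in
lemma ev_natural {T T' : Over (Spec (CommRingCat.of k))} (t : T' ⟶ T) (φ : (FF).obj (op T)) :
    (ev).app (op T') ((FF).map t.op φ) = t ≫ (ev).app (op T) φ := by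
  change lift (toUnit T' ≫ η[M]) (𝟙 T') ≫ (M ◁ t) ≫ φ.1 =
    t ≫ lift (toUnit T ≫ η[M]) (𝟙 T) ≫ φ.1
  rw [lift_whiskerLeft_assoc, ← Category.assoc t, comp_lift, Category.comp_id, Category.id_comp,
    ← Category.assoc t, toUnit_unique (t ≫ toUnit T) (toUnit T')]

theorem main :
    ∃ (Z : Over (Spec (CommRingCat.of k))) (j : Z ⟶ X) (e : (FF).RepresentableBy Z),
      IsClosedImmersion j.left ∧
      ∀ (T : Over (Spec (CommRingCat.of k))) (z : T ⟶ Z),
        (ev).app (op T) (e.homEquiv z) = z ≫ j := by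
  have hd : ∀ T : Over (Spec (CommRingCat.of k)), IsSchemeTheoreticallyDominant (i ▷ T).left :=
    fun T => dense_whisker' i T
  haveI : IsSeparated X.hom := inferInstance
  obtain ⟨I, hI⟩ := exists_ideal_forall_le_ker_iff (star i) (co α.act)
  obtain ⟨Z₀, j₀, hZaff, hjcl, hIj, hfac⟩ := exists_closed_of_ideal (X := X.left) I
  let Z : Over (Spec (CommRingCat.of k)) := Over.mk (j₀ ≫ X.hom)
  let j : Z ⟶ X := Over.homMk j₀ rfl
  haveI : IsAffine Z.left := hZaff
  haveI : IsClosedImmersion j.left := hjcl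
  haveI : Mono j := by
    haveI : Mono j.left := inferInstance
    exact Over.mono_of_mono_left j
  haveI := hd Z
  obtain ⟨φZ, hφZ⟩ : ∃ φ : (FF).obj (op Z), (ev).app (op Z) φ = j :=
    (mem_range_evalAt_iff i hd α Z j).mpr ((crit i α.act I hI Z j).mpr hIj)
  have fac : ∀ (T : Over (Spec (CommRingCat.of k))) (φ : (FF).obj (op T)),
      ∃ z : T ⟶ Z, z ≫ j = (ev).app (op T) φ := by
    intro T φ
    obtain ⟨z₀, hz₀⟩ := hfac ((ev).app (op T) φ).left (fun V v hV hv => by
      let TV : Over (Spec (CommRingCat.of k)) := Over.mk (v ≫ T.hom)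
      let vv : TV ⟶ T := Over.homMk v rfl
      haveI : IsAffine TV.left := hV
      haveI := hd TV
      have h1 : ∃ φ' : (FF).obj (op TV), (ev).app (op TV) φ' = vv ≫ (ev).app (op T) φ :=
        ⟨(FF).map vv.op φ, ev_natural M G X i α vv φ⟩
      exact (crit i α.act I hI TV (vv ≫ (ev).app (op T) φ)).mp
        ((mem_range_evalAt_iff i hd α TV _).mp h1))
    refine ⟨Over.homMk z₀ ?_, ?_⟩
    · change z₀ ≫ j₀ ≫ X.hom = T.hom
      rw [← Category.assoc, hz₀, Over.w]
    · ext1
      exact hz₀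
  choose zf hzf using fac
  have hleft : ∀ (T : Over (Spec (CommRingCat.of k))) (z : T ⟶ Z),
      zf T ((FF).map z.op φZ) = z := by
    intro T z
    apply (cancel_mono j).mp
    rw [hzf, ev_natural, hφZ]
  have hright : ∀ (T : Over (Spec (CommRingCat.of k))) (φ : (FF).obj (op T)),
      (FF).map (zf T φ).op φZ = φ := by
    intro T φ
    apply evalAt_injective i hd α T
    rw [ev_natural, hφZ, hzf]
  let e : (FF).RepresentableBy Z :=
    { homEquiv := fun {T} =>
        { toFun := fun z => (FF).map z.op φZ,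
          invFun := fun φ => zf T φ,
          left_inv := hleft T,
          right_inv := hright T },
      homEquiv_comp := by
        intro T T' f g
        change (FF).map (f ≫ g).op φZ = (FF).map f.op ((FF).map g.op φZ)
        rw [op_comp, Functor.map_comp]
        rfl }
  refine ⟨Z, j, e, hjcl, ?_⟩
  intro T z
  change (ev).app (op T) ((FF).map z.op φZ) = z ≫ j
  rw [ev_natural, hφZ]

end Main

end Groth.Agent.H25.DXAsm
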