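import Mathlib
import Groth.Prelude
import Groth.Agent.H52.DecentTop
import Groth.Agent.H50.Basic
import Groth.Agent.H25.AlgSpDim2
import Groth.Agent.H25.AlgSpLocalDim

/-!
# Finite morphisms of decent algebraic spaces: lifting specializations, incomparability (helper25)

* `exists_pt_of_isPullback_chart`: points of a scheme representing a fibre product `h_V ×_X Y`.
* `exists_specializes_of_isFiniteMor`: specializations lift along finite morphisms to a decent space.
* `eq_of_specializes_of_isFiniteMor`: no nontrivial specializations in the fibres of a finite morphism of decent spaces.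
* `isDimFun_of_finite_surjective` (S10406).
-/

set_option autoImplicit false
set_option maxHeartbeats 400000
set_option linter.style.haveILetI false
set_option linter.unusedVariables false
set_option linter.unusedSectionVars false

universe u

open CategoryTheory CategoryTheory.Limits AlgebraicGeometry TopologicalSpace AlgSp

namespace Groth.Agent.H25.DimFunFinite

open Groth.Agent.H52

variable {S : Scheme.{u}}

theorem exists_pt_of_isPullback_chart {Y X : Sp S} {f : Y ⟶ X} {V W : Over S}
    {β : (yon S).obj V ⟶ X} {i : W ⟶ V} {fst : (yon S).obj W ⟶ Y}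
    (sq : IsPullback fst ((yon S).map i) f β) (y : Points Y) (v : ↥V.left)
    (h : Points.map f y = Points.ofPt β v) :
    ∃ w : ↥W.left, Points.ofPt fst w = y ∧ i.left w = v := by
  rw [Points.ofPt_eq_map_ofScheme] at h
  obtain ⟨z, hz1, hz2⟩ := exists_point_of_isPullback sq y (Points.ofScheme V v) h
  obtain ⟨w, rfl⟩ := (Points.schemeEquiv W).surjective z
  change Points.map _ (Points.ofScheme W w) = _ at hz1
  change Points.map _ (Points.ofScheme W w) = _ at hz2
  rw [map_yon_map_ofScheme] at hz2
  refine ⟨w, ?_, ofScheme_injective V hz2⟩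
  rw [Points.ofPt_eq_map_ofScheme]
  exact hz1

/-- An affine etale chart through a given point of an algebraic space. -/
theorem exists_affine_chart_at' {X : Sp S} (hXa : IsAlgSpace X) (x : Points X) :
    ∃ (V : Over S) (β : (yon S).obj V ⟶ X) (v : ↥V.left), IsAffine V.left ∧ RepWith @Etale β ∧
      Points.ofPt β v = x := by
  obtain ⟨V₁, β₁, hβ₁, hs₁⟩ := hXa.atlas
  obtain ⟨v₁, hv₁⟩ := surjective_ofPt_of_surjective β₁ hs₁ x
  obtain ⟨V, β, v, hV, hβ, hv⟩ := Groth.Agent.H25.AlgSpDim2.exists_affine_chart β₁ hβ₁ v₁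
  exact ⟨V, β, v, hV, hβ, hv.trans hv₁⟩

/-- Specializations lift along finite morphisms to a decent algebraic space. -/
theorem exists_specializes_of_isFiniteMor {Y X : Sp S} (hXa : IsAlgSpace X) (hX : IsDecent X)
    (f : Y ⟶ X) (hf : IsFiniteMor f) {a b : Points X} (hab : a ⤳ b) (a' : Points Y)
    (ha' : Points.map f a' = a) : ∃ b' : Points Y, a' ⤳ b' ∧ Points.map f b' = b := by
  obtain ⟨V, β, vb, hV, hβ, hvb⟩ := exists_affine_chart_at' hXa b
  obtain ⟨p, hp, -, hq⟩ := hX a
  have hsp : Points.mk p ⤳ b := by rw [hp]; exact hab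
  obtain ⟨va, hvas, hvap⟩ := exists_generization_of_specializes b p hsp hq β hβ vb hvb
  have hva : Points.ofPt β va = a := hvap.trans hp
  obtain ⟨W, i, fst, sq, hW, hfin⟩ := hf hV β
  obtain ⟨wa, hwa1, hwa2⟩ := exists_pt_of_isPullback_chart sq a' va (by rw [ha', hva])
  haveI := hfin
  have hclosed : IsClosedMap i.left := i.left.isClosedMap
  have hmem : vb ∈ i.left '' closure {wa} := by
    have h1 : IsClosed (i.left '' closure {wa}) := hclosed _ isClosed_closure
    have h2 : va ∈ i.left '' closure {wa} := ⟨wa, subset_closure rfl, hwa2⟩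
    exact hvas.mem_closed h1 h2
  obtain ⟨wb, hwb1, hwb2⟩ := hmem
  have hws : wa ⤳ wb := specializes_iff_mem_closure.mpr hwb1
  refine ⟨Points.ofPt fst wb, ?_, ?_⟩
  · rw [← hwa1]
    exact hws.map (Points.continuous_ofPt fst)
  · rw [Points.map_ofPt, sq.w, ofPt_yon_map_comp, hwb2, hvb]

/-- There are no nontrivial specializations in the fibres of a finite morphism of decent algebraic spaces. -/
theorem eq_of_specializes_of_isFiniteMor {Y X : Sp S} (hXa : IsAlgSpace X) (hX : IsDecent X)
    (hY : IsDecent Y) (f : Y ⟶ X) (hf : IsFiniteMor f) {a' c' : Points Y} (hs : a' ⤳ c')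
    (he : Points.map f a' = Points.map f c') : a' = c' := by
  obtain ⟨V, β, v, hV, hβ, hv⟩ := exists_affine_chart_at' hXa (Points.map f c')
  obtain ⟨W, i, fst, sq, hW, hfin⟩ := hf hV β
  have hfst : RepWith @Etale fst := Groth.Agent.H50.repWith_fst_of_isPullback sq hβ
  obtain ⟨wc, hwc1, hwc2⟩ := exists_pt_of_isPullback_chart sq c' v hv.symm
  obtain ⟨p, hp, -, hq⟩ := hY a'
  have hsp : Points.mk p ⤳ c' := by rw [hp]; exact hs
  obtain ⟨wa, hwas, hwap⟩ := exists_generization_of_specializes c' p hsp hq fst hfst wc hwc1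
  have hwa : Points.ofPt fst wa = a' := hwap.trans hp
  have hvs : i.left wa ⤳ i.left wc := hwas.map i.left.continuous
  have hva : Points.ofPt β (i.left wa) = Points.ofPt β (i.left wc) := by
    rw [← ofPt_yon_map_comp, ← ofPt_yon_map_comp, ← sq.w, ← Points.map_ofPt, ← Points.map_ofPt,
      hwa, hwc1, he]
  have hveq : i.left wc = i.left wa :=
    eq_of_specializes_of_isDecent hX β hβ (i.left wc) (i.left wa) hva.symm hvs
  haveI := hfin
  have hweq : wa = wc :=
    Groth.Agent.H25.AlgSpLocalDim.eq_of_specializes_of_locallyQuasiFinite i.left hwas hveq.symm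
  rw [← hwa, ← hwc1, hweq]

/-- S10406. -/
theorem isDimFun_of_finite_surjective {Y X : Sp S} (hXa : IsAlgSpace X) (f : Y ⟶ X)
    (hf : IsFiniteMor f) (hs : IsSurjectiveMor f) (hX : IsDecent X) (hY : IsDecent Y)
    (δ : Points X → ℤ)
    (hδ : ∀ a b : Points Y, a ⤳ b → a ≠ b →
      (δ ∘ Points.map f) b < (δ ∘ Points.map f) a ∧
        ((∀ c : Points Y, a ⤳ c → c ⤳ b → c = a ∨ c = b) →
          (δ ∘ Points.map f) a = (δ ∘ Points.map f) b + 1)) :
    ∀ a b : Points X, a ⤳ b → a ≠ b → δ b < δ a ∧
      ((∀ c : Points X, a ⤳ c → c ⤳ b → c = a ∨ c = b) → δ a = δ b + 1) := by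
  intro a b hab hne
  obtain ⟨a', ha'⟩ := hs a
  obtain ⟨b', hab', hb'⟩ := exists_specializes_of_isFiniteMor hXa hX f hf hab a' ha'
  have hne' : a' ≠ b' := by
    intro h
    apply hne
    rw [← ha', ← hb', h]
  obtain ⟨h1, h2⟩ := hδ a' b' hab' hne'
  refine ⟨?_, fun himm => ?_⟩
  · simpa only [Function.comp_apply, ha', hb'] using h1
  · have h3 := h2 (fun c' hc1 hc2 => by
      have hc1' : a ⤳ Points.map f c' := by
        rw [← ha']
        exact hc1.map (Points.continuous_map f)
      have hc2' : Points.map f c' ⤳ b := by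
        rw [← hb']
        exact hc2.map (Points.continuous_map f)
      rcases himm _ hc1' hc2' with hc | hc
      · left
        exact (eq_of_specializes_of_isFiniteMor hXa hX hY f hf hc1 (ha'.trans hc.symm)).symm
      · right
        exact eq_of_specializes_of_isFiniteMor hXa hX hY f hf hc2 (hc.trans hb'.symm))
    simpa only [Function.comp_apply, ha', hb'] using h3

end Groth.Agent.H25.DimFunFinite
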