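import Mathlib
import Groth.Prelude
import Groth.Agent.H52.DecentTop
import Groth.Agent.H60.DimFunX

/-!
# The induced dimension function on a decent algebraic space (helper25)

`isDimFun_points` (S10443).
-/

set_option autoImplicit false
set_option maxHeartbeats 400000
set_option linter.style.haveILetI false
set_option linter.unusedVariables false
set_option linter.unusedSectionVars false

universe u

open CategoryTheory CategoryTheory.Limits AlgebraicGeometry TopologicalSpace AlgSp

namespace Groth.Agent.H25.DimFunSp

open Groth.Agent.H52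

variable {S : Scheme.{u}}

/-- S10443. -/
theorem isDimFun_points (δ : ↥S → ℤ) (hS : Cyc.IsSetup S δ) {X : Sp S} (hX : IsDecent X)
    {U : Over S} (a : (yon S).obj U ⟶ X) (ha : RepWith @Etale a) (hs : RepWith @Surjective a)
    [LocallyOfFiniteType U.hom] (δX : Points X → ℤ)
    (hδ : Cyc.DeltaCompat U.hom (δX ∘ Points.ofPt a) δ) :
    ∀ x y : Points X, x ⤳ y → x ≠ y →
      δX y < δX x ∧ ((∀ z : Points X, x ⤳ z → z ⤳ y → z = x ∨ z = y) → δX x = δX y + 1) := by
  have hdim : Cyc.IsDimFun U.left (δX ∘ Points.ofPt a) :=
    Groth.Agent.H60.DimFunX.isDimFun_induced U.hom δ hS _ hδ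
  intro x y hxy hne
  obtain ⟨uy, huy⟩ := surjective_ofPt_of_surjective a hs y
  obtain ⟨p, hp, -, hq⟩ := hX x
  have hsp : Points.mk p ⤳ y := by rw [hp]; exact hxy
  obtain ⟨ux, huxs, huxp⟩ := exists_generization_of_specializes y p hsp hq a ha uy huy
  have hux : Points.ofPt a ux = x := huxp.trans hp
  have hne' : ux ≠ uy := by
    intro h
    apply hne
    rw [← hux, ← huy, h]
  obtain ⟨h1, h2⟩ := hdim ux uy huxs hne'
  refine ⟨?_, fun himm => ?_⟩
  · have := h1
    simp only [Function.comp_apply, hux, huy] at this
    exact this
  · have h3 := h2 (fun z' hz1 hz2 => by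
      have hz1' : x ⤳ Points.ofPt a z' := by
        rw [← hux]
        exact hz1.map (Points.continuous_ofPt a)
      have hz2' : Points.ofPt a z' ⤳ y := by
        rw [← huy]
        exact hz2.map (Points.continuous_ofPt a)
      rcases himm _ hz1' hz2' with hz | hz
      · left
        exact eq_of_specializes_of_isDecent hX a ha z' ux (hz.trans hux.symm) hz1
      · right
        exact (eq_of_specializes_of_isDecent hX a ha uy z' (huy.trans hz.symm) hz2).symm)
    simp only [Function.comp_apply, hux, huy] at h3
    exact h3

end Groth.Agent.H25.DimFunSp
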