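import Mathlib
import Groth.Prelude.Def_PBC
set_option autoImplicit false
universe u
open CategoryTheory CategoryTheory.Limits AlgebraicGeometry Topology

/-! Q2 for helper24's S0130 squad: the source of an immersion with constructible range into a
qcqs scheme is qcqs. -/

namespace Groth.Agent.H25.EtCons_Q2

/-- Constructible subsets of a compact space are compact. -/
theorem isCompact_of_isConstructible {X : Type*} [TopologicalSpace X] [CompactSpace X]
    {s : Set X} (hs : Topology.IsConstructible s) : IsCompact s := by
  induction s, hs using BooleanSubalgebra.closure_sdiff_sup_induction with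
  | isSublattice =>
    exact ⟨fun s hs t ht ↦ ⟨hs.1.union ht.1, hs.2.union ht.2⟩,
      fun s hs t ht ↦ ⟨hs.1.inter ht.1, hs.2.inter_isOpen ht.2 ht.1⟩⟩
  | bot_mem => exact ⟨isOpen_empty, .empty⟩
  | top_mem => exact ⟨isOpen_univ, .univ⟩
  | sdiff U hU V hV => exact hU.2.isCompact.diff hV.1
  | sup s _ t _ hs' ht' => exact hs'.union ht'

theorem qcqs_of_immersion {X T : Scheme.{u}} [CompactSpace X] [QuasiSeparatedSpace X] (g : T ⟶ X) [IsImmersion g] (hR : Topology.IsConstructible (Set.range g)) : CompactSpace T ∧ QuasiSeparatedSpace T := by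
  refine ⟨?_, ?_⟩
  · have hc : IsCompact (Set.range g) := isCompact_of_isConstructible hR
    have hemb : Topology.IsEmbedding g := g.isEmbedding
    rw [← isCompact_univ_iff, hemb.isCompact_iff, Set.image_univ]
    exact hc
  · exact quasiSeparatedSpace_of_quasiSeparated g

end Groth.Agent.H25.EtCons_Q2
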