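import Mathlib
import Groth.Prelude
import Groth.Agent.H25.GlobSec

/-!
# Subsheaves of the final object of the small etale topos and open subsets of `|X|` (helper25)
-/

set_option autoImplicit false
set_option maxHeartbeats 400000
set_option linter.style.haveILetI false
set_option linter.unusedVariables false
set_option linter.unusedSectionVars false

universe u

open CategoryTheory CategoryTheory.Limits AlgebraicGeometry TopologicalSpace AlgSp Opposite

namespace Groth.Agent.H25.EtSubterminal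

open Groth.Agent.H25.GlobSec

variable {S : Scheme.{u}}

/-- Two objects of the small etale site with points over the same point of `X` have a common
refinement with a point over both. -/
theorem exists_common_refinement {X : Sp S} (E E' : EtOver X) (u : ↥E.obj.left.left)
    (u' : ↥E'.obj.left.left) (h : Points.ofPt (str E) u = Points.ofPt (str E') u') :
    ∃ (E'' : EtOver X) (g₁ : E'' ⟶ E) (g₂ : E'' ⟶ E') (p : ↥E''.obj.left.left),
      g₁.hom.left.left p = u ∧ g₂.hom.left.left p = u' := by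
  obtain ⟨P, ψ, fst, sq⟩ := E.property.1 (str E')
  obtain ⟨φ, rfl⟩ := (yon S).map_surjective fst
  haveI hφ : Etale φ.left := E'.property.2 _ _ _ sq.flip
  obtain ⟨p, hp1, hp2⟩ := Groth.Agent.H52.exists_of_ofPt_eq_ofPt sq u u' h
  have h4 := AlgSp.repWith_isMultiplicative (S := S) @Etale
  have hE'' : RepWith @Etale ((yon S).map φ ≫ str E) :=
    (RepWith @Etale).comp_mem _ _ ((repWith_yon_map_iff @Etale φ).2 hφ) E.property
  exact ⟨EtOver.mk ((yon S).map φ ≫ str E) hE'', EtOver.homMk φ rfl, EtOver.homMk ψ sq.w.symm,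
    p, hp1, hp2⟩

/-- The open subset of `|X|` attached to a sheaf of sets. -/
def openOf {X : Sp S} (F : EtSh X (Type (u + 1))) : Set (Points X) :=
  ⋃ (E : EtOver X) (_ : Nonempty (F.obj.obj (op E))), Set.range (Points.ofPt (str E))

theorem isOpen_openOf {X : Sp S} (F : EtSh X (Type (u + 1))) : IsOpen (openOf F) :=
  isOpen_iUnion fun E => isOpen_iUnion fun _ =>
    (Groth.Agent.H52.isOpenMap_ofPt_of_etale (str E) E.property).isOpen_range

theorem nonempty_of_range_subset {X : Sp S} (F : EtSh X (Type (u + 1)))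
    (hF : ∀ E : EtOver X, Subsingleton (F.obj.obj (op E))) (E : EtOver X)
    (h : Set.range (Points.ofPt (str E)) ⊆ openOf F) : Nonempty (F.obj.obj (op E)) := by
  have key : ∀ u : ↥E.obj.left.left, ∃ (E'' : EtOver X) (g₁ : E'' ⟶ E),
      Nonempty (F.obj.obj (op E'')) ∧ u ∈ Set.range g₁.hom.left.left := by
    intro u
    have hu : Points.ofPt (str E) u ∈ openOf F := h ⟨u, rfl⟩
    obtain ⟨E', hE', hmem⟩ := Set.mem_iUnion₂.mp hu
    obtain ⟨u', hu'⟩ := hmem
    obtain ⟨E'', g₁, g₂, p, hp1, hp2⟩ := exists_common_refinement E E' u u' hu'.symm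
    obtain ⟨s⟩ := hE'
    exact ⟨E'', g₁, ⟨F.obj.map g₂.op s⟩, ⟨p, hp1⟩⟩
  choose Y g hne hcov using key
  have hR : Sieve.ofArrows Y g ∈ etTop X E := ofArrows_mem_etTop Y g (fun x => ⟨x, hcov x⟩)
  have hsh : Presieve.IsSheafFor F.obj (Sieve.ofArrows Y g).arrows :=
    ((isSheaf_iff_isSheaf_of_type _ _).mp F.property) _ hR
  have hne' : ∀ ⦃V : EtOver X⦄ (f : V ⟶ E), (Sieve.ofArrows Y g).arrows f →
      Nonempty (F.obj.obj (op V)) := by
    intro V f hf
    obtain ⟨i, a, rfl⟩ := (Sieve.mem_ofArrows_iff Y g f).mp hf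
    obtain ⟨s⟩ := hne i
    exact ⟨F.obj.map a.op s⟩
  let x : Presieve.FamilyOfElements F.obj (Sieve.ofArrows Y g).arrows :=
    fun V f hf => (hne' f hf).some
  have hx : x.Compatible := by
    intro Y₁ Y₂ Z g₁ g₂ f₁ f₂ h₁ h₂ _
    exact (hF Z).elim _ _
  obtain ⟨t, -, -⟩ := hsh x hx
  exact ⟨t⟩

/-- S10230. -/
theorem existsUnique_open {X : Sp S} (hX : IsAlgSpace X) (F : EtSh X (Type (u + 1)))
    (hF : ∀ E : EtOver X, Subsingleton (F.obj.obj (op E))) :
    ∃! W : Set (Points X), IsOpen W ∧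
      ∀ E : EtOver X, Nonempty (F.obj.obj (op E)) ↔
        Set.range (Points.ofPt E.obj.hom) ⊆ W := by
  have hprop : ∀ E : EtOver X, Nonempty (F.obj.obj (op E)) ↔
      Set.range (Points.ofPt E.obj.hom) ⊆ openOf F := by
    intro E
    constructor
    · intro hE x hx
      exact Set.mem_iUnion₂.mpr ⟨E, hE, hx⟩
    · exact nonempty_of_range_subset F hF E
  refine ⟨openOf F, ⟨isOpen_openOf F, hprop⟩, ?_⟩
  rintro W' ⟨hW'o, hW'⟩
  apply Set.Subset.antisymm
  · intro x hx
    obtain ⟨U₀, a, hae, has⟩ := hX.atlas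
    obtain ⟨u₀, rfl⟩ := Groth.Agent.H52.surjective_ofPt_of_surjective a has x
    let O : U₀.left.Opens := ⟨Points.ofPt a ⁻¹' W', hW'o.preimage (Points.continuous_ofPt a)⟩
    let j : Over.mk (O.ι ≫ U₀.hom) ⟶ U₀ := Over.homMk O.ι rfl
    have hj : RepWith @Etale ((yon S).map j) :=
      (repWith_yon_map_iff @Etale j).2 (by change Etale O.ι; infer_instance)
    have h4 := AlgSp.repWith_isMultiplicative (S := S) @Etale
    let E₀ : EtOver X := EtOver.mk ((yon S).map j ≫ a) ((RepWith @Etale).comp_mem _ _ hj hae)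
    have hpt : ∀ v : ↥O, Points.ofPt E₀.obj.hom v = Points.ofPt a v.1 := by
      intro v
      have h5 := Groth.Agent.H52.ofPt_yon_map_comp j a v
      exact h5.trans (congrArg (Points.ofPt a) rfl)
    have hsub : Set.range (Points.ofPt E₀.obj.hom) ⊆ W' := by
      rintro _ ⟨v, rfl⟩
      rw [hpt v]
      exact v.2
    have hne : Nonempty (F.obj.obj (op E₀)) := (hW' E₀).mpr hsub
    have hsub2 := (hprop E₀).mp hne
    apply hsub2
    exact ⟨⟨u₀, hx⟩, hpt ⟨u₀, hx⟩⟩
  · intro x hx
    obtain ⟨E, hE, hmem⟩ := Set.mem_iUnion₂.mp hx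
    exact (hW' E).mp hE hmem

end Groth.Agent.H25.EtSubterminal
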