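import Mathlib
import Groth.Prelude.Def_Magnet3
import Groth.Agent.H50.ClosedDescSch

/-!
# Descent of the closed fixed-point locus along an étale surjective fixed-point-reflecting
equivariant morphism (helper25, for S18299)
-/

set_option autoImplicit false

universe u

open CategoryTheory Limits AlgebraicGeometry MonoidalCategory CartesianMonoidalCategory MonObj Opposite
open Magnet Magnet.MonAct

namespace Groth.Agent.H25.FPRDesc

variable {S : Scheme.{u}} {A : Over S} [MonObj A]

/-- fixedness of a `T`-point (the membership predicate of `fixedPsh`). -/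
def Fix {X : Over S} (a : MonAct A X) {T : Over S} (x : T ⟶ X) : Prop :=
  ∀ (T' : Over S) (t : T' ⟶ T) (g : T' ⟶ A), lift g (t ≫ x) ≫ a.act = t ≫ x

lemma Fix.comp {X : Over S} (a : MonAct A X) {T T' : Over S} (t : T' ⟶ T) {x : T ⟶ X}
    (h : Fix a x) : Fix a (t ≫ x) := by
  intro T'' t' g
  rw [← Category.assoc, h T'' (t' ≫ t) g]

/-- fixedness descends along a flat surjective morphism. -/
lemma Fix.of_cover {X : Over S} (a : MonAct A X) {T TT : Over S} (π : TT ⟶ T) [Flat π.left]
    [Surjective π.left] {x : T ⟶ X} (h : Fix a (π ≫ x)) : Fix a x := by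
  intro T'' t g
  let q : pullback t.left π.left ⟶ T''.left := pullback.fst t.left π.left
  let t' : pullback t.left π.left ⟶ TT.left := pullback.snd t.left π.left
  have hq : Epi q := Flat.epi_of_flat_of_surjective q
  let VV : Over S := Over.mk (q ≫ T''.hom)
  let qo : VV ⟶ T'' := Over.homMk q rfl
  let to' : VV ⟶ TT := Over.homMk t' (by
    change t' ≫ TT.hom = q ≫ T''.hom
    rw [← Over.w π, ← Category.assoc, ← pullback.condition, Category.assoc, Over.w t])
  have hsq : qo ≫ t = to' ≫ π := by
    ext1
    exact pullback.condition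
  have hql : Epi qo.left := hq
  have hqo : Epi qo := Over.epi_of_epi_left qo
  rw [← cancel_epi qo]
  have h1 := h VV to' (qo ≫ g)
  rw [← Category.assoc to', ← hsq, Category.assoc] at h1
  rw [← Category.assoc, comp_lift]
  exact h1

lemma fpr_iff {X U : Over S} (aX : MonAct A X) (aU : MonAct A U) (f : U ⟶ X)
    (hf : IsEquivariant aU aX f)
    (hfpr : IsPullback (fixedPsh.map f hf) (fixedPshι aU) (fixedPshι aX) (yoneda.map f))
    {T : Over S} (u : T ⟶ U) : Fix aU u ↔ Fix aX (u ≫ f) := by
  constructor
  · intro h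
    exact ((fixedPsh.map f hf).app (op T) ⟨u, h⟩).2
  · intro h
    obtain ⟨υ, -, h2⟩ := Types.exists_of_isPullback (hfpr.app (op T)) ⟨u ≫ f, h⟩ u rfl
    have h3 : υ.1 = u := h2
    rw [← h3]
    exact υ.2

lemma fix_iff_le_ker {U W' : Over S} (aU : MonAct A U) (i' : W' ⟶ U) [IsClosedImmersion i'.left]
    (e' : (fixedPsh aU).RepresentableBy W')
    (he' : ∀ (T : Over S) (w : T ⟶ W'), (fixedPshι aU).app (op T) (e'.homEquiv w) = w ≫ i')
    {T : Over S} (u : T ⟶ U) : Fix aU u ↔ i'.left.ker ≤ u.left.ker := by
  constructor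
  · intro h
    let ξ : (fixedPsh aU).obj (op T) := ⟨u, h⟩
    have hw : e'.homEquiv.symm ξ ≫ i' = u := by
      have h1 := he' T (e'.homEquiv.symm ξ)
      have h0 : e'.homEquiv (e'.homEquiv.symm ξ) = ξ := e'.homEquiv.apply_symm_apply ξ
      rw [h0] at h1
      exact h1.symm
    rw [← hw, Over.comp_left]
    exact Scheme.Hom.le_ker_comp _ _
  · intro h
    have hw₀ : IsClosedImmersion.lift i'.left u.left h ≫ i'.left = u.left :=
      IsClosedImmersion.lift_fac _ _ _
    let w : T ⟶ W' := Over.homMk (IsClosedImmersion.lift i'.left u.left h) (by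
      rw [← Over.w i', ← Category.assoc, hw₀, Over.w])
    have hw : w ≫ i' = u := by
      ext1
      exact hw₀
    have h1 := he' T w
    rw [hw] at h1
    have h3 : (e'.homEquiv w).1 = u := h1
    rw [← h3]
    exact (e'.homEquiv w).2

theorem main {X U : Over S} (aX : MonAct A X) (aU : MonAct A U) (f : U ⟶ X) [Etale f.left]
    [Surjective f.left] (hf : IsEquivariant aU aX f)
    (hfpr : IsPullback (fixedPsh.map f hf) (fixedPshι aU) (fixedPshι aX) (yoneda.map f))
    (hU : ∃ (W' : Over S) (i' : W' ⟶ U) (e' : (fixedPsh aU).RepresentableBy W'),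
      IsClosedImmersion i'.left ∧ ∀ (T : Over S) (w : T ⟶ W'),
        (fixedPshι aU).app (op T) (e'.homEquiv w) = w ≫ i') :
    ∃ (W : Over S) (i : W ⟶ X) (e : (fixedPsh aX).RepresentableBy W),
      IsClosedImmersion i.left ∧ ∀ (T : Over S) (w : T ⟶ W),
        (fixedPshι aX).app (op T) (e.homEquiv w) = w ≫ i := by
  obtain ⟨W', i', e', hi', he'⟩ := hU
  have K1 : ∀ {T : Over S} (u : T ⟶ U), Fix aU u ↔ i'.left.ker ≤ u.left.ker :=
    fun u => fix_iff_le_ker aU i' e' he' u
  have Kf : ∀ {T : Over S} (u : T ⟶ U), Fix aU u ↔ Fix aX (u ≫ f) :=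
    fun u => fpr_iff aX aU f hf hfpr u
  -- the descent condition
  have key : ∀ (T : Scheme.{u}) (g : T ⟶ pullback f.left f.left),
      i'.left.ker.comap (pullback.fst f.left f.left) ≤ g.ker ↔
        i'.left.ker.comap (pullback.snd f.left f.left) ≤ g.ker := by
    intro T g
    let TT : Over S := Over.mk (g ≫ pullback.fst f.left f.left ≫ U.hom)
    let u1 : TT ⟶ U := Over.homMk (g ≫ pullback.fst f.left f.left) (Category.assoc _ _ _)
    let u2 : TT ⟶ U := Over.homMk (g ≫ pullback.snd f.left f.left) (by
      change (g ≫ pullback.snd f.left f.left) ≫ U.hom = g ≫ pullback.fst f.left f.left ≫ U.hom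
      rw [← Over.w f, Category.assoc, ← pullback.condition_assoc])
    have h12 : u1 ≫ f = u2 ≫ f := by
      ext1
      change (g ≫ pullback.fst f.left f.left) ≫ f.left = (g ≫ pullback.snd f.left f.left) ≫ f.left
      rw [Category.assoc, Category.assoc, pullback.condition]
    rw [← Groth.Agent.H50.comap_eq_bot_iff_le_ker, ← Groth.Agent.H50.comap_eq_bot_iff_le_ker,
      ← Scheme.IdealSheafData.comap_comp, ← Scheme.IdealSheafData.comap_comp,
      Groth.Agent.H50.comap_eq_bot_iff_le_ker, Groth.Agent.H50.comap_eq_bot_iff_le_ker]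
    have e1 : Fix aU u1 ↔ Fix aU u2 := by
      rw [Kf u1, Kf u2, h12]
    exact (K1 u1).symm.trans (e1.trans (K1 u2))
  have hdesc : i'.left.ker.comap (pullback.fst f.left f.left) =
      i'.left.ker.comap (pullback.snd f.left f.left) := by
    apply le_antisymm
    · have h1 := (key _ (i'.left.ker.comap (pullback.snd f.left f.left)).subschemeι).mpr
        (by rw [Scheme.IdealSheafData.ker_subschemeι])
      rwa [Scheme.IdealSheafData.ker_subschemeι] at h1
    · have h1 := (key _ (i'.left.ker.comap (pullback.fst f.left f.left)).subschemeι).mp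
        (by rw [Scheme.IdealSheafData.ker_subschemeι])
      rwa [Scheme.IdealSheafData.ker_subschemeι] at h1
  obtain ⟨J, hJ⟩ := Groth.Agent.H50.exists_comap_eq_of_fppf f.left i'.left.ker hdesc
  -- the criterion on `X`
  have K4 : ∀ {T : Over S} (x : T ⟶ X), Fix aX x ↔ J ≤ x.left.ker := by
    intro T x
    let π : pullback x.left f.left ⟶ T.left := pullback.fst x.left f.left
    let u₀ : pullback x.left f.left ⟶ U.left := pullback.snd x.left f.left
    let TT : Over S := Over.mk (π ≫ T.hom)
    let πo : TT ⟶ T := Over.homMk π rfl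
    let uo : TT ⟶ U := Over.homMk u₀ (by
      change u₀ ≫ U.hom = π ≫ T.hom
      rw [← Over.w f, ← Category.assoc, ← pullback.condition, Category.assoc, Over.w x])
    have hsq : πo ≫ x = uo ≫ f := by
      ext1
      exact pullback.condition
    have hπfl : Flat πo.left := by
      change Flat (pullback.fst x.left f.left)
      infer_instance
    have hπsu : Surjective πo.left := by
      change Surjective (pullback.fst x.left f.left)
      infer_instance
    have s1 : Fix aX x ↔ Fix aX (πo ≫ x) := ⟨fun h => Fix.comp aX πo h, fun h => Fix.of_cover aX πo h⟩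
    have s2 : Fix aX (πo ≫ x) ↔ i'.left.ker ≤ u₀.ker := by
      rw [hsq, ← Kf uo]
      exact K1 uo
    have s3 : i'.left.ker ≤ u₀.ker ↔ (J.comap x.left).comap π = ⊥ := by
      rw [← hJ, ← Groth.Agent.H50.comap_eq_bot_iff_le_ker, ← Scheme.IdealSheafData.comap_comp,
        ← Scheme.IdealSheafData.comap_comp]
      have : u₀ ≫ f.left = π ≫ x.left := pullback.condition.symm
      rw [this]
    have s4 : (J.comap x.left).comap π = ⊥ ↔ J.comap x.left = ⊥ := by
      constructor
      · intro h
        exact Groth.Agent.H50.eq_of_comap_eq_of_fppf π (J.comap x.left) ⊥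
          (by rw [h, Scheme.IdealSheafData.comap_bot])
      · intro h
        rw [h, Scheme.IdealSheafData.comap_bot]
    rw [s1, s2, s3, s4, Groth.Agent.H50.comap_eq_bot_iff_le_ker]
  -- assembly
  let W : Over S := Over.mk (J.subschemeι ≫ X.hom)
  let i : W ⟶ X := Over.homMk J.subschemeι rfl
  have hicl : IsClosedImmersion i.left := by
    change IsClosedImmersion J.subschemeι
    infer_instance
  have hfix : ∀ {T : Over S} (z : T ⟶ W), Fix aX (z ≫ i) := by
    intro T z
    rw [K4]
    exact (Groth.Agent.H50.le_ker_iff_factors J (z ≫ i).left).mpr ⟨z.left, rfl⟩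
  have hlift : ∀ {T : Over S} (ξ : (fixedPsh aX).obj (op T)), ∃ z : T ⟶ W, z ≫ i = ξ.1 := by
    intro T ξ
    obtain ⟨v, hv⟩ := (Groth.Agent.H50.le_ker_iff_factors J ξ.1.left).mp ((K4 ξ.1).mp ξ.2)
    refine ⟨Over.homMk v ?_, ?_⟩
    · change v ≫ J.subschemeι ≫ X.hom = T.hom
      rw [← Category.assoc, hv, Over.w]
    · ext1
      exact hv
  have hmono : Mono i := by
    have : Mono i.left := inferInstance
    exact Over.mono_of_mono_left i
  let e : (fixedPsh aX).RepresentableBy W :=
    { homEquiv := fun {T} =>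
        { toFun := fun z => ⟨z ≫ i, hfix z⟩
          invFun := fun ξ => (hlift ξ).choose
          left_inv := fun z => by
            apply (cancel_mono i).mp
            exact (hlift (⟨z ≫ i, hfix z⟩ : (fixedPsh aX).obj (op T))).choose_spec
          right_inv := fun ξ => Subtype.ext (hlift ξ).choose_spec }
      homEquiv_comp := by
        intro T T' t z
        apply Subtype.ext
        exact Category.assoc _ _ _ }
  exact ⟨W, i, e, hicl, fun T w => rfl⟩

end Groth.Agent.H25.FPRDesc
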