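import Mathlib
import Groth.Prelude
import Groth.Agent.H52.NoethSpec
import Groth.Agent.H52.RedField
import Groth.Agent.H52.MonoField
import Groth.Agent.H52.FibProd
import Groth.Agent.H52.Points
import Groth.Agent.H52.Topology
import Groth.Agent.H52.Decent
import Groth.Agent.H52.FieldPts
import Groth.Agent.H50.Points
import Groth.Agent.H70.EtaleFibreMap

/-!
# Locally Noetherian fibres of morphisms of algebraic spaces (helper25)

* `exists_chart_bc`: transfer of a chart along a base change square over a morphism of base schemes.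
* `isLocNoethSp_of_bc`: local Noetherianity descends along base change by a flat surjective universally
  open morphism of base schemes (e.g. a field extension).
* `isLocNoethSp_bc_of_lft`: local Noetherianity ascends along base change by a morphism locally of finite type.
* `locNoeth_fibre_of_mono` (S10804), `locNoeth_fibre_of_chart` (S10803).
-/

set_option autoImplicit false
set_option maxHeartbeats 400000
set_option linter.style.haveILetI false
set_option linter.unusedVariables false
set_option linter.unusedSectionVars false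

universe u

open CategoryTheory CategoryTheory.Limits AlgebraicGeometry TopologicalSpace AlgSp Opposite

namespace Groth.Agent.H25.FibNoeth

open Groth.Agent.H52

variable {S : Scheme.{u}}

/-- Transfer of a chart along a base change square over a morphism of base schemes. -/
theorem exists_chart_bc {Q P' : Sp S} {T T₀ : Over S} (φ : T ⟶ T₀)
    {r : P' ⟶ Q} {psnd : P' ⟶ (yon S).obj T} {qsnd : Q ⟶ (yon S).obj T₀}
    (sq : IsPullback r psnd qsnd ((yon S).map φ)) {U₀ : Over S} (b : (yon S).obj U₀ ⟶ Q) :
    ∃ (U₁ : Over S) (c : (yon S).obj U₁ ⟶ P') (π : U₁ ⟶ U₀) (β : U₀ ⟶ T₀) (γ : U₁ ⟶ T),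
      IsPullback c ((yon S).map π) r b ∧ IsPullback γ π φ β := by
  obtain ⟨β, hβ⟩ := (yon S).map_surjective (b ≫ qsnd)
  have sqO := IsPullback.of_hasPullback φ β
  have sqY := sqO.map (yon S)
  have hw : ((yon S).map (pullback.snd φ β) ≫ b) ≫ qsnd =
      (yon S).map (pullback.fst φ β) ≫ (yon S).map φ := by
    rw [Category.assoc, ← hβ]; exact sqY.w.symm
  have hc1 : sq.lift ((yon S).map (pullback.snd φ β) ≫ b) ((yon S).map (pullback.fst φ β)) hw ≫ r =
      (yon S).map (pullback.snd φ β) ≫ b := sq.lift_fst _ _ _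
  have hc2 : sq.lift ((yon S).map (pullback.snd φ β) ≫ b) ((yon S).map (pullback.fst φ β)) hw ≫ psnd =
      (yon S).map (pullback.fst φ β) := sq.lift_snd _ _ _
  refine ⟨pullback φ β, sq.lift ((yon S).map (pullback.snd φ β) ≫ b) ((yon S).map (pullback.fst φ β)) hw,
    pullback.snd φ β, β, pullback.fst φ β, ?_, sqO⟩
  refine IsPullback.of_right ?_ hc1 sq.flip
  rw [hc2, ← hβ]
  exact sqY

/-- Local Noetherianity descends along base change by a flat surjective universally open morphism of
base schemes. -/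
theorem isLocNoethSp_of_bc {Q P' : Sp S} (hQ : IsAlgSpace Q) {T T₀ : Over S} (φ : T ⟶ T₀)
    (h1 : Flat φ.left) (h2 : Surjective φ.left) (h3 : UniversallyOpen φ.left)
    {r : P' ⟶ Q} {psnd : P' ⟶ (yon S).obj T} {qsnd : Q ⟶ (yon S).obj T₀}
    (sq : IsPullback r psnd qsnd ((yon S).map φ)) (hP : IsLocNoethSp P') : IsLocNoethSp Q := by
  obtain ⟨U₀, b, hbe, hbs⟩ := hQ.atlas
  obtain ⟨U₁, c, π, β, γ, sqc, sqO⟩ := exists_chart_bc φ sq b
  haveI := AlgSp.repWith_isStableUnderBaseChange (S := S) @Etale
  have hce : RepWith @Etale c := MorphismProperty.of_isPullback sqc.flip hbe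
  haveI : IsLocallyNoetherian U₁.left := isLocallyNoetherian_chart hP c hce
  have sqS : IsPullback γ.left π.left φ.left β.left := sqO.map (Over.forget S)
  haveI : Flat π.left := MorphismProperty.of_isPullback (P := @Flat) sqS h1
  haveI : Surjective π.left := MorphismProperty.of_isPullback (P := @Surjective) sqS h2
  haveI : UniversallyOpen π.left := MorphismProperty.of_isPullback (P := @UniversallyOpen) sqS h3
  have hN : IsLocallyNoetherian U₀.left :=
    isLocallyNoetherian_of_flat_surjective_open π.left π.left.isOpenMap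
  exact ⟨U₀, b, hbe, hbs, hN⟩

/-- Local Noetherianity ascends along base change by a morphism of base schemes locally of finite type. -/
theorem isLocNoethSp_bc_of_lft {Q P' : Sp S} {T T₀ : Over S} (φ : T ⟶ T₀)
    (h1 : LocallyOfFiniteType φ.left)
    {r : P' ⟶ Q} {psnd : P' ⟶ (yon S).obj T} {qsnd : Q ⟶ (yon S).obj T₀}
    (sq : IsPullback r psnd qsnd ((yon S).map φ)) (hQ : IsLocNoethSp Q) : IsLocNoethSp P' := by
  obtain ⟨U₀, b, hbe, hbs, hN⟩ := hQ
  haveI : IsLocallyNoetherian U₀.left := hN
  obtain ⟨U₁, c, π, β, γ, sqc, sqO⟩ := exists_chart_bc φ sq b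
  haveI := AlgSp.repWith_isStableUnderBaseChange (S := S) @Etale
  haveI := AlgSp.repWith_isStableUnderBaseChange (S := S) @Surjective
  have hce : RepWith @Etale c := MorphismProperty.of_isPullback sqc.flip hbe
  have hcs : RepWith @Surjective c := MorphismProperty.of_isPullback sqc.flip hbs
  have sqS : IsPullback γ.left π.left φ.left β.left := sqO.map (Over.forget S)
  haveI : LocallyOfFiniteType π.left :=
    MorphismProperty.of_isPullback (P := @LocallyOfFiniteType) sqS h1
  exact ⟨U₁, c, hce, hcs, LocallyOfFiniteType.isLocallyNoetherian π.left⟩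

theorem universallyOpen_to_field {k : Type u} [Field k] {X : Scheme.{u}}
    (f : X ⟶ Spec (CommRingCat.of k)) : UniversallyOpen f := by
  haveI : Subsingleton ↥(Spec (CommRingCat.of k)) := inferInstanceAs (Subsingleton (PrimeSpectrum k))
  infer_instance

/-- For the spectrum of a field, the canonical morphism from the spectrum of the residue field of its point
is an isomorphism. -/
theorem isIso_fromSpecResidueField_field {k : Type u} [Field k] (str : Spec (CommRingCat.of k) ⟶ S)
    (s : ↥(Spec (CommRingCat.of k))) :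
    IsIso ((Spec (CommRingCat.of k)).fromSpecResidueField s) := by
  let T : Over S := Over.mk ((Spec (CommRingCat.of k)).fromSpecResidueField s ≫ str)
  let ι : T ⟶ Over.mk str := Over.homMk ((Spec (CommRingCat.of k)).fromSpecResidueField s) rfl
  haveI : Mono ι.left := by
    change Mono ((Spec (CommRingCat.of k)).fromSpecResidueField s)
    infer_instance
  haveI : Mono ((yon S).map ι) := mono_yon_map ι
  have hne : Nonempty (Points ((yon S).obj T)) :=
    ⟨Points.ofScheme T
      (IsLocalRing.closedPoint _ : PrimeSpectrum ((Spec (CommRingCat.of k)).residueField s))⟩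
  haveI h := isIso_of_mono_to_field str (IsAlgSpace.yon_obj T) ((yon S).map ι) hne
  haveI h2 : IsIso ι := isIso_of_fully_faithful (yon S) ι
  exact (inferInstance : IsIso ((Over.forget S).map ι))

/-- (S10804) If the fibre over a field point `p` is locally Noetherian and `p₀` is a monomorphic field point
in the same class, the fibre over `p₀` is locally Noetherian. -/
theorem locNoeth_fibre_of_mono {X Y : Space S} (f : X ⟶ Y)
    (p p₀ : FieldPt Y.obj) (hpp : Points.mk p = Points.mk p₀) (hmono : Mono p₀.toHom)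
    (hNoeth : ∀ ⦃P : Sp S⦄ (fst : P ⟶ X.obj) (snd : P ⟶ (yon S).obj p.pt),
      IsPullback fst snd f.hom p.toHom → IsLocNoethSp P)
    {Q : Sp S} (qfst : Q ⟶ X.obj) (qsnd : Q ⟶ (yon S).obj p₀.pt)
    (hQ : IsPullback qfst qsnd f.hom p₀.toHom) : IsLocNoethSp Q := by
  haveI := hmono
  have sqZ := IsPullback.of_hasPullback p.toHom p₀.toHom
  have hZ : IsAlgSpace (pullback p.toHom p₀.toHom) :=
    isAlgSpace_of_isPullback sqZ Y.property.diag (IsAlgSpace.yon_obj _) (IsAlgSpace.yon_obj _)
  let s : ↥p.pt.left := (IsLocalRing.closedPoint p.K : PrimeSpectrum p.K)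
  let s₀ : ↥p₀.pt.left := (IsLocalRing.closedPoint p₀.K : PrimeSpectrum p₀.K)
  obtain ⟨z, -, -⟩ := exists_point_of_isPullback sqZ (Points.ofScheme p.pt s) (Points.ofScheme p₀.pt s₀)
    (by rw [map_toHom_ofScheme, map_toHom_ofScheme, hpp])
  haveI : IsIso (pullback.fst p.toHom p₀.toHom) :=
    isIso_of_mono_to_field p.str hZ (pullback.fst p.toHom p₀.toHom) ⟨z⟩
  obtain ⟨φ, hφ⟩ := (yon S).map_surjective
    (inv (pullback.fst p.toHom p₀.toHom) ≫ pullback.snd p.toHom p₀.toHom)
  have hφp : (yon S).map φ ≫ p₀.toHom = p.toHom := by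
    rw [hφ, Category.assoc, ← pullback.condition, IsIso.inv_hom_id_assoc]
  have sqP := IsPullback.of_hasPullback qsnd ((yon S).map φ)
  have big := sqP.paste_horiz hQ
  rw [hφp] at big
  have hP' : IsLocNoethSp (pullback qsnd ((yon S).map φ)) := hNoeth _ _ big
  have hQa : IsAlgSpace Q :=
    isAlgSpace_of_isPullback hQ Y.property.diag X.property (IsAlgSpace.yon_obj _)
  haveI : Nonempty ↥p.pt.left := ⟨s⟩
  obtain ⟨hfl, hsu⟩ := flat_surjective_to_field (k := p₀.K) φ.left
  exact isLocNoethSp_of_bc hQa φ hfl hsu (universallyOpen_to_field (k := p₀.K) φ.left) sqP hP'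

/-- (S10803) If the fibre over a field point `p` is locally Noetherian, so is the fibre over the residue
field point of any etale chart point in the same class. -/
theorem locNoeth_fibre_of_chart {X Y : Space S} (f : X ⟶ Y) (p : FieldPt Y.obj)
    (hNoeth : ∀ ⦃P : Sp S⦄ (fst : P ⟶ X.obj) (snd : P ⟶ (yon S).obj p.pt),
      IsPullback fst snd f.hom p.toHom → IsLocNoethSp P)
    (V : Over S) (b : (yon S).obj V ⟶ Y.obj) (hb : RepWith @Etale b) (v : ↥V.left)
    (hv : Points.ofPt b v = Points.mk p)
    {Q : Sp S} (qfst : Q ⟶ X.obj) (qsnd : Q ⟶ (yon S).obj (FieldPt.ofPt b v).pt)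
    (hQ : IsPullback qfst qsnd f.hom (FieldPt.ofPt b v).toHom) : IsLocNoethSp Q := by
  obtain ⟨W, σ, fstW, sqW⟩ := hb.1 p.toHom
  obtain ⟨ω, rfl⟩ := (yon S).map_surjective fstW
  haveI hσ : Etale σ.left := hb.2 _ _ _ sqW
  let s : ↥p.pt.left := (IsLocalRing.closedPoint p.K : PrimeSpectrum p.K)
  obtain ⟨w, hwv, hws⟩ := exists_of_ofPt_eq_ofPt sqW v s (hv.trans (Points.ofPt_toHom p s).symm)
  subst hwv
  -- the residue field point of `w`
  let T : Over S := Over.mk (W.left.fromSpecResidueField w ≫ W.hom)
  let τ : T ⟶ W := Over.homMk (W.left.fromSpecResidueField w) rfl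
  have hφw : Spec.map (ω.left.residueFieldMap w) ≫
      (V.left.fromSpecResidueField (ω.left w) ≫ V.hom) = W.left.fromSpecResidueField w ≫ W.hom := by
    rw [← Category.assoc, Scheme.Hom.SpecMap_residueFieldMap_fromSpecResidueField, Category.assoc,
      Over.w ω]
  let φ : T ⟶ (FieldPt.ofPt b (ω.left w)).pt := Over.homMk (Spec.map (ω.left.residueFieldMap w)) hφw
  let ψ : T ⟶ p.pt := τ ≫ σ
  -- `h_φ ≫ q = h_ψ ≫ p`
  have hφτ : φ ≫ (Over.homMk (V.left.fromSpecResidueField (ω.left w)) rfl :
      (FieldPt.ofPt b (ω.left w)).pt ⟶ V) = τ ≫ ω := by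
    apply Over.OverMorphism.ext
    exact Scheme.Hom.SpecMap_residueFieldMap_fromSpecResidueField ω.left w
  have hφψ : (yon S).map φ ≫ (FieldPt.ofPt b (ω.left w)).toHom = (yon S).map ψ ≫ p.toHom := by
    rw [FieldPt.toHom_ofPt, ← Category.assoc, ← Functor.map_comp, hφτ, Functor.map_comp,
      Category.assoc, sqW.w, ← Category.assoc, ← Functor.map_comp]
  -- `ψ` is etale
  have hψ : LocallyOfFiniteType ψ.left := by
    change LocallyOfFiniteType (W.left.fromSpecResidueField w ≫ σ.left)
    haveI : Etale (Spec.map (σ.left.residueFieldMap w)) :=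
      Groth.Agent.H70.EtaleFibreMap.etale_SpecMap_residueFieldMap σ.left w
    haveI : IsIso (p.pt.left.fromSpecResidueField (σ.left w)) :=
      isIso_fromSpecResidueField_field p.str (σ.left w)
    rw [← Scheme.Hom.SpecMap_residueFieldMap_fromSpecResidueField σ.left w]
    infer_instance
  -- the fibre over `p`
  have sqP := IsPullback.of_hasPullback f.hom p.toHom
  have hP : IsLocNoethSp (pullback f.hom p.toHom) := hNoeth _ _ sqP
  -- the fibre over `T`
  have sqQ₂ := IsPullback.of_hasPullback qsnd ((yon S).map φ)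
  have big := sqQ₂.paste_horiz hQ
  rw [hφψ] at big
  have hcomm : sqP.lift (pullback.fst qsnd ((yon S).map φ) ≫ qfst)
      (pullback.snd qsnd ((yon S).map φ) ≫ (yon S).map ψ) (by rw [Category.assoc]; exact big.w) ≫
      pullback.snd f.hom p.toHom = pullback.snd qsnd ((yon S).map φ) ≫ (yon S).map ψ :=
    sqP.lift_snd _ _ _
  have hfst : sqP.lift (pullback.fst qsnd ((yon S).map φ) ≫ qfst)
      (pullback.snd qsnd ((yon S).map φ) ≫ (yon S).map ψ) (by rw [Category.assoc]; exact big.w) ≫
      pullback.fst f.hom p.toHom = pullback.fst qsnd ((yon S).map φ) ≫ qfst :=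
    sqP.lift_fst _ _ _
  have sqR : IsPullback (sqP.lift (pullback.fst qsnd ((yon S).map φ) ≫ qfst)
      (pullback.snd qsnd ((yon S).map φ) ≫ (yon S).map ψ) (by rw [Category.assoc]; exact big.w))
      (pullback.snd qsnd ((yon S).map φ)) (pullback.snd f.hom p.toHom) ((yon S).map ψ) := by
    refine IsPullback.of_right ?_ hcomm sqP
    rw [hfst]
    exact big
  have hQ₂ : IsLocNoethSp (pullback qsnd ((yon S).map φ)) := isLocNoethSp_bc_of_lft ψ hψ sqR hP
  have hQa : IsAlgSpace Q :=
    isAlgSpace_of_isPullback hQ Y.property.diag X.property (IsAlgSpace.yon_obj _)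
  haveI : Nonempty ↥T.left :=
    inferInstanceAs (Nonempty (PrimeSpectrum (W.left.residueField w)))
  obtain ⟨hfl, hsu⟩ := flat_surjective_to_field (k := (FieldPt.ofPt b (ω.left w)).K) φ.left
  exact isLocNoethSp_of_bc hQa φ hfl hsu
    (universallyOpen_to_field (k := (FieldPt.ofPt b (ω.left w)).K) φ.left) sqQ₂ hQ₂

end Groth.Agent.H25.FibNoeth
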