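import Mathlib
import Groth.Agent.H25.GeomDomain
import Groth.Agent.H25.GeomIrr

set_option maxHeartbeats 400000
set_option linter.style.haveILetI false

open TensorProduct

universe u v w

namespace Groth.Agent.H25.FibreNZD

open Groth.Agent.H25.GeomIrr (tensor_map_injective)

/-- If `g ∈ R ⊗ A` is nonzero in every closed fibre `(R/q) ⊗ A` (`k` algebraically closed, `A` a
domain), then `g` is a nonzerodivisor. -/
theorem eq_zero_of_mul_eq_zero_of_fibres
    (k : Type u) [Field k] [IsAlgClosed k] (A : Type v) [CommRing A] [Algebra k A] [IsDomain A]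
    (R : Type w) [CommRing R] [Algebra k R] (g f : R ⊗[k] A)
    (hg : ∀ q : Ideal R, q.IsMaximal →
      Algebra.TensorProduct.map (Ideal.Quotient.mkₐ k q) (AlgHom.id k A) g ≠ 0)
    (hgf : g * f = 0) : f = 0 := by
  classical
  by_contra hne
  let b := Module.Free.chooseBasis k A
  let B := Algebra.TensorProduct.basis R b
  have hBsmul : ∀ (a : R) i, a • B i = a ⊗ₜ[k] b i :=
    fun a i => Algebra.TensorProduct.basis_repr_symm_apply' b a i
  obtain ⟨c, hc⟩ : ∃ c, c = B.repr f := ⟨_, rfl⟩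
  have hsumf : (∑ i ∈ c.support, c i ⊗ₜ[k] b i) = f := by
    have := B.linearCombination_repr f
    rw [← hc, Finsupp.linearCombination_apply, Finsupp.sum] at this
    rw [← this]
    exact Finset.sum_congr rfl (fun i _ => (hBsmul _ _).symm)
  let C : Ideal R := Ideal.span ((c.support.image c : Finset R) : Set R)
  have hCfg : C.FG := ⟨_, rfl⟩
  have hcmem : ∀ i, c i ∈ C := by
    intro i
    by_cases hi : i ∈ c.support
    · exact Ideal.subset_span (Finset.mem_coe.mpr (Finset.mem_image_of_mem c hi))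
    · rw [Finsupp.notMem_support_iff.mp hi]; exact zero_mem _
  obtain ⟨i0, hi0⟩ : ∃ i, c i ≠ 0 := by
    by_contra h; push Not at h
    apply hne
    have : c = 0 := Finsupp.ext h
    rw [hc] at this
    exact B.repr.map_eq_zero_iff.mp this
  have hann : (Submodule.annihilator C : Ideal R) ≠ ⊤ := by
    intro h
    have h1 : (1 : R) ∈ Submodule.annihilator C := h ▸ Submodule.mem_top
    have := Submodule.mem_annihilator.mp h1 (c i0) (hcmem i0)
    rw [one_smul] at this
    exact hi0 this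
  obtain ⟨q, hqmax, hq⟩ := Ideal.exists_le_maximal _ hann
  haveI := hqmax
  have hCq : ¬ C ≤ q • C := by
    intro hle
    obtain ⟨r, hr1, hr2⟩ :=
      Submodule.exists_sub_one_mem_and_smul_eq_zero_of_fg_of_le_smul q C hCfg hle
    have hrq : r ∈ q := hq (Submodule.mem_annihilator.mpr hr2)
    have h1 : (1 : R) ∈ q := by
      have h := q.sub_mem hrq hr1
      rwa [sub_sub_cancel] at h
    exact hqmax.ne_top ((Ideal.eq_top_iff_one q).mpr h1)
  obtain ⟨i1, hi1s, hi1⟩ : ∃ i ∈ c.support, c i ∉ q • C := by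
    by_contra h; push Not at h
    apply hCq
    refine Ideal.span_le.mpr ?_
    intro x hx
    obtain ⟨i, hi, rfl⟩ := Finset.mem_image.mp (Finset.mem_coe.mp hx)
    exact h i hi
  letI : Field (R ⧸ q) := Ideal.Quotient.field q
  have hv : (Submodule.Quotient.mk ⟨c i1, hcmem i1⟩ : ↥C ⧸ (q • (⊤ : Submodule R ↥C))) ≠ 0 := by
    intro h0
    have h1 : (⟨c i1, hcmem i1⟩ : ↥C) ∈ q • (⊤ : Submodule R ↥C) :=
      (Submodule.Quotient.mk_eq_zero _).mp h0
    apply hi1
    have h2 : C.subtype ⟨c i1, hcmem i1⟩ ∈ Submodule.map C.subtype (q • (⊤ : Submodule R ↥C)) :=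
      Submodule.mem_map_of_mem h1
    rw [Submodule.map_smul'', Submodule.map_subtype_top] at h2
    exact h2
  obtain ⟨lam, hlam⟩ := Module.Projective.exists_dual_ne_zero (R ⧸ q) hv
  let ℓ : ↥C →ₗ[R] R ⧸ q :=
    { toFun := fun x => lam (Submodule.Quotient.mk x)
      map_add' := fun x y => by rw [Submodule.Quotient.mk_add, map_add]
      map_smul' := fun r x => by
        show lam (Submodule.Quotient.mk (r • x)) = r • lam (Submodule.Quotient.mk x)
        rw [← Module.Quotient.mk_smul_mk ↥C q r x, map_smul, smul_eq_mul, Algebra.smul_def,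
          Ideal.Quotient.algebraMap_eq] }
  let Cs : ↥C →ₗ[k] R := C.subtype.restrictScalars k
  let ℓk : ↥C →ₗ[k] R ⧸ q := ℓ.restrictScalars k
  let ι : ↥C ⊗[k] A →ₗ[k] R ⊗[k] A := Cs.rTensor A
  let Ψ : ↥C ⊗[k] A →ₗ[k] (R ⧸ q) ⊗[k] A := ℓk.rTensor A
  let π : R ⊗[k] A →ₐ[k] (R ⧸ q) ⊗[k] A :=
    Algebra.TensorProduct.map (Ideal.Quotient.mkₐ k q) (AlgHom.id k A)
  have hι : ∀ (r : ↥C) (a : A), ι (r ⊗ₜ[k] a) = (r : R) ⊗ₜ[k] a := fun r a => rfl
  have hΨ : ∀ (r : ↥C) (a : A), Ψ (r ⊗ₜ[k] a) = ℓ r ⊗ₜ[k] a := fun r a => rfl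
  have hπ : ∀ (s : R) (a : A), π (s ⊗ₜ[k] a) = (Ideal.Quotient.mk q s) ⊗ₜ[k] a := fun s a => rfl
  have key : ∀ (g : R ⊗[k] A) (y : ↥C ⊗[k] A),
      ∃ z : ↥C ⊗[k] A, ι z = g * ι y ∧ Ψ z = π g * Ψ y := by
    intro g
    induction g using TensorProduct.induction_on with
    | zero => intro y; exact ⟨0, by simp, by simp⟩
    | add g1 g2 h1 h2 =>
      intro y
      obtain ⟨z1, h11, h12⟩ := h1 y
      obtain ⟨z2, h21, h22⟩ := h2 y
      exact ⟨z1 + z2, by rw [map_add, h11, h21, add_mul],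
        by rw [map_add, h12, h22, map_add, add_mul]⟩
    | tmul s a =>
      intro y
      induction y using TensorProduct.induction_on with
      | zero => exact ⟨0, by simp, by simp⟩
      | add y1 y2 h1 h2 =>
        obtain ⟨z1, h11, h12⟩ := h1
        obtain ⟨z2, h21, h22⟩ := h2
        exact ⟨z1 + z2, by rw [map_add, h11, h21, map_add, mul_add],
          by rw [map_add, h12, h22, map_add, mul_add]⟩
      | tmul r a' =>
        refine ⟨(s • r) ⊗ₜ[k] (a * a'), ?_, ?_⟩
        · rw [hι, hι, Algebra.TensorProduct.tmul_mul_tmul]; rfl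
        · rw [hΨ, hΨ, hπ, Algebra.TensorProduct.tmul_mul_tmul, map_smul, Algebra.smul_def,
            Ideal.Quotient.algebraMap_eq]
  let f' : ↥C ⊗[k] A := ∑ i ∈ c.support, (⟨c i, hcmem i⟩ : ↥C) ⊗ₜ[k] b i
  have hιf : ι f' = f := by
    simp only [f', map_sum, hι]
    exact hsumf
  have hΨf : Ψ f' = ∑ i ∈ c.support, ℓ ⟨c i, hcmem i⟩ ⊗ₜ[k] b i := by
    simp only [f', map_sum, hΨ]
  have hπG : π g ≠ 0 := hg q hqmax
  obtain ⟨z, hz1, hz2⟩ := key g f'
  rw [hιf, hgf] at hz1
  have hιinj : Function.Injective ι :=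
    Module.Flat.rTensor_preserves_injective_linearMap (M := A) Cs (fun a b h => Subtype.ext h)
  have hz0 : z = 0 := hιinj (by rw [hz1, map_zero])
  rw [hz0, map_zero] at hz2
  haveI : IsDomain ((R ⧸ q) ⊗[k] A) := GeomDomain.isDomain_tensor k (R ⧸ q) A
  have hΨ0 : Ψ f' = 0 := (mul_eq_zero.mp hz2.symm).resolve_left hπG
  let B' := Algebra.TensorProduct.basis (R ⧸ q) b
  have hB'smul : ∀ (a : R ⧸ q) i, a • B' i = a ⊗ₜ[k] b i :=
    fun a i => Algebra.TensorProduct.basis_repr_symm_apply' b a i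
  have hli := linearIndependent_iff'.mp B'.linearIndependent c.support
    (fun i => ℓ ⟨c i, hcmem i⟩)
    (by rw [← hΨ0, hΨf]; exact Finset.sum_congr rfl (fun i _ => hB'smul _ _)) i1 hi1s
  exact hlam hli

section Lam

variable {k : Type*} [Field k] {A : Type*} [CommRing A] [Algebra k A]

/-- `id ⊗ l : S ⊗ A → S` for a functional `l` on `A`. -/
noncomputable def Lam (S : Type*) [CommRing S] [Algebra k S] (l : A →ₗ[k] k) :
    S ⊗[k] A →ₗ[S] S :=
  (Algebra.TensorProduct.rid k S S).toLinearMap ∘ₗ (l.baseChange S)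

theorem Lam_tmul (S : Type*) [CommRing S] [Algebra k S] (l : A →ₗ[k] k) (s : S) (a : A) :
    Lam S l (s ⊗ₜ[k] a) = l a • s := by
  simp [Lam]

theorem Lam_map {S S' : Type*} [CommRing S] [Algebra k S] [CommRing S'] [Algebra k S']
    (ψ : S →ₐ[k] S') (l : A →ₗ[k] k) (x : S ⊗[k] A) :
    ψ (Lam S l x) = Lam S' l (Algebra.TensorProduct.map ψ (AlgHom.id k A) x) := by
  induction x using TensorProduct.induction_on with
  | zero => simp
  | tmul s a =>
    rw [Algebra.TensorProduct.map_tmul, Lam_tmul, Lam_tmul, map_smul]; rfl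
  | add x y hx hy => rw [map_add, map_add, map_add, map_add, hx, hy]

theorem exists_Lam_ne_zero {S : Type*} [CommRing S] [Algebra k S] (y : S ⊗[k] A) (hy : y ≠ 0) :
    ∃ l : A →ₗ[k] k, Lam S l y ≠ 0 := by
  let b := Module.Free.chooseBasis k A
  let B := Algebra.TensorProduct.basis S b
  have hlink : ∀ (x : S ⊗[k] A) i, B.repr x i = Lam S (b.coord i) x := by
    intro x i
    induction x using TensorProduct.induction_on with
    | zero => simp
    | tmul s a =>
      rw [Lam_tmul, Algebra.TensorProduct.basis_repr_tmul]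
      simp [Algebra.smul_def, mul_comm]
    | add x y hx hy => rw [map_add, map_add, Finsupp.add_apply, hx, hy]
  by_contra h; push Not at h
  apply hy
  apply B.repr.map_eq_zero_iff.mp
  ext i
  rw [hlink, h]; rfl

end Lam

/-- If some "coefficient" of `f` is a unit then `f` is regular modulo every extended ideal. -/
theorem mem_map_of_mul_mem (k : Type u) [Field k] [IsAlgClosed k] (A : Type v) [CommRing A]
    [Algebra k A] [IsDomain A] (S : Type w) [CommRing S] [Algebra k S]
    (f : S ⊗[k] A) (l : A →ₗ[k] k) (hl : IsUnit (Lam S l f)) (I : Ideal S) (t : S ⊗[k] A)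
    (h : f * t ∈ I.map (Algebra.TensorProduct.includeLeft : S →ₐ[k] S ⊗[k] A)) :
    t ∈ I.map (Algebra.TensorProduct.includeLeft : S →ₐ[k] S ⊗[k] A) := by
  let ρ := Algebra.TensorProduct.map (Ideal.Quotient.mkₐ k I) (AlgHom.id k A)
  have hker : RingHom.ker ρ = I.map (Algebra.TensorProduct.includeLeft : S →ₐ[k] S ⊗[k] A) := by
    have hk : RingHom.ker (Ideal.Quotient.mkₐ k I) = I := by
      ext x; exact Ideal.Quotient.eq_zero_iff_mem
    rw [Algebra.TensorProduct.rTensor_ker (S := k) _ (Ideal.Quotient.mkₐ_surjective k I), hk]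
  have h0 : f * t ∈ RingHom.ker ρ := by rw [hker]; exact h
  have h1 : ρ f * ρ t = 0 := by rw [← map_mul]; exact h0
  have h2 : ρ t = 0 := by
    refine eq_zero_of_mul_eq_zero_of_fibres k A (S ⧸ I) (ρ f) (ρ t) (fun q hq hzero => ?_) h1
    have e1 : (Ideal.Quotient.mkₐ k q) ((Ideal.Quotient.mkₐ k I) (Lam S l f)) =
        Lam ((S ⧸ I) ⧸ q) l
          (Algebra.TensorProduct.map (Ideal.Quotient.mkₐ k q) (AlgHom.id k A) (ρ f)) := by
      rw [Lam_map, Lam_map]
    rw [hzero, map_zero] at e1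
    haveI : Nontrivial ((S ⧸ I) ⧸ q) := Ideal.Quotient.nontrivial_iff.mpr hq.ne_top
    have hu : IsUnit ((Ideal.Quotient.mkₐ k q) ((Ideal.Quotient.mkₐ k I) (Lam S l f))) :=
      (hl.map _).map _
    rw [e1] at hu
    exact not_isUnit_zero hu
  rw [← hker]; exact h2

/-- A quotient of a flat module by the image of an endomorphism which is "injective modulo
every ideal" is flat. -/
theorem flat_quotient_of_forall_mem {S M : Type*} [CommRing S] [AddCommGroup M] [Module S M]
    [Module.Flat S M] (φ : M →ₗ[S] M) (P : Submodule S M) (hP : ∀ y, y ∈ P ↔ ∃ t, φ t = y)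
    (h : ∀ (I : Ideal S) (t : M), φ t ∈ I • (⊤ : Submodule S M) → t ∈ I • (⊤ : Submodule S M)) :
    Module.Flat S (M ⧸ P) := by
  rw [Module.Flat.iff_lift_lsmul_comp_subtype_injective]
  intro I hI
  rw [injective_iff_map_eq_zero]
  intro x hx
  have hμM_inj : Function.Injective (TensorProduct.lift ((LinearMap.lsmul S M).comp I.subtype)) :=
    (Module.Flat.iff_lift_lsmul_comp_subtype_injective.mp ‹Module.Flat S M›) hI
  obtain ⟨x', rfl⟩ := LinearMap.lTensor_surjective I (P.mkQ_surjective) x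
  have hnat : ∀ y : I ⊗[S] M,
      TensorProduct.lift ((LinearMap.lsmul S (M ⧸ P)).comp I.subtype) (LinearMap.lTensor I P.mkQ y) =
        P.mkQ (TensorProduct.lift ((LinearMap.lsmul S M).comp I.subtype) y) := by
    intro y
    induction y using TensorProduct.induction_on with
    | zero => simp
    | tmul a m => simp
    | add y z hy hz => simp only [map_add, hy, hz]
  have hmem : ∀ y : I ⊗[S] M,
      TensorProduct.lift ((LinearMap.lsmul S M).comp I.subtype) y ∈ I • (⊤ : Submodule S M) := by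
    intro y
    induction y using TensorProduct.induction_on with
    | zero => simp
    | tmul a m =>
      simpa using Submodule.smul_mem_smul a.2 (Submodule.mem_top : m ∈ (⊤ : Submodule S M))
    | add y z hy hz => rw [map_add]; exact add_mem hy hz
  have hrange : ∀ m ∈ I • (⊤ : Submodule S M),
      ∃ y, TensorProduct.lift ((LinearMap.lsmul S M).comp I.subtype) y = m := by
    intro m hm
    refine Submodule.smul_induction_on hm
      (fun a ha n _ => ⟨(⟨a, ha⟩ : I) ⊗ₜ n, by simp⟩)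
      (fun m1 m2 h1 h2 => ?_)
    obtain ⟨y1, h1⟩ := h1
    obtain ⟨y2, h2⟩ := h2
    exact ⟨y1 + y2, by rw [map_add, h1, h2]⟩
  have hφnat : ∀ y : I ⊗[S] M,
      TensorProduct.lift ((LinearMap.lsmul S M).comp I.subtype) (LinearMap.lTensor I φ y) =
        φ (TensorProduct.lift ((LinearMap.lsmul S M).comp I.subtype) y) := by
    intro y
    induction y using TensorProduct.induction_on with
    | zero => simp
    | tmul a m => simp
    | add y z hy hz => simp only [map_add, hy, hz]
  rw [hnat] at hx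
  have h1 : TensorProduct.lift ((LinearMap.lsmul S M).comp I.subtype) x' ∈ P :=
    (Submodule.Quotient.mk_eq_zero P).mp hx
  obtain ⟨t, ht⟩ := (hP _).mp h1
  have h2 : t ∈ I • (⊤ : Submodule S M) := h I t (ht ▸ hmem x')
  obtain ⟨t', rfl⟩ := hrange t h2
  have h3 : x' = LinearMap.lTensor I φ t' := hμM_inj (by rw [hφnat, ht])
  have h4 : P.mkQ ∘ₗ φ = 0 := by
    ext m
    exact (Submodule.Quotient.mk_eq_zero P).mpr ((hP _).mpr ⟨m, rfl⟩)
  rw [h3, ← LinearMap.comp_apply, ← LinearMap.lTensor_comp, h4, LinearMap.lTensor_zero,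
    LinearMap.zero_apply]

end Groth.Agent.H25.FibreNZD
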