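import Mathlib
set_option autoImplicit false
universe u
open CategoryTheory CategoryTheory.Limits AlgebraicGeometry Opposite TopologicalSpace TensorProduct

/-! (GENH) for helper98's S8341 squad: if `v : M → N` is a degree-preserving `ψ`-semilinear map
with the universal property of base change, then every homogeneous `y ∈ 𝒩 e` is a finite sum
`∑ b_j • v m_j` with `m_j ∈ ℳ (d_j)`, `b_j ∈ ℬ (e - d_j)`, `d_j ≤ e`.

NOTE: the hypothesis `hv` (v preserves degrees) is needed (the statement is false without it), so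
this file uses `include hv hbc in`. -/

namespace Groth.Agent.H25.GMBC_GENH

/-- The homogeneous generators of degree `e`. -/
def gens {B M N σ' τ : Type u} [CommRing B] [AddCommGroup N] [Module B N]
    [SetLike σ' B] [SetLike τ M] (ℬ : ℕ → σ') (ℳ : ℕ → τ) (v : M → N) (e : ℕ) : Set N :=
  {z | ∃ d : ℕ, d ≤ e ∧ ∃ b : B, b ∈ ℬ (e - d) ∧ ∃ m : M, m ∈ ℳ d ∧ z = b • v m}

variable {A σ : Type u} [CommRing A] [SetLike σ A]
    [AddSubgroupClass σ A] {𝒜 : ℕ → σ} [GradedRing 𝒜] {B σ' : Type u} [CommRing B] [SetLike σ' B]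
    [AddSubgroupClass σ' B]
    {ℬ : ℕ → σ'} [GradedRing ℬ] (ψ : 𝒜 →+*ᵍ ℬ)
    {M τ : Type u} [AddCommGroup M] [Module A M] [SetLike τ M] [AddSubgroupClass τ M] (ℳ : ℕ → τ)
    [SetLike.GradedSMul 𝒜 ℳ] [DirectSum.Decomposition ℳ]
    {N τ' : Type u} [AddCommGroup N] [Module B N] [SetLike τ' N] [AddSubgroupClass τ' N]
    (𝒩 : ℕ → τ')
    [SetLike.GradedSMul ℬ 𝒩] [DirectSum.Decomposition 𝒩]
    (v : M →ₛₗ[ψ.toRingHom] N) (hv : ∀ (i : ℕ) (m : M), m ∈ ℳ i → v m ∈ 𝒩 i)
    (hbc : ∀ (Q : Type u) [AddCommGroup Q] [Module B Q] (w : M →ₛₗ[ψ.toRingHom] Q),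
      ∃! g : N →ₗ[B] Q, ∀ m : M, g (v m) = w m)

include hv hbc in
/-- (GENH) homogeneous generation of `N` by `v(M)` -/
theorem exists_sum_smul_eq_of_mem (e : ℕ) (y : N) (hy : y ∈ 𝒩 e) :
    ∃ (l : ℕ) (d : Fin l → ℕ) (b : Fin l → B) (m : Fin l → M), (∀ j, d j ≤ e) ∧
      (∀ j, b j ∈ ℬ (e - d j)) ∧ (∀ j, m j ∈ ℳ (d j)) ∧ y = ∑ j, b j • v (m j) := by
  classical
  -- (A) good elements of degree `k` are homogeneous of degree `k`
  have hA : ∀ (k : ℕ) (z : N), z ∈ AddSubmonoid.closure (gens ℬ ℳ v k) → z ∈ 𝒩 k := by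
    intro k z hz
    induction hz using AddSubmonoid.closure_induction with
    | mem z hz =>
      obtain ⟨d, hd, b, hb, m, hm, rfl⟩ := hz
      have h1 : b • v m ∈ 𝒩 ((k - d) + d) := SetLike.GradedSMul.smul_mem hb (hv d m hm)
      rwa [Nat.sub_add_cancel hd] at h1
    | zero => exact zero_mem _
    | add z z' _ _ ih ih' => exact add_mem ih ih'
  -- the additive submonoid of elements all of whose components are good
  let T : AddSubmonoid N :=
    { carrier := {y | ∀ e, ((DirectSum.decompose 𝒩 y e : 𝒩 e) : N) ∈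
        AddSubmonoid.closure (gens ℬ ℳ v e)}
      zero_mem' := fun e => by
        rw [DirectSum.decompose_zero, DirectSum.zero_apply, ZeroMemClass.coe_zero]
        exact zero_mem _
      add_mem' := fun {a b} ha hb e => by
        rw [DirectSum.decompose_add, DirectSum.add_apply, AddMemClass.coe_add]
        exact add_mem (ha e) (hb e) }
  have hT : ∀ y : N, y ∈ T ↔ ∀ e, ((DirectSum.decompose 𝒩 y e : 𝒩 e) : N) ∈
      AddSubmonoid.closure (gens ℬ ℳ v e) := fun _ => Iff.rfl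
  -- (B) good homogeneous elements lie in `T`
  have hB : ∀ (k : ℕ) (z : N), z ∈ AddSubmonoid.closure (gens ℬ ℳ v k) → z ∈ T := by
    intro k z hz
    rw [hT]
    intro e
    have hzk : z ∈ 𝒩 k := hA k z hz
    by_cases hek : e = k
    · subst hek
      rw [DirectSum.decompose_of_mem_same 𝒩 hzk]; exact hz
    · rw [DirectSum.decompose_of_mem_ne 𝒩 hzk (fun h => hek h.symm)]; exact zero_mem _
  -- (C) multiplication by a homogeneous element
  have hC : ∀ (p : ℕ) (b : B), b ∈ ℬ p → ∀ (j : ℕ) (z : N),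
      z ∈ AddSubmonoid.closure (gens ℬ ℳ v j) →
      b • z ∈ AddSubmonoid.closure (gens ℬ ℳ v (p + j)) := by
    intro p b hb j z hz
    induction hz using AddSubmonoid.closure_induction with
    | mem z hz =>
      obtain ⟨d, hd, b', hb', m, hm, rfl⟩ := hz
      apply AddSubmonoid.subset_closure
      have h1 : b * b' ∈ ℬ (p + (j - d)) := SetLike.mul_mem_graded hb hb'
      have h2 : p + (j - d) = p + j - d := by omega
      rw [h2] at h1
      exact ⟨d, by omega, b * b', h1, m, hm, by rw [mul_smul]⟩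
    | zero => rw [smul_zero]; exact zero_mem _
    | add z z' _ _ ih ih' => rw [smul_add]; exact add_mem ih ih'
  have hsmul_hom : ∀ (p : ℕ) (b : B), b ∈ ℬ p → ∀ y : N, y ∈ T → b • y ∈ T := by
    intro p b hb y hyT
    have hsum : b • y = ∑ j ∈ (DirectSum.decompose 𝒩 y).support,
        b • ((DirectSum.decompose 𝒩 y j : 𝒩 j) : N) := by
      conv_lhs => rw [← DirectSum.sum_support_decompose 𝒩 y, Finset.smul_sum]
    rw [hsum]
    refine sum_mem (fun j _ => ?_)
    exact hB (p + j) _ (hC p b hb j _ ((hT y).mp hyT j))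
  have hsmul : ∀ (b : B) (y : N), y ∈ T → b • y ∈ T := by
    intro b y hyT
    refine DirectSum.Decomposition.inductionOn ℬ ?_ ?_ ?_ b
    · show (0 : B) • y ∈ T
      rw [zero_smul]; exact zero_mem _
    · intro p b'
      exact hsmul_hom p _ b'.2 y hyT
    · intro b₁ b₂ h₁ h₂
      show (b₁ + b₂) • y ∈ T
      rw [add_smul]; exact add_mem h₁ h₂
  have hvT : ∀ m : M, v m ∈ T := by
    intro m
    refine DirectSum.Decomposition.inductionOn ℳ ?_ ?_ ?_ m
    · show v 0 ∈ T
      rw [map_zero]; exact zero_mem _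
    · intro q mq
      apply hB q
      apply AddSubmonoid.subset_closure
      have h1 : (1 : B) ∈ ℬ (q - q) := by
        rw [Nat.sub_self]; exact SetLike.one_mem_graded ℬ
      exact ⟨q, le_rfl, 1, h1, mq, mq.2, by rw [one_smul]⟩
    · intro m₁ m₂ h₁ h₂
      show v (m₁ + m₂) ∈ T
      rw [map_add]; exact add_mem h₁ h₂
  let TS : Submodule B N := { T with smul_mem' := fun b {y} hy => hsmul b y hy }
  have hTS : TS = ⊤ := by
    obtain ⟨g, -, hguniq⟩ := hbc (N ⧸ TS) 0
    have h1 : TS.mkQ = g := hguniq TS.mkQ (fun m => by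
      rw [LinearMap.zero_apply, Submodule.mkQ_apply, Submodule.Quotient.mk_eq_zero]
      exact hvT m)
    have h2 : (0 : N →ₗ[B] N ⧸ TS) = g := hguniq 0 (fun m => by
      rw [LinearMap.zero_apply, LinearMap.zero_apply])
    have h3 : TS.mkQ = 0 := h1.trans h2.symm
    calc TS = LinearMap.ker TS.mkQ := (Submodule.ker_mkQ TS).symm
      _ = LinearMap.ker (0 : N →ₗ[B] N ⧸ TS) := by rw [h3]
      _ = ⊤ := LinearMap.ker_zero
  have hyH : y ∈ AddSubmonoid.closure (gens ℬ ℳ v e) := by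
    have hyTS : y ∈ TS := by rw [hTS]; trivial
    have hyT : y ∈ T := hyTS
    have h1 := (hT y).mp hyT e
    rwa [DirectSum.decompose_of_mem_same 𝒩 hy] at h1
  obtain ⟨L, hL, hLsum⟩ := AddSubmonoid.exists_list_of_mem_closure hyH
  have hch : ∀ j : Fin L.length, ∃ d : ℕ, d ≤ e ∧ ∃ b : B, b ∈ ℬ (e - d) ∧ ∃ m : M, m ∈ ℳ d ∧
      L.get j = b • v m := fun j => hL _ (List.get_mem L j)
  choose d hd b hb m hm hz using hch
  refine ⟨L.length, d, b, m, hd, hb, hm, ?_⟩
  calc y = L.sum := hLsum.symm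
    _ = (List.ofFn L.get).sum := by rw [List.ofFn_get]
    _ = ∑ j, L.get j := List.sum_ofFn
    _ = ∑ j, b j • v (m j) := Finset.sum_congr rfl (fun j _ => hz j)

end Groth.Agent.H25.GMBC_GENH
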