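import Mathlib
import Groth.Prelude
import Groth.Agent.H25.GeomConn
import Groth.Agent.H25.StalkDesc
import Groth.Agent.H25.GeomRedAlgSp2
import Groth.Agent.H52.Topology
import Groth.Agent.H52.ProdBC
import Groth.Agent.H52.ProdAtlas
import Groth.Agent.H50.RepBySpCat

/-!
# Connected components of algebraic spaces under base field extension (helper25)
-/

set_option autoImplicit false
set_option maxHeartbeats 400000
set_option linter.style.haveILetI false
set_option linter.unusedVariables false
set_option linter.unusedSectionVars false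

universe u

open CategoryTheory CategoryTheory.Limits AlgebraicGeometry TopologicalSpace AlgSp TensorProduct

namespace Groth.Agent.H25.GeomConnAlgSp

open Groth.Agent.H25.GeomRedAlgSp2

section General

variable {S : Scheme.{u}}

/-- Point lifting in a chart pullback square. -/
theorem exists_lift_of_sq {G G' : Sp S} {V V' : Over S} {ψ : G' ⟶ G} {a : (yon S).obj V ⟶ G}
    {a' : (yon S).obj V' ⟶ G'} {q : V' ⟶ V} (sq : IsPullback ((yon S).map q) a' a ψ)
    (w : ↥V.left) (x' : Points G') (h : Points.ofPt a w = Points.map ψ x') :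
    ∃ w' : ↥V'.left, q.left w' = w ∧ Points.ofPt a' w' = x' := by
  obtain ⟨z, hz1, hz2⟩ := Groth.Agent.H52.exists_point_of_isPullback sq (Points.ofScheme V w) x'
    (by rw [← Points.ofPt_eq_map_ofScheme]; exact h)
  obtain ⟨w', rfl⟩ := (Points.schemeEquiv V').surjective z
  change Points.map _ (Points.ofScheme V' w') = _ at hz1
  change Points.map _ (Points.ofScheme V' w') = _ at hz2
  rw [Groth.Agent.H52.map_yon_map_ofScheme] at hz1
  refine ⟨w', Groth.Agent.H52.ofScheme_injective V hz1, ?_⟩
  rw [Points.ofPt_eq_map_ofScheme]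
  exact hz2

theorem ofPt_comm_of_sq {G G' : Sp S} {V V' : Over S} {ψ : G' ⟶ G} {a : (yon S).obj V ⟶ G}
    {a' : (yon S).obj V' ⟶ G'} {q : V' ⟶ V} (w : (yon S).map q ≫ a = a' ≫ ψ) (w' : ↥V'.left) :
    Points.ofPt a (q.left w') = Points.map ψ (Points.ofPt a' w') := by
  rw [Points.map_ofPt, ← w, Groth.Agent.H52.ofPt_yon_map_comp]

/-- Openness on points from openness on charts in a pullback square. -/
theorem isOpenMap_of_sq {G G' : Sp S} {V V' : Over S} {ψ : G' ⟶ G} {a : (yon S).obj V ⟶ G}
    {a' : (yon S).obj V' ⟶ G'} {q : V' ⟶ V} (sq : IsPullback ((yon S).map q) a' a ψ)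
    (ha : RepWith @Etale a) (hs : RepWith @Surjective a) (hq : IsOpenMap q.left) :
    IsOpenMap (Points.map ψ) := by
  intro W hW
  rw [← (Groth.Agent.H52.isQuotientMap_ofPt a ha hs).isOpen_preimage]
  have key : Points.ofPt a ⁻¹' (Points.map ψ '' W) = q.left '' (Points.ofPt a' ⁻¹' W) := by
    ext w
    constructor
    · rintro ⟨x', hx', hx'w⟩
      obtain ⟨w', hw', hw'x⟩ := exists_lift_of_sq sq w x' hx'w.symm
      exact ⟨w', by rw [Set.mem_preimage, hw'x]; exact hx', hw'⟩
    · rintro ⟨w', hw', rfl⟩
      exact ⟨Points.ofPt a' w', hw', (ofPt_comm_of_sq sq.w w').symm⟩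
  rw [key]
  exact hq _ ((Points.continuous_ofPt a').isOpen_preimage W hW)

/-- Connected fibres on points from connected fibres on charts in a pullback square. -/
theorem isConnected_fibre_of_sq {G G' : Sp S} {V V' : Over S} {ψ : G' ⟶ G}
    {a : (yon S).obj V ⟶ G}
    {a' : (yon S).obj V' ⟶ G'} {q : V' ⟶ V} (sq : IsPullback ((yon S).map q) a' a ψ)
    (hs : RepWith @Surjective a) (hq : ∀ w : ↥V.left, _root_.IsConnected (q.left ⁻¹' {w}))
    (y : Points G) : _root_.IsConnected (Points.map ψ ⁻¹' {y}) := by
  obtain ⟨w, rfl⟩ := Groth.Agent.H52.surjective_ofPt_of_surjective a hs y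
  have key : Points.map ψ ⁻¹' {Points.ofPt a w} = Points.ofPt a' '' (q.left ⁻¹' {w}) := by
    ext x'
    constructor
    · intro hx'
      obtain ⟨w', hw', hw'x⟩ := exists_lift_of_sq sq w x' (Set.mem_singleton_iff.mp hx').symm
      exact ⟨w', hw', hw'x⟩
    · rintro ⟨w', hw', rfl⟩
      rw [Set.mem_preimage, Set.mem_singleton_iff] at hw'
      rw [Set.mem_preimage, Set.mem_singleton_iff, ← ofPt_comm_of_sq sq.w w', hw']
  rw [key]
  exact (hq w).image _ (Points.continuous_ofPt a').continuousOn

theorem isCoinducing_and_fibres_of_sq {G G' : Sp S} {V V' : Over S} {ψ : G' ⟶ G}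
    {a : (yon S).obj V ⟶ G}
    {a' : (yon S).obj V' ⟶ G'} {q : V' ⟶ V} (sq : IsPullback ((yon S).map q) a' a ψ)
    (ha : RepWith @Etale a) (hs : RepWith @Surjective a)
    [UniversallyOpen q.left] [GeometricallyConnected q.left] :
    Topology.IsCoinducing (Points.map ψ) ∧ ∀ y, _root_.IsConnected (Points.map ψ ⁻¹' {y}) := by
  have hfib := isConnected_fibre_of_sq sq hs (fun w => q.left.isConnected_preimage_singleton w)
  refine ⟨?_, hfib⟩
  have hopen := isOpenMap_of_sq sq ha hs q.left.isOpenMap
  exact (hopen.isQuotientMap (Points.continuous_map ψ) (fun y => (hfib y).nonempty)).isCoinducing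

theorem connectedSpace_of_isCoinducing {A B : Type*} [TopologicalSpace A] [TopologicalSpace B]
    {f : A → B} (hf : Topology.IsCoinducing f) (hfib : ∀ y, _root_.IsConnected (f ⁻¹' {y}))
    [ConnectedSpace B] : ConnectedSpace A := by
  rw [connectedSpace_iff_univ]
  have := hf.isConnected_preimage_of_isClosed hfib isClosed_univ isConnected_univ
  rwa [Set.preimage_univ] at this

/-- The chart of `F ⨯ h_T` induced by a chart of `F`. -/
noncomputable def chartT {F : Sp S} {U : Over S} (a : (yon S).obj U ⟶ F) (T : Over S) :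
    (yon S).obj (U ⨯ T) ⟶ F ⨯ (yon S).obj T :=
  prodComparison (yon S) U T ≫ prod.map a (𝟙 _)

theorem repWith_chartT {P : MorphismProperty Scheme.{u}} [P.IsStableUnderBaseChange]
    [P.IsMultiplicative] {F : Sp S} {U : Over S} (a : (yon S).obj U ⟶ F) (ha : RepWith P a)
    (T : Over S) : RepWith P (chartT a T) :=
  Groth.Agent.H52.repWith_prodComparison_prod_map ha (repWith_id P T)

theorem isPullback_chartT_fst {F : Sp S} {U : Over S} (a : (yon S).obj U ⟶ F) (T : Over S) :
    IsPullback ((yon S).map (prod.fst : U ⨯ T ⟶ U)) (chartT a T) a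
      (prod.fst : F ⨯ (yon S).obj T ⟶ F) := by
  have sq := Groth.Agent.H50.isPullback_prod_map_id a ((yon S).obj T)
  refine sq.of_iso (asIso (prodComparison (yon S) U T)).symm (Iso.refl _) (Iso.refl _)
    (Iso.refl _) ?_ ?_ ?_ ?_
  · simp only [Iso.refl_hom, Category.comp_id, Iso.symm_hom, asIso_inv]
    exact (IsIso.eq_inv_comp _).mpr (prodComparison_fst (yon S) U T)
  · simp only [Iso.refl_hom, Category.comp_id, Iso.symm_hom, asIso_inv]
    unfold chartT
    rw [IsIso.inv_hom_id_assoc]
  · simp
  · simp

theorem isPullback_chartT_map {F : Sp S} {U : Over S} (a : (yon S).obj U ⟶ F) {T T' : Over S}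
    (g : T' ⟶ T) :
    IsPullback ((yon S).map (prod.map (𝟙 U) g)) (chartT a T') (chartT a T)
      (prod.map (𝟙 F) ((yon S).map g)) := by
  have t := (Groth.Agent.H52.isPullback_prod_map_id_snd ((yon S).map g) F).flip
  have s := (Groth.Agent.H52.isPullback_prod_map_id_snd ((yon S).map g) ((yon S).obj U)).flip
  have hs1 : prod.map a (𝟙 ((yon S).obj T')) ≫ (prod.snd : F ⨯ (yon S).obj T' ⟶ _) = prod.snd := by
    rw [prod.map_snd, Category.comp_id]
  have hs2 : prod.map a (𝟙 ((yon S).obj T)) ≫ (prod.snd : F ⨯ (yon S).obj T ⟶ _) = prod.snd := by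
    rw [prod.map_snd, Category.comp_id]
  have s' : IsPullback (prod.map a (𝟙 ((yon S).obj T')) ≫ prod.snd)
      (prod.map (𝟙 ((yon S).obj U)) ((yon S).map g))
      ((yon S).map g) (prod.map a (𝟙 ((yon S).obj T)) ≫ prod.snd) := by
    rw [hs1, hs2]
    exact s
  have p : prod.map a (𝟙 ((yon S).obj T')) ≫ prod.map (𝟙 F) ((yon S).map g) =
      prod.map (𝟙 ((yon S).obj U)) ((yon S).map g) ≫ prod.map a (𝟙 ((yon S).obj T)) := by
    simp [prod.map_map]
  have sqA := IsPullback.of_right s' p t
  refine sqA.flip.of_iso (asIso (prodComparison (yon S) U T')).symm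
    (asIso (prodComparison (yon S) U T)).symm (Iso.refl _) (Iso.refl _) ?_ ?_ ?_ ?_
  · simp only [Iso.symm_hom, asIso_inv]
    rw [IsIso.comp_inv_eq, Category.assoc, IsIso.eq_inv_comp, prodComparison_natural,
      CategoryTheory.Functor.map_id]
  · simp only [Iso.refl_hom, Category.comp_id, Iso.symm_hom, asIso_inv]
    unfold chartT
    rw [IsIso.inv_hom_id_assoc]
  · simp only [Iso.refl_hom, Category.comp_id, Iso.symm_hom, asIso_inv]
    unfold chartT
    rw [IsIso.inv_hom_id_assoc]
  · simp

theorem prop_prod_fst_left {P : MorphismProperty Scheme.{u}} [P.IsStableUnderBaseChange]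
    (U T : Over S) (h : P T.hom) : P (prod.fst : U ⨯ T ⟶ U).left := by
  have : P.RespectsIso := MorphismProperty.IsStableUnderBaseChange.respectsIso
  rw [← Over.prodLeftIsoPullback_hom_fst U T]
  exact (P.cancel_left_of_respectsIso _ _).mpr (P.pullback_fst _ _ h)

theorem prop_prod_map_id_left {P : MorphismProperty Scheme.{u}} [P.IsStableUnderBaseChange]
    (U : Over S) {T T' : Over S} (g : T' ⟶ T) (h : P g.left) :
    P (prod.map (𝟙 U) g).left := by
  have sq := (Groth.Agent.H52.isPullback_prod_map_id_snd g U).map (Over.forget S)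
  exact P.of_isPullback sq.flip h

theorem fst_isCoinducing_and_fibres {F : Sp S} (hF : IsAlgSpace F) (T : Over S)
    [UniversallyOpen T.hom] [GeometricallyConnected T.hom] :
    Topology.IsCoinducing (Points.map (prod.fst : F ⨯ (yon S).obj T ⟶ F)) ∧
      ∀ y, _root_.IsConnected (Points.map (prod.fst : F ⨯ (yon S).obj T ⟶ F) ⁻¹' {y}) := by
  obtain ⟨U, a, ha, hs⟩ := hF.atlas
  haveI : UniversallyOpen (prod.fst : U ⨯ T ⟶ U).left :=
    prop_prod_fst_left (P := @UniversallyOpen) U T inferInstance
  haveI : GeometricallyConnected (prod.fst : U ⨯ T ⟶ U).left :=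
    prop_prod_fst_left (P := @GeometricallyConnected) U T inferInstance
  exact isCoinducing_and_fibres_of_sq (isPullback_chartT_fst a T) ha hs

theorem map_isCoinducing_and_fibres {F : Sp S} (hF : IsAlgSpace F) {T T' : Over S} (g : T' ⟶ T)
    [UniversallyOpen g.left] [GeometricallyConnected g.left] :
    Topology.IsCoinducing (Points.map (prod.map (𝟙 F) ((yon S).map g))) ∧
      ∀ y, _root_.IsConnected (Points.map (prod.map (𝟙 F) ((yon S).map g)) ⁻¹' {y}) := by
  obtain ⟨U, a, ha, hs⟩ := hF.atlas
  haveI : UniversallyOpen (prod.map (𝟙 U) g).left :=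
    prop_prod_map_id_left (P := @UniversallyOpen) U g inferInstance
  haveI : GeometricallyConnected (prod.map (𝟙 U) g).left :=
    prop_prod_map_id_left (P := @GeometricallyConnected) U g inferInstance
  exact isCoinducing_and_fibres_of_sq (isPullback_chartT_map a g) (repWith_chartT a ha T)
    (repWith_chartT a hs T)

/-- An isomorphism of sheaves induces an open map on points. -/
theorem isOpenMap_map_of_iso {F G : Sp S} (e : F ≅ G) : IsOpenMap (Points.map e.hom) := by
  intro W hW
  have h1 : Function.LeftInverse (Points.map e.inv) (Points.map e.hom) := by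
    intro x
    rw [← Points.map_comp, e.hom_inv_id, Points.map_id]
  have h2 : Function.RightInverse (Points.map e.inv) (Points.map e.hom) := by
    intro x
    rw [← Points.map_comp, e.inv_hom_id, Points.map_id]
  have : Points.map e.hom '' W = Points.map e.inv ⁻¹' W :=
    congrFun (Set.image_eq_preimage_of_inverse h1 h2) W
  rw [this]
  exact (Points.continuous_map e.inv).isOpen_preimage W hW

theorem isOpenMap_map_fst_yon {F : Sp S} (hF : IsAlgSpace F) (T : Over S)
    [UniversallyOpen T.hom] :
    IsOpenMap (Points.map (prod.fst : F ⨯ (yon S).obj T ⟶ F)) := by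
  obtain ⟨U, a, ha, hs⟩ := hF.atlas
  haveI : UniversallyOpen (prod.fst : U ⨯ T ⟶ U).left :=
    prop_prod_fst_left (P := @UniversallyOpen) U T inferInstance
  exact isOpenMap_of_sq (isPullback_chartT_fst a T) ha hs (prod.fst : U ⨯ T ⟶ U).left.isOpenMap

theorem surjective_map_prod_map_chart (F : Sp S) {G : Sp S} {V : Over S}
    (b : (yon S).obj V ⟶ G) (hb : RepWith @Surjective b) :
    Function.Surjective (Points.map (prod.map (𝟙 F) b)) := by
  intro w
  obtain ⟨v, hv⟩ := Groth.Agent.H52.surjective_ofPt_of_surjective b hb (Points.map prod.snd w)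
  obtain ⟨t, ht, -⟩ := Groth.Agent.H52.exists_point_of_isPullback
    (Groth.Agent.H52.isPullback_prod_map_id_snd b F) w (Points.ofScheme V v)
    (by rw [← Points.ofPt_eq_map_ofScheme]; exact hv.symm)
  exact ⟨t, ht⟩

theorem isOpenMap_map_fst {F G : Sp S} (hF : IsAlgSpace F) {V : Over S}
    (b : (yon S).obj V ⟶ G) (hb : RepWith @Surjective b) [UniversallyOpen V.hom] :
    IsOpenMap (Points.map (prod.fst : F ⨯ G ⟶ F)) := by
  intro W hW
  have h1 : Points.map (prod.fst : F ⨯ G ⟶ F) '' W =
      Points.map (prod.fst : F ⨯ (yon S).obj V ⟶ F) ''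
        (Points.map (prod.map (𝟙 F) b) ⁻¹' W) := by
    ext x
    constructor
    · rintro ⟨w, hw, rfl⟩
      obtain ⟨t, rfl⟩ := surjective_map_prod_map_chart F b hb w
      refine ⟨t, hw, ?_⟩
      rw [← Points.map_comp, prod.map_fst, Category.comp_id]
    · rintro ⟨t, ht, rfl⟩
      refine ⟨_, ht, ?_⟩
      rw [← Points.map_comp, prod.map_fst, Category.comp_id]
  rw [h1]
  exact isOpenMap_map_fst_yon hF V _ ((Points.continuous_map _).isOpen_preimage W hW)

theorem isOpenMap_map_snd {F G : Sp S} (hF : IsAlgSpace F) {V : Over S}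
    (b : (yon S).obj V ⟶ G) (hb : RepWith @Surjective b) [UniversallyOpen V.hom] :
    IsOpenMap (Points.map (prod.snd : G ⨯ F ⟶ F)) := by
  have h : (prod.snd : G ⨯ F ⟶ F) = (prod.braiding G F).hom ≫ prod.fst := by
    rw [prod.braiding_hom, prod.lift_fst]
  rw [h]
  have h2 : Points.map ((prod.braiding G F).hom ≫ (prod.fst : F ⨯ G ⟶ F)) =
      Points.map prod.fst ∘ Points.map (prod.braiding G F).hom := by
    funext x
    exact Points.map_comp _ _ x
  rw [h2]
  exact (isOpenMap_map_fst hF b hb).comp (isOpenMap_map_of_iso _)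

theorem isConnected_fibre_snd {F G : Sp S}
    (hconn : ∀ p : FieldPt F, ConnectedSpace (Points (G ⨯ (yon S).obj p.pt))) (y : Points F) :
    _root_.IsConnected (Points.map (prod.snd : G ⨯ F ⟶ F) ⁻¹' {y}) := by
  induction y using Points.ind with
  | h p =>
  haveI := hconn p
  have key : Points.map (prod.snd : G ⨯ F ⟶ F) ⁻¹' {Points.mk p} =
      Set.range (Points.map (prod.map (𝟙 G) p.toHom)) := by
    ext z
    constructor
    · intro hz
      obtain ⟨s⟩ : Nonempty ↥(Spec (CommRingCat.of p.K)) := inferInstance
      obtain ⟨t, ht, -⟩ := Groth.Agent.H52.exists_point_of_isPullback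
        (Groth.Agent.H52.isPullback_prod_map_id_snd p.toHom G) z (Points.ofScheme p.pt s)
        (by rw [← Points.ofPt_eq_map_ofScheme, Points.ofPt_toHom]; exact hz)
      exact ⟨t, ht⟩
    · rintro ⟨t, rfl⟩
      rw [Set.mem_preimage, Set.mem_singleton_iff, ← Points.map_comp, prod.map_snd,
        Points.map_comp]
      obtain ⟨s, hs⟩ := (Points.schemeEquiv p.pt).surjective (Points.map prod.snd t)
      change Points.ofScheme p.pt s = _ at hs
      rw [← hs, ← Points.ofPt_eq_map_ofScheme]
      exact Points.ofPt_toHom p s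
  rw [key]
  exact isConnected_range (Points.continuous_map _)

end General

section Field

variable {k : Type u} [Field k]

theorem geometricallyConnected_Spec_map_of_isSepClosed (K L : Type u) [Field K] [Field L]
    [Algebra K L] [IsSepClosed K] :
    GeometricallyConnected (Spec.map (CommRingCat.ofHom (algebraMap K L))) := by
  refine ⟨geometrically_iff_of_commRing_of_isClosedUnderIsomorphisms.mpr fun M _ _ => ?_⟩
  change ConnectedSpace ↥(pullback (Spec.map (CommRingCat.ofHom (algebraMap K L)))
    (Spec.map (CommRingCat.ofHom (algebraMap K M))))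
  rw [(pullbackSpecIso K L M).hom.homeomorph.connectedSpace_iff]
  change ConnectedSpace (PrimeSpectrum (L ⊗[K] M))
  exact Groth.Agent.H25.GeomConn.connectedSpace_tensor

theorem universallyOpen_over_field (U : Over (Spec (CommRingCat.of k))) :
    UniversallyOpen U.hom := by
  change UniversallyOpen (U.hom : U.left ⟶ Spec (CommRingCat.of k))
  infer_instance

/-- The morphism `T_L ⟶ T_K` over `Spec k` for a tower `k → K → L`. -/
noncomputable def tkMap (K L : Type u) [Field K] [Field L] [Algebra k K] [Algebra k L]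
    [Algebra K L] [IsScalarTower k K L] : TK (k := k) L ⟶ TK (k := k) K :=
  Over.homMk (Spec.map (CommRingCat.ofHom (algebraMap K L))) (by
    change Spec.map (CommRingCat.ofHom (algebraMap K L)) ≫
      Spec.map (CommRingCat.ofHom (algebraMap k K)) = Spec.map (CommRingCat.ofHom (algebraMap k L))
    rw [← Spec.map_comp, ← CommRingCat.ofHom_comp, ← IsScalarTower.algebraMap_eq])

theorem surjective_tkMap (K L : Type u) [Field K] [Field L] [Algebra k K] [Algebra k L]
    [Algebra K L] [IsScalarTower k K L] :
    Function.Surjective (fun t : ↥(TK (k := k) L).left => (tkMap (k := k) K L).left t) := by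
  haveI : Subsingleton ↥(TK (k := k) K).left :=
    show Subsingleton ↥(Spec (CommRingCat.of K)) from inferInstance
  haveI : Nonempty ↥(TK (k := k) L).left :=
    show Nonempty ↥(Spec (CommRingCat.of L)) from inferInstance
  exact Function.surjective_to_subsingleton _

/-- `|X_K| ⟶ |X|` is coinducing with connected fibres over a separably closed field. -/
theorem bc_isCoinducing_and_fibres [IsSepClosed k] {F : Sp (Spec (CommRingCat.of k))}
    (hF : IsAlgSpace F) (K : Type u) [Field K] [Algebra k K] :
    Topology.IsCoinducing (Points.map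
        (prod.fst : F ⨯ (yon (Spec (CommRingCat.of k))).obj (TK K) ⟶ F)) ∧
      ∀ y, _root_.IsConnected (Points.map
        (prod.fst : F ⨯ (yon (Spec (CommRingCat.of k))).obj (TK K) ⟶ F) ⁻¹' {y}) := by
  haveI : UniversallyOpen (TK (k := k) K).hom :=
    show UniversallyOpen (Spec.map (CommRingCat.ofHom (algebraMap k K))) from inferInstance
  haveI : GeometricallyConnected (TK (k := k) K).hom :=
    show GeometricallyConnected (Spec.map (CommRingCat.ofHom (algebraMap k K))) from
      geometricallyConnected_Spec_map_of_isSepClosed k K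
  exact fst_isCoinducing_and_fibres hF (TK K)

/-- S10467. -/
theorem connectedComponents_bijective_bc [IsSepClosed k] {F : Sp (Spec (CommRingCat.of k))}
    (hF : IsAlgSpace F) (K : Type u) [Field K] [Algebra k K] :
    Function.Bijective (Continuous.connectedComponentsMap (Points.continuous_map
      (prod.fst : F ⨯ (yon (Spec (CommRingCat.of k))).obj (TK K) ⟶ F))) :=
  (bc_isCoinducing_and_fibres hF K).1.connectedComponentsMap_bijective
    (bc_isCoinducing_and_fibres hF K).2

/-- S10501. -/
theorem geomConnected_iff_connected_of_isSepClosed [IsSepClosed k]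
    {F : Sp (Spec (CommRingCat.of k))} (hF : IsAlgSpace F) :
    (∀ (K : Type u) [Field K] [Algebra k K],
        ConnectedSpace (Points (F ⨯ (yon (Spec (CommRingCat.of k))).obj (TK K)))) ↔
      ConnectedSpace (Points F) := by
  constructor
  · intro h
    haveI := h k
    have hsurj : Function.Surjective (Points.map
        (prod.fst : F ⨯ (yon (Spec (CommRingCat.of k))).obj (TK k) ⟶ F)) :=
      fun y => ((bc_isCoinducing_and_fibres hF k).2 y).nonempty
    exact hsurj.connectedSpace (Points.continuous_map _)
  · intro h K _ _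
    exact connectedSpace_of_isCoinducing (bc_isCoinducing_and_fibres hF K).1
      (bc_isCoinducing_and_fibres hF K).2

/-- Connectedness passes from `X_K` to `X_L` for `K` separably closed. -/
theorem connectedSpace_bc_of_tower {F : Sp (Spec (CommRingCat.of k))} (hF : IsAlgSpace F)
    (K L : Type u) [Field K] [Field L] [Algebra k K] [Algebra k L]
    [Algebra K L] [IsScalarTower k K L] [IsSepClosed K]
    [ConnectedSpace (Points (F ⨯ (yon (Spec (CommRingCat.of k))).obj (TK K)))] :
    ConnectedSpace (Points (F ⨯ (yon (Spec (CommRingCat.of k))).obj (TK L))) := by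
  haveI : UniversallyOpen (tkMap (k := k) K L).left :=
    show UniversallyOpen (Spec.map (CommRingCat.ofHom (algebraMap K L))) from inferInstance
  haveI : GeometricallyConnected (tkMap (k := k) K L).left :=
    show GeometricallyConnected (Spec.map (CommRingCat.ofHom (algebraMap K L))) from
      geometricallyConnected_Spec_map_of_isSepClosed K L
  have h := map_isCoinducing_and_fibres hF (tkMap (k := k) K L)
  exact connectedSpace_of_isCoinducing h.1 h.2

/-- Connectedness descends from `X_L` to `X_K`. -/
theorem connectedSpace_bc_of_tower_down (F : Sp (Spec (CommRingCat.of k)))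
    (K L : Type u) [Field K] [Field L] [Algebra k K] [Algebra k L]
    [Algebra K L] [IsScalarTower k K L]
    [ConnectedSpace (Points (F ⨯ (yon (Spec (CommRingCat.of k))).obj (TK L)))] :
    ConnectedSpace (Points (F ⨯ (yon (Spec (CommRingCat.of k))).obj (TK K))) :=
  (Groth.Agent.H52.surjective_map_prod_map_id (tkMap (k := k) K L)
    (surjective_tkMap K L) F).connectedSpace (Points.continuous_map _)

/-- S10468. -/
theorem geomConnected_iff_connected_bc_sepClosure {F : Sp (Spec (CommRingCat.of k))}
    (hF : IsAlgSpace F) (kbar : Type u) [Field kbar] [Algebra k kbar] [IsSepClosure k kbar] :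
    (∀ (K : Type u) [Field K] [Algebra k K],
        ConnectedSpace (Points (F ⨯ (yon (Spec (CommRingCat.of k))).obj (TK K)))) ↔
      ConnectedSpace (Points (F ⨯ (yon (Spec (CommRingCat.of k))).obj (TK kbar))) := by
  constructor
  · intro h
    exact h kbar
  · intro h K _ _
    obtain ⟨L, _, _, _, _, h1, h2⟩ := Groth.Agent.H25.StalkDesc.exists_compositum k K kbar
    haveI := h1
    haveI := h2
    haveI : IsSepClosed kbar := IsSepClosure.sep_closed k
    haveI := h
    haveI := connectedSpace_bc_of_tower hF kbar L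
    exact connectedSpace_bc_of_tower_down F K L

/-- S10466. -/
theorem connectedComponents_bijective_snd {F G : Sp (Spec (CommRingCat.of k))}
    (hF : IsAlgSpace F) (hG : IsAlgSpace G)
    (hX : ∀ (K : Type u) [Field K] [Algebra k K],
        ConnectedSpace (Points (G ⨯ (yon (Spec (CommRingCat.of k))).obj (TK K)))) :
    Function.Bijective (Continuous.connectedComponentsMap
      (Points.continuous_map (prod.snd : G ⨯ F ⟶ F))) := by
  have hconn : ∀ p : FieldPt F,
      ConnectedSpace (Points (G ⨯ (yon (Spec (CommRingCat.of k))).obj p.pt)) := by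
    intro p
    obtain ⟨K, sK, v⟩ := p
    obtain ⟨φ, rfl⟩ := Spec.map_surjective sK
    letI : Algebra k K := φ.hom.toAlgebra
    exact hX K
  obtain ⟨V, b, hb, hbs⟩ := hG.atlas
  haveI := universallyOpen_over_field V
  have hopen := isOpenMap_map_snd hF b hbs
  have hfib := isConnected_fibre_snd (F := F) (G := G) hconn
  exact ((hopen.isQuotientMap (Points.continuous_map _)
    (fun y => (hfib y).nonempty)).isCoinducing).connectedComponentsMap_bijective hfib

end Field

end Groth.Agent.H25.GeomConnAlgSp
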