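import Mathlib
import Groth.Agent.H25.GeomRed

set_option maxHeartbeats 400000
set_option linter.style.haveILetI false
set_option linter.unusedVariables false
set_option linter.unusedSectionVars false

open TensorProduct Polynomial

universe u v w

namespace Groth.Agent.H25.GeomRed

/-- The key element: for `a ∈ k'` separable over `k`, there is `E ∈ K ⊗[k] A` whose image in
`K ⊗[k'] A` is a unit and which kills `a ⊗ 1 - 1 ⊗ a`. -/
theorem exists_unit_killing {k k' A : Type u} [Field k] [Field k'] [Algebra k k']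
    [Algebra.IsSeparable k k'] [CommRing A] [Algebra k' A] [Algebra k A] [IsScalarTower k k' A]
    (K : Type u) [Field K] [Algebra k' K] [Algebra k K] [IsScalarTower k k' K] (a : k') :
    ∃ E : K ⊗[k] A, IsUnit (Algebra.TensorProduct.mapOfCompatibleSMul k' k K K A E) ∧
      E * ((algebraMap k' K a) ⊗ₜ[k] (1 : A) - (1 : K) ⊗ₜ[k] (algebraMap k' A a)) = 0 := by
  set π : K ⊗[k] A →ₐ[K] K ⊗[k'] A := Algebra.TensorProduct.mapOfCompatibleSMul k' k K K A with hπ
  set aK : K := algebraMap k' K a with haK
  set aA : A := algebraMap k' A a with haA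
  let f : k[X] := minpoly k a
  let fK : K[X] := f.map (algebraMap k K)
  have hfa : Polynomial.aeval a f = 0 := minpoly.aeval k a
  have haKroot : Polynomial.aeval aK f = 0 := by
    rw [haK, Polynomial.aeval_algebraMap_apply, hfa, map_zero]
  have hroot : fK.IsRoot aK := by
    show Polynomial.eval aK (f.map (algebraMap k K)) = 0
    rw [Polynomial.eval_map_algebraMap]
    exact haKroot
  let h : K[X] := fK /ₘ (X - C aK)
  have hfac : (X - C aK) * h = fK := Polynomial.mul_divByMonic_eq_iff_isRoot.mpr hroot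
  have hder : (Polynomial.derivative fK).eval aK = h.eval aK := by
    rw [← hfac, Polynomial.derivative_mul, Polynomial.derivative_sub, Polynomial.derivative_X,
      Polynomial.derivative_C, sub_zero, one_mul, Polynomial.eval_add, Polynomial.eval_mul,
      Polynomial.eval_sub, Polynomial.eval_X, Polynomial.eval_C, sub_self, zero_mul, add_zero]
  have hsep : Polynomial.aeval aK (Polynomial.derivative f) ≠ 0 :=
    (Algebra.IsSeparable.isSeparable k a).aeval_derivative_ne_zero haKroot
  have hne : h.eval aK ≠ 0 := by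
    rw [← hder]
    show Polynomial.eval aK (Polynomial.derivative (f.map (algebraMap k K))) ≠ 0
    rw [Polynomial.derivative_map, Polynomial.eval_map_algebraMap]
    exact hsep
  let β : K ⊗[k] A := (1 : K) ⊗ₜ[k] aA
  let α : K ⊗[k] A := aK ⊗ₜ[k] (1 : A)
  have hα : algebraMap K (K ⊗[k] A) aK = α := by
    rw [Algebra.TensorProduct.algebraMap_apply, Algebra.algebraMap_self_apply]
  have hβf : Polynomial.aeval β fK = 0 := by
    show Polynomial.aeval β (f.map (algebraMap k K)) = 0
    rw [Polynomial.aeval_map_algebraMap]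
    have h1 : β = (Algebra.TensorProduct.includeRight : A →ₐ[k] K ⊗[k] A) aA := rfl
    rw [h1, Polynomial.aeval_algHom_apply, haA, Polynomial.aeval_algebraMap_apply, hfa, map_zero,
      map_zero]
  refine ⟨Polynomial.aeval β h, ?_, ?_⟩
  · have hπβ : π β = algebraMap K (K ⊗[k'] A) aK := by
      show (1 : K) ⊗ₜ[k'] aA = algebraMap K (K ⊗[k'] A) aK
      rw [Algebra.TensorProduct.algebraMap_apply, Algebra.algebraMap_self_apply, haA, haK,
        Algebra.algebraMap_eq_smul_one a, Algebra.algebraMap_eq_smul_one a,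
        TensorProduct.smul_tmul]
    rw [← Polynomial.aeval_algHom_apply, hπβ, Polynomial.aeval_algebraMap_apply_eq_algebraMap_eval]
    exact (IsUnit.mk0 _ hne).map (algebraMap K (K ⊗[k'] A))
  · have h2 : (β - α) * Polynomial.aeval β h = 0 := by
      have : Polynomial.aeval β ((X - C aK) * h) = (β - α) * Polynomial.aeval β h := by
        rw [map_mul, map_sub, Polynomial.aeval_X, Polynomial.aeval_C, hα]
      rw [← this, hfac, hβf]
    show Polynomial.aeval β h * (α - β) = 0
    have : Polynomial.aeval β h * (α - β) = - ((β - α) * Polynomial.aeval β h) := by ring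
    rw [this, h2, neg_zero]

theorem isReduced_tensor_top_of_bot {k k' A : Type u} [Field k] [Field k'] [Algebra k k']
    [Algebra.IsSeparable k k'] [CommRing A] [Algebra k' A] [Algebra k A] [IsScalarTower k k' A]
    (K : Type u) [Field K] [Algebra k' K] [Algebra k K] [IsScalarTower k k' K]
    [IsReduced (K ⊗[k] A)] : IsReduced (K ⊗[k'] A) := by
  set π : K ⊗[k] A →ₐ[K] K ⊗[k'] A := Algebra.TensorProduct.mapOfCompatibleSMul k' k K K A with hπ
  have hπsurj : Function.Surjective π :=
    Algebra.TensorProduct.mapOfCompatibleSMul_surjective k' k K K A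
  have hkey' : ∀ w ∈ Submodule.span k'
      {x : K ⊗[k] A | ∃ (a : k') (m : K) (n : A), (a • m) ⊗ₜ[k] n - m ⊗ₜ[k] (a • n) = x},
      ∃ E : K ⊗[k] A, IsUnit (π E) ∧ E * w = 0 := by
    intro w hmem
    induction hmem using Submodule.span_induction with
    | mem w hw =>
      obtain ⟨a, m, n, rfl⟩ := hw
      obtain ⟨E, hE, hE0⟩ := exists_unit_killing (k := k) (A := A) K a
      refine ⟨E, hE, ?_⟩
      have : (a • m) ⊗ₜ[k] n - m ⊗ₜ[k] (a • n) =
          ((algebraMap k' K a) ⊗ₜ[k] (1 : A) - (1 : K) ⊗ₜ[k] (algebraMap k' A a)) *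
            (m ⊗ₜ[k] n) := by
        rw [sub_mul, Algebra.TensorProduct.tmul_mul_tmul, Algebra.TensorProduct.tmul_mul_tmul,
          one_mul, one_mul, ← Algebra.smul_def, ← Algebra.smul_def]
      rw [this, ← mul_assoc, hE0, zero_mul]
    | zero => exact ⟨1, by rw [map_one]; exact isUnit_one, by rw [mul_zero]⟩
    | add x y _ _ hx hy =>
      obtain ⟨E1, h1, h1'⟩ := hx
      obtain ⟨E2, h2, h2'⟩ := hy
      refine ⟨E1 * E2, by rw [map_mul]; exact h1.mul h2, ?_⟩
      have : E1 * E2 * (x + y) = E2 * (E1 * x) + E1 * (E2 * y) := by ring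
      rw [this, h1', h2', mul_zero, mul_zero, add_zero]
    | smul c x _ hx =>
      obtain ⟨E, h1, h1'⟩ := hx
      exact ⟨E, h1, by rw [mul_smul_comm, h1', smul_zero]⟩
  have hkey : ∀ w : K ⊗[k] A, π w = 0 → ∃ E : K ⊗[k] A, IsUnit (π E) ∧ E * w = 0 := by
    intro w hw
    have hmem : w ∈ LinearMap.ker (TensorProduct.mapOfCompatibleSMul k' k k' K A) := hw
    rw [TensorProduct.AlgebraTensorModule.ker_mapOfCompatibleSMul] at hmem
    exact hkey' w hmem
  refine ⟨fun z hz => ?_⟩
  obtain ⟨z', rfl⟩ := hπsurj z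
  obtain ⟨n, hn⟩ := hz
  have h0 : π (z' ^ n) = 0 := by rw [map_pow, hn]
  obtain ⟨E, hE, hEz⟩ := hkey _ h0
  have hnil : IsNilpotent (E * z') := ⟨n + 1, by
    have : (E * z') ^ (n + 1) = E ^ n * z' * (E * z' ^ n) := by ring
    rw [this, hEz, mul_zero]⟩
  have h1 : E * z' = 0 := hnil.eq_zero
  have h2 : π E * π z' = 0 := by rw [← map_mul, h1, map_zero]
  exact (hE.mul_right_eq_zero).mp h2

theorem isReduced_tensor_bot_of_top {k k' A : Type u} [Field k] [Field k'] [Algebra k k']
    [Algebra.IsSeparable k k'] [CommRing A] [Algebra k' A] [Algebra k A] [IsScalarTower k k' A]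
    (hA : ∀ (K : Type u) [Field K] [Algebra k' K], IsReduced (K ⊗[k'] A))
    (K : Type u) [Field K] [Algebra k K] : IsReduced (K ⊗[k] A) := by
  haveI : IsReduced (k' ⊗[k] K) := isReduced_tensor_of_isSeparable k' K
  haveI : IsReduced ((k' ⊗[k] K) ⊗[k'] A) :=
    isReduced_tensor_of_geomReduced (k := k') hA (k' ⊗[k] K)
  let e := Algebra.TensorProduct.cancelBaseChange k k' k' A K
  haveI : IsReduced (A ⊗[k'] (k' ⊗[k] K)) :=
    isReduced_of_injective (Algebra.TensorProduct.comm k' A (k' ⊗[k] K))
      (Algebra.TensorProduct.comm k' A (k' ⊗[k] K)).injective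
  haveI : IsReduced (A ⊗[k] K) := isReduced_of_injective e.symm e.symm.injective
  exact isReduced_of_injective (Algebra.TensorProduct.comm k K A)
    (Algebra.TensorProduct.comm k K A).injective

theorem geomReduced_sep_iff {k k' A : Type u} [Field k] [Field k'] [Algebra k k']
    [Algebra.IsSeparable k k'] [CommRing A] [Algebra k' A] [Algebra k A] [IsScalarTower k k' A] :
    (∀ (K : Type u) [Field K] [Algebra k K], IsReduced (K ⊗[k] A)) ↔
      ∀ (K : Type u) [Field K] [Algebra k' K], IsReduced (K ⊗[k'] A) := by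
  constructor
  · intro h K _ _
    letI : Algebra k K := ((algebraMap k' K).comp (algebraMap k k')).toAlgebra
    haveI : IsScalarTower k k' K := IsScalarTower.of_algebraMap_eq (fun _ => rfl)
    haveI := h K
    exact isReduced_tensor_top_of_bot (k := k) (k' := k') (A := A) K
  · intro h K _ _
    exact isReduced_tensor_bot_of_top h K

end Groth.Agent.H25.GeomRed
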