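import Mathlib
import Groth.Prelude
import Groth.Agent.H25.EtaleDimStalk
import Groth.Agent.H52.Topology
import Groth.Agent.H52.Codim0Qf
import Groth.Agent.H52.ChartIndep2
import Groth.Agent.H70.EtaleSquare

/-!
# Algebraic spaces with locally finitely many irreducible components (helper25)

* `lfi_iff`: a scheme has locally finitely many irreducible components iff every quasi-compact open
  has finitely many points of codimension `0`.
* `lfi_of_chart`: the property passes from one etale atlas to every etale chart.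
* `etaleLocally_iff_allCharts`, `finite_codim0_of_allCharts`, `finite_irr_of_allCharts`, ... (S10304).
-/

set_option autoImplicit false
set_option maxHeartbeats 400000
set_option linter.style.haveILetI false
set_option linter.unusedVariables false
set_option linter.unusedSectionVars false

universe u

open CategoryTheory CategoryTheory.Limits AlgebraicGeometry TopologicalSpace AlgSp

namespace Groth.Agent.H25.LFI

section Top

variable {α : Type*} [TopologicalSpace α]

theorem mem_genericPoints_iff [QuasiSober α] [T0Space α] (x : α) :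
    x ∈ genericPoints α ↔ ∀ y : α, y ⤳ x → y = x := by
  constructor
  · intro hx y hy
    have h2 : closure ({y} : Set α) ≤ closure ({x} : Set α) :=
      hx.2 isIrreducible_singleton.closure (specializes_iff_closure_subset.mp hy)
    exact (hy.antisymm (specializes_iff_closure_subset.mpr h2)).eq
  · intro h
    have hZ := irreducibleComponent_mem_irreducibleComponents x
    have hirr : IsIrreducible (irreducibleComponent x) := isIrreducible_irreducibleComponent
    have hcl : IsClosed (irreducibleComponent x) := isClosed_irreducibleComponent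
    obtain ⟨z, hz⟩ := QuasiSober.sober hirr hcl
    have hzx : z ⤳ x := by
      apply specializes_iff_mem_closure.mpr
      rw [hz.def]
      exact mem_irreducibleComponent
    have hzx' : z = x := h z hzx
    rw [← hzx']
    change closure {z} ∈ irreducibleComponents α
    rw [hz.def]
    exact hZ

theorem subtype_mem_genericPoints_iff [QuasiSober α] [T0Space α] (W : Opens α) (w : ↥W) :
    w ∈ genericPoints ↥W ↔ ∀ y : α, y ⤳ (w : α) → y = w := by
  haveI : QuasiSober ↥W := W.isOpenEmbedding'.quasiSober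
  rw [mem_genericPoints_iff]
  constructor
  · intro h y hy
    have hyW : y ∈ W := hy.mem_open W.isOpen w.2
    have h1 := h ⟨y, hyW⟩ (by
      rw [← Topology.IsInducing.subtypeVal.specializes_iff]
      exact hy)
    exact congrArg Subtype.val h1
  · intro h y hy
    apply Subtype.ext
    exact h y.1 (by
      rw [← Topology.IsInducing.subtypeVal.specializes_iff] at hy
      exact hy)

theorem finite_irreducibleComponents_iff [QuasiSober α] [T0Space α] :
    (irreducibleComponents α).Finite ↔ (genericPoints α).Finite := by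
  rw [← Set.finite_coe_iff, ← Set.finite_coe_iff]
  exact (genericPoints.equiv (α := α)).finite_iff.symm

theorem finite_irreducibleComponents_of_surjective {A B : Type*} [TopologicalSpace A]
    [TopologicalSpace B] (f : A → B) (hf : Continuous f) (hs : Function.Surjective f)
    (hA : (irreducibleComponents A).Finite) : (irreducibleComponents B).Finite := by
  classical
  refine (hA.image (fun Z => closure (f '' Z))).subset ?_
  intro C hC
  have hCirr : IsIrreducible C := hC.1
  let t : Finset (Set B) := hA.toFinset.image (fun Z => closure (f '' Z))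
  have hcl : ∀ z ∈ t, IsClosed z := by
    intro z hz
    obtain ⟨Z, -, rfl⟩ := Finset.mem_image.mp hz
    exact isClosed_closure
  have hcov : C ⊆ ⋃₀ (↑t : Set (Set B)) := by
    intro c _
    obtain ⟨a, rfl⟩ := hs c
    refine Set.mem_sUnion.mpr ⟨closure (f '' irreducibleComponent a), ?_, ?_⟩
    · exact Finset.mem_coe.mpr (Finset.mem_image.mpr
        ⟨irreducibleComponent a,
          hA.mem_toFinset.mpr (irreducibleComponent_mem_irreducibleComponents a), rfl⟩)
    · exact subset_closure ⟨a, mem_irreducibleComponent, rfl⟩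
  obtain ⟨z, hz, hCz⟩ := isIrreducible_iff_sUnion_isClosed.mp hCirr t hcl hcov
  obtain ⟨Z, hZ, rfl⟩ := Finset.mem_image.mp hz
  have hZ' : Z ∈ irreducibleComponents A := hA.mem_toFinset.mp hZ
  have hZirr : IsIrreducible (closure (f '' Z)) := (hZ'.1.image f hf.continuousOn).closure
  exact ⟨Z, hZ', (hC.eq_of_le hZirr hCz).symm⟩

end Top

/-- The points of codimension zero of a scheme. -/
def D (U : Scheme.{u}) : Set ↥U := {x | ringKrullDim ↥(U.presheaf.stalk x) = 0}

/-- Quasi-compact opens have finitely many irreducible components. -/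
abbrev Lfi (U : Scheme.{u}) : Prop :=
  ∀ W : U.Opens, IsCompact (W : Set ↥U) → (irreducibleComponents ↥W).Finite

theorem lfi_iff (U : Scheme.{u}) :
    Lfi U ↔ ∀ W : U.Opens, IsCompact (W : Set ↥U) → (D U ∩ (W : Set ↥U)).Finite := by
  have key : ∀ W : U.Opens, (irreducibleComponents ↥W).Finite ↔ (D U ∩ (W : Set ↥U)).Finite := by
    intro W
    haveI : QuasiSober ↥W := W.isOpenEmbedding'.quasiSober
    rw [finite_irreducibleComponents_iff]
    have himg : D U ∩ (W : Set ↥U) = Subtype.val '' (genericPoints ↥W) := by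
      ext x
      constructor
      · rintro ⟨hx, hxW⟩
        refine ⟨⟨x, hxW⟩, ?_, rfl⟩
        rw [subtype_mem_genericPoints_iff W]
        exact (Groth.Agent.H52.ringKrullDim_stalk_eq_zero_iff x).mp hx
      · rintro ⟨w, hw, rfl⟩
        refine ⟨?_, w.2⟩
        rw [subtype_mem_genericPoints_iff W] at hw
        exact (Groth.Agent.H52.ringKrullDim_stalk_eq_zero_iff w.1).mpr hw
    rw [himg]
    exact (Set.finite_image_iff Subtype.val_injective.injOn).symm
  exact forall_congr' fun W => imp_congr_right fun _ => key W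

theorem mem_D_iff_of_etale {T U : Scheme.{u}} (g : T ⟶ U) [Etale g] (t : ↥T) :
    t ∈ D T ↔ g t ∈ D U := by
  change ringKrullDim ↥(T.presheaf.stalk t) = 0 ↔ ringKrullDim ↥(U.presheaf.stalk (g t)) = 0
  rw [Groth.Agent.H25.EtaleDimStalk.ringKrullDim_stalk_eq_of_etale g t]

/-- Finiteness of the set of codimension zero points in a small affine neighbourhood, for a scheme
locally quasi-finite over a scheme with locally finitely many irreducible components. -/
theorem exists_nhd_finite_D {T U : Scheme.{u}} (p : T ⟶ U) [LocallyQuasiFinite p]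
    (hD : ∀ t : ↥T, t ∈ D T → p t ∈ D U) (hU : Lfi U) (t : ↥T) (O : T.Opens) (ht : t ∈ O) :
    ∃ N : T.Opens, t ∈ N ∧ N ≤ O ∧ (D T ∩ (N : Set ↥T)).Finite := by
  obtain ⟨U', hU', hptU', -⟩ := TopologicalSpace.Opens.isBasis_iff_nbhd.mp U.isBasis_affineOpens
    (U := ⊤) (x := p t) trivial
  have hU'a : IsAffineOpen U' := hU'
  obtain ⟨N, hN, htN, hNle⟩ := TopologicalSpace.Opens.isBasis_iff_nbhd.mp
    T.isBasis_affineOpens (U := O ⊓ p ⁻¹ᵁ U') (x := t) ⟨ht, hptU'⟩
  have hNa : IsAffineOpen N := hN
  have hNO : N ≤ O := hNle.trans inf_le_left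
  have hNU' : N ≤ p ⁻¹ᵁ U' := hNle.trans inf_le_right
  refine ⟨N, htN, hNO, ?_⟩
  have hfinU : (D U ∩ (U' : Set ↥U)).Finite := (lfi_iff U).mp hU U' hU'a.isCompact
  haveI : IsAffine (Scheme.Opens.toScheme N) := hNa
  haveI : IsAffine (Scheme.Opens.toScheme U') := hU'a
  let r : Scheme.Opens.toScheme N ⟶ Scheme.Opens.toScheme U' := p.resLE U' N hNU'
  have hr : ∀ x : ↥(Scheme.Opens.toScheme N), (Scheme.Opens.ι U') (r x) = p ((Scheme.Opens.ι N) x) := by
    intro x
    have h1 : (r ≫ Scheme.Opens.ι U') x = (Scheme.Opens.ι N ≫ p) x := by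
      rw [Scheme.Hom.resLE_comp_ι]
    exact h1
  have hfin1 : ((Scheme.Opens.ι U') ⁻¹' (D U ∩ (U' : Set ↥U))).Finite :=
    hfinU.preimage (Scheme.Opens.ι U').isOpenEmbedding.injective.injOn
  have hfin2 : (r ⁻¹' ((Scheme.Opens.ι U') ⁻¹' (D U ∩ (U' : Set ↥U)))).Finite :=
    r.finite_preimage hfin1
  refine (hfin2.image (Scheme.Opens.ι N)).subset ?_
  rintro x ⟨hxD, hxN⟩
  let x' : ↥(Scheme.Opens.toScheme N) := ⟨x, hxN⟩
  refine ⟨x', ?_, rfl⟩
  change (Scheme.Opens.ι U') (r x') ∈ D U ∩ (U' : Set ↥U)
  rw [hr]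
  exact ⟨hD x hxD, hNU' hxN⟩

/-- Descent of local finiteness of irreducible components along a surjective open morphism which
detects codimension zero points. -/
theorem lfi_of_surjective {T V : Scheme.{u}} (q : T ⟶ V) (hq : Function.Surjective q)
    (hopen : IsOpenMap q) (hD : ∀ t : ↥T, q t ∈ D V → t ∈ D T)
    (hT : ∀ (t : ↥T) (O : T.Opens), t ∈ O →
      ∃ N : T.Opens, t ∈ N ∧ N ≤ O ∧ (D T ∩ (N : Set ↥T)).Finite) :
    Lfi V := by
  rw [lfi_iff]
  intro W hW
  choose! N hN1 hN2 hN3 using fun (t : ↥T) (ht : t ∈ q ⁻¹ᵁ W) => hT t (q ⁻¹ᵁ W) ht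
  have hcov : (W : Set ↥V) ⊆ ⋃ t : {t : ↥T // t ∈ q ⁻¹ᵁ W}, q '' (N t.1 : Set ↥T) := by
    intro v hv
    obtain ⟨t, rfl⟩ := hq v
    exact Set.mem_iUnion.mpr ⟨⟨t, hv⟩, t, hN1 t hv, rfl⟩
  obtain ⟨s, hs⟩ := hW.elim_finite_subcover
    (fun t : {t : ↥T // t ∈ q ⁻¹ᵁ W} => q '' (N t.1 : Set ↥T))
    (fun t => hopen _ (N t.1).isOpen) hcov
  have hfin : (⋃ t : {t // t ∈ s}, q '' (D T ∩ (N t.1.1 : Set ↥T))).Finite :=
    Set.finite_iUnion (fun t => (hN3 t.1.1 t.1.2).image q)
  refine hfin.subset ?_
  rintro v ⟨hvD, hvW⟩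
  obtain ⟨t, hts, hvt⟩ := Set.mem_iUnion₂.mp (hs hvW)
  obtain ⟨t', ht'N, rfl⟩ := hvt
  exact Set.mem_iUnion.mpr ⟨⟨t, hts⟩, t', ⟨hD t' hvD, ht'N⟩, rfl⟩

variable {S : Scheme.{u}}

theorem repWith_id_etale (U : Over S) : RepWith @Etale (𝟙 ((yon S).obj U)) := by
  haveI : MorphismProperty.ContainsIdentities @Etale.{u} :=
    (inferInstance : MorphismProperty.IsMultiplicative @Etale.{u}).toContainsIdentities
  exact repWith_id @Etale U

theorem repWith_id_surjective (U : Over S) : RepWith @Surjective (𝟙 ((yon S).obj U)) := by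
  haveI : MorphismProperty.ContainsIdentities @Surjective.{u} :=
    (inferInstance : MorphismProperty.IsMultiplicative @Surjective.{u}).toContainsIdentities
  exact repWith_id @Surjective U

/-- The property passes from one etale atlas to every etale chart. -/
theorem lfi_of_chart {X : Sp S} {U V : Over S} (p : (yon S).obj U ⟶ X) (hpe : RepWith @Etale p)
    (hps : RepWith @Surjective p) (hU : Lfi U.left) (a : (yon S).obj V ⟶ X)
    (ha : RepWith @Etale a) : Lfi V.left := by
  have sq := hpe.rep.isPullback' a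
  haveI hq_e : Etale (hpe.rep.snd a).left := hpe.property_snd a
  haveI hp'_e : Etale (hpe.rep.fst' a).left := ha.2 p ((yon S).map (hpe.rep.snd a)) _ sq.flip
  haveI : LocallyQuasiFinite (hpe.rep.fst' a).left :=
    Groth.Agent.H70.EtaleSquare.locallyQuasiFinite_of_etale _
  have hq_s : Surjective (hpe.rep.snd a).left := hps.2 a _ _ sq
  refine lfi_of_surjective (hpe.rep.snd a).left hq_s.surj (hpe.rep.snd a).left.isOpenMap ?_ ?_
  · intro t ht
    exact (mem_D_iff_of_etale _ t).mpr ht
  · intro t O ht
    exact exists_nhd_finite_D (hpe.rep.fst' a).left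
      (fun t ht => (mem_D_iff_of_etale _ t).mp ht) hU t O ht

theorem etaleLocally_iff_allCharts {X : Sp S} (hX : IsAlgSpace X) :
    EtaleLocally Lfi X ↔
      ∀ (U : Over S) (a : (yon S).obj U ⟶ X), RepWith @Etale a → Lfi U.left := by
  constructor
  · rintro ⟨U, p, hpe, hps, hU⟩ V a ha
    exact lfi_of_chart p hpe hps hU a ha
  · intro h
    obtain ⟨U, p, hpe, hps⟩ := hX.atlas
    exact ⟨U, p, hpe, hps, h U p hpe⟩

theorem finite_codim0_of_allCharts {X : Sp S}
    (h : ∀ (U : Over S) (a : (yon S).obj U ⟶ X), RepWith @Etale a → Lfi U.left)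
    {Y : Sp S} (g : Y ⟶ X) (hg : IsEtaleMor g) (hY : IsQuasiCompactSp Y) :
    {y : Points Y | HasAt (fun U u => ringKrullDim ↥(U.presheaf.stalk u) = 0) Y y}.Finite := by
  obtain ⟨U', p', hp'e, hp's, hcpt⟩ := hY
  haveI : CompactSpace ↥U'.left := hcpt
  have hU' : Lfi U'.left := h U' (p' ≫ g) (hg p' hp'e)
  have hfin : (D U'.left ∩ ((⊤ : U'.left.Opens) : Set ↥U'.left)).Finite :=
    (lfi_iff U'.left).mp hU' ⊤ (by rw [TopologicalSpace.Opens.coe_top]; exact isCompact_univ)
  refine (hfin.image (Points.ofPt p')).subset ?_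
  intro y hy
  obtain ⟨u', hu'⟩ := Groth.Agent.H52.surjective_ofPt_of_surjective p' hp's y
  exact ⟨u', ⟨Groth.Agent.H52.ringKrullDim_stalk_eq_of_hasAt y 0 hy p' hp'e u' hu', trivial⟩, hu'⟩

theorem finite_irr_of_allCharts {X : Sp S}
    (h : ∀ (U : Over S) (a : (yon S).obj U ⟶ X), RepWith @Etale a → Lfi U.left)
    {Y : Sp S} (g : Y ⟶ X) (hg : IsEtaleMor g) (hY : IsQuasiCompactSp Y) :
    (irreducibleComponents (Points Y)).Finite := by
  obtain ⟨U', p', hp'e, hp's, hcpt⟩ := hY
  haveI : CompactSpace ↥U'.left := hcpt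
  have hU' : Lfi U'.left := h U' (p' ≫ g) (hg p' hp'e)
  have h1 : (irreducibleComponents ↥(⊤ : U'.left.Opens)).Finite :=
    hU' ⊤ (by rw [TopologicalSpace.Opens.coe_top]; exact isCompact_univ)
  have h2 : (irreducibleComponents ↥U'.left).Finite :=
    finite_irreducibleComponents_of_surjective
      (Subtype.val : ↥(⊤ : U'.left.Opens) → ↥U'.left) continuous_subtype_val
      (fun x => ⟨⟨x, trivial⟩, rfl⟩) h1
  exact finite_irreducibleComponents_of_surjective (Points.ofPt p') (Points.continuous_ofPt p')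
    (Groth.Agent.H52.surjective_ofPt_of_surjective p' hp's) h2

/-- The open subscheme `W` of `U` as a scheme over `S`. -/
abbrev opOver (U : Over S) (W : U.left.Opens) : Over S := Over.mk (W.ι ≫ U.hom)

/-- The inclusion of the open subscheme `W` of `U`, over `S`. -/
abbrev opIncl (U : Over S) (W : U.left.Opens) : opOver U W ⟶ U := Over.homMk W.ι rfl

theorem isEtaleMor_opIncl_comp {X : Sp S} {U : Over S} (p : (yon S).obj U ⟶ X)
    (hpe : RepWith @Etale p) (W : U.left.Opens) :
    IsEtaleMor ((yon S).map (opIncl U W) ≫ p) := by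
  apply isEtaleMor_of_repWith
  have h4 := AlgSp.repWith_isMultiplicative (S := S) @Etale
  exact (RepWith @Etale).comp_mem _ _
    ((repWith_yon_map_iff @Etale _).2 (by change Etale W.ι; infer_instance)) hpe

theorem isQuasiCompactSp_opOver (U : Over S) (W : U.left.Opens)
    (hW : IsCompact (W : Set ↥U.left)) : IsQuasiCompactSp ((yon S).obj (opOver U W)) :=
  ⟨opOver U W, 𝟙 _, repWith_id_etale _, repWith_id_surjective _, isCompact_iff_compactSpace.mp hW⟩

theorem finite_D_inter_of_finite_codim0 {U : Over S} (W : U.left.Opens)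
    (hfin : {y : Points ((yon S).obj (opOver U W)) |
      HasAt (fun U u => ringKrullDim ↥(U.presheaf.stalk u) = 0) ((yon S).obj (opOver U W)) y}.Finite) :
    (D U.left ∩ (W : Set ↥U.left)).Finite := by
  have h1 := hfin.preimage (Groth.Agent.H52.ofScheme_injective (opOver U W)).injOn
  refine (h1.image W.ι).subset ?_
  rintro x ⟨hxD, hxW⟩
  let w : ↥(Scheme.Opens.toScheme W) := ⟨x, hxW⟩
  refine ⟨w, ?_, rfl⟩
  refine ⟨opOver U W, 𝟙 _, w, repWith_id_etale _, ?_, ?_⟩
  · rw [Points.ofPt_eq_map_ofScheme, Points.map_id]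
  · change ringKrullDim ↥((Scheme.Opens.toScheme W).presheaf.stalk w) = 0
    rw [Groth.Agent.H25.EtaleDimStalk.ringKrullDim_stalk_eq_of_etale W.ι w]
    exact hxD

theorem finite_irr_opens_of_points {U : Over S} (W : U.left.Opens)
    (hfin : (irreducibleComponents (Points ((yon S).obj (opOver U W)))).Finite) :
    (irreducibleComponents ↥W).Finite := by
  let e := Points.schemeEquiv (opOver U W)
  have hcont : Continuous e.symm := by
    rw [continuous_def]
    intro O hO
    have hpre : e.symm ⁻¹' O = Points.ofPt (𝟙 ((yon S).obj (opOver U W))) '' O := by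
      ext y
      constructor
      · intro hy
        refine ⟨e.symm y, hy, ?_⟩
        rw [Points.ofPt_eq_map_ofScheme, Points.map_id]
        exact e.apply_symm_apply y
      · rintro ⟨w, hw, rfl⟩
        rw [Points.ofPt_eq_map_ofScheme, Points.map_id]
        change e.symm (e w) ∈ O
        rw [e.symm_apply_apply]
        exact hw
    rw [hpre]
    exact Groth.Agent.H52.isOpenMap_ofPt_of_etale _ (repWith_id_etale _) O hO
  exact finite_irreducibleComponents_of_surjective e.symm hcont e.symm.surjective hfin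

/-- S10304. -/
theorem lfi_tfae (X : AlgSp.Space S) :
    (EtaleLocally Lfi X.obj ↔
      ∀ (U : Over S) (a : (yon S).obj U ⟶ X.obj), RepWith @Etale a → Lfi U.left) ∧
    (EtaleLocally Lfi X.obj ↔
      ∀ (Y : AlgSp.Space S) (g : Y ⟶ X), IsEtaleMor g.hom → IsQuasiCompactSp Y.obj →
        {y : Points Y.obj |
          HasAt (fun U u => ringKrullDim ↥(U.presheaf.stalk u) = 0) Y.obj y}.Finite) ∧
    (EtaleLocally Lfi X.obj ↔
      ∀ (Y : AlgSp.Space S) (g : Y ⟶ X), IsEtaleMor g.hom → IsQuasiCompactSp Y.obj →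
        (irreducibleComponents (Points Y.obj)).Finite) := by
  have h1 := etaleLocally_iff_allCharts X.property
  refine ⟨h1, ?_, ?_⟩
  · constructor
    · intro h Y g hg hY
      exact finite_codim0_of_allCharts (h1.mp h) g.hom hg hY
    · intro H
      obtain ⟨U, p, hpe, hps⟩ := X.property.atlas
      refine ⟨U, p, hpe, hps, ?_⟩
      change Lfi U.left
      rw [lfi_iff]
      intro W hW
      exact finite_D_inter_of_finite_codim0 W
        (H ⟨(yon S).obj (opOver U W), IsAlgSpace.yon_obj _⟩
          (ObjectProperty.homMk ((yon S).map (opIncl U W) ≫ p))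
          (isEtaleMor_opIncl_comp p hpe W) (isQuasiCompactSp_opOver U W hW))
  · constructor
    · intro h Y g hg hY
      exact finite_irr_of_allCharts (h1.mp h) g.hom hg hY
    · intro H
      obtain ⟨U, p, hpe, hps⟩ := X.property.atlas
      refine ⟨U, p, hpe, hps, ?_⟩
      intro W hW
      exact finite_irr_opens_of_points W
        (H ⟨(yon S).obj (opOver U W), IsAlgSpace.yon_obj _⟩
          (ObjectProperty.homMk ((yon S).map (opIncl U W) ≫ p))
          (isEtaleMor_opIncl_comp p hpe W) (isQuasiCompactSp_opOver U W hW))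

end Groth.Agent.H25.LFI
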