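import Mathlib
import Groth.Prelude
import Groth.Agent.H25.AffineTensor
import Groth.Agent.H25.NormalGeneral

set_option maxHeartbeats 400000
set_option linter.style.haveILetI false
set_option linter.unusedVariables false
set_option linter.unusedSectionVars false

open CategoryTheory CategoryTheory.Limits AlgebraicGeometry TopologicalSpace Opposite TensorProduct

universe u

namespace Groth.Agent.H25.NormalAffine

open Groth.Agent.H25.AffineTensor Groth.Agent.H25.NormalElem

/-- The ring of sections of a normal scheme over an affine open is a normal ring. -/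
theorem isNormalRing_sections_of_isNormalScheme {X : Scheme.{u}} (hX : Pi1.IsNormalScheme X)
    {U : X.Opens} (hU : IsAffineOpen U) : EGA4.IsNormalRing Γ(X, U) := by
  intro p hp
  have hy : hU.fromSpec ⟨p, hp⟩ ∈ U := by
    have h1 : hU.fromSpec ⟨p, hp⟩ ∈ Set.range hU.fromSpec := ⟨_, rfl⟩
    rw [hU.range_fromSpec] at h1
    exact h1
  letI := TopCat.Presheaf.algebra_section_stalk X.presheaf ⟨hU.fromSpec ⟨p, hp⟩, hy⟩
  haveI hloc : IsLocalization.AtPrime (X.presheaf.stalk (hU.fromSpec ⟨p, hp⟩)) p :=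
    hU.isLocalization_stalk' ⟨p, hp⟩ hy
  obtain ⟨hd, hic⟩ := hX (hU.fromSpec ⟨p, hp⟩)
  haveI := hd
  haveI := hic
  let e : Localization.AtPrime p ≃+* X.presheaf.stalk (hU.fromSpec ⟨p, hp⟩) :=
    (IsLocalization.algEquiv p.primeCompl (Localization.AtPrime p)
      (X.presheaf.stalk (hU.fromSpec ⟨p, hp⟩))).toRingEquiv
  exact ⟨e.toMulEquiv.isDomain _, IsIntegrallyClosed.of_equiv e.symm⟩

/-- If the ring of sections over an affine open is a normal ring, the local rings at its points
are normal domains. -/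
theorem stalk_normal_of_isNormalRing_sections {X : Scheme.{u}} {W : X.Opens}
    (hW : IsAffineOpen W) (h : EGA4.IsNormalRing Γ(X, W)) (z : X) (hz : z ∈ W) :
    IsDomain (X.presheaf.stalk z) ∧ IsIntegrallyClosed (X.presheaf.stalk z) := by
  letI := X.presheaf.algebra_section_stalk ⟨z, hz⟩
  haveI := hW.isLocalization_stalk ⟨z, hz⟩
  haveI hpr : (hW.primeIdealOf ⟨z, hz⟩).asIdeal.IsPrime := (hW.primeIdealOf ⟨z, hz⟩).isPrime
  obtain ⟨hd, hic⟩ := h (hW.primeIdealOf ⟨z, hz⟩).asIdeal
  haveI := hd
  haveI := hic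
  let e : Localization.AtPrime (hW.primeIdealOf ⟨z, hz⟩).asIdeal ≃+* X.presheaf.stalk z :=
    (IsLocalization.algEquiv (hW.primeIdealOf ⟨z, hz⟩).asIdeal.primeCompl
      (Localization.AtPrime (hW.primeIdealOf ⟨z, hz⟩).asIdeal) (X.presheaf.stalk z)).toRingEquiv
  exact ⟨e.symm.toMulEquiv.isDomain _, IsIntegrallyClosed.of_equiv e⟩

/-- EGA IV 6.14.x: the product of a geometrically normal `k`-scheme with a normal `k`-scheme is
normal. -/
theorem isNormalScheme_pullback_of_geomNormal {k : Type u} [Field k] {X Y : Scheme.{u}}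
    (f : X ⟶ Spec (CommRingCat.of k)) (g : Y ⟶ Spec (CommRingCat.of k))
    (hX : ∀ (K : Type u) [Field K] [Algebra k K],
      Pi1.IsNormalScheme (pullback f (Spec.map (CommRingCat.ofHom (algebraMap k K)))))
    (hY : Pi1.IsNormalScheme Y) : Pi1.IsNormalScheme (pullback f g) := by
  intro z
  obtain ⟨_, ⟨U, hU, rfl⟩, hzU, -⟩ := X.isBasis_affineOpens.exists_subset_of_mem_open
    (Set.mem_univ ((pullback.fst f g).base z)) isOpen_univ
  obtain ⟨_, ⟨V, hV, rfl⟩, hzV, -⟩ := Y.isBasis_affineOpens.exists_subset_of_mem_open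
    (Set.mem_univ ((pullback.snd f g).base z)) isOpen_univ
  replace hU : IsAffineOpen U := hU
  replace hV : IsAffineOpen V := hV
  letI := sectionsAlgebra f U
  letI := sectionsAlgebra g V
  obtain ⟨e, -, -⟩ := exists_ringEquiv_sections_pullback f g U hU V hV
  have hW := isAffineOpen_inf_preimage f g hU hV
  have hVn : EGA4.IsNormalRing Γ(Y, V) := isNormalRing_sections_of_isNormalScheme hY hV
  have hUn : EGA4.IsGeomNormal k Γ(X, U) := by
    intro k' _ _ hfin
    obtain ⟨e', -⟩ := exists_ringEquiv_sections_bc f k' U hU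
    exact isNormalRing_of_ringEquiv e'.symm
      (isNormalRing_sections_of_isNormalScheme (hX k') (isAffineOpen_preimage_bc f k' hU))
  have hT : EGA4.IsNormalRing (Γ(X, U) ⊗[k] Γ(Y, V)) :=
    Groth.Agent.H25.NormalGeneral.isNormalRing_tensor_of_isGeomNormal_general k _ _ hUn hVn
  have hWn := isNormalRing_of_ringEquiv e hT
  exact stalk_normal_of_isNormalRing_sections hW hWn z ⟨hzU, hzV⟩

end Groth.Agent.H25.NormalAffine
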