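import Mathlib
import Groth.Prelude
import Groth.Agent.H25.LFI
import Groth.Agent.H25.SmoothStalk
import Groth.Agent.H25.GeomRedAlgSp4
import Groth.Agent.H25.NormalAffine
import Groth.Agent.H52.DecentTop
import Groth.Agent.H52.FQDecent
import Groth.Agent.H69.DecentSober

/-!
# Normal integral affine etale charts of a normal integral algebraic space (helper25)

* `normal_stalk_iff_of_etale`, `normal_stalks_chart`: normality of local rings passes between etale charts.
* `generic_eq_of_isDomain_stalk`: a point whose local ring is a domain lies on a unique irreducible component.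
* `exists_affine_irreducible_nhd`: in a scheme with finitely many irreducible components and domain local
  rings every point has an irreducible affine open neighbourhood.
* `exists_normal_integral_chart` (S10492).
-/

set_option autoImplicit false
set_option maxHeartbeats 400000
set_option linter.style.haveILetI false
set_option linter.unusedVariables false
set_option linter.unusedSectionVars false

universe u

open CategoryTheory CategoryTheory.Limits AlgebraicGeometry TopologicalSpace AlgSp Opposite

namespace Groth.Agent.H25.NormalChart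

open Groth.Agent.H52 Groth.Agent.H25.LFI

variable {S : Scheme.{u}}

/-- Normality of local rings is invariant under etale maps. -/
theorem normal_stalk_iff_of_etale {V U : Scheme.{u}} (g : V ⟶ U) [Etale g] (v : ↥V) :
    (IsDomain ↥(V.presheaf.stalk v) ∧ IsIntegrallyClosed ↥(V.presheaf.stalk v)) ↔
      (IsDomain ↥(U.presheaf.stalk (g v)) ∧ IsIntegrallyClosed ↥(U.presheaf.stalk (g v))) := by
  haveI : Smooth g := inferInstance
  have hmem : v ∈ g.smoothLocus := by
    rw [Scheme.Hom.smoothLocus_eq_top g]
    trivial
  exact (Groth.Agent.H25.SmoothStalk.reduced_normal_iff_of_smoothAt g v hmem).2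

/-- If some etale atlas has normal local rings then every etale chart has. -/
theorem normal_stalks_chart {X : Sp S}
    (hXn : EtaleLocally (fun U => ∀ u : ↥U, IsDomain ↥(U.presheaf.stalk u) ∧
      IsIntegrallyClosed ↥(U.presheaf.stalk u)) X)
    {V : Over S} (b : (yon S).obj V ⟶ X) (hb : RepWith @Etale b) (v : ↥V.left) :
    IsDomain ↥(V.left.presheaf.stalk v) ∧ IsIntegrallyClosed ↥(V.left.presheaf.stalk v) := by
  obtain ⟨W, p, hpe, hps, hW⟩ := hXn
  obtain ⟨w, hw⟩ := surjective_ofPt_of_surjective p hps (Points.ofPt b v)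
  exact Groth.Agent.H25.GeomRedAlgSp4.hasAt_transfer
    (fun U u => IsDomain ↥(U.presheaf.stalk u) ∧ IsIntegrallyClosed ↥(U.presheaf.stalk u))
    (fun g _ v => normal_stalk_iff_of_etale g v) p hpe b hb w v hw (hW w)

/-- A point whose local ring is a domain lies on a unique irreducible component. -/
theorem generic_eq_of_isDomain_stalk {U : Scheme.{u}} (u : ↥U) [IsDomain ↥(U.presheaf.stalk u)]
    {z t : ↥U} (hz : z ∈ genericPoints ↥U) (ht : t ∈ genericPoints ↥U) (hzu : z ⤳ u)
    (htu : t ⤳ u) : z = t := by
  let b : ↥(Spec (U.presheaf.stalk u)) :=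
    (⟨⊥, Ideal.isPrime_bot⟩ : PrimeSpectrum ↥(U.presheaf.stalk u))
  have key : ∀ y : ↥U, y ∈ genericPoints ↥U → y ⤳ u → y = U.fromSpecStalk u b := by
    intro y hy hyu
    have hmem : y ∈ Set.range (U.fromSpecStalk u) := by
      rw [Scheme.range_fromSpecStalk]; exact hyu
    obtain ⟨q, rfl⟩ := hmem
    have hle : b ⤳ q :=
      (PrimeSpectrum.le_iff_specializes (⟨⊥, Ideal.isPrime_bot⟩ : PrimeSpectrum ↥(U.presheaf.stalk u))
        q).1 (show (⊥ : Ideal ↥(U.presheaf.stalk u)) ≤ q.asIdeal from bot_le)
    have h2 : U.fromSpecStalk u b ⤳ U.fromSpecStalk u q := hle.map (U.fromSpecStalk u).continuous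
    exact ((mem_genericPoints_iff _).1 hy _ h2).symm
  rw [key z hz hzu, key t ht htu]

/-- In a scheme with finitely many irreducible components and domain local rings every point has an
irreducible affine open neighbourhood. -/
theorem exists_affine_irreducible_nhd {U : Scheme.{u}} (hfin : (irreducibleComponents ↥U).Finite)
    (hdom : ∀ u' : ↥U, IsDomain ↥(U.presheaf.stalk u')) (u : ↥U) :
    ∃ O : U.Opens, IsAffineOpen O ∧ u ∈ O ∧ IsIrreducible (O : Set ↥U) := by
  classical
  have hTmem : irreducibleComponent u ∈ irreducibleComponents ↥U :=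
    irreducibleComponent_mem_irreducibleComponents u
  have hFc : IsClosed (⋃ Z ∈ (irreducibleComponents ↥U \ {irreducibleComponent u}), Z) :=
    (hfin.subset Set.sdiff_subset).isClosed_biUnion
      (fun Z hZ => isClosed_of_mem_irreducibleComponents Z hZ.1)
  have huF : u ∉ (⋃ Z ∈ (irreducibleComponents ↥U \ {irreducibleComponent u}), Z) := by
    intro hu
    obtain ⟨Z, hZ, huZ⟩ := Set.mem_iUnion₂.1 hu
    have hZirr : IsIrreducible Z := hZ.1.1
    have hZcl : IsClosed Z := isClosed_of_mem_irreducibleComponents Z hZ.1
    obtain ⟨z, hz⟩ := QuasiSober.sober hZirr hZcl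
    obtain ⟨t, ht⟩ := QuasiSober.sober (isIrreducible_irreducibleComponent (x := u))
      isClosed_irreducibleComponent
    have hzg : z ∈ genericPoints ↥U := by
      change closure {z} ∈ irreducibleComponents ↥U
      rw [hz.def]; exact hZ.1
    have htg : t ∈ genericPoints ↥U := by
      change closure {t} ∈ irreducibleComponents ↥U
      rw [ht.def]; exact hTmem
    have hzu : z ⤳ u := specializes_iff_mem_closure.2 (by rw [hz.def]; exact huZ)
    have htu : t ⤳ u :=
      specializes_iff_mem_closure.2 (by rw [ht.def]; exact mem_irreducibleComponent)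
    haveI := hdom u
    have hzt := generic_eq_of_isDomain_stalk u hzg htg hzu htu
    apply hZ.2
    rw [Set.mem_singleton_iff, ← hz.def, ← ht.def, hzt]
  have hcover : ∀ y : ↥U, y ∈ irreducibleComponent u ∨
      y ∈ (⋃ Z ∈ (irreducibleComponents ↥U \ {irreducibleComponent u}), Z) := by
    intro y
    by_cases h : irreducibleComponent y = irreducibleComponent u
    · left; rw [← h]; exact mem_irreducibleComponent
    · right
      exact Set.mem_iUnion₂.2 ⟨irreducibleComponent y,
        ⟨irreducibleComponent_mem_irreducibleComponents y, h⟩, mem_irreducibleComponent⟩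
  obtain ⟨_, ⟨O, hO, rfl⟩, huO, hOF⟩ :=
    U.isBasis_affineOpens.exists_subset_of_mem_open
      (show u ∈ (⋃ Z ∈ (irreducibleComponents ↥U \ {irreducibleComponent u}), Z)ᶜ from huF)
      hFc.isOpen_compl
  refine ⟨O, hO, huO, ⟨⟨u, huO⟩, ?_⟩⟩
  refine (isIrreducible_irreducibleComponent (x := u)).isPreirreducible.open_subset O.isOpen ?_
  intro y hy
  rcases hcover y with h | h
  · exact h
  · exact absurd h (hOF hy)

/-- (S10492) Every point of a normal integral algebraic space lies in the image of an etale morphism from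
a normal integral affine scheme. -/
theorem exists_normal_integral_chart {X : Space S} (hXi : IsIntegralSp X.obj)
    (hXn : EtaleLocally (fun U => ∀ u : ↥U, IsDomain ↥(U.presheaf.stalk u) ∧
      IsIntegrallyClosed ↥(U.presheaf.stalk u)) X.obj)
    (x : Points X.obj) :
    ∃ (U : Over S) (a : (yon S).obj U ⟶ X.obj), RepWith @Etale a ∧ IsAffine U.left ∧
      IsIntegral U.left ∧ IsIntegrallyClosed ↥Γ(U.left, ⊤) ∧ x ∈ Set.range (Points.ofPt a) := by
  obtain ⟨-, hdec, hirr⟩ := hXi
  have hXa := X.property
  haveI := t0Space_of_isDecent hXa hdec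
  haveI := Groth.Agent.H69.DecentSober.quasiSober_of_isDecent hXa hdec
  haveI := hirr
  obtain ⟨η, hη⟩ := QuasiSober.sober (IrreducibleSpace.isIrreducible_univ (Points X.obj)) isClosed_univ
  obtain ⟨U, a, u, hUaff, hae, hu⟩ := exists_affine_chart_at hXa x
  have hnorm := fun u' => normal_stalks_chart hXn a hae u'
  obtain ⟨pη, hpη, -, hqη⟩ := hdec η
  have hgen : genericPoints ↥U.left ⊆ Points.ofPt a ⁻¹' {η} := by
    intro g hg
    have hsp : Points.mk pη ⤳ Points.ofPt a g := by
      rw [hpη]; exact hη.specializes (Set.mem_univ _)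
    obtain ⟨u', hu'g, hu'⟩ :=
      exists_generization_of_specializes (Points.ofPt a g) pη hsp hqη a hae g rfl
    have h1 : u' = g := (mem_genericPoints_iff g).1 hg u' hu'g
    rw [h1, hpη] at hu'
    exact hu'
  have hfinG : (genericPoints ↥U.left).Finite :=
    (finite_fibre_of_isDecent hdec η U a hUaff hae).subset hgen
  have hfin : (irreducibleComponents ↥U.left).Finite := finite_irreducibleComponents_iff.2 hfinG
  obtain ⟨O, hO, huO, hOirr⟩ := exists_affine_irreducible_nhd hfin (fun u' => (hnorm u').1) u
  have ha₀ : RepWith @Etale ((yon S).map (overOpenHom U O) ≫ a) :=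
    repWith_yon_map_comp @Etale _ (show Etale (Scheme.Opens.ι O) from inferInstance) a hae
  have hnorm₀ := fun v => normal_stalks_chart hXn _ ha₀ v
  have hAff : IsAffine (overOpen U O).left := hO
  haveI : ∀ v : ↥(overOpen U O).left,
      _root_.IsReduced ↥((overOpen U O).left.presheaf.stalk v) := by
    intro v
    haveI := (hnorm₀ v).1
    infer_instance
  haveI : IsReduced (overOpen U O).left := isReduced_of_isReduced_stalk _
  haveI : IrreducibleSpace ↥(overOpen U O).left := Subtype.irreducibleSpace hOirr
  haveI hint : IsIntegral (overOpen U O).left := isIntegral_of_irreducibleSpace_of_isReduced _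
  refine ⟨overOpen U O, _, ha₀, hAff, hint, ?_, ⟨(⟨u, huO⟩ : ↥(Scheme.Opens.toScheme O)), ?_⟩⟩
  · have hNR : EGA4.IsNormalRing Γ((overOpen U O).left, ⊤) :=
      Groth.Agent.H25.NormalAffine.isNormalRing_sections_of_isNormalScheme hnorm₀
        (isAffineOpen_top _)
    haveI : IsDomain ↥Γ((overOpen U O).left, ⊤) := inferInstance
    exact IsIntegrallyClosed.of_localization_maximal (fun p _ _ => (hNR p).2)
  · exact (ofPt_yon_map_comp (overOpenHom U O) a (⟨u, huO⟩ : ↥(Scheme.Opens.toScheme O))).trans hu

end Groth.Agent.H25.NormalChart
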