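import Mathlib
import Groth.Prelude
import Groth.Agent.H25.GlobSec
import Groth.Agent.H25.NormalChart

/-!
# Global functions of a normal integral algebraic space form a normal domain (helper25)
-/

set_option autoImplicit false
set_option maxHeartbeats 400000
set_option linter.style.haveILetI false
set_option linter.unusedVariables false
set_option linter.unusedSectionVars false
set_option linter.unusedSimpArgs false

universe u

open CategoryTheory CategoryTheory.Limits AlgebraicGeometry TopologicalSpace AlgSp Opposite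

namespace Groth.Agent.H25.GlobSecNormal

open Groth.Agent.H25.GlobSec

variable {S : Scheme.{u}}

/-! ### Algebra -/

theorem exists_mul_eq_of_scaleRoots {R : Type*} [CommRing R] [IsDomain R] [IsIntegrallyClosed R]
    (a b : R) (hb : b ≠ 0) (p : Polynomial R) (hp : p.Monic)
    (h : (p.scaleRoots b).eval a = 0) : ∃ g, g * b = a := by
  have hf : Function.Injective (algebraMap R (FractionRing R)) := IsFractionRing.injective R _
  have hfb : algebraMap R (FractionRing R) b ≠ 0 := fun h0 => hb (hf (h0.trans (map_zero _).symm))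
  have h1 := Polynomial.scaleRoots_eval₂_mul (p := p) (algebraMap R (FractionRing R))
    (algebraMap R (FractionRing R) a / algebraMap R (FractionRing R) b) b
  have h2 : algebraMap R (FractionRing R) b *
      (algebraMap R (FractionRing R) a / algebraMap R (FractionRing R) b) =
      algebraMap R (FractionRing R) a := by
    field_simp
  rw [h2, Polynomial.eval₂_at_apply, h, map_zero] at h1
  have h3 : Polynomial.eval₂ (algebraMap R (FractionRing R))
      (algebraMap R (FractionRing R) a / algebraMap R (FractionRing R) b) p = 0 := by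
    rcases mul_eq_zero.mp h1.symm with h4 | h4
    · exact absurd h4 (pow_ne_zero _ hfb)
    · exact h4
  have hint : IsIntegral R
      (algebraMap R (FractionRing R) a / algebraMap R (FractionRing R) b) := ⟨p, hp, h3⟩
  obtain ⟨g, hg⟩ := IsIntegrallyClosed.algebraMap_eq_of_integral hint
  refine ⟨g, hf ?_⟩
  rw [map_mul, hg]
  field_simp

theorem exists_monic_scaleRoots {R : Type*} [CommRing R] [IsDomain R] (a b : R) (hb : b ≠ 0)
    (h : IsIntegral R (algebraMap R (FractionRing R) a / algebraMap R (FractionRing R) b)) :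
    ∃ p : Polynomial R, p.Monic ∧ (p.scaleRoots b).eval a = 0 := by
  obtain ⟨p, hp, hpx⟩ := h
  have hf : Function.Injective (algebraMap R (FractionRing R)) := IsFractionRing.injective R _
  refine ⟨p, hp, hf ?_⟩
  rw [map_zero, ← Polynomial.eval₂_at_apply]
  exact Polynomial.scaleRoots_eval₂_eq_zero_of_eval₂_div_eq_zero hf hpx
    (mem_nonZeroDivisors_of_ne_zero hb)

theorem scaleRoots_eval_map {R R' : Type*} [CommRing R] [CommRing R'] [Nontrivial R']
    (φ : R →+* R') (a b : R) (p : Polynomial R) (hp : p.Monic)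
    (h : (p.scaleRoots b).eval a = 0) :
    ((p.map φ).scaleRoots (φ b)).eval (φ a) = 0 := by
  have h1 : (p.scaleRoots b).map φ = (p.map φ).scaleRoots (φ b) :=
    Polynomial.map_scaleRoots p b φ (by rw [hp.leadingCoeff, map_one]; exact one_ne_zero)
  rw [← h1, Polynomial.eval_map, Polynomial.eval₂_at_apply, h, map_zero]

/-! ### Gluing on a scheme -/

section SchemeLevel

variable {U : Scheme.{u}}

theorem section_mul_cancel (hD : ∀ u : ↥U, IsDomain ↥(U.presheaf.stalk u)) (b : Γ(U, ⊤))
    (hb : ∀ u : ↥U, U.presheaf.germ ⊤ u trivial b ≠ 0) (g g' : Γ(U, ⊤))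
    (h : g * b = g' * b) : g = g' := by
  refine TopCat.Presheaf.section_ext U.sheaf ⊤ g g' fun x hx => ?_
  change U.presheaf.germ ⊤ x trivial g = U.presheaf.germ ⊤ x trivial g'
  haveI := hD x
  have h1 := congrArg (fun t => U.presheaf.germ ⊤ x trivial t) h
  simp only [map_mul] at h1
  exact mul_right_cancel₀ (hb x) h1

theorem exists_section_mul_eq {R₀ : Type*} [CommRing R₀] (ρ : R₀ →+* Γ(U, ⊤))
    (hN : ∀ u : ↥U, IsDomain ↥(U.presheaf.stalk u) ∧ IsIntegrallyClosed ↥(U.presheaf.stalk u))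
    (a b : R₀) (hb : ∀ u : ↥U, U.presheaf.germ ⊤ u trivial (ρ b) ≠ 0)
    (p : Polynomial R₀) (hp : p.Monic) (h : (p.scaleRoots b).eval a = 0) :
    ∃ g : Γ(U, ⊤), g * ρ b = ρ a := by
  have hloc : ∀ u : ↥U, ∃ (W : U.Opens) (_ : u ∈ W) (s : Γ(U, W)), ∀ (w : ↥U) (hw : w ∈ W),
      U.presheaf.germ W w hw s * U.presheaf.germ ⊤ w trivial (ρ b) =
        U.presheaf.germ ⊤ w trivial (ρ a) := by
    intro u
    haveI := (hN u).1
    haveI := (hN u).2
    let φ : R₀ →+* ↥(U.presheaf.stalk u) := (U.presheaf.germ ⊤ u trivial).hom.comp ρ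
    obtain ⟨γ, hγ⟩ := exists_mul_eq_of_scaleRoots (φ a) (φ b) (hb u) (p.map φ) (hp.map φ)
      (scaleRoots_eval_map φ a b p hp h)
    obtain ⟨V, hV, s, hs⟩ := TopCat.Presheaf.exists_germ_eq U.presheaf γ
    have e1 : U.presheaf.germ V u hV (s * U.presheaf.map (homOfLE le_top).op (ρ b)) =
        U.presheaf.germ V u hV (U.presheaf.map (homOfLE le_top).op (ρ a)) := by
      rw [map_mul, TopCat.Presheaf.germ_res_apply, TopCat.Presheaf.germ_res_apply, hs]
      exact hγ
    obtain ⟨W, hW, iU, iV, hres⟩ := TopCat.Presheaf.germ_eq U.presheaf u hV hV _ _ e1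
    refine ⟨W, hW, U.presheaf.map iU.op s, fun w hw => ?_⟩
    have e2 := congrArg (fun t => U.presheaf.germ W w hw t) hres
    simp only [TopCat.Presheaf.germ_res_apply, map_mul] at e2
    rw [TopCat.Presheaf.germ_res_apply]
    exact e2
  choose W hW s hs using hloc
  have hcompat : TopCat.Presheaf.IsCompatible U.sheaf.obj W s := by
    intro i j
    refine TopCat.Presheaf.section_ext U.sheaf _ _ _ fun x hx => ?_
    haveI := (hN x).1
    change U.presheaf.germ (W i ⊓ W j) x hx (U.presheaf.map (Opens.infLELeft (W i) (W j)).op (s i)) =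
      U.presheaf.germ (W i ⊓ W j) x hx (U.presheaf.map (Opens.infLERight (W i) (W j)).op (s j))
    rw [TopCat.Presheaf.germ_res_apply, TopCat.Presheaf.germ_res_apply]
    exact mul_right_cancel₀ (hb x) ((hs i x hx.1).trans (hs j x hx.2).symm)
  obtain ⟨g0, hg0, -⟩ := TopCat.Sheaf.existsUnique_gluing' U.sheaf W ⊤ (fun i => homOfLE le_top)
    (fun x _ => Opens.mem_iSup.mpr ⟨x, hW x⟩) s hcompat
  let g : Γ(U, ⊤) := g0
  have hg : ∀ i : ↥U, U.presheaf.map (homOfLE (le_top : W i ≤ ⊤)).op g = s i := hg0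
  refine ⟨g, ?_⟩
  refine TopCat.Presheaf.section_ext U.sheaf ⊤ _ _ fun x hx => ?_
  change U.presheaf.germ ⊤ x trivial (g * ρ b) = U.presheaf.germ ⊤ x trivial (ρ a)
  rw [map_mul]
  have e3 : U.presheaf.germ ⊤ x trivial g = U.presheaf.germ (W x) x (hW x) (s x) := by
    rw [← hg x, TopCat.Presheaf.germ_res_apply]
  exact (congrArg (· * U.presheaf.germ ⊤ x trivial (ρ b)) e3).trans (hs x x (hW x))

end SchemeLevel

/-! ### Non-vanishing of germs of a nonzero global function -/

theorem mem_basicOpen_of_ofPt_eq {X : Sp S} (f : ↥(gsectEt (OEt X))) (E E' : EtOver X)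
    (u : ↥E.obj.left.left) (u' : ↥E'.obj.left.left)
    (h : Points.ofPt (str E) u = Points.ofPt (str E') u')
    (hu' : u' ∈ E'.obj.left.left.basicOpen (res X f E')) :
    u ∈ E.obj.left.left.basicOpen (res X f E) := by
  obtain ⟨P, ψ, fst, sq⟩ := E.property.1 (str E')
  obtain ⟨φ, rfl⟩ := (yon S).map_surjective fst
  haveI hψ : Etale ψ.left := E.property.2 _ _ _ sq
  haveI hφ : Etale φ.left := E'.property.2 _ _ _ sq.flip
  obtain ⟨p, hp1, hp2⟩ := Groth.Agent.H52.exists_of_ofPt_eq_ofPt sq u u' h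
  have h4 := AlgSp.repWith_isMultiplicative (S := S) @Etale
  have hE'' : RepWith @Etale ((yon S).map φ ≫ str E) :=
    (RepWith @Etale).comp_mem _ _ ((repWith_yon_map_iff @Etale φ).2 hφ) E.property
  let E'' : EtOver X := EtOver.mk ((yon S).map φ ≫ str E) hE''
  let g₁ : E'' ⟶ E := EtOver.homMk φ rfl
  let g₂ : E'' ⟶ E' := EtOver.homMk ψ sq.w.symm
  have h2 : p ∈ P.left.basicOpen (res X f E'') := by
    rw [res_map X f g₂]
    refine (mem_basicOpen_appTop ψ.left (res X f E') p).mpr ?_
    rw [hp2]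
    exact hu'
  rw [res_map X f g₁] at h2
  have h3 := (mem_basicOpen_appTop φ.left (res X f E) p).mp h2
  rw [hp1] at h3
  exact h3

theorem nonVanishing_nonempty {X : Sp S} (hred : IsReducedSp X) (b : ↥(gsectEt (OEt X)))
    (hb : b ≠ 0) : (nonVanishing X b).Nonempty := by
  by_contra hne
  rw [Set.not_nonempty_iff_eq_empty] at hne
  apply hb
  apply eq_zero_of_basicOpen_eq_bot hred
  intro E
  rw [← le_bot_iff]
  intro u hu
  have : Points.ofPt (str E) u ∈ nonVanishing X b := Set.mem_iUnion.mpr ⟨E, u, hu, rfl⟩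
  rw [hne] at this
  exact this.elim

theorem germ_res_ne_zero {X : Sp S} (hred : IsReducedSp X) [IrreducibleSpace (Points X)]
    (b : ↥(gsectEt (OEt X))) (hb : b ≠ 0) (E : EtOver X) (u : ↥E.obj.left.left) :
    E.obj.left.left.presheaf.germ ⊤ u trivial (res X b E) ≠ 0 := by
  intro h0
  have h0' : E.obj.left.left.presheaf.germ ⊤ u trivial (res X b E) =
      E.obj.left.left.presheaf.germ ⊤ u trivial 0 := by rw [h0, map_zero]
  obtain ⟨N, hN, i1, i2, hres⟩ :=
    TopCat.Presheaf.germ_eq E.obj.left.left.presheaf (U := ⊤) (V := ⊤) u trivial trivial _ _ h0'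
  rw [map_zero] at hres
  have hNo : IsOpen (Points.ofPt (str E) '' (N : Set ↥E.obj.left.left)) :=
    Groth.Agent.H52.isOpenMap_ofPt_of_etale (str E) E.property _ N.isOpen
  obtain ⟨x, ⟨n, hn, hnx⟩, hx2⟩ := nonempty_preirreducible_inter hNo (isOpen_nonVanishing X b)
    ⟨_, ⟨u, hN, rfl⟩⟩ (nonVanishing_nonempty hred b hb)
  obtain ⟨E', u', hu', hu'x⟩ := Set.mem_iUnion.mp hx2
  have hn2 : n ∈ E.obj.left.left.basicOpen (res X b E) :=
    mem_basicOpen_of_ofPt_eq b E E' n u' (hnx.trans hu'x.symm) hu'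
  rw [Scheme.mem_basicOpen_top] at hn2
  have hz : E.obj.left.left.presheaf.germ ⊤ n trivial (res X b E) = 0 := by
    rw [← TopCat.Presheaf.germ_res_apply E.obj.left.left.presheaf i1 n hn (res X b E), hres,
      map_zero]
  rw [hz] at hn2
  exact not_isUnit_zero hn2

/-! ### Assembling the global section -/

/-- Restriction of global functions to an object of the site, as a ring homomorphism. -/
noncomputable def resHom (X : Sp S) (E : EtOver X) :
    ↥(gsectEt (OEt X)) →+* Γ(E.obj.left.left, ⊤) :=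
  (ULift.ringEquiv : ULift.{u + 1} Γ(E.obj.left.left, ⊤) ≃+* Γ(E.obj.left.left, ⊤)).toRingHom.comp
    (limit.π (OEt X).obj (op E)).hom

theorem resHom_apply (X : Sp S) (E : EtOver X) (f : ↥(gsectEt (OEt X))) :
    resHom X E f = res X f E := rfl

theorem exists_mul_eq_gsect {X : Sp S} (hXi : IsIntegralSp X)
    (hXn : EtaleLocally (fun U => ∀ u : ↥U, IsDomain ↥(U.presheaf.stalk u) ∧
      IsIntegrallyClosed ↥(U.presheaf.stalk u)) X)
    (a b : ↥(gsectEt (OEt X))) (hb : b ≠ 0) (p : Polynomial ↥(gsectEt (OEt X))) (hp : p.Monic)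
    (h : (p.scaleRoots b).eval a = 0) : ∃ g : ↥(gsectEt (OEt X)), g * b = a := by
  obtain ⟨hred, hdec, hirr⟩ := hXi
  haveI := hirr
  have hN : ∀ (E : EtOver X) (u : ↥E.obj.left.left),
      IsDomain ↥(E.obj.left.left.presheaf.stalk u) ∧
        IsIntegrallyClosed ↥(E.obj.left.left.presheaf.stalk u) :=
    fun E u => Groth.Agent.H25.NormalChart.normal_stalks_chart hXn (str E) E.property u
  have hbE : ∀ (E : EtOver X) (u : ↥E.obj.left.left),
      E.obj.left.left.presheaf.germ ⊤ u trivial (resHom X E b) ≠ 0 :=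
    fun E u => germ_res_ne_zero hred b hb E u
  have hex : ∀ E : EtOver X, ∃ g : Γ(E.obj.left.left, ⊤), g * resHom X E b = resHom X E a :=
    fun E => exists_section_mul_eq (resHom X E) (hN E) a b (hbE E) p hp h
  choose gE hgE using hex
  have hcomp : ∀ {E E' : EtOver X} (m : E ⟶ E'), m.hom.left.left.appTop.hom (gE E') = gE E := by
    intro E E' m
    apply section_mul_cancel (fun u => (hN E u).1) (resHom X E b) (hbE E)
    rw [hgE E]
    show _ * res X b E = res X a E
    rw [res_map X b m, res_map X a m, ← map_mul]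
    exact congrArg _ (hgE E')
  let fam : ∀ j : (EtOver X)ᵒᵖ, (forget CommRingCat.{u + 1}).obj ((OEt X).obj.obj j) :=
    fun j => (ULift.up (gE j.unop) : ULift.{u + 1} Γ(j.unop.obj.left.left, ⊤))
  have hfam : fam ∈ ((OEt X).obj ⋙ forget CommRingCat.{u + 1}).sections := by
    intro j j' m
    have := OEt_map m.unop (fam j)
    refine this.trans ?_
    exact congrArg ULift.up (hcomp m.unop)
  let t := isLimitOfPreserves (forget CommRingCat.{u + 1}) (limit.isLimit (OEt X).obj)
  let g : ↥(gsectEt (OEt X)) := (Types.isLimitEquivSections t).symm ⟨fam, hfam⟩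
  have hgπ : ∀ E : EtOver X, res X g E = gE E := by
    intro E
    have := Types.isLimitEquivSections_symm_apply t ⟨fam, hfam⟩ (op E)
    exact congrArg ULift.down this
  refine ⟨g, res_ext X _ _ fun E => ?_⟩
  rw [res_mul, hgπ]
  exact hgE E

/-- (S10495) The ring of global functions of a normal integral algebraic space is a normal domain. -/
theorem isIntegrallyClosed_gsectEt {X : Sp S} (hXa : IsAlgSpace X) (hXi : IsIntegralSp X)
    (hXn : EtaleLocally (fun U => ∀ u : ↥U, IsDomain ↥(U.presheaf.stalk u) ∧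
      IsIntegrallyClosed ↥(U.presheaf.stalk u)) X) :
    IsDomain ↥(gsectEt (OEt X)) ∧ IsIntegrallyClosed ↥(gsectEt (OEt X)) := by
  haveI hdom : IsDomain ↥(gsectEt (OEt X)) := isDomain_gsectEt hXa hXi
  refine ⟨hdom, (isIntegrallyClosed_iff (FractionRing ↥(gsectEt (OEt X)))).mpr ?_⟩
  intro x hx
  obtain ⟨a, b, hb, rfl⟩ := IsFractionRing.div_surjective (↥(gsectEt (OEt X))) x
  have hb0 : b ≠ 0 := nonZeroDivisors.ne_zero hb
  obtain ⟨p, hp, hpe⟩ := exists_monic_scaleRoots a b hb0 hx
  obtain ⟨g, hg⟩ := exists_mul_eq_gsect hXi hXn a b hb0 p hp hpe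
  refine ⟨g, ?_⟩
  have hfb : algebraMap ↥(gsectEt (OEt X)) (FractionRing ↥(gsectEt (OEt X))) b ≠ 0 := fun h0 =>
    hb0 (IsFractionRing.injective ↥(gsectEt (OEt X)) _ (h0.trans (map_zero _).symm))
  rw [← hg, map_mul, mul_div_assoc, div_self hfb, mul_one]

end Groth.Agent.H25.GlobSecNormal
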