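import Mathlib
import Groth.Prelude.Def_SGA3x

/-!
# A finite locally free morphism is essentially free (helper25, piece (IF-1) for S17685)
-/

set_option autoImplicit false

universe u

open CategoryTheory CategoryTheory.Limits AlgebraicGeometry

namespace Groth.Agent.H25.IF1

/-- the ring of a finite flat finitely presented morphism of affine schemes is projective. -/
theorem projective_of_finite_flat_lfp {P S' : Scheme.{u}} [IsAffine P] [IsAffine S'] (q : P ⟶ S')
    [IsFinite q] [Flat q] [LocallyOfFinitePresentation q] :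
    letI := q.appTop.hom.toAlgebra
    Module.Projective Γ(S', ⊤) Γ(P, ⊤) := by
  letI := q.appTop.hom.toAlgebra
  have h1 : q.appTop.hom.Finite := Scheme.Hom.finite_appTop q
  have h2 : q.appTop.hom.Flat := (HasRingHomProperty.iff_of_isAffine (P := @Flat)).mp inferInstance
  have h3 : q.appTop.hom.FinitePresentation :=
    (HasRingHomProperty.iff_of_isAffine (P := @LocallyOfFinitePresentation)).mp inferInstance
  haveI : Module.Finite Γ(S', ⊤) Γ(P, ⊤) := h1
  haveI : Module.Flat Γ(S', ⊤) Γ(P, ⊤) := h2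
  haveI : Algebra.FinitePresentation Γ(S', ⊤) Γ(P, ⊤) := h3
  haveI : Module.FinitePresentation Γ(S', ⊤) Γ(P, ⊤) :=
    Module.FinitePresentation.of_finite_of_finitePresentation _ _
  exact Module.Flat.projective_of_finitePresentation

/-- (IF-1) a finite locally free morphism is essentially free. -/
theorem essFree_of_finite_flat {Z S : Scheme.{u}} (f : Z ⟶ S) [IsFinite f] [Flat f]
    [LocallyOfFinitePresentation f] : SGA3x.IsEssentiallyFree f := by
  intro s
  obtain ⟨U, hU, hsU, -⟩ : ∃ U : S.Opens, IsAffineOpen U ∧ s ∈ U ∧ U ≤ ⊤ := by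
    obtain ⟨V, hV, h1, h2⟩ := (TopologicalSpace.Opens.isBasis_iff_nbhd.mp S.isBasis_affineOpens)
      (show s ∈ (⊤ : S.Opens) from trivial)
    exact ⟨V, hV, h1, h2⟩
  haveI : IsAffine (U : Scheme.{u}) := hU
  refine ⟨U, hsU, hU, (U : Scheme.{u}), hU, 𝟙 _, inferInstance, inferInstance, fun x => ?_⟩
  haveI : IsAffine (pullback f (𝟙 (U : Scheme.{u}) ≫ U.ι)) :=
    isAffine_of_isAffineHom (pullback.snd f (𝟙 (U : Scheme.{u}) ≫ U.ι))
  refine ⟨⊤, trivial, isAffineOpen_top _, ?_⟩
  haveI : IsAffine ((⊤ : (pullback f (𝟙 (U : Scheme.{u}) ≫ U.ι)).Opens) : Scheme.{u}) :=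
    isAffineOpen_top _
  haveI : IsIso (⊤ : (pullback f (𝟙 (U : Scheme.{u}) ≫ U.ι)).Opens).ι := by
    rw [← Scheme.topIso_hom]
    infer_instance
  exact projective_of_finite_flat_lfp
    ((⊤ : (pullback f (𝟙 (U : Scheme.{u}) ≫ U.ι)).Opens).ι ≫
      pullback.snd f (𝟙 (U : Scheme.{u}) ≫ U.ι))

end Groth.Agent.H25.IF1
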