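import Mathlib

/-!
# The equalizer of an infinitesimal action and the projection is a closed immersion
(helper25, piece (IF-2) for S17685)
-/

set_option autoImplicit false

universe u

open CategoryTheory CategoryTheory.Limits AlgebraicGeometry MonoidalCategory CartesianMonoidalCategory

namespace Groth.Agent.H25.IF2

set_option backward.isDefEq.respectTransparency false in
/-- equalizers in `Over S` are immersions on underlying schemes (no separatedness needed). -/
theorem isImmersion_equalizer_ι_left {S : Scheme.{u}} {X Y : Over S} (f g : X ⟶ Y) :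
    IsImmersion (equalizer.ι f g).left := by
  refine MorphismProperty.of_isPullback (P := @IsImmersion)
    ((Limits.isPullback_equalizer_prod f g).map (Over.forget _)).flip ?_
  rw [← MorphismProperty.cancel_right_of_respectsIso @IsImmersion _
    (Over.prodLeftIsoPullback Y Y).hom]
  convert! (inferInstance : IsImmersion (pullback.diagonal Y.hom))
  ext1 <;> simp [← Over.comp_left]

/-- `e ▷ X` is a base change of `e`. -/
theorem surjective_whiskerRight_left {S : Scheme.{u}} (F X : Over S) (e : 𝟙_ (Over S) ⟶ F)
    [Surjective e.left] : Surjective (e ▷ X).left := by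
  have hR : IsPullback (snd F X).left (fst F X).left X.hom F.hom :=
    (IsPullback.of_hasPullback F.hom X.hom).flip
  have hB : IsPullback ((e ▷ X).left ≫ (snd F X).left) (fst (𝟙_ (Over S)) X).left X.hom
      (e.left ≫ F.hom) := by
    have h1 : (e ▷ X).left ≫ (snd F X).left = (snd (𝟙_ (Over S)) X).left := by
      rw [← Over.comp_left, whiskerRight_snd]
    have h2 : e.left ≫ F.hom = (𝟙_ (Over S)).hom := Over.w e
    rw [h1, h2]
    exact (IsPullback.of_hasPullback (𝟙_ (Over S)).hom X.hom).flip
  have hsq : (e ▷ X).left ≫ (fst F X).left = (fst (𝟙_ (Over S)) X).left ≫ e.left := by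
    rw [← Over.comp_left, ← Over.comp_left, whiskerRight_fst]
  have hL : IsPullback (e ▷ X).left (fst (𝟙_ (Over S)) X).left (fst F X).left e.left :=
    IsPullback.of_right hB hsq hR
  exact MorphismProperty.of_isPullback (P := @Surjective) hL.flip ‹Surjective e.left›

/-- (IF-2). -/
theorem isClosedImmersion_equalizer_ι {S : Scheme.{u}} (F X : Over S) (e : 𝟙_ (Over S) ⟶ F)
    (act : F ⊗ X ⟶ X) (he : (e ▷ X) ≫ act = (λ_ X).hom) [Surjective e.left] :
    IsClosedImmersion (equalizer.ι act (snd F X)).left := by
  have himm : IsImmersion (equalizer.ι act (snd F X)).left := isImmersion_equalizer_ι_left _ _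
  have h2 : (e ▷ X) ≫ act = (e ▷ X) ≫ snd F X := by
    rw [he, whiskerRight_snd, leftUnitor_hom]
  have hfac : equalizer.lift (e ▷ X) h2 ≫ equalizer.ι act (snd F X) = e ▷ X :=
    equalizer.lift_ι _ _
  have hs1 : Surjective (e ▷ X).left := surjective_whiskerRight_left F X e
  have hs2 : Surjective ((equalizer.lift (e ▷ X) h2).left ≫ (equalizer.ι act (snd F X)).left) := by
    rw [← Over.comp_left, hfac]
    exact hs1
  have hsurj : Surjective (equalizer.ι act (snd F X)).left :=
    Surjective.of_comp (equalizer.lift (e ▷ X) h2).left _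
  refine IsClosedImmersion.of_isPreimmersion _ ?_
  rw [Set.range_eq_univ.mpr hsurj.surj]
  exact isClosed_univ

end Groth.Agent.H25.IF2
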