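import Mathlib
import Groth.Prelude

set_option maxHeartbeats 400000
set_option linter.style.haveILetI false
set_option linter.unusedVariables false
set_option linter.unusedSectionVars false

open CategoryTheory CategoryTheory.Limits AlgebraicGeometry TensorProduct IsLocalRing

universe u

namespace Groth.Agent.H25.IntClosField

/-- In a reduced algebra over a field with only trivial idempotents, the elements integral over the
field form a field. -/
theorem isField_integralClosure_of_reduced (k R : Type*) [Field k] [CommRing R] [Algebra k R]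
    [IsReduced R] [Nontrivial R] (hidem : ∀ e : R, IsIdempotentElem e → e = 0 ∨ e = 1) :
    IsField (integralClosure k R) := by
  refine ⟨⟨0, 1, fun h => zero_ne_one (congrArg Subtype.val h)⟩, mul_comm, ?_⟩
  rintro ⟨a, ha⟩ hne
  have ha0 : a ≠ 0 := fun h => hne (Subtype.ext h)
  let B := Algebra.adjoin k {a}
  haveI : Module.Finite k B := Algebra.finite_adjoin_simple_of_isIntegral ha
  haveI : IsArtinianRing B := isArtinian_of_tower k inferInstance
  have hBle : B ≤ integralClosure k R :=
    Algebra.adjoin_le (Set.singleton_subset_iff.mpr ha)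
  obtain ⟨n, y, hy⟩ := IsArtinian.exists_pow_succ_smul_dvd
    (⟨a, Algebra.self_mem_adjoin_singleton k a⟩ : B) (1 : B)
  obtain ⟨b, hb⟩ := y
  have hb' : IsIntegral k b := hBle hb
  have h1 : a ^ (n + 1) * b = a ^ n := by
    have := congrArg Subtype.val hy
    simpa using this
  -- a ^ n = a ^ (n + j) * b ^ j
  have h2 : ∀ j : ℕ, a ^ n = a ^ (n + j) * b ^ j := by
    intro j
    induction j with
    | zero => simp
    | succ j ih =>
      calc a ^ n = a ^ (n + j) * b ^ j := ih
        _ = a ^ j * a ^ n * b ^ j := by rw [pow_add, mul_comm (a ^ n)]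
        _ = a ^ j * (a ^ (n + 1) * b) * b ^ j := by rw [h1]
        _ = a ^ (n + (j + 1)) * b ^ (j + 1) := by ring
  have he : IsIdempotentElem (a ^ n * b ^ n) := by
    show a ^ n * b ^ n * (a ^ n * b ^ n) = a ^ n * b ^ n
    have h3 := h2 n
    calc a ^ n * b ^ n * (a ^ n * b ^ n) = a ^ (n + n) * b ^ n * b ^ n := by ring
      _ = a ^ n * b ^ n := by rw [← h3]
  rcases hidem _ he with h | h
  · exfalso
    have h3 := h2 n
    have h4 : a ^ n = 0 := by
      calc a ^ n = a ^ (n + n) * b ^ n := h3
        _ = a ^ n * (a ^ n * b ^ n) := by ring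
        _ = 0 := by rw [h, mul_zero]
    exact ha0 (IsReduced.eq_zero a ⟨n, h4⟩)
  · have hc : IsIntegral k (a ^ n * b * b ^ n) := (((ha.pow n).mul hb').mul (hb'.pow n))
    refine ⟨⟨a ^ n * b * b ^ n, hc⟩, Subtype.ext ?_⟩
    show a * (a ^ n * b * b ^ n) = 1
    calc a * (a ^ n * b * b ^ n) = a ^ (n + 1) * b * b ^ n := by ring
      _ = a ^ n * b ^ n := by rw [h1]
      _ = 1 := h

/-- Idempotent global functions on a connected reduced scheme are trivial. -/
theorem idem_trivial_of_connected (X : Scheme.{u}) [ConnectedSpace X] [IsReduced X] (e : Γ(X, ⊤))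
    (he : IsIdempotentElem e) : e = 0 ∨ e = 1 := by
  have hdisj : X.basicOpen e ⊓ X.basicOpen (1 - e) = ⊥ := by
    rw [← Scheme.basicOpen_mul]
    have : e * (1 - e) = 0 := by rw [mul_sub, mul_one, he.eq, sub_self]
    rw [this, Scheme.basicOpen_zero]
  have hcov : ∀ x : X, x ∈ X.basicOpen e ∨ x ∈ X.basicOpen (1 - e) := by
    intro x
    have h1 : X.presheaf.germ ⊤ x trivial e + X.presheaf.germ ⊤ x trivial (1 - e) = 1 := by
      rw [← map_add, add_sub_cancel, map_one]
    rcases IsLocalRing.isUnit_or_isUnit_of_add_one h1 with h | h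
    · left; exact (Scheme.mem_basicOpen_top X e x).mpr h
    · right; exact (Scheme.mem_basicOpen_top X (1 - e) x).mpr h
  have hcompl : (X.basicOpen e : Set X)ᶜ = (X.basicOpen (1 - e) : Set X) := by
    ext x
    constructor
    · intro hx
      rcases hcov x with h | h
      · exact absurd h hx
      · exact h
    · intro hx hx'
      have : x ∈ X.basicOpen e ⊓ X.basicOpen (1 - e) := ⟨hx', hx⟩
      rw [hdisj] at this
      exact this
  have hclopen : IsClopen (X.basicOpen e : Set X) := by
    refine ⟨?_, (X.basicOpen e).isOpen⟩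
    rw [← isOpen_compl_iff, hcompl]
    exact (X.basicOpen (1 - e)).isOpen
  rcases isClopen_iff.mp hclopen with h | h
  · left
    exact (basicOpen_eq_bot_iff e).mp (TopologicalSpace.Opens.ext h)
  · right
    have h' : X.basicOpen (1 - e) = ⊥ := by
      apply TopologicalSpace.Opens.ext
      rw [← hcompl, h]
      simp
    have := (basicOpen_eq_bot_iff (1 - e)).mp h'
    exact (sub_eq_zero.mp this).symm

end Groth.Agent.H25.IntClosField
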