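import Mathlib

/-!
# Generic points of irreducible components and generalizing maps

* `eq_of_specializes_genericPoints`: a generic point of an irreducible component is a maximal point.
* `map_mem_genericPoints`: a generalizing map sends generic points of irreducible components to
  generic points of irreducible components.
* `finite_components_meeting`: local finiteness of irreducible components lifts along generalizing
  maps with finite fibres.
-/

namespace Groth.Agent.H25.IrredGen

open Topology

variable {α β : Type*} [TopologicalSpace α] [TopologicalSpace β]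

theorem eq_of_specializes_genericPoints [T0Space α]
    {ξ y : α} (hξ : ξ ∈ genericPoints α) (h : y ⤳ ξ) : y = ξ := by
  have h1 : closure ({ξ} : Set α) ⊆ closure {y} := specializes_iff_closure_subset.mp h
  have hξ' : Maximal IsIrreducible (closure ({ξ} : Set α)) := hξ
  have h2 : closure ({ξ} : Set α) = closure {y} :=
    hξ'.eq_of_subset isIrreducible_singleton.closure h1
  have h3 : ξ ⤳ y := specializes_iff_closure_subset.mpr (h2 ▸ le_rfl)
  exact (h.antisymm h3).eq

theorem map_mem_genericPoints [T0Space α] [QuasiSober β] {f : α → β} (hf : GeneralizingMap f)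
    {ξ : α} (hξ : ξ ∈ genericPoints α) : f ξ ∈ genericPoints β := by
  have hZirr : IsIrreducible (irreducibleComponent (f ξ)) := isIrreducible_irreducibleComponent
  have hZcl : IsClosed (irreducibleComponent (f ξ)) := isClosed_irreducibleComponent
  have hη : IsGenericPoint hZirr.genericPoint (irreducibleComponent (f ξ)) :=
    hZirr.isGenericPoint_genericPoint hZcl
  have hsp : hZirr.genericPoint ⤳ f ξ := hη.specializes mem_irreducibleComponent
  obtain ⟨ξ', hξ'ξ, hfξ'⟩ := hf hsp
  have : ξ' = ξ := eq_of_specializes_genericPoints hξ hξ'ξ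
  subst this
  change closure {f ξ'} ∈ irreducibleComponents β
  rw [hfξ', hη.def]
  exact irreducibleComponent_mem_irreducibleComponents (f ξ')

theorem finite_components_meeting [T0Space α] [QuasiSober α] [T0Space β] [QuasiSober β]
    {f : α → β} (hf : GeneralizingMap f) {U : Set β}
    (hU : {Z ∈ irreducibleComponents β | (Z ∩ U).Nonempty}.Finite)
    {W : Set α} (hW : IsOpen W) (hWU : W ⊆ f ⁻¹' U)
    (hfib : ∀ y : β, (W ∩ f ⁻¹' {y}).Finite) :
    {T ∈ irreducibleComponents α | (T ∩ W).Nonempty}.Finite := by
  classical
  -- generic points of the components of `β` meeting `U`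
  have hG : {η : β | closure {η} ∈ {Z ∈ irreducibleComponents β | (Z ∩ U).Nonempty}}.Finite := by
    refine Set.Finite.preimage ?_ hU
    intro a _ b _ hab
    have ha : IsGenericPoint a (closure {b}) := hab
    exact ha.eq isGenericPoint_closure
  set G := {η : β | closure {η} ∈ {Z ∈ irreducibleComponents β | (Z ∩ U).Nonempty}} with hGdef
  have hE : (⋃ η ∈ G, W ∩ f ⁻¹' {η}).Finite := hG.biUnion fun η _ => hfib η
  refine (hE.image fun ξ => closure {ξ}).subset ?_
  rintro T ⟨hT, hTW⟩
  have hTirr : IsIrreducible T := hT.1
  have hTcl : IsClosed T := isClosed_of_mem_irreducibleComponents T hT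
  have hξ : IsGenericPoint hTirr.genericPoint T := hTirr.isGenericPoint_genericPoint hTcl
  have hξW : hTirr.genericPoint ∈ W := (hξ.mem_open_set_iff hW).mpr hTW
  have hξgen : hTirr.genericPoint ∈ genericPoints α := by
    change closure {hTirr.genericPoint} ∈ irreducibleComponents α
    rw [hξ.def]; exact hT
  have hfξ : f hTirr.genericPoint ∈ genericPoints β := map_mem_genericPoints hf hξgen
  refine ⟨hTirr.genericPoint, ?_, hξ.def⟩
  simp only [Set.mem_iUnion, Set.mem_inter_iff, Set.mem_preimage, Set.mem_singleton_iff,
    exists_prop]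
  exact ⟨f hTirr.genericPoint, ⟨hfξ, ⟨f hTirr.genericPoint, subset_closure rfl, hWU hξW⟩⟩,
    hξW, rfl⟩


theorem mem_genericPoints_iff_forall_specializes [T0Space α] [QuasiSober α] {ξ : α} :
    ξ ∈ genericPoints α ↔ ∀ y, y ⤳ ξ → y = ξ := by
  refine ⟨fun h y hy => eq_of_specializes_genericPoints h hy, fun h => ?_⟩
  have hZirr : IsIrreducible (irreducibleComponent ξ) := isIrreducible_irreducibleComponent
  have hZcl : IsClosed (irreducibleComponent ξ) := isClosed_irreducibleComponent
  have hη : IsGenericPoint hZirr.genericPoint (irreducibleComponent ξ) :=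
    hZirr.isGenericPoint_genericPoint hZcl
  have hsp : hZirr.genericPoint ⤳ ξ := hη.specializes mem_irreducibleComponent
  have := h _ hsp
  change closure {ξ} ∈ irreducibleComponents α
  rw [← this, hη.def]
  exact irreducibleComponent_mem_irreducibleComponents ξ

/-- Finitely many generic points on an open set covered by finitely many opens with finitely many
generic points. -/
theorem finite_genericPoints_of_cover [T0Space α] [QuasiSober α] {ι : Type*} {s : Set ι}
    (hs : s.Finite) {V : Set α} (W : ι → Set α) (hWo : ∀ k ∈ s, IsOpen (W k))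
    (hWV : ∀ k ∈ s, W k ⊆ V) (hcov : V ⊆ ⋃ k ∈ s, W k)
    (hfin : ∀ k ∈ s, (genericPoints ↥(W k)).Finite) : (genericPoints ↥V).Finite := by
  refine Set.Finite.of_finite_image (f := Subtype.val) ?_ Subtype.val_injective.injOn
  refine (hs.biUnion fun k hk => (hfin k hk).image Subtype.val).subset ?_
  rintro _ ⟨ξ, hξ, rfl⟩
  obtain ⟨k, hk⟩ := Set.mem_iUnion.mp (hcov ξ.2)
  obtain ⟨hks, hξk⟩ := Set.mem_iUnion.mp hk
  simp only [Set.mem_iUnion, exists_prop]
  refine ⟨k, hks, ⟨ξ.1, hξk⟩, ?_, rfl⟩
  have : QuasiSober ↥(W k) := (hWo k hks).isOpenEmbedding_subtypeVal.quasiSober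
  rw [mem_genericPoints_iff_forall_specializes]
  intro y hy
  have h1 : y.1 ⤳ ξ.1 := hy.map continuous_subtype_val
  have h2 : (⟨y.1, hWV k hks y.2⟩ : ↥V) ⤳ ξ := (subtype_specializes_iff _ _).mpr h1
  have h3 := eq_of_specializes_genericPoints hξ h2
  have h4 : (y.1 : α) = ξ.1 := congrArg Subtype.val h3
  exact Subtype.ext h4

theorem finite_irreducibleComponents_of_finite_genericPoints [T0Space α] [QuasiSober α]
    (h : (genericPoints α).Finite) : (irreducibleComponents α).Finite := by
  have : Finite ↥(genericPoints α) := h.to_subtype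
  have : Finite ↥(irreducibleComponents α) := Finite.of_equiv _ genericPoints.equiv
  exact Set.toFinite _


section Scheme

open AlgebraicGeometry CategoryTheory

universe u

set_option backward.isDefEq.respectTransparency.types false in
/-- A flat, quasi-compact morphism locally of finite type whose target has finitely many generic
points (of irreducible components) has a source with the same property. -/
theorem finite_genericPoints_of_flat {X Y : Scheme.{u}} (g : Y ⟶ X) [Flat g]
    [LocallyOfFiniteType g] [QuasiCompact g]
    (hX : (genericPoints X).Finite) : (genericPoints Y).Finite := by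
  have hsub : genericPoints Y ⊆
      ⋃ η ∈ genericPoints X, (g.fiberι η) '' (genericPoints (g.fiber η)) := by
    intro ξ hξ
    have hη : g ξ ∈ genericPoints X :=
      map_mem_genericPoints (Flat.generalizingMap (f := g)) hξ
    simp only [Set.mem_iUnion, exists_prop]
    refine ⟨g ξ, hη, g.asFiber ξ, ?_, g.fiberι_asFiber ξ⟩
    rw [mem_genericPoints_iff_forall_specializes]
    intro z hz
    have h1 : g.fiberι _ z ⤳ g.fiberι _ (g.asFiber ξ) := hz.map (g.fiberι _).continuous
    rw [g.fiberι_asFiber] at h1
    have h2 := eq_of_specializes_genericPoints hξ h1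
    exact (g.fiberι _).isEmbedding.injective (h2.trans (g.fiberι_asFiber ξ).symm)
  refine (hX.biUnion fun η _ => ?_).subset hsub
  refine Set.Finite.image _ ?_
  have : LocallyOfFiniteType (g.fiberToSpecResidueField η) :=
    MorphismProperty.pullback_snd _ _ inferInstance
  have : IsLocallyNoetherian (g.fiber η) :=
    LocallyOfFiniteType.isLocallyNoetherian (g.fiberToSpecResidueField η)
  have : IsNoetherian (g.fiber η) := {}
  exact genericPoints.finite TopologicalSpace.NoetherianSpace.finite_irreducibleComponents

end Scheme

end Groth.Agent.H25.IrredGen
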