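import Mathlib

/-!
# (ST) for helper85's S17076 squad: an iso of `Spec`-pullbacks gives a bijective tensor map
-/

set_option autoImplicit false
universe u
open CategoryTheory CategoryTheory.Limits AlgebraicGeometry TensorProduct

namespace Groth.Agent.H25.IsoLoc_ST

/-- base change of `pullback.snd f g` along `w` is `pullback.snd f (w ≫ g)`. -/
lemma isIso_snd_comp {X Y Z W : Scheme.{u}} (f : X ⟶ Z) (g : Y ⟶ Z) (w : W ⟶ Y)
    [IsIso (pullback.snd f g)] : IsIso (pullback.snd f (w ≫ g)) := by
  have hbig : IsPullback (pullback.fst f (w ≫ g)) (pullback.snd f (w ≫ g)) f (w ≫ g) :=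
    IsPullback.of_hasPullback _ _
  have hright : IsPullback (pullback.fst f g) (pullback.snd f g) f g :=
    IsPullback.of_hasPullback _ _
  have hleft := IsPullback.of_right' hbig hright
  exact hleft.isIso_snd_of_isIso

lemma bijective_of_isIso_SpecMap {R S : CommRingCat.{u}} (φ : R ⟶ S) (h : IsIso (Spec.map φ)) :
    Function.Bijective φ.hom := by
  haveI : IsIso (Scheme.Spec.map φ.op) := h
  haveI : IsIso φ.op := isIso_of_reflects_iso φ.op Scheme.Spec
  haveI : IsIso φ := isIso_of_op φ
  exact ConcreteCategory.bijective_of_isIso φ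

/-- (ST) -/
theorem spec_to_tensor {R B A K : Type u} [CommRing R] [CommRing B] [CommRing A] [CommRing K]
    [Algebra R B] [Algebra B A] [Algebra R A] [IsScalarTower R B A] [Algebra R K]
    (h : IsIso (pullback.snd (Spec.map (CommRingCat.ofHom (algebraMap B A)))
        (pullback.fst (Spec.map (CommRingCat.ofHom (algebraMap R B)))
          (Spec.map (CommRingCat.ofHom (algebraMap R K)))))) :
    Function.Bijective
      (Algebra.TensorProduct.map (IsScalarTower.toAlgHom R B A) (AlgHom.id R K)) := by
  haveI := h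
  have h1 : IsIso (pullback.snd (Spec.map (CommRingCat.ofHom (algebraMap B A)))
      ((pullbackSpecIso R B K).inv ≫ pullback.fst (Spec.map (CommRingCat.ofHom (algebraMap R B)))
          (Spec.map (CommRingCat.ofHom (algebraMap R K))))) := isIso_snd_comp _ _ _
  rw [pullbackSpecIso_inv_fst'] at h1
  have h2 : IsIso (Spec.map (CommRingCat.ofHom (R := (B ⊗[R] K)) (S := A ⊗[B] (B ⊗[R] K))
      (RingHomClass.toRingHom (Algebra.TensorProduct.includeRight :
        (B ⊗[R] K) →ₐ[B] A ⊗[B] (B ⊗[R] K))))) := by
    rw [← pullbackSpecIso_inv_snd B A (B ⊗[R] K)]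
    infer_instance
  have h3 := bijective_of_isIso_SpecMap _ h2
  have h4 : Function.Bijective (fun z : B ⊗[R] K =>
      (Algebra.TensorProduct.includeRight : (B ⊗[R] K) →ₐ[B] A ⊗[B] (B ⊗[R] K)) z) := h3
  have key : ∀ z : B ⊗[R] K,
      Algebra.TensorProduct.map (IsScalarTower.toAlgHom R B A) (AlgHom.id R K) z =
        Algebra.TensorProduct.cancelBaseChange R B B A K
          ((Algebra.TensorProduct.includeRight : (B ⊗[R] K) →ₐ[B] A ⊗[B] (B ⊗[R] K)) z) := by
    intro z
    induction z using TensorProduct.induction_on with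
    | zero => simp only [map_zero]
    | add x y hx hy => simp only [map_add, hx, hy]
    | tmul b k =>
      rw [Algebra.TensorProduct.map_tmul, Algebra.TensorProduct.includeRight_apply,
        Algebra.TensorProduct.cancelBaseChange_tmul, Algebra.smul_def, mul_one]
      rfl
  have h5 : (fun z : B ⊗[R] K =>
      Algebra.TensorProduct.map (IsScalarTower.toAlgHom R B A) (AlgHom.id R K) z) =
      (fun w => Algebra.TensorProduct.cancelBaseChange R B B A K w) ∘ (fun z : B ⊗[R] K =>
      (Algebra.TensorProduct.includeRight : (B ⊗[R] K) →ₐ[B] A ⊗[B] (B ⊗[R] K)) z) := by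
    funext z
    exact key z
  change Function.Bijective (fun z : B ⊗[R] K =>
      Algebra.TensorProduct.map (IsScalarTower.toAlgHom R B A) (AlgHom.id R K) z)
  rw [h5]
  exact (Algebra.TensorProduct.cancelBaseChange R B B A K).bijective.comp h4

end Groth.Agent.H25.IsoLoc_ST
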