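import Mathlib
import Groth.Prelude
import Groth.Agent.H25.LFI
import Groth.Agent.H25.AlgSpLocalDim
import Groth.Agent.H52.Topology
import Groth.Agent.H52.DecentTop
import Groth.Agent.H70.EtaleSquare

/-!
# Jacobson algebraic spaces (helper25)

* `exists_prime_locallyClosed_of_not_isJacobsonRing`: a non-Jacobson ring has a non-maximal prime
  which is a locally closed point of the spectrum.
* `jacobsonSpace_of_surjective`: the Jacobson property descends along flat, locally quasi-finite
  surjective morphisms of schemes.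
* `exists_closed_point_over` (S10402), `hasAt_closed_iff_isClosed` (S10403), `jacobson_iff` (S10404).
-/

set_option autoImplicit false
set_option maxHeartbeats 400000
set_option linter.style.haveILetI false
set_option linter.unusedVariables false
set_option linter.unusedSectionVars false

universe u

open CategoryTheory CategoryTheory.Limits AlgebraicGeometry TopologicalSpace AlgSp

namespace Groth.Agent.H25.JacobsonSp

open Groth.Agent.H25.LFI Groth.Agent.H52

theorem exists_prime_locallyClosed_of_not_isJacobsonRing (A : Type*) [CommRing A]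
    (h : ¬ IsJacobsonRing A) :
    ∃ (q : Ideal A) (f : A), q.IsPrime ∧ f ∉ q ∧ ¬ q.IsMaximal ∧
      ∀ q' : Ideal A, q'.IsPrime → q ≤ q' → f ∉ q' → q' = q := by
  rw [isJacobsonRing_iff_prime_eq] at h
  push Not at h
  obtain ⟨P, hP, hne⟩ := h
  have hlt : P < P.jacobson := lt_of_le_of_ne Ideal.le_jacobson (Ne.symm hne)
  obtain ⟨f, hfJ, hfP⟩ := SetLike.exists_of_lt hlt
  have hdisjOf : ∀ I : Ideal A, I.IsPrime → f ∉ I →
      Disjoint (Submonoid.powers f : Set A) (I : Set A) := by
    intro I hI hfI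
    rw [Set.disjoint_left]
    rintro x ⟨n, rfl⟩ hx
    exact hfI (hI.mem_of_pow_mem n hx)
  have hPtop : P.map (algebraMap A (Localization.Away f)) ≠ ⊤ :=
    (IsLocalization.map_algebraMap_ne_top_iff_disjoint (Submonoid.powers f)
      (Localization.Away f) P).mpr (hdisjOf P hP hfP)
  obtain ⟨M, hM, hPM⟩ := Ideal.exists_le_maximal _ hPtop
  have hqprime : (M.comap (algebraMap A (Localization.Away f))).IsPrime :=
    Ideal.comap_isPrime _ _
  have hfq : f ∉ M.comap (algebraMap A (Localization.Away f)) := by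
    intro hf
    have hu : IsUnit (algebraMap A (Localization.Away f) f) :=
      IsLocalization.map_units (Localization.Away f)
        (⟨f, Submonoid.mem_powers f⟩ : Submonoid.powers f)
    exact hM.ne_top (Ideal.eq_top_of_isUnit_mem _ hf hu)
  have hPq : P ≤ M.comap (algebraMap A (Localization.Away f)) := Ideal.le_comap_of_map_le hPM
  refine ⟨M.comap (algebraMap A (Localization.Away f)), f, hqprime, hfq, ?_, ?_⟩
  · intro hqmax
    apply hfq
    have hle : P.jacobson ≤ M.comap (algebraMap A (Localization.Away f)) := by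
      rw [Ideal.jacobson]
      exact sInf_le ⟨hPq, hqmax⟩
    exact hle hfJ
  · intro q' hq' hqq' hfq'
    have hdisj' := hdisjOf q' hq' hfq'
    have hq'prime : (q'.map (algebraMap A (Localization.Away f))).IsPrime :=
      IsLocalization.isPrime_of_isPrime_disjoint (Submonoid.powers f) (Localization.Away f) q'
        hq' hdisj'
    have hMle : M ≤ q'.map (algebraMap A (Localization.Away f)) := by
      have h1 : (M.comap (algebraMap A (Localization.Away f))).map
          (algebraMap A (Localization.Away f)) = M :=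
        IsLocalization.map_under (Submonoid.powers f) (Localization.Away f) M
      rw [← h1]
      exact Ideal.map_mono hqq'
    have hMeq : M = q'.map (algebraMap A (Localization.Away f)) :=
      hM.eq_of_le hq'prime.ne_top hMle
    have h2 : (q'.map (algebraMap A (Localization.Away f))).comap
        (algebraMap A (Localization.Away f)) = q' :=
      IsLocalization.under_map_of_isPrime_disjoint (Submonoid.powers f) (Localization.Away f)
        hq' hdisj'
    rw [← h2, ← hMeq]

set_option backward.isDefEq.respectTransparency.types false in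
/-- A scheme which is not Jacobson has a non-closed point which is locally closed. -/
theorem exists_locallyClosed_point_of_not_jacobsonSpace (T : Scheme.{u})
    (h : ¬ JacobsonSpace ↥T) :
    ∃ (s s₁ : ↥T) (O : T.Opens), s ⤳ s₁ ∧ s₁ ≠ s ∧ s ∈ O ∧
      ∀ s' : ↥T, s' ∈ O → s ⤳ s' → s' = s := by
  rw [T.affineOpenCover.openCover.isOpenCover_opensRange.jacobsonSpace_iff] at h
  push Not at h
  obtain ⟨i, hi⟩ := h
  have hnJ : ¬ IsJacobsonRing (T.affineOpenCover.X i) := by
    intro hJ
    apply hi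
    haveI : JacobsonSpace ↥(Spec (T.affineOpenCover.X i)) := inferInstance
    let e := (T.affineOpenCover.f i).isOpenEmbedding.isEmbedding.toHomeomorph
    exact .of_isClosedEmbedding e.symm.isClosedEmbedding
  obtain ⟨q, f, hq, hfq, hqmax, hmin⟩ :=
    exists_prime_locallyClosed_of_not_isJacobsonRing (T.affineOpenCover.X i) hnJ
  obtain ⟨m, hm, hqm⟩ := Ideal.exists_le_maximal q hq.ne_top
  let j := T.affineOpenCover.f i
  let qq : PrimeSpectrum (T.affineOpenCover.X i) := ⟨q, hq⟩
  let mm : PrimeSpectrum (T.affineOpenCover.X i) := ⟨m, hm.isPrime⟩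
  let O : T.Opens := ⟨j '' (PrimeSpectrum.basicOpen f : Set (PrimeSpectrum (T.affineOpenCover.X i))),
    j.isOpenEmbedding.isOpenMap _ (PrimeSpectrum.basicOpen f).isOpen⟩
  refine ⟨j qq, j mm, O, ?_, ?_, ?_, ?_⟩
  · have h1 : qq ⤳ mm := (PrimeSpectrum.le_iff_specializes qq mm).mp hqm
    exact h1.map j.continuous
  · intro heq
    have h2 : mm = qq := j.isOpenEmbedding.injective heq
    have h3 : m = q := congrArg PrimeSpectrum.asIdeal h2
    exact hqmax (h3 ▸ hm)
  · exact ⟨qq, hfq, rfl⟩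
  · rintro s' ⟨q', hq'f, rfl⟩ hsp
    have h1 : qq ⤳ q' := j.isOpenEmbedding.isInducing.specializes_iff.mp hsp
    have h2 : q ≤ q'.asIdeal := (PrimeSpectrum.le_iff_specializes qq q').mpr h1
    have h3 : q'.asIdeal = q := hmin q'.asIdeal q'.2 h2 hq'f
    have h4 : q' = qq := PrimeSpectrum.ext h3
    rw [h4]

/-- The Jacobson property descends along flat locally quasi-finite surjective morphisms. -/
theorem jacobsonSpace_of_surjective {T' T : Scheme.{u}} (f : T' ⟶ T) [Flat f]
    [LocallyQuasiFinite f] (hf : Function.Surjective f) [JacobsonSpace ↥T'] :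
    JacobsonSpace ↥T := by
  by_contra hT
  obtain ⟨s, s₁, O, hss₁, hne, hsO, hO⟩ := exists_locallyClosed_point_of_not_jacobsonSpace T hT
  obtain ⟨s₁', rfl⟩ := hf s₁
  obtain ⟨s'', hs'', rfl⟩ := Flat.generalizingMap (f := f) hss₁
  have hlc : IsLocallyClosed ({s''} : Set ↥T') := by
    refine ⟨f ⁻¹' (O : Set ↥T), closure {s''}, O.isOpen.preimage f.continuous, isClosed_closure, ?_⟩
    ext y
    constructor
    · rintro rfl
      exact ⟨hsO, subset_closure rfl⟩
    · rintro ⟨hyO, hycl⟩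
      have hsy : s'' ⤳ y := specializes_iff_mem_closure.mpr hycl
      have hfy : f y = f s'' := hO (f y) hyO (hsy.map f.continuous)
      exact (Groth.Agent.H25.AlgSpLocalDim.eq_of_specializes_of_locallyQuasiFinite f hsy
        hfy.symm).symm
  have hcl : IsClosed ({s''} : Set ↥T') := isClosed_singleton_of_isLocallyClosed_singleton hlc
  have hmem : s₁' ∈ ({s''} : Set ↥T') := by
    rw [← hcl.closure_eq]
    exact specializes_iff_mem_closure.mp hs''
  have heq : s₁' = s'' := hmem
  exact hne (by rw [heq])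

variable {S : Scheme.{u}}

theorem repWith_etale_opIncl_comp {X : Sp S} {U : Over S} (p : (yon S).obj U ⟶ X)
    (hpe : RepWith @Etale p) (W : U.left.Opens) :
    RepWith @Etale ((yon S).map (opIncl U W) ≫ p) := by
  have h4 := AlgSp.repWith_isMultiplicative (S := S) @Etale
  exact (RepWith @Etale).comp_mem _ _
    ((repWith_yon_map_iff @Etale _).2 (by change Etale W.ι; infer_instance)) hpe

/-- A scheme locally of finite type over a Jacobson algebraic space is Jacobson. -/
theorem jacobsonSpace_of_lft_chart {X : Sp S} {U W : Over S} (p : (yon S).obj U ⟶ X)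
    (hpe : RepWith @Etale p) (hps : RepWith @Surjective p) [JacobsonSpace ↥U.left]
    (g : (yon S).obj W ⟶ X) (hg : LocP @LocallyOfFiniteType g) : JacobsonSpace ↥W.left := by
  obtain ⟨P, ψ, fst, sq⟩ := hpe.1 g
  obtain ⟨φ, rfl⟩ := (yon S).map_surjective fst
  haveI hψe : Etale ψ.left := hpe.2 _ _ _ sq
  have hψs : Surjective ψ.left := hps.2 _ _ _ sq
  haveI hφ : LocallyOfFiniteType φ.left :=
    hg ((yon S).map ψ) p φ ((repWith_yon_map_iff @Etale _).2 hψe) hpe sq.w.symm
  haveI : JacobsonSpace ↥P.left := LocallyOfFiniteType.jacobsonSpace φ.left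
  haveI : LocallyQuasiFinite ψ.left := Groth.Agent.H70.EtaleSquare.locallyQuasiFinite_of_etale _
  exact jacobsonSpace_of_surjective ψ.left hψs.surj

/-- S10402. -/
theorem exists_closed_point_over {X : Sp S}
    (hX : EtaleLocally (fun U => JacobsonSpace ↥U) X)
    (x : Points X) (hx : HasAt (fun U u => IsClosed ({u} : Set ↥U)) X x) {W : Over S}
    (g : (yon S).obj W ⟶ X) (hg : LocP @LocallyOfFiniteType g)
    (hxW : x ∈ Set.range (Points.ofPt g)) :
    ∃ w : ↥W.left, IsClosed ({w} : Set ↥W.left) ∧ Points.ofPt g w = x := by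
  obtain ⟨U, p, hpe, hps, hUJ⟩ := hX
  haveI : JacobsonSpace ↥U.left := hUJ
  haveI hWJ : JacobsonSpace ↥W.left := jacobsonSpace_of_lft_chart p hpe hps g hg
  obtain ⟨U₁, a₁, u₁, ha₁, hu₁x, hu₁c⟩ := hx
  obtain ⟨w₀, hw₀⟩ := hxW
  obtain ⟨P, ψ, fst, sq⟩ := ha₁.1 g
  obtain ⟨φ, rfl⟩ := (yon S).map_surjective fst
  haveI hψe : Etale ψ.left := ha₁.2 _ _ _ sq
  obtain ⟨p₀, hp₀1, hp₀2⟩ := exists_of_ofPt_eq_ofPt sq u₁ w₀ (hu₁x.trans hw₀.symm)
  haveI : JacobsonSpace ↥P.left := LocallyOfFiniteType.jacobsonSpace ψ.left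
  have hFc : IsClosed (φ.left ⁻¹' {u₁}) := hu₁c.preimage φ.left.continuous
  obtain ⟨p₁, hp₁F, hp₁c⟩ := nonempty_inter_closedPoints (Z := φ.left ⁻¹' {u₁}) ⟨p₀, hp₀1⟩
    hFc.isLocallyClosed
  have hp₁F' : φ.left p₁ = u₁ := hp₁F
  refine ⟨ψ.left p₁, ψ.left.closePoints_subset_preimage_closedPoints hp₁c, ?_⟩
  rw [← ofPt_yon_map_comp, ← sq.w, ofPt_yon_map_comp, hp₁F', hu₁x]

/-- Closedness of a point of an etale chart over a finite type point, for Jacobson charts. -/
theorem isClosed_singleton_of_charts {X : Sp S} {U₁ U₂ : Over S} (a₁ : (yon S).obj U₁ ⟶ X)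
    (ha₁ : RepWith @Etale a₁) (a₂ : (yon S).obj U₂ ⟶ X) (ha₂ : RepWith @Etale a₂)
    [JacobsonSpace ↥U₂.left] (u₁ : ↥U₁.left) (u₂ : ↥U₂.left)
    (h : Points.ofPt a₁ u₁ = Points.ofPt a₂ u₂) (hc : IsClosed ({u₁} : Set ↥U₁.left)) :
    IsClosed ({u₂} : Set ↥U₂.left) := by
  obtain ⟨P, ψ, fst, sq⟩ := ha₁.1 a₂
  obtain ⟨φ, rfl⟩ := (yon S).map_surjective fst
  haveI hψe : Etale ψ.left := ha₁.2 _ _ _ sq
  haveI hφe : Etale φ.left := ha₂.2 _ _ _ sq.flip
  obtain ⟨p₀, hp₀1, hp₀2⟩ := exists_of_ofPt_eq_ofPt sq u₁ u₂ h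
  haveI : LocallyQuasiFinite φ.left := Groth.Agent.H70.EtaleSquare.locallyQuasiFinite_of_etale _
  have hp₀c : IsClosed ({p₀} : Set ↥P.left) := by
    have hFc : IsClosed (φ.left ⁻¹' {u₁}) := hc.preimage φ.left.continuous
    rw [← closure_eq_iff_isClosed]
    apply Set.Subset.antisymm _ subset_closure
    intro y hy
    have hsub : ({p₀} : Set ↥P.left) ⊆ φ.left ⁻¹' {u₁} := Set.singleton_subset_iff.mpr hp₀1
    have hyF : φ.left y = u₁ := (hFc.closure_subset_iff.mpr hsub) hy
    have hsy : p₀ ⤳ y := specializes_iff_mem_closure.mpr hy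
    exact (Groth.Agent.H25.AlgSpLocalDim.eq_of_specializes_of_locallyQuasiFinite φ.left hsy
      (hp₀1.trans hyF.symm)).symm
  rw [← hp₀2]
  exact ψ.left.closePoints_subset_preimage_closedPoints hp₀c

/-- S10403. -/
theorem hasAt_closed_iff_isClosed {X : Sp S} (hd : IsDecent X)
    (hX : EtaleLocally (fun U => JacobsonSpace ↥U) X) (x : Points X) :
    HasAt (fun U u => IsClosed ({u} : Set ↥U)) X x ↔ IsClosed ({x} : Set (Points X)) := by
  obtain ⟨U, p, hpe, hps, hUJ⟩ := hX
  haveI : JacobsonSpace ↥U.left := hUJ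
  constructor
  · rintro ⟨U₁, a₁, u₁, ha₁, hu₁x, hu₁c⟩
    rw [← closure_eq_iff_isClosed]
    apply Set.Subset.antisymm _ subset_closure
    intro x₁ hx₁
    have hsp : x ⤳ x₁ := specializes_iff_mem_closure.mpr hx₁
    obtain ⟨px, hpx, -, hqx⟩ := hd x
    obtain ⟨u₁', hu₁'⟩ := surjective_ofPt_of_surjective p hps x₁
    obtain ⟨u', hu's, hu'p⟩ := exists_generization_of_specializes x₁ px
      (by rw [hpx]; exact hsp) hqx p hpe u₁' hu₁'
    have hu'c : IsClosed ({u'} : Set ↥U.left) :=
      isClosed_singleton_of_charts a₁ ha₁ p hpe u₁ u' (by rw [hu₁x, hu'p, hpx]) hu₁c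
    have hmem : u₁' ∈ ({u'} : Set ↥U.left) := by
      rw [← hu'c.closure_eq]
      exact specializes_iff_mem_closure.mp hu's
    have h2 : u₁' = u' := hmem
    rw [Set.mem_singleton_iff, ← hu₁', h2, hu'p, hpx]
  · intro hxc
    have hFc : IsClosed (Points.ofPt p ⁻¹' {x}) := hxc.preimage (Points.continuous_ofPt p)
    obtain ⟨u₀, hu₀⟩ := surjective_ofPt_of_surjective p hps x
    obtain ⟨u, huF, huc⟩ := nonempty_inter_closedPoints (Z := Points.ofPt p ⁻¹' {x}) ⟨u₀, hu₀⟩
      hFc.isLocallyClosed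
    exact ⟨U, p, u, hpe, huF, huc⟩

/-- S10404. -/
theorem jacobson_iff {X : Sp S} (hXa : IsAlgSpace X) (hd : IsDecent X) :
    EtaleLocally (fun U => JacobsonSpace ↥U) X ↔ JacobsonSpace (Points X) := by
  constructor
  · intro hX
    rw [jacobsonSpace_iff_locallyClosed]
    intro Z hZne hZlc
    obtain ⟨U, p, hpe, hps, hUJ⟩ := id hX
    haveI : JacobsonSpace ↥U.left := hUJ
    obtain ⟨z, hz⟩ := hZne
    obtain ⟨u₀, hu₀⟩ := surjective_ofPt_of_surjective p hps z
    have hu₀Z : u₀ ∈ Points.ofPt p ⁻¹' Z := by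
      rw [Set.mem_preimage, hu₀]
      exact hz
    obtain ⟨u, huZ, huc⟩ := nonempty_inter_closedPoints (Z := Points.ofPt p ⁻¹' Z) ⟨u₀, hu₀Z⟩
      (hZlc.preimage (Points.continuous_ofPt p))
    refine ⟨Points.ofPt p u, huZ, ?_⟩
    exact (hasAt_closed_iff_isClosed hd hX _).mp ⟨U, p, u, hpe, rfl, huc⟩
  · intro hJ
    haveI := hJ
    obtain ⟨U, p, hpe, hps⟩ := hXa.atlas
    refine ⟨U, p, hpe, hps, ?_⟩
    by_contra hU
    obtain ⟨s, s₁, O, hss₁, hne, hsO, hO⟩ :=
      exists_locallyClosed_point_of_not_jacobsonSpace U.left hU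
    obtain ⟨V, hV, hsV, hVO⟩ := TopologicalSpace.Opens.isBasis_iff_nbhd.mp
      U.left.isBasis_affineOpens (U := O) (x := s) hsO
    have hVa : IsAffineOpen V := hV
    have hfin : ((Points.ofPt p ⁻¹' {Points.ofPt p s}) ∩ (V : Set ↥U.left)).Finite := by
      have h1 := finite_fibre_of_isDecent hd (Points.ofPt p s) (opOver U V)
        ((yon S).map (opIncl U V) ≫ p) (show IsAffine (Scheme.Opens.toScheme V) from hVa)
        (repWith_etale_opIncl_comp p hpe V)
      refine (h1.image (Scheme.Opens.ι V)).subset ?_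
      rintro v ⟨hvx, hvV⟩
      let v' : ↥(Scheme.Opens.toScheme V) := ⟨v, hvV⟩
      refine ⟨v', ?_, rfl⟩
      change Points.ofPt ((yon S).map (opIncl U V) ≫ p) v' = Points.ofPt p s
      rw [ofPt_yon_map_comp]
      exact hvx
    have hN : ∀ t : ↥U.left,
        t ∈ (Points.ofPt p ⁻¹' {Points.ofPt p s}) ∩ (V : Set ↥U.left) → t ≠ s →
        ∃ N : Set ↥U.left, IsOpen N ∧ s ∈ N ∧ t ∉ N := by
      intro t ht hts
      by_contra hcon
      push Not at hcon
      have hts' : t ⤳ s := by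
        rw [specializes_iff_forall_open]
        intro N hNo hsN
        exact hcon N hNo hsN
      exact hts (eq_of_specializes_of_isDecent hd p hpe s t ht.1.symm hts').symm
    choose! N hNo hsN htN using hN
    have hF₀fin : (((Points.ofPt p ⁻¹' {Points.ofPt p s}) ∩ (V : Set ↥U.left)) \ {s}).Finite :=
      hfin.subset Set.sdiff_subset
    have hO'open : IsOpen ((V : Set ↥U.left) ∩
        ⋂ t ∈ ((Points.ofPt p ⁻¹' {Points.ofPt p s}) ∩ (V : Set ↥U.left)) \ {s}, N t) :=
      V.isOpen.inter (hF₀fin.isOpen_biInter (fun t ht => hNo t ht.1 ht.2))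
    have hsO' : s ∈ (V : Set ↥U.left) ∩
        ⋂ t ∈ ((Points.ofPt p ⁻¹' {Points.ofPt p s}) ∩ (V : Set ↥U.left)) \ {s}, N t :=
      ⟨hsV, Set.mem_iInter₂.mpr (fun t ht => hsN t ht.1 ht.2)⟩
    have hO'fib : ∀ y : ↥U.left, y ∈ (V : Set ↥U.left) ∩
        ⋂ t ∈ ((Points.ofPt p ⁻¹' {Points.ofPt p s}) ∩ (V : Set ↥U.left)) \ {s}, N t →
        Points.ofPt p y = Points.ofPt p s → y = s := by
      intro y hy hyx
      by_contra hys
      have hyF₀ : y ∈ ((Points.ofPt p ⁻¹' {Points.ofPt p s}) ∩ (V : Set ↥U.left)) \ {s} :=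
        ⟨⟨hyx, hy.1⟩, hys⟩
      exact htN y hyF₀.1 hyF₀.2 (Set.mem_iInter₂.mp hy.2 y hyF₀)
    have hlc : IsLocallyClosed ({Points.ofPt p s} : Set (Points X)) := by
      refine ⟨Points.ofPt p '' ((V : Set ↥U.left) ∩
        ⋂ t ∈ ((Points.ofPt p ⁻¹' {Points.ofPt p s}) ∩ (V : Set ↥U.left)) \ {s}, N t),
        closure {Points.ofPt p s}, isOpenMap_ofPt_of_etale p hpe _ hO'open, isClosed_closure, ?_⟩
      ext x'
      constructor
      · rintro rfl
        exact ⟨⟨s, hsO', rfl⟩, subset_closure rfl⟩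
      · rintro ⟨⟨o, hoO', rfl⟩, hcl⟩
        have hsp : Points.ofPt p s ⤳ Points.ofPt p o := specializes_iff_mem_closure.mpr hcl
        obtain ⟨px, hpx, -, hqx⟩ := hd (Points.ofPt p s)
        obtain ⟨u'', hu''s, hu''p⟩ := exists_generization_of_specializes (Points.ofPt p o) px
          (by rw [hpx]; exact hsp) hqx p hpe o rfl
        have hu''O' := hu''s.mem_open hO'open hoO'
        have hu''s' : u'' = s := hO'fib u'' hu''O' (by rw [hu''p, hpx])
        rw [hu''s'] at hu''s
        have hos : o = s := hO o (hVO hoO'.1) hu''s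
        rw [hos]
        exact Set.mem_singleton _
    have hxc : IsClosed ({Points.ofPt p s} : Set (Points X)) :=
      isClosed_singleton_of_isLocallyClosed_singleton hlc
    have hΦc : IsClosed (Points.ofPt p ⁻¹' {Points.ofPt p s}) :=
      hxc.preimage (Points.continuous_ofPt p)
    have hsub : ({s} : Set ↥U.left) ⊆ Points.ofPt p ⁻¹' {Points.ofPt p s} :=
      Set.singleton_subset_iff.mpr rfl
    have hs₁Φ : Points.ofPt p s₁ = Points.ofPt p s :=
      (hΦc.closure_subset_iff.mpr hsub) (specializes_iff_mem_closure.mp hss₁)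
    exact hne (eq_of_specializes_of_isDecent hd p hpe s₁ s hs₁Φ hss₁)

end Groth.Agent.H25.JacobsonSp
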