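import Mathlib
import Groth.Prelude
import Groth.Agent.H25.LFI

/-!
# Locally finitely many irreducible components: flat morphisms locally of finite type (helper25)

* `exists_nhd_finite_D_of_flat`: scheme level local finiteness of codimension `0` points.
* `etaleLocally_lfi_of_flat` (S10303).
-/

set_option autoImplicit false
set_option maxHeartbeats 400000
set_option linter.style.haveILetI false
set_option linter.unusedVariables false
set_option linter.unusedSectionVars false

universe u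

open CategoryTheory CategoryTheory.Limits AlgebraicGeometry TopologicalSpace AlgSp

namespace Groth.Agent.H25.LFI

theorem mem_D_of_flat {T U : Scheme.{u}} (p : T ⟶ U) [Flat p] (t : ↥T) (ht : t ∈ D T) :
    p t ∈ D U := by
  change ringKrullDim ↥(U.presheaf.stalk (p t)) = 0
  have h1 := Groth.Agent.H25.EtaleDimStalk.ringKrullDim_stalk_le_of_flat p t
  have h2 : ringKrullDim ↥(T.presheaf.stalk t) = 0 := ht
  rw [h2] at h1
  exact le_antisymm h1 ringKrullDim_nonneg_of_nontrivial

set_option backward.isDefEq.respectTransparency.types false in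
theorem noetherianSpace_fiber {X Y : Scheme.{u}} (f : X ⟶ Y) [LocallyOfFiniteType f]
    [QuasiCompact f] (y : ↥Y) : NoetherianSpace ↥(f.fiber y) := by
  haveI : IsLocallyNoetherian (f.fiber y) := by
    have : LocallyOfFiniteType (f.fiberToSpecResidueField y) :=
      MorphismProperty.pullback_snd _ _ inferInstance
    exact LocallyOfFiniteType.isLocallyNoetherian (f.fiberToSpecResidueField y)
  haveI : IsNoetherian (f.fiber y) := {}
  infer_instance

/-- The codimension zero points of the source in a fibre are generic points of the fibre. -/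
theorem finite_D_inter_fiber {X Y : Scheme.{u}} (f : X ⟶ Y) [LocallyOfFiniteType f]
    [QuasiCompact f] (y : ↥Y) : (D X ∩ f ⁻¹' {y}).Finite := by
  haveI := noetherianSpace_fiber f y
  have hfin : (genericPoints ↥(f.fiber y)).Finite :=
    genericPoints.finite NoetherianSpace.finite_irreducibleComponents
  refine (hfin.image (f.fiberι y)).subset ?_
  rintro x ⟨hxD, hxy⟩
  have hxr : x ∈ Set.range (f.fiberι y) := by
    rw [Scheme.Hom.range_fiberι]
    exact hxy
  obtain ⟨z, rfl⟩ := hxr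
  refine ⟨z, ?_, rfl⟩
  rw [mem_genericPoints_iff]
  intro z' hz'
  have h1 : f.fiberι y z' ⤳ f.fiberι y z := hz'.map (f.fiberι y).continuous
  have h2 : f.fiberι y z' = f.fiberι y z :=
    (Groth.Agent.H52.ringKrullDim_stalk_eq_zero_iff _).mp hxD _ h1
  exact (f.fiberι y).isEmbedding.injective h2

/-- Finiteness of the set of codimension zero points in a small affine neighbourhood, for a scheme
flat and locally of finite type over a scheme with locally finitely many irreducible components. -/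
theorem exists_nhd_finite_D_of_flat {T U : Scheme.{u}} (p : T ⟶ U) [Flat p]
    [LocallyOfFiniteType p] (hU : Lfi U) (t : ↥T) (O : T.Opens) (ht : t ∈ O) :
    ∃ N : T.Opens, t ∈ N ∧ N ≤ O ∧ (D T ∩ (N : Set ↥T)).Finite := by
  obtain ⟨U', hU', hptU', -⟩ := TopologicalSpace.Opens.isBasis_iff_nbhd.mp U.isBasis_affineOpens
    (U := ⊤) (x := p t) trivial
  have hU'a : IsAffineOpen U' := hU'
  obtain ⟨N, hN, htN, hNle⟩ := TopologicalSpace.Opens.isBasis_iff_nbhd.mp
    T.isBasis_affineOpens (U := O ⊓ p ⁻¹ᵁ U') (x := t) ⟨ht, hptU'⟩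
  have hNa : IsAffineOpen N := hN
  have hNO : N ≤ O := hNle.trans inf_le_left
  have hNU' : N ≤ p ⁻¹ᵁ U' := hNle.trans inf_le_right
  refine ⟨N, htN, hNO, ?_⟩
  have hfinU : (D U ∩ (U' : Set ↥U)).Finite := (lfi_iff U).mp hU U' hU'a.isCompact
  haveI : IsAffine (Scheme.Opens.toScheme N) := hNa
  haveI : IsAffine (Scheme.Opens.toScheme U') := hU'a
  let r : Scheme.Opens.toScheme N ⟶ Scheme.Opens.toScheme U' := p.resLE U' N hNU'
  have hrw : r ≫ Scheme.Opens.ι U' = Scheme.Opens.ι N ≫ p := Scheme.Hom.resLE_comp_ι p hNU'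
  haveI : LocallyOfFiniteType (r ≫ Scheme.Opens.ι U') := by
    rw [hrw]
    infer_instance
  haveI : LocallyOfFiniteType r := locallyOfFiniteType_of_comp r (Scheme.Opens.ι U')
  have hr : ∀ x : ↥(Scheme.Opens.toScheme N),
      (Scheme.Opens.ι U') (r x) = p ((Scheme.Opens.ι N) x) := by
    intro x
    have h1 : (r ≫ Scheme.Opens.ι U') x = (Scheme.Opens.ι N ≫ p) x := by
      rw [hrw]
    exact h1
  have hfin1 : ((Scheme.Opens.ι U') ⁻¹' (D U ∩ (U' : Set ↥U))).Finite :=
    hfinU.preimage (Scheme.Opens.ι U').isOpenEmbedding.injective.injOn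
  have hfin2 : (⋃ y ∈ (Scheme.Opens.ι U') ⁻¹' (D U ∩ (U' : Set ↥U)),
      (D (Scheme.Opens.toScheme N) ∩ r ⁻¹' {y})).Finite :=
    hfin1.biUnion (fun y _ => finite_D_inter_fiber r y)
  refine (hfin2.image (Scheme.Opens.ι N)).subset ?_
  rintro x ⟨hxD, hxN⟩
  let x' : ↥(Scheme.Opens.toScheme N) := ⟨x, hxN⟩
  refine ⟨x', ?_, rfl⟩
  refine Set.mem_iUnion₂.mpr ⟨r x', ?_, ?_, rfl⟩
  · change (Scheme.Opens.ι U') (r x') ∈ D U ∩ (U' : Set ↥U)
    rw [hr]
    exact ⟨mem_D_of_flat p x hxD, hNU' hxN⟩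
  · exact (mem_D_iff_of_etale (Scheme.Opens.ι N) x').mpr hxD

variable {S : Scheme.{u}}

/-- S10303. -/
theorem etaleLocally_lfi_of_flat {X Y : Sp S} (hX : IsAlgSpace X) (f : X ⟶ Y)
    (hf : LocP @Flat f) (hf' : LocP @LocallyOfFiniteType f) (hY : EtaleLocally Lfi Y) :
    EtaleLocally Lfi X := by
  obtain ⟨U, p, hpe, hps, hU⟩ := hY
  obtain ⟨V, b, hbe, hbs⟩ := hX.atlas
  have sq := hpe.rep.isPullback' (b ≫ f)
  haveI hq_e : Etale (hpe.rep.snd (b ≫ f)).left := hpe.property_snd (b ≫ f)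
  have hq_s : Surjective (hpe.rep.snd (b ≫ f)).left := hps.2 (b ≫ f) _ _ sq
  have h4 := AlgSp.repWith_isMultiplicative (S := S) @Etale
  have ha : RepWith @Etale ((yon S).map (hpe.rep.snd (b ≫ f)) ≫ b) :=
    (RepWith @Etale).comp_mem _ _ ((repWith_yon_map_iff @Etale _).2 hq_e) hbe
  have hcomm : ((yon S).map (hpe.rep.snd (b ≫ f)) ≫ b) ≫ f =
      (yon S).map (hpe.rep.fst' (b ≫ f)) ≫ p := by
    rw [Category.assoc]
    exact sq.w.symm
  haveI hflat : Flat (hpe.rep.fst' (b ≫ f)).left := hf _ p _ ha hpe hcomm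
  haveI hlft : LocallyOfFiniteType (hpe.rep.fst' (b ≫ f)).left := hf' _ p _ ha hpe hcomm
  refine ⟨V, b, hbe, hbs, ?_⟩
  refine lfi_of_surjective (hpe.rep.snd (b ≫ f)).left hq_s.surj
    (hpe.rep.snd (b ≫ f)).left.isOpenMap ?_ ?_
  · intro t ht
    exact (mem_D_iff_of_etale _ t).mpr ht
  · intro t O ht
    exact exists_nhd_finite_D_of_flat (hpe.rep.fst' (b ≫ f)).left hU t O ht

end Groth.Agent.H25.LFI
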