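import Mathlib
import Groth.Prelude.Def_LinSer
set_option autoImplicit false
universe u
open CategoryTheory AlgebraicGeometry Opposite

/-! (INJ) for helper7's S14471 squad: on an integral scheme a global section of an invertible module
with zero germ at some point is zero. -/

namespace Groth.Agent.H25.LSO_INJ

theorem aux (C : Scheme.{u}) [IsIntegral C] (L : C.Modules)
    (hL : PicF.IsInvertible L) (p : C) (σ : Γ(L, ⊤))
    (h : L.presheaf.germ ⊤ p trivial σ = 0) : σ = 0 := by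
  have hp : p ∈ (⊤ : C.Opens) := trivial
  have h0 : L.presheaf.germ ⊤ p hp σ = L.presheaf.germ ⊤ p hp 0 := by rw [map_zero]; exact h
  obtain ⟨W, hpW, iU, _iV, hW⟩ := TopCat.Presheaf.germ_eq L.presheaf p hp hp σ 0 h0
  rw [map_zero] at hW
  have key : ∀ (V : C.Opens) (hVW : V ≤ W) (g : V ⟶ ⊤), L.presheaf.map g.op σ = 0 := by
    intro V hVW g
    have hg : g = homOfLE hVW ≫ iU := Subsingleton.elim _ _
    rw [hg, op_comp, Functor.map_comp, ConcreteCategory.comp_apply, hW, map_zero]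
  refine TopCat.Presheaf.section_ext ⟨L.presheaf, L.isSheaf⟩ ⊤ σ 0 (fun x hx => ?_)
  rw [map_zero]
  obtain ⟨U, hxU, ⟨e⟩⟩ := hL x
  haveI : Nonempty U := ⟨⟨x, hxU⟩⟩
  obtain ⟨z, hzU, hzW⟩ : ∃ z : C, z ∈ U ∧ z ∈ W := by
    obtain ⟨z, hz⟩ := nonempty_preirreducible_inter (s := (U : Set C)) (t := (W : Set C))
      U.2 W.2 ⟨x, hxU⟩ ⟨p, hpW⟩
    exact ⟨z, hz.1, hz.2⟩
  let O' : (U : Scheme.{u}).Opens := U.ι ⁻¹ᵁ W
  haveI : Nonempty O' := ⟨⟨⟨z, hzU⟩, hzW⟩⟩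
  let σU : Γ(L.restrict U.ι, ⊤) := L.presheaf.map (homOfLE (le_top : U.ι ''ᵁ ⊤ ≤ ⊤)).op σ
  have hz1 : (L.restrict U.ι).presheaf.map (homOfLE (le_top : O' ≤ ⊤)).op σU = 0 := by
    show L.presheaf.map (U.ι.opensFunctor.map (homOfLE (le_top : O' ≤ ⊤))).op
      (L.presheaf.map (homOfLE (le_top : U.ι ''ᵁ ⊤ ≤ ⊤)).op σ) = 0
    rw [← ConcreteCategory.comp_apply, ← Functor.map_comp, ← op_comp]
    refine key _ ?_ _
    rintro _ ⟨y', hy', rfl⟩
    exact hy'
  have hnat := e.hom.mapPresheaf.naturality (homOfLE (le_top : O' ≤ ⊤)).op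
  have hnat' := ConcreteCategory.congr_hom hnat σU
  rw [ConcreteCategory.comp_apply, ConcreteCategory.comp_apply] at hnat'
  rw [hz1, map_zero] at hnat'
  have hf0 : e.hom.app ⊤ σU = 0 := by
    have hinj := map_injective_of_isIntegral (X := (U : Scheme.{u}))
      (homOfLE (le_top : O' ≤ ⊤))
    apply hinj
    have hz : (ConcreteCategory.hom ((U : Scheme.{u}).presheaf.map
        (homOfLE (le_top : O' ≤ ⊤)).op)) 0 = 0 := map_zero _
    exact hnat'.symm.trans hz.symm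
  have hσU : σU = 0 := by
    have h1 := ConcreteCategory.congr_hom
      (congrArg (fun φ => Scheme.Modules.Hom.app φ ⊤) e.hom_inv_id) σU
    simp only [Scheme.Modules.Hom.comp_app, Scheme.Modules.Hom.id_app,
      ConcreteCategory.comp_apply, ConcreteCategory.id_apply] at h1
    rw [← h1, hf0, map_zero]
  have hx' : x ∈ U.ι ''ᵁ ⊤ := ⟨⟨x, hxU⟩, trivial, rfl⟩
  have hgerm : L.presheaf.germ (U.ι ''ᵁ ⊤) x hx'
      (L.presheaf.map (homOfLE (le_top : U.ι ''ᵁ ⊤ ≤ ⊤)).op σ) = 0 := by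
    have h2 : L.presheaf.map (homOfLE (le_top : U.ι ''ᵁ ⊤ ≤ ⊤)).op σ = 0 := hσU
    rw [h2, map_zero]
  rw [← TopCat.Presheaf.germ_res_apply L.presheaf (homOfLE (le_top : U.ι ''ᵁ ⊤ ≤ ⊤)) x hx' σ]
  exact hgerm

theorem eq_zero_of_germ_eq_zero (C : Scheme.{u}) [IsIntegral C] (L : C.Modules)
    (hL : PicF.IsInvertible L) (p : C) (σ : LinSer.Sect C L)
    (h : L.presheaf.germ ⊤ p trivial σ = 0) : σ = 0 :=
  aux C L hL p σ h

end Groth.Agent.H25.LSO_INJ
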