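import Mathlib
import Groth.Prelude
import Groth.Agent.H52.Noeth

/-!
# Local finiteness of irreducible components in locally Noetherian spaces (helper25)
-/

set_option autoImplicit false
set_option maxHeartbeats 400000
set_option linter.style.haveILetI false
set_option linter.unusedVariables false
set_option linter.unusedSectionVars false

universe u

open CategoryTheory CategoryTheory.Limits AlgebraicGeometry TopologicalSpace AlgSp

namespace Groth.Agent.H25.LocFinIrred

/-- Only finitely many irreducible components meet an open subset which is a Noetherian space. -/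
theorem finite_irreducibleComponents_inter_open {A : Type*} [TopologicalSpace A] (O : Set A)
    (hO : IsOpen O) [NoetherianSpace ↥O] :
    {Z : Set A | Z ∈ irreducibleComponents A ∧ (Z ∩ O).Nonempty}.Finite := by
  have hfin : (irreducibleComponents ↥O).Finite := NoetherianSpace.finite_irreducibleComponents
  refine (hfin.image (fun C : Set ↥O => closure (Subtype.val '' C))).subset ?_
  rintro Z ⟨hZ, hne⟩
  have hZirr : IsIrreducible Z := hZ.1
  have hpre : IsIrreducible ((Subtype.val : ↥O → A) ⁻¹' Z) := by
    refine ⟨?_, hZirr.2.preimage hO.isOpenEmbedding_subtypeVal⟩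
    obtain ⟨z, hzZ, hzO⟩ := hne
    exact ⟨⟨z, hzO⟩, hzZ⟩
  obtain ⟨C, hC, hsub⟩ := exists_mem_irreducibleComponents_subset_of_isIrreducible _ hpre
  refine ⟨C, hC, ?_⟩
  have hCirr : IsIrreducible (closure ((Subtype.val : ↥O → A) '' C)) :=
    (hC.1.image _ continuous_subtype_val.continuousOn).closure
  have h1 : Z ⊆ closure (Z ∩ O) :=
    subset_closure_inter_of_isPreirreducible_of_isOpen hZirr.2 hO hne
  have h2 : Z ∩ O ⊆ (Subtype.val : ↥O → A) '' C := by
    rintro z ⟨hzZ, hzO⟩
    exact ⟨⟨z, hzO⟩, hsub hzZ, rfl⟩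
  have h3 : Z ⊆ closure ((Subtype.val : ↥O → A) '' C) := h1.trans (closure_mono h2)
  exact (hZ.eq_of_le hCirr h3).symm

/-- Local finiteness of the irreducible components of a subset in a space in which every point has
a Noetherian open neighbourhood. -/
theorem locallyFinite_irreducibleComponents {P : Type*} [TopologicalSpace P]
    (hP : ∀ x : P, ∃ W : Set P, IsOpen W ∧ x ∈ W ∧ NoetherianSpace ↥W) (T : Set P) :
    LocallyFinite (fun Z : ↥(irreducibleComponents ↥T) =>
      ((↑) : ↥T → P) '' (Z : Set ↥T)) := by
  intro x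
  obtain ⟨W, hWo, hxW, hWn⟩ := hP x
  refine ⟨W, hWo.mem_nhds hxW, ?_⟩
  let O : Set ↥T := (Subtype.val : ↥T → P) ⁻¹' W
  have hO : IsOpen O := hWo.preimage continuous_subtype_val
  let i : ↥O → ↥W := fun t => ⟨t.1.1, t.2⟩
  have hi : Topology.IsInducing i := by
    have hc : Continuous i :=
      (continuous_subtype_val.comp continuous_subtype_val).subtype_mk _
    have hcomp : Topology.IsInducing ((Subtype.val : ↥W → P) ∘ i) := by
      have : (Subtype.val : ↥W → P) ∘ i =
          (Subtype.val : ↥T → P) ∘ (Subtype.val : ↥O → ↥T) := rfl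
      rw [this]
      exact Topology.IsInducing.subtypeVal.comp Topology.IsInducing.subtypeVal
    exact Topology.IsInducing.of_comp hc continuous_subtype_val hcomp
  haveI : NoetherianSpace ↥O := hi.noetherianSpace
  have hfin := finite_irreducibleComponents_inter_open O hO
  have hsub : {Z : ↥(irreducibleComponents ↥T) |
      ((((↑) : ↥T → P) '' (Z : Set ↥T)) ∩ W).Nonempty} ⊆
      Subtype.val ⁻¹' {Z : Set ↥T | Z ∈ irreducibleComponents ↥T ∧ (Z ∩ O).Nonempty} := by
    rintro Z ⟨p, ⟨t, htZ, rfl⟩, hpW⟩
    exact ⟨Z.2, ⟨t, htZ, hpW⟩⟩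
  exact (hfin.preimage Subtype.val_injective.injOn).subset hsub

/-- S10491. -/
theorem locallyFinite_irreducibleComponents_of_isLocNoethSp {S : Scheme.{u}} {F : Sp S}
    (hF : IsLocNoethSp F) (T : Set (Points F)) :
    LocallyFinite (fun Z : ↥(irreducibleComponents ↥T) =>
      ((↑) : ↥T → Points F) '' (Z : Set ↥T)) :=
  locallyFinite_irreducibleComponents (fun x => Groth.Agent.H52.exists_noetherianSpace_nhd hF x) T

end Groth.Agent.H25.LocFinIrred
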