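import Mathlib
import Groth.Prelude.Def_ClSub2
import Groth.Prelude.Def_CohB1
import Groth.Agent.H8.Coh
import Groth.Agent.H8.FinType
import Groth.Agent.H8.SectionsExact
import Groth.Agent.H8.StructureCoh
import Groth.Agent.H8.CohKerCoker
import Groth.Agent.H22.SerreAffine
set_option autoImplicit false
universe u
open CategoryTheory CategoryTheory.Limits AlgebraicGeometry TopologicalSpace Opposite

/-! (HFA) for helper61's S12261 squad: the ideal sheaf module of a quasi-coherent ideal on a locally
Noetherian scheme is coherent (copy of `Groth.Agent.H95.WeilSheaf.isCoh_idealMod` without the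
superfluous `[IsIntegral X]`). -/

namespace Groth.Agent.H25.LocHilbHfin_HFA

theorem HFA {Y : Scheme.{u}} [IsLocallyNoetherian Y] (I : Y.IdealSheafData) :
    Coh.IsCoh (ClSub.idealMod I) := by
  haveI hq : (ClSub.idealMod I).IsQuasicoherent :=
    inferInstanceAs ((kernel (ClSub.toSubscheme I)).IsQuasicoherent)
  refine ⟨hq, ?_⟩
  apply Groth.Agent.H8.isFiniteType_of_forall_affine_finite
  intro U
  have hO := Groth.Agent.H8.isCoh_structureModule Y
  haveI : IsNoetherianRing Γ(Y, (U : Y.Opens)) := IsLocallyNoetherian.component_noetherian U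
  haveI : Module.Finite Γ(Y, (U : Y.Opens)) Γ(Coh.structureModule Y, (U : Y.Opens)) :=
    Groth.Agent.H8.finite_sections_of_isCoh (Coh.structureModule Y) hO U.2
  haveI : IsNoetherian Γ(Y, (U : Y.Opens)) Γ(Coh.structureModule Y, (U : Y.Opens)) :=
    isNoetherian_of_isNoetherianRing_of_finite _ _
  exact Module.Finite.of_injective
    (Groth.Agent.H8.appₗ (kernel.ι (ClSub.toSubscheme I)) (U : Y.Opens))
    (Groth.Agent.H8.appₗ_injective_of_mono (kernel.ι (ClSub.toSubscheme I)) (U : Y.Opens))

end Groth.Agent.H25.LocHilbHfin_HFA
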