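import Mathlib
import Groth.Prelude
import Groth.Agent.H25.GlobSec

/-!
# The small etale site of an algebraic space is locally ringed (helper25)

`openSub E O`, `openIncl E O`: the object of the small etale site given by an open subscheme of an object,
with its inclusion.  `isLocallyRinged`: S10247.
-/

set_option autoImplicit false
set_option maxHeartbeats 400000
set_option linter.style.haveILetI false
set_option linter.unusedVariables false
set_option linter.unusedSectionVars false

universe u

open CategoryTheory CategoryTheory.Limits AlgebraicGeometry TopologicalSpace AlgSp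

namespace Groth.Agent.H25.LocRingedEt

open Groth.Agent.H25.GlobSec

variable {S : Scheme.{u}}

/-- A global function pulls back to a unit along a morphism landing in its non-vanishing locus. -/
theorem isUnit_appTop_of_forall_mem {X Y : Scheme.{u}} (φ : X ⟶ Y) (r : Γ(Y, ⊤))
    (h : ∀ p : X, φ p ∈ Y.basicOpen r) : IsUnit (φ.appTop.hom r) := by
  refine X.toRingedSpace.isUnit_of_isUnit_germ ⊤ _ fun x hx => ?_
  exact (X.mem_basicOpen_top _ x).mp ((mem_basicOpen_appTop φ r x).mpr (h x))

/-- The object of the small etale site given by an open subscheme of an object. -/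
noncomputable def openSub {X : Sp S} (E : EtOver X) (O : E.obj.left.left.Opens) : EtOver X :=
  EtOver.mk (U := Over.mk (O.ι ≫ E.obj.left.hom))
    ((yon S).map (Over.homMk O.ι rfl : Over.mk (O.ι ≫ E.obj.left.hom) ⟶ E.obj.left) ≫ E.obj.hom)
    (by
      have h4 := AlgSp.repWith_isMultiplicative (S := S) @Etale
      exact (RepWith @Etale).comp_mem _ _
        ((repWith_yon_map_iff @Etale _).2 (by change Etale O.ι; infer_instance)) E.property)

/-- The inclusion of an open subscheme, as a morphism of the small etale site. -/
noncomputable def openIncl {X : Sp S} (E : EtOver X) (O : E.obj.left.left.Opens) :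
    openSub E O ⟶ E :=
  EtOver.homMk (Over.homMk O.ι rfl) rfl

theorem openIncl_left {X : Sp S} (E : EtOver X) (O : E.obj.left.left.Opens) :
    (openIncl E O).hom.left.left = O.ι := rfl

theorem range_openIncl {X : Sp S} (E : EtOver X) (O : E.obj.left.left.Opens) :
    Set.range (openIncl E O).hom.left.left = (O : Set E.obj.left.left) :=
  Scheme.Opens.range_ι O

theorem comp_openIncl_mem {X : Sp S} (E : EtOver X) (O : E.obj.left.left.Opens) {V : EtOver X}
    (a : V ⟶ openSub E O) (p : ↥V.obj.left.left) :
    (a ≫ openIncl E O).hom.left.left p ∈ O := by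
  change O.ι (a.hom.left.left p) ∈ O
  exact (a.hom.left.left p).2

/-- S10247: the small etale site of `X` with its structure sheaf is a locally ringed site. -/
theorem isLocallyRinged (X : Sp S) : ModSite.IsLocallyRinged (etTop X) (OEt X) := by
  refine ⟨fun E f => ?_, fun E h => ?_⟩
  · let r : Γ(E.obj.left.left, ⊤) := f.down
    let D : Bool → E.obj.left.left.Opens := fun b =>
      cond b (E.obj.left.left.basicOpen r) (E.obj.left.left.basicOpen (1 - r))
    refine ⟨Sieve.ofArrows (fun b => openSub E (D b)) (fun b => openIncl E (D b)),
      ofArrows_mem_etTop _ _ fun x => ?_, ?_⟩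
    · have hloc := IsLocalRing.isUnit_or_isUnit_one_sub_self
        (E.obj.left.left.presheaf.germ ⊤ x trivial r)
      rcases hloc with h1 | h1
      · refine ⟨true, ?_⟩
        rw [range_openIncl]
        exact (E.obj.left.left.mem_basicOpen_top r x).mpr h1
      · refine ⟨false, ?_⟩
        rw [range_openIncl]
        refine (E.obj.left.left.mem_basicOpen_top (1 - r) x).mpr ?_
        rw [map_sub, map_one]
        exact h1
    · intro V g hg
      obtain ⟨b, a, rfl⟩ := (Sieve.mem_ofArrows_iff _ _ g).mp hg
      cases b
      · right
        have hu : IsUnit ((a ≫ openIncl E (D false)).hom.left.left.appTop.hom (1 - r)) :=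
          isUnit_appTop_of_forall_mem _ (1 - r) (comp_openIncl_mem E (D false) a)
        have hu2 : IsUnit (ULift.up.{u + 1}
            ((a ≫ openIncl E (D false)).hom.left.left.appTop.hom (1 - r))) :=
          hu.map (ULift.ringEquiv.symm : _ ≃+* ULift.{u + 1} _)
        exact hu2
      · left
        have hu : IsUnit ((a ≫ openIncl E (D true)).hom.left.left.appTop.hom r) :=
          isUnit_appTop_of_forall_mem _ r (comp_openIncl_mem E (D true) a)
        have hu2 : IsUnit (ULift.up.{u + 1}
            ((a ≫ openIncl E (D true)).hom.left.left.appTop.hom r)) :=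
          hu.map (ULift.ringEquiv.symm : _ ≃+* ULift.{u + 1} _)
        exact hu2
  · have hempty : IsEmpty ↥E.obj.left.left := by
      by_contra hne
      rw [not_isEmpty_iff] at hne
      obtain ⟨x⟩ := hne
      have hnt : Nontrivial Γ(E.obj.left.left, ⊤) :=
        @Scheme.component_nontrivial E.obj.left.left ⊤ ⟨⟨x, trivial⟩⟩
      have h01 : (0 : Γ(E.obj.left.left, ⊤)) = 1 := congrArg ULift.down h
      exact zero_ne_one h01
    have hmem : Sieve.ofArrows (fun i : PEmpty.{1} => (PEmpty.elim i : EtOver X))
        (fun i => PEmpty.elim i) ∈ etTop X E :=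
      ofArrows_mem_etTop _ _ fun x => (hempty.false x).elim
    refine (etTop X).superset_covering ?_ hmem
    intro V g hg
    obtain ⟨i, _, _⟩ := (Sieve.mem_ofArrows_iff _ _ g).mp hg
    exact i.elim

end Groth.Agent.H25.LocRingedEt
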