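import Mathlib
import Groth.Agent.H25.MagDefs
import Groth.Agent.H64.DX3
import Groth.Agent.H10.MG_B1
import Groth.Agent.H10.MG_B2

/-!
# The affine criterion for extending an orbit-type map over `A(N) ⊗ T` (helper25, (MG-B3))
-/

set_option autoImplicit false

universe u

open CategoryTheory Limits AlgebraicGeometry MonoidalCategory CartesianMonoidalCategory MonObj
open Magnet Magnet.MonAct
open scoped TensorProduct
open Groth.Agent.H91.MagnetDense Groth.Agent.H25.Mag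
open Groth.Agent.H10.MG_B1 Groth.Agent.H10.MG_B2

namespace Groth.Agent.H25.MagB3

attribute [local instance 10] algZ

/-- ring-level translation through affine charts. -/
theorem range_iff {U Y W : Scheme.{u}} {A A' : CommRingCat.{u}} (d : U ⟶ Y) (eU : Spec A ≅ U)
    (eY : Spec A' ≅ Y) (Φ : A' ⟶ A) (hΦ : eU.hom ≫ d = Spec.map Φ ≫ eY.hom) (f' : U ⟶ W) :
    (∀ b : Γ(W, ⊤), ∃ c' : Γ(Y, ⊤), d.appTop c' = f'.appTop b) ↔
      ∀ b : Γ(W, ⊤),
        ((eU.hom ≫ f').appTop ≫ (Scheme.ΓSpecIso A).hom).hom b ∈ Set.range Φ.hom := by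
  let γU : Γ(U, ⊤) ≅ A := (Scheme.Γ.mapIso eU.op) ≪≫ Scheme.ΓSpecIso A
  let γY : Γ(Y, ⊤) ≅ A' := (Scheme.Γ.mapIso eY.op) ≪≫ Scheme.ΓSpecIso A'
  have hγU : γU.hom = eU.hom.appTop ≫ (Scheme.ΓSpecIso A).hom := rfl
  have hγY : γY.hom = eY.hom.appTop ≫ (Scheme.ΓSpecIso A').hom := rfl
  have hF1 : d.appTop ≫ γU.hom = γY.hom ≫ Φ := by
    rw [hγU, hγY, ← Category.assoc, ← Scheme.Hom.comp_appTop, hΦ, Scheme.Hom.comp_appTop,
      Category.assoc, Scheme.ΓSpecIso_naturality, Category.assoc]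
  have hF2 : (eU.hom ≫ f').appTop ≫ (Scheme.ΓSpecIso A).hom = f'.appTop ≫ γU.hom := by
    rw [hγU, Scheme.Hom.comp_appTop, Category.assoc]
  rw [hF2]
  have e1 : ∀ c' : Γ(Y, ⊤), γU.hom.hom (d.appTop.hom c') = Φ.hom (γY.hom.hom c') := fun c' =>
    congrArg (fun φ => φ.hom c') hF1
  constructor
  · intro h b
    obtain ⟨c', hc'⟩ := h b
    refine ⟨γY.hom.hom c', ?_⟩
    rw [← e1 c']
    exact congrArg γU.hom.hom hc'
  · intro h b
    obtain ⟨c'', hc''⟩ := h b
    obtain ⟨c', rfl⟩ := (ConcreteCategory.bijective_of_isIso γY.hom).2 c''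
    refine ⟨c', (ConcreteCategory.bijective_of_isIso γU.hom).1 ?_⟩
    exact (e1 c').trans hc''

variable {S : Scheme.{u}} {M : Type} [AddCommMonoid M]

/-- the map to the (affine) base change `X_T` induced by `ψ : A(M) ⊗ T ⟶ X`. -/
noncomputable def lft {X : Over S} {R : CommRingCat.{u}} (t : Spec R ⟶ S)
    (ψ : AMonS S M ⊗ Over.mk t ⟶ X) : (AMonS S M ⊗ Over.mk t).left ⟶ pullback X.hom t :=
  pullback.lift ψ.left (snd (AMonS S M) (Over.mk t)).left (by
    rw [Over.w ψ]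
    exact (Over.w (snd (AMonS S M) (Over.mk t))).symm)

@[reassoc (attr := simp)]
lemma lft_fst {X : Over S} {R : CommRingCat.{u}} (t : Spec R ⟶ S)
    (ψ : AMonS S M ⊗ Over.mk t ⟶ X) : lft t ψ ≫ pullback.fst X.hom t = ψ.left :=
  pullback.lift_fst _ _ _

@[reassoc (attr := simp)]
lemma lft_snd {X : Over S} {R : CommRingCat.{u}} (t : Spec R ⟶ S)
    (ψ : AMonS S M ⊗ Over.mk t ⟶ X) :
    lft t ψ ≫ pullback.snd X.hom t = (snd (AMonS S M) (Over.mk t)).left :=
  pullback.lift_snd _ _ _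

/-- the two ways round the projection square. -/
lemma snd_square (N : AddSubmonoid M) {R R1 : CommRingCat.{u}} (f : R ⟶ R1) (t : Spec R ⟶ S) :
    (AMonS.map S N.subtype ▷ Over.mk (Spec.map f ≫ t)).left ≫
        (snd (AMonS S N) (Over.mk (Spec.map f ≫ t))).left ≫ Spec.map f =
      (AMonS S M ◁ (Over.homMk (Spec.map f) rfl : Over.mk (Spec.map f ≫ t) ⟶ Over.mk t)).left ≫
        (snd (AMonS S M) (Over.mk t)).left := by
  have h1 : (AMonS.map S N.subtype ▷ Over.mk (Spec.map f ≫ t)) ≫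
      snd (AMonS S N) (Over.mk (Spec.map f ≫ t)) = snd (AMonS S M) (Over.mk (Spec.map f ≫ t)) :=
    whiskerRight_snd _ _
  have h2 : (AMonS S M ◁ (Over.homMk (Spec.map f) rfl : Over.mk (Spec.map f ≫ t) ⟶ Over.mk t)) ≫
      snd (AMonS S M) (Over.mk t) = snd (AMonS S M) (Over.mk (Spec.map f ≫ t)) ≫
        (Over.homMk (Spec.map f) rfl : Over.mk (Spec.map f ≫ t) ⟶ Over.mk t) :=
    whiskerLeft_snd _ _
  have h1' := congrArg (fun φ => φ.left) h1
  have h2' := congrArg (fun φ => φ.left) h2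
  simp only [Over.comp_left] at h1' h2'
  rw [← Category.assoc, h1', h2']
  rfl

/-- Step I: extension over `S` ⇔ extension of the lifted map into `X_T`. -/
theorem ext_iff_lift (N : AddSubmonoid M) {X : Over S} {R R1 : CommRingCat.{u}} (f : R ⟶ R1)
    (t : Spec R ⟶ S) (ψ : AMonS S M ⊗ Over.mk t ⟶ X) :
    Ext N ((AMonS S M ◁ (Over.homMk (Spec.map f) rfl : Over.mk (Spec.map f ≫ t) ⟶ Over.mk t)) ≫ ψ)
      ↔ ∃ φ₀ : (AMonS S N ⊗ Over.mk (Spec.map f ≫ t)).left ⟶ pullback X.hom t,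
        (AMonS.map S N.subtype ▷ Over.mk (Spec.map f ≫ t)).left ≫ φ₀ =
          (AMonS S M ◁ (Over.homMk (Spec.map f) rfl :
            Over.mk (Spec.map f ≫ t) ⟶ Over.mk t)).left ≫ lft t ψ := by
  haveI := dense S N.subtype Subtype.val_injective (Over.mk (Spec.map f ≫ t))
  constructor
  · rintro ⟨φ, hφ⟩
    have hw : φ.left ≫ X.hom =
        ((snd (AMonS S N) (Over.mk (Spec.map f ≫ t))).left ≫ Spec.map f) ≫ t := by
      rw [Over.w φ, Category.assoc]
      exact (Over.w (snd (AMonS S N) (Over.mk (Spec.map f ≫ t)))).symm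
    refine ⟨pullback.lift φ.left
      ((snd (AMonS S N) (Over.mk (Spec.map f ≫ t))).left ≫ Spec.map f) hw, ?_⟩
    apply pullback.hom_ext
    · rw [Category.assoc, pullback.lift_fst, Category.assoc, lft_fst, ← Over.comp_left, hφ,
        Over.comp_left]
    · rw [Category.assoc, pullback.lift_snd, Category.assoc, lft_snd]
      exact snd_square N f t
  · rintro ⟨φ₀, hφ₀⟩
    have hsnd : φ₀ ≫ pullback.snd X.hom t =
        (snd (AMonS S N) (Over.mk (Spec.map f ≫ t))).left ≫ Spec.map f := by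
      apply Groth.Agent.H64.DX3.cancel_dominant_affine
        (AMonS.map S N.subtype ▷ Over.mk (Spec.map f ≫ t)).left
      rw [← Category.assoc, hφ₀, Category.assoc, lft_snd]
      exact (snd_square N f t).symm
    have hw : (φ₀ ≫ pullback.fst X.hom t) ≫ X.hom =
        (AMonS S N ⊗ Over.mk (Spec.map f ≫ t)).hom := by
      rw [Category.assoc, pullback.condition, ← Category.assoc, hsnd, Category.assoc]
      exact Over.w (snd (AMonS S N) (Over.mk (Spec.map f ≫ t)))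
    refine ⟨Over.homMk (φ₀ ≫ pullback.fst X.hom t) hw, ?_⟩
    ext1
    change (AMonS.map S N.subtype ▷ Over.mk (Spec.map f ≫ t)).left ≫ (φ₀ ≫ pullback.fst X.hom t) =
      (AMonS S M ◁ (Over.homMk (Spec.map f) rfl : Over.mk (Spec.map f ≫ t) ⟶ Over.mk t)).left ≫
        ψ.left
    rw [← Category.assoc, hφ₀, Category.assoc, lft_fst]

/-- (MG-B3) the affine criterion. -/
theorem affine_crit (N : AddSubmonoid M) {X : Over S} [IsAffineHom X.hom] (R : CommRingCat.{u})
    (t : Spec R ⟶ S) (ψ : AMonS S M ⊗ Over.mk t ⟶ X) :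
    ∃ J : Ideal R, ∀ (R1 : CommRingCat.{u}) (f : R ⟶ R1),
      Ext N ((AMonS S M ◁ (Over.homMk (Spec.map f) rfl : Over.mk (Spec.map f ≫ t) ⟶ Over.mk t)) ≫ ψ)
        ↔ J ≤ RingHom.ker f.hom := by
  have : IsAffineHom (pullback.snd X.hom t) := inferInstance
  haveI : IsAffine (pullback X.hom t) := isAffine_of_isAffineHom (pullback.snd X.hom t)
  let c : Γ(pullback X.hom t, ⊤) ⟶ CommRingCat.of (BM.{u} M ⊗[ULift.{u} ℤ] R) :=
    ((chart S M R t).hom ≫ lft t ψ).appTop ≫ (Scheme.ΓSpecIso _).hom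
  obtain ⟨J, hJ⟩ := exists_coeff_ideal N c.hom
  refine ⟨J, fun R1 f => ?_⟩
  haveI := dense S N.subtype Subtype.val_injective (Over.mk (Spec.map f ≫ t))
  rw [ext_iff_lift, Groth.Agent.H64.DX3.exists_ext_iff,
    range_iff _ (chart S M R1 (Spec.map f ≫ t)) (chart S N R1 (Spec.map f ≫ t))
      (CommRingCat.ofHom (Phi N R1).toRingHom) (chart_whiskerRight N R1 (Spec.map f ≫ t)),
    ← hJ R1 f.hom]
  have hc1 : ((chart S M R1 (Spec.map f ≫ t)).hom ≫
      (AMonS S M ◁ (Over.homMk (Spec.map f) rfl : Over.mk (Spec.map f ≫ t) ⟶ Over.mk t)).left ≫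
        lft t ψ).appTop ≫ (Scheme.ΓSpecIso _).hom =
      c ≫ CommRingCat.ofHom (tmap M f.hom).toRingHom := by
    rw [← Category.assoc (chart S M R1 (Spec.map f ≫ t)).hom, chart_whiskerLeft, Category.assoc,
      Scheme.Hom.comp_appTop, Category.assoc, Scheme.ΓSpecIso_naturality, ← Category.assoc]
  rw [hc1]
  constructor
  · intro h b
    obtain ⟨y, hy⟩ := h b
    exact ⟨y, hy⟩
  · intro h b
    obtain ⟨y, hy⟩ := h b
    exact ⟨y, hy⟩

end Groth.Agent.H25.MagB3
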