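import Mathlib
import Groth.Agent.H25.MagDefs
import Groth.Agent.H25.DX4
import Groth.Agent.H25.MagB3
import Groth.Agent.H41.MG_A
import Groth.Agent.H19.MG_CS2

/-!
# The attractor `X^N` of an `A(M)_S`-action on `X` affine over `S` is a closed subscheme
(helper25, assembly for S18295)
-/

set_option autoImplicit false

universe u

open CategoryTheory Limits AlgebraicGeometry MonoidalCategory CartesianMonoidalCategory MonObj Opposite
open Magnet Magnet.MonAct
open Groth.Agent.H91.MagnetDense Groth.Agent.H25.Mag Groth.Agent.H25.DX4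
open Groth.Agent.H25.MagB3 Groth.Agent.H41.MG_A Groth.Agent.H19.MG_CS2

namespace Groth.Agent.H25.MagAsm

variable {S : Scheme.{u}} {M : Type} [AddCommMonoid M] (N : AddSubmonoid M) {X : Over S}
  (a : MonAct (AMonS S M) X)

/-- the orbit map of a point. -/
noncomputable abbrev orb {T : Over S} (y : T ⟶ X) : AMonS S M ⊗ T ⟶ X := (AMonS S M ◁ y) ≫ a.act

lemma orb_comp {T T' : Over S} (t : T' ⟶ T) (y : T ⟶ X) :
    orb a (t ≫ y) = (AMonS S M ◁ t) ≫ orb a y := by
  simp only [orb, MonoidalCategory.whiskerLeft_comp, Category.assoc]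

lemma Ext_precomp {T T' : Over S} (t : T' ⟶ T) {ψ : AMonS S M ⊗ T ⟶ X} (h : Ext N ψ) :
    Ext N ((AMonS S M ◁ t) ≫ ψ) := by
  obtain ⟨φ, hφ⟩ := h
  refine ⟨(AMonS S N ◁ t) ≫ φ, ?_⟩
  rw [← whisker_exchange_assoc, hφ]

/-- the scheme-level predicate. -/
def P (T : Scheme.{u}) (x : T ⟶ X.left) : Prop :=
  Ext N (orb a (Over.homMk x rfl : Over.mk (x ≫ X.hom) ⟶ X))

lemma P_iff {T : Over S} (y : T ⟶ X) : P N a T.left y.left ↔ Ext N (orb a y) := by
  let e : Over.mk (y.left ≫ X.hom) ≅ T := Over.isoMk (Iso.refl _) (by simp)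
  have he : e.hom ≫ y = (Over.homMk y.left rfl : Over.mk (y.left ≫ X.hom) ⟶ X) := by
    ext1
    simp [e]
  have he' : e.inv ≫ (Over.homMk y.left rfl : Over.mk (y.left ≫ X.hom) ⟶ X) = y := by
    rw [← he, Iso.inv_hom_id_assoc]
  constructor
  · intro h
    have h2 := Ext_precomp N e.inv h
    rwa [← orb_comp, he'] at h2
  · intro h
    have h2 := Ext_precomp N e.hom h
    rwa [← orb_comp, he] at h2

lemma P_comp {T T' : Scheme.{u}} (t : T' ⟶ T) (x : T ⟶ X.left) (h : P N a T x) :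
    P N a T' (t ≫ x) := by
  let y : Over.mk (x ≫ X.hom) ⟶ X := Over.homMk x rfl
  let tt : Over.mk ((t ≫ x) ≫ X.hom) ⟶ Over.mk (x ≫ X.hom) := Over.homMk t (by simp)
  have h2 : Ext N (orb a (tt ≫ y)) := by
    rw [orb_comp]
    exact Ext_precomp N tt h
  exact (P_iff N a (tt ≫ y)).mpr h2

lemma P_loc [IsSeparated X.hom] {T : Scheme.{u}} (x : T ⟶ X.left) (𝒰 : Scheme.OpenCover.{u} T)
    (h : ∀ j, P N a (𝒰.X j) (𝒰.f j ≫ x)) : P N a T x := by
  let Tx : Over S := Over.mk (x ≫ X.hom)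
  let y : Tx ⟶ X := Over.homMk x rfl
  change Ext N (orb a y)
  refine ext_of_openCover N (T := Tx) (orb a y) 𝒰 (fun j => ?_)
  rw [← orb_comp]
  exact (P_iff N a ((Over.homMk (𝒰.f j) rfl : Over.mk (𝒰.f j ≫ Tx.hom) ⟶ Tx) ≫ y)).mp (h j)

lemma P_aff [IsAffineHom X.hom] (R : CommRingCat.{u}) (x : Spec R ⟶ X.left) :
    ∃ J : Ideal R, ∀ (R1 : CommRingCat.{u}) (f : R ⟶ R1),
      P N a (Spec R1) (Spec.map f ≫ x) ↔ J ≤ RingHom.ker f.hom := by
  let y : Over.mk (x ≫ X.hom) ⟶ X := Over.homMk x rfl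
  obtain ⟨J, hJ⟩ := affine_crit N R (x ≫ X.hom) (orb a y)
  refine ⟨J, fun R1 f => ?_⟩
  rw [← hJ R1 f, ← orb_comp]
  exact P_iff N a ((Over.homMk (Spec.map f) rfl :
    Over.mk (Spec.map f ≫ x ≫ X.hom) ⟶ Over.mk (x ≫ X.hom)) ≫ y)

lemma ev_natural {T T' : Over S} (t : T' ⟶ T) (φ : (attr a N).obj (op T)) :
    (attrToX a N).app (op T') ((attr a N).map t.op φ) = t ≫ (attrToX a N).app (op T) φ := by
  change lift (toUnit T' ≫ η[AMonS S N]) (𝟙 T') ≫ (AMonS S N ◁ t) ≫ φ.1 =
    t ≫ lift (toUnit T ≫ η[AMonS S N]) (𝟙 T) ≫ φ.1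
  rw [lift_whiskerLeft_assoc, ← Category.assoc t, comp_lift, Category.comp_id, Category.id_comp,
    ← Category.assoc t, toUnit_unique (t ≫ toUnit T) (toUnit T')]

theorem main [IsAffineHom X.hom] :
    ∃ (Z : Over S) (i : Z ⟶ X) (e : (Magnet.attr a N).RepresentableBy Z), IsClosedImmersion i.left ∧
      ∀ (T : Over S) (z : T ⟶ Z), (Magnet.attrToX a N).app (op T) (e.homEquiv z) = z ≫ i := by
  have : IsSeparated X.hom := inferInstance
  have hd : ∀ T : Over S, IsSchemeTheoreticallyDominant (AMonS.map S N.subtype ▷ T).left :=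
    fun T => dense S N.subtype Subtype.val_injective T
  obtain ⟨ℐ, hℐ⟩ := closed_subfunctor (P N a) (fun t x h => P_comp N a t x h)
    (fun x 𝒰 h => P_loc N a x 𝒰 h) (P_aff N a)
  -- the range criterion
  have crit : ∀ (T : Over S) (y : T ⟶ X),
      (∃ φ : (attr a N).obj (op T), (attrToX a N).app (op T) φ = y) ↔
        ∃ z₀ : T.left ⟶ ℐ.subscheme, z₀ ≫ ℐ.subschemeι = y.left := by
    intro T y
    rw [← hℐ T.left y.left, P_iff N a y]
    exact mem_range_evalAt_iff (AMonS.map S N.subtype) hd a T y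
  let Z : Over S := Over.mk (ℐ.subschemeι ≫ X.hom)
  let j : Z ⟶ X := Over.homMk ℐ.subschemeι rfl
  have hjcl : IsClosedImmersion j.left := by
    change IsClosedImmersion ℐ.subschemeι
    infer_instance
  have : Mono j := by
    have : Mono j.left := inferInstance
    exact Over.mono_of_mono_left j
  obtain ⟨φZ, hφZ⟩ : ∃ φ : (attr a N).obj (op Z), (attrToX a N).app (op Z) φ = j :=
    (crit Z j).mpr ⟨𝟙 _, Category.id_comp _⟩
  have fac : ∀ (T : Over S) (φ : (attr a N).obj (op T)),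
      ∃ z : T ⟶ Z, z ≫ j = (attrToX a N).app (op T) φ := by
    intro T φ
    obtain ⟨z₀, hz₀⟩ := (crit T ((attrToX a N).app (op T) φ)).mp ⟨φ, rfl⟩
    refine ⟨Over.homMk z₀ ?_, ?_⟩
    · change z₀ ≫ ℐ.subschemeι ≫ X.hom = T.hom
      rw [← Category.assoc, hz₀, Over.w]
    · ext1
      exact hz₀
  choose zf hzf using fac
  have hleft : ∀ (T : Over S) (z : T ⟶ Z), zf T ((attr a N).map z.op φZ) = z := by
    intro T z
    apply (cancel_mono j).mp
    rw [hzf, ev_natural, hφZ]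
  have hright : ∀ (T : Over S) (φ : (attr a N).obj (op T)),
      (attr a N).map (zf T φ).op φZ = φ := by
    intro T φ
    apply evalAt_injective (AMonS.map S N.subtype) hd a T
    have h1 := ev_natural N a (zf T φ) φZ
    rw [hφZ, hzf] at h1
    exact h1
  let e : (attr a N).RepresentableBy Z :=
    { homEquiv := fun {T} =>
        { toFun := fun z => (attr a N).map z.op φZ,
          invFun := fun φ => zf T φ,
          left_inv := hleft T,
          right_inv := hright T },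
      homEquiv_comp := by
        intro T T' f g
        change (attr a N).map (f ≫ g).op φZ = (attr a N).map f.op ((attr a N).map g.op φZ)
        rw [op_comp, Functor.map_comp]
        rfl }
  refine ⟨Z, j, e, hjcl, ?_⟩
  intro T z
  change (attrToX a N).app (op T) ((attr a N).map z.op φZ) = z ≫ j
  rw [ev_natural, hφZ]

end Groth.Agent.H25.MagAsm
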