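import Mathlib
import Groth.Prelude
import Groth.Agent.H18.GlobGen
import Groth.Agent.H18.GlobGenConv

set_option autoImplicit false
universe u
open CategoryTheory CategoryTheory.Limits AlgebraicGeometry Opposite TopologicalSpace

/-! (GGC) for helper82's S12111 squad: global generation descends along the pushforward of a
closed immersion. -/

namespace Groth.Agent.H25.Mumford_GGC

theorem GGC {X Y : Scheme.{u}} (i : X ⟶ Y) [IsClosedImmersion i] (M : X.Modules)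
    (h : Curv2.IsGloballyGenerated ((Coh.push i).obj M)) : Curv2.IsGloballyGenerated M := by
  apply Groth.Agent.H18.GlobGen.isGloballyGenerated_of_ggAt M
  intro x
  unfold Groth.Agent.H18.GlobGen.GGAt
  intro U t hxU
  obtain ⟨U₀, hU₀⟩ : ∃ U₀ : Y.Opens, i ⁻¹ᵁ U₀ = U := by
    have hind : Topology.IsInducing i := i.isClosedEmbedding.isInducing
    obtain ⟨W, hW, hWU⟩ := hind.isOpen_iff.mp U.2
    exact ⟨⟨W, hW⟩, Opens.ext hWU⟩
  subst hU₀
  have hgg := Groth.Agent.H18.GlobGenConv.ggAt_of_isGloballyGenerated ((Coh.push i).obj M) h (i x)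
  obtain ⟨V₀, hV₀, hxV₀, hmem⟩ := hgg U₀ t hxU
  have hVU : i ⁻¹ᵁ V₀ ≤ i ⁻¹ᵁ U₀ := fun y hy => hV₀ hy
  refine ⟨i ⁻¹ᵁ V₀, hVU, hxV₀, ?_⟩
  refine Submodule.span_induction
    (p := fun (z : Γ((Coh.push i).obj M, V₀)) _ => (z : Γ(M, i ⁻¹ᵁ V₀)) ∈
      Submodule.span Γ(X, i ⁻¹ᵁ V₀)
        (Set.range fun g : Γ(M, ⊤) => M.presheaf.map (homOfLE (le_top : i ⁻¹ᵁ V₀ ≤ ⊤)).op g))
    ?_ ?_ ?_ ?_ hmem
  · rintro _ ⟨g, rfl⟩
    exact Submodule.subset_span ⟨g, rfl⟩
  · exact Submodule.zero_mem _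
  · intro a b _ _ ha hb
    exact Submodule.add_mem _ ha hb
  · intro r z _ hz
    exact Submodule.smul_mem _ ((i.app V₀).hom r) hz

end Groth.Agent.H25.Mumford_GGC
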