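import Mathlib
import Groth.Agent.H93.NilPull

/-!
# P2a for helper93's S8366 squad: the affine case of the nilpotent iso lemma (helper25)
-/

set_option autoImplicit false

universe u

open CategoryTheory AlgebraicGeometry Limits

namespace Groth.Agent.H25.NilGrp_P2a

/-- the thickening `Spec (R/I) ⟶ Spec R`. -/
noncomputable abbrev thk (R : Type u) [CommRing R] (I : Ideal R) :
    Spec (CommRingCat.of (R ⧸ I)) ⟶ Spec (CommRingCat.of R) :=
  Spec.map (CommRingCat.ofHom (Ideal.Quotient.mk I))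

theorem ker_thk (R : Type u) [CommRing R] (I : Ideal R) :
    RingHom.ker (thk R I).appTop.hom =
      I.comap (Scheme.ΓSpecIso (CommRingCat.of R)).symm.inv.hom := by
  ext x
  rw [RingHom.mem_ker, Ideal.mem_comap]
  have hnat := Scheme.ΓSpecIso_naturality (CommRingCat.ofHom (Ideal.Quotient.mk I))
  have h1 : (Scheme.ΓSpecIso (CommRingCat.of (R ⧸ I))).hom.hom ((thk R I).appTop.hom x) =
      Ideal.Quotient.mk I ((Scheme.ΓSpecIso (CommRingCat.of R)).hom.hom x) :=
    congrArg (fun φ => φ.hom x) hnat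
  have hinj : Function.Injective (Scheme.ΓSpecIso (CommRingCat.of (R ⧸ I))).hom.hom :=
    (ConcreteCategory.bijective_of_isIso (Scheme.ΓSpecIso (CommRingCat.of (R ⧸ I))).hom).1
  constructor
  · intro h
    rw [h, map_zero] at h1
    exact Ideal.Quotient.eq_zero_iff_mem.mp h1.symm
  · intro h
    apply hinj
    rw [h1, map_zero]
    exact Ideal.Quotient.eq_zero_iff_mem.mpr h

/-- P2a: affine case of the iso lemma. -/
theorem affine_case (R : Type u) [CommRing R] (I : Ideal R) (hI : IsNilpotent I)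
    (hring : ∀ {R' B A B₀ A₀ : Type u} [CommRing R'] [CommRing B] [CommRing A] [CommRing B₀]
      [CommRing A₀] (J : Ideal R') (_ : IsNilpotent J)
      (r : R' →+* B) (φ : B →+* A) (_ : (φ.comp r).Flat)
      (q : B →+* B₀) (p : A →+* A₀) (φ₀ : B₀ →+* A₀) (_ : φ₀.comp q = p.comp φ)
      (_ : Function.Surjective q)
      (_ : RingHom.ker q = J.map r) (_ : RingHom.ker p = J.map (φ.comp r))
      (_ : Function.Bijective φ₀), Function.Bijective φ)
    {Y Z Y₀ Z₀ : Scheme.{u}} [IsAffine Y] [IsAffine Z]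
    (f : Y ⟶ Z) (g : Z ⟶ Spec (CommRingCat.of R)) (jZ : Z₀ ⟶ Z)
    (g₀ : Z₀ ⟶ Spec (CommRingCat.of (R ⧸ I))) (jY : Y₀ ⟶ Y)
    (h₀ : Y₀ ⟶ Spec (CommRingCat.of (R ⧸ I))) (f₀ : Y₀ ⟶ Z₀)
    (hZ : IsPullback jZ g₀ g (thk R I)) (hY : IsPullback jY h₀ (f ≫ g) (thk R I))
    (hw : jY ≫ f = f₀ ≫ jZ) (hfl : Flat (f ≫ g)) (hiso : IsIso f₀) : IsIso f := by
  haveI : IsClosedImmersion (thk R I) :=
    IsClosedImmersion.spec_of_surjective _ Ideal.Quotient.mk_surjective
  haveI : IsClosedImmersion jZ := Groth.Agent.H93.NilPull.closedImm_top hZ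
  have hJ : IsNilpotent (RingHom.ker (thk R I).appTop.hom) := by
    rw [ker_thk]
    exact Groth.Agent.H93.NilPull.nil_comap_iso (Scheme.ΓSpecIso (CommRingCat.of R)).symm
      (I : Ideal (CommRingCat.of R)) hI
  have hcomp : (f ≫ g).appTop.hom = f.appTop.hom.comp g.appTop.hom := by
    rw [Scheme.Hom.comp_appTop, CommRingCat.hom_comp]
  have hflat : (f.appTop.hom.comp g.appTop.hom).Flat := by
    rw [← hcomp]
    exact (HasRingHomProperty.iff_of_isAffine (P := @Flat)).mp hfl
  have hcomm : f₀.appTop.hom.comp jZ.appTop.hom = jY.appTop.hom.comp f.appTop.hom := by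
    have h1 : (jY ≫ f).appTop = (f₀ ≫ jZ).appTop := by rw [hw]
    rw [Scheme.Hom.comp_appTop, Scheme.Hom.comp_appTop] at h1
    have h2 := congrArg CommRingCat.Hom.hom h1
    rw [CommRingCat.hom_comp, CommRingCat.hom_comp] at h2
    exact h2.symm
  have hq : Function.Surjective jZ.appTop.hom :=
    (IsClosedImmersion.isAffine_surjective_of_isAffine jZ).2
  have hkq : RingHom.ker jZ.appTop.hom =
      (RingHom.ker (thk R I).appTop.hom).map g.appTop.hom :=
    Groth.Agent.H93.NilPull.affine_ker hZ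
  have hkp : RingHom.ker jY.appTop.hom =
      (RingHom.ker (thk R I).appTop.hom).map (f.appTop.hom.comp g.appTop.hom) := by
    rw [← hcomp]
    exact Groth.Agent.H93.NilPull.affine_ker hY
  haveI : IsIso f₀.appTop := by
    change IsIso (Scheme.Γ.map f₀.op)
    infer_instance
  have hφ₀ : Function.Bijective f₀.appTop.hom := ConcreteCategory.bijective_of_isIso f₀.appTop
  have hbij : Function.Bijective f.appTop.hom :=
    hring _ hJ g.appTop.hom f.appTop.hom hflat jZ.appTop.hom jY.appTop.hom f₀.appTop.hom hcomm hq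
      hkq hkp hφ₀
  haveI : IsIso f.appTop := (ConcreteCategory.isIso_iff_bijective f.appTop).mpr hbij
  have h : MorphismProperty.isomorphisms Scheme f :=
    (MorphismProperty.arrow_mk_iso_iff (MorphismProperty.isomorphisms _)
      (arrowIsoSpecΓOfIsAffine f)).mpr (inferInstanceAs (IsIso (Spec.map f.appTop)))
  exact h

end Groth.Agent.H25.NilGrp_P2a
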