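import Mathlib
import Groth.Agent.H93.NilPull
import Groth.Agent.H93.ThickHom

/-!
# P2b for helper93's S8366 squad: the general case of the nilpotent iso lemma from the affine
case (helper25)
-/

set_option autoImplicit false

universe u

open CategoryTheory AlgebraicGeometry Limits

namespace Groth.Agent.H25.NilGrp_P2b

/-- the thickening `Spec (R/I) ⟶ Spec R`. -/
noncomputable abbrev thk (R : Type u) [CommRing R] (I : Ideal R) :
    Spec (CommRingCat.of (R ⧸ I)) ⟶ Spec (CommRingCat.of R) :=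
  Spec.map (CommRingCat.ofHom (Ideal.Quotient.mk I))

theorem thk_surjective (R : Type u) [CommRing R] (I : Ideal R) (hI : IsNilpotent I) :
    Function.Surjective (thk R I).base := by
  have hle : I ≤ nilradical R := by
    obtain ⟨n, hn⟩ := hI
    intro a ha
    have h1 : a ^ n ∈ I ^ n := Ideal.pow_mem_pow ha n
    rw [hn] at h1
    exact ⟨n, h1⟩
  exact (PrimeSpectrum.comap_quotientMk_bijective_of_le_nilradical hle).2

/-- P2b: general case from the affine case (passed as `haff`). -/
theorem general_case (R : Type u) [CommRing R] (I : Ideal R) (hI : IsNilpotent I)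
    (haff : ∀ {Y Z Y₀ Z₀ : Scheme.{u}} [IsAffine Y] [IsAffine Z]
      (f : Y ⟶ Z) (g : Z ⟶ Spec (CommRingCat.of R)) (jZ : Z₀ ⟶ Z)
      (g₀ : Z₀ ⟶ Spec (CommRingCat.of (R ⧸ I))) (jY : Y₀ ⟶ Y)
      (h₀ : Y₀ ⟶ Spec (CommRingCat.of (R ⧸ I))) (f₀ : Y₀ ⟶ Z₀),
      IsPullback jZ g₀ g (thk R I) → IsPullback jY h₀ (f ≫ g) (thk R I) →
      jY ≫ f = f₀ ≫ jZ → Flat (f ≫ g) → IsIso f₀ → IsIso f)
    {Y Z Y₀ Z₀ : Scheme.{u}}
    (f : Y ⟶ Z) (g : Z ⟶ Spec (CommRingCat.of R)) (jZ : Z₀ ⟶ Z)
    (g₀ : Z₀ ⟶ Spec (CommRingCat.of (R ⧸ I))) (jY : Y₀ ⟶ Y)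
    (h₀ : Y₀ ⟶ Spec (CommRingCat.of (R ⧸ I))) (f₀ : Y₀ ⟶ Z₀)
    (hZ : IsPullback jZ g₀ g (thk R I)) (hY : IsPullback jY h₀ (f ≫ g) (thk R I))
    (hw : jY ≫ f = f₀ ≫ jZ) (hfl : Flat (f ≫ g)) (hiso : IsIso f₀) : IsIso f := by
  haveI : IsClosedImmersion (thk R I) :=
    IsClosedImmersion.spec_of_surjective _ Ideal.Quotient.mk_surjective
  haveI : IsClosedImmersion jZ := Groth.Agent.H93.NilPull.closedImm_top hZ
  haveI : IsClosedImmersion jY := Groth.Agent.H93.NilPull.closedImm_top hY
  have hsY : Function.Surjective jY.base :=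
    Groth.Agent.H93.NilPull.surj_top hY (thk_surjective R I hI)
  haveI : IsAffineHom f :=
    (Groth.Agent.H93.ThickHom.affineHom_iff jY jZ f₀ f hsY hw).mp inferInstance
  have h : MorphismProperty.isomorphisms Scheme f := by
    refine IsZariskiLocalAtTarget.of_openCover (P := MorphismProperty.isomorphisms Scheme)
      Z.affineCover (fun i => ?_)
    change IsIso (pullback.snd f (Z.affineCover.f i))
    let u := Z.affineCover.f i
    haveI : IsAffine (pullback f u) := isAffine_of_isAffineHom (pullback.snd f u)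
    let pf := pullback.fst f u
    -- the restricted data
    have hZ' : IsPullback (pullback.snd jZ u) (pullback.fst jZ u ≫ g₀) (u ≫ g) (thk R I) :=
      (IsPullback.of_hasPullback jZ u).flip.paste_vert hZ
    have hY0 : IsPullback (pullback.snd jY pf) (pullback.fst jY pf ≫ h₀) (pf ≫ f ≫ g)
        (thk R I) := (IsPullback.of_hasPullback jY pf).flip.paste_vert hY
    have hcond : pf ≫ f ≫ g = pullback.snd f u ≫ u ≫ g := by
      rw [← Category.assoc, pullback.condition, Category.assoc]
    have hY' : IsPullback (pullback.snd jY pf) (pullback.fst jY pf ≫ h₀)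
        (pullback.snd f u ≫ u ≫ g) (thk R I) := hcond ▸ hY0
    have w : (pullback.fst jY pf ≫ f₀) ≫ jZ = (pullback.snd jY pf ≫ pullback.snd f u) ≫ u := by
      rw [Category.assoc, ← hw, ← Category.assoc, pullback.condition, Category.assoc,
        Category.assoc, pullback.condition]
    let f₀' : pullback jY pf ⟶ pullback jZ u :=
      pullback.lift (pullback.fst jY pf ≫ f₀) (pullback.snd jY pf ≫ pullback.snd f u) w
    have hw' : pullback.snd jY pf ≫ pullback.snd f u = f₀' ≫ pullback.snd jZ u :=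
      (pullback.lift_snd _ _ _).symm
    have hfl' : Flat (pullback.snd f u ≫ u ≫ g) := by
      rw [← hcond]
      haveI : Flat (f ≫ g) := hfl
      infer_instance
    -- `f₀'` is a base change of `f₀`
    have hbig : IsPullback (pullback.snd jY pf ≫ pullback.snd f u) (pullback.fst jY pf) u
        (jY ≫ f) :=
      ((IsPullback.of_hasPullback jY pf).flip.paste_horiz
        (IsPullback.of_hasPullback f u).flip)
    have hbig' : IsPullback (f₀' ≫ pullback.snd jZ u) (pullback.fst jY pf) u (f₀ ≫ jZ) := by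
      rw [← hw', ← hw]
      exact hbig
    have hleft : IsPullback f₀' (pullback.fst jY pf) (pullback.fst jZ u) f₀ :=
      IsPullback.of_right hbig' (pullback.lift_fst _ _ _) (IsPullback.of_hasPullback jZ u).flip
    haveI : IsIso f₀ := hiso
    have hiso' : IsIso f₀' := hleft.isIso_fst_of_isIso
    exact haff (pullback.snd f u) (u ≫ g) (pullback.snd jZ u) (pullback.fst jZ u ≫ g₀)
      (pullback.snd jY pf) (pullback.fst jY pf ≫ h₀) f₀' hZ' hY' hw' hfl' hiso'
  exact h

end Groth.Agent.H25.NilGrp_P2b
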