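import Mathlib
import Groth.Prelude
import Groth.Agent.H25.NoEmbAffine

set_option maxHeartbeats 400000
set_option linter.style.haveILetI false
set_option linter.unusedVariables false
set_option linter.unusedSectionVars false

open CategoryTheory CategoryTheory.Limits AlgebraicGeometry TensorProduct IsLocalRing
  TopologicalSpace Opposite

universe u

namespace Groth.Agent.H25.NoEmbCurve

open Groth.Agent.H25.NoEmbAffine

/-- In a space of dimension `≤ 1`, a point with a proper generization is closed. -/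
theorem isClosed_singleton_of_dim_le_one {C : Type*} [TopologicalSpace C] [T0Space C]
    (hdim : topologicalKrullDim C ≤ 1) {x y : C} (hyx : y ⤳ x) (hne : x ≠ y) :
    IsClosed ({x} : Set C) := by
  rw [← closure_subset_iff_isClosed]
  intro x' hx'
  have hxx' : x ⤳ x' := specializes_iff_mem_closure.mpr hx'
  by_contra hx'ne
  have hx'ne' : x' ≠ x := hx'ne
  let Z0 : IrreducibleCloseds C := ⟨closure {x'}, isIrreducible_singleton.closure, isClosed_closure⟩
  let Z1 : IrreducibleCloseds C := ⟨closure {x}, isIrreducible_singleton.closure, isClosed_closure⟩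
  let Z2 : IrreducibleCloseds C := ⟨closure {y}, isIrreducible_singleton.closure, isClosed_closure⟩
  have h01 : Z0 < Z1 := by
    apply lt_of_le_of_ne
    · exact specializes_iff_closure_subset.mp hxx'
    · intro h
      have h1 : x ∈ (Z0 : Set C) := by
        rw [h]
        exact subset_closure rfl
      have h2 : x' ⤳ x := specializes_iff_mem_closure.mpr h1
      exact hx'ne' (h2.antisymm hxx').eq
  have h12 : Z1 < Z2 := by
    apply lt_of_le_of_ne
    · exact specializes_iff_closure_subset.mp hyx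
    · intro h
      have h1 : y ∈ (Z1 : Set C) := by
        rw [h]
        exact subset_closure rfl
      have h2 : x ⤳ y := specializes_iff_mem_closure.mpr h1
      exact hne (h2.antisymm hyx).eq
  let s : LTSeries (IrreducibleCloseds C) :=
    ((RelSeries.singleton _ Z0).snoc Z1 (by simpa using h01)).snoc Z2 (by simpa using h12)
  have hlen : s.length = 2 := rfl
  have h1 := Order.LTSeries.length_le_krullDim s
  rw [hlen] at h1
  have h2 : ((2 : ℕ) : WithBot ℕ∞) ≤ ((1 : ℕ) : WithBot ℕ∞) := by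
    refine le_trans h1 ?_
    simpa [topologicalKrullDim] using hdim
  have h3 : (2 : ℕ) ≤ 1 := by exact_mod_cast h2
  omega

/-- Germs of a section annihilated by a prime `p` vanish at points whose prime does not contain
`p`. -/
theorem germ_eq_zero_of_not_le {X : Scheme.{u}} {U : X.Opens} (hU : IsAffineOpen U)
    (p : Ideal Γ(X, U)) (r : Γ(X, U)) (hr : ∀ a ∈ p, a * r = 0) (z : X) (hzU : z ∈ U)
    (hz : ¬ p ≤ (hU.primeIdealOf ⟨z, hzU⟩).asIdeal) :
    X.presheaf.germ U z hzU r = 0 := by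
  obtain ⟨a, hap, haz⟩ := SetLike.not_le_iff_exists.mp hz
  letI algz : Algebra Γ(X, U) (X.presheaf.stalk z) :=
    TopCat.Presheaf.algebra_section_stalk X.presheaf ⟨z, hzU⟩
  haveI hloc : IsLocalization.AtPrime (X.presheaf.stalk z) (hU.primeIdealOf ⟨z, hzU⟩).asIdeal :=
    hU.isLocalization_stalk ⟨z, hzU⟩
  have hu : IsUnit (algebraMap Γ(X, U) (X.presheaf.stalk z) a) :=
    IsLocalization.map_units (X.presheaf.stalk z)
      (⟨a, haz⟩ : (hU.primeIdealOf ⟨z, hzU⟩).asIdeal.primeCompl)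
  have h1 : algebraMap Γ(X, U) (X.presheaf.stalk z) a * algebraMap Γ(X, U) (X.presheaf.stalk z) r
      = 0 := by
    rw [← map_mul, hr a hap, map_zero]
  exact (hu.mul_right_eq_zero).mp h1

/-- S7835. -/
theorem noEmbedded_of_dim_one_of_reduced (C : Scheme.{u}) [IsNoetherian C]
    (hdim : topologicalKrullDim C = 1) (hred : _root_.IsReduced Γ(C, ⊤)) :
    AssSch.NoEmbedded (Coh.structureModule C) := by
  intro x hx y hy hyx
  by_contra hne
  have hxcl : IsClosed ({x} : Set C) := isClosed_singleton_of_dim_le_one hdim.le hyx hne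
  obtain ⟨_, ⟨U, hU : IsAffineOpen U, rfl⟩, hxU, -⟩ :=
    C.isBasis_affineOpens.exists_subset_of_mem_open (Set.mem_univ x) isOpen_univ
  haveI : IsNoetherianRing Γ(C, U) := IsLocallyNoetherian.component_noetherian ⟨U, hU⟩
  have hyU : y ∈ U := hyx.mem_open U.2 hxU
  let W : C.Opens := ⟨({x} : Set C)ᶜ, hxcl.isOpen_compl⟩
  have hpx := (isAssPoint_structureModule_iff hU x hxU).mp hx
  set p := (hU.primeIdealOf ⟨x, hxU⟩).asIdeal with hp
  set q := (hU.primeIdealOf ⟨y, hyU⟩).asIdeal with hq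
  have spec_of_le : ∀ (z : C) (hzU : z ∈ U), p ≤ (hU.primeIdealOf ⟨z, hzU⟩).asIdeal → x ⤳ z := by
    intro z hzU hle
    have h1 : (hU.primeIdealOf ⟨x, hxU⟩ : Spec Γ(C, U)) ⤳ hU.primeIdealOf ⟨z, hzU⟩ :=
      (PrimeSpectrum.le_iff_specializes _ _).mp hle
    have h2 := h1.map hU.fromSpec.continuous
    rwa [hU.fromSpec_primeIdealOf ⟨x, hxU⟩, hU.fromSpec_primeIdealOf ⟨z, hzU⟩] at h2
  have hqp : q ≤ p := by
    have h1 : (hU.primeIdealOf ⟨y, hyU⟩ : Spec Γ(C, U)) ⤳ hU.primeIdealOf ⟨x, hxU⟩ :=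
      hU.fromSpec.isOpenEmbedding.isInducing.specializes_iff.mp (by
        rw [hU.fromSpec_primeIdealOf ⟨y, hyU⟩, hU.fromSpec_primeIdealOf ⟨x, hxU⟩]
        exact hyx)
    exact (PrimeSpectrum.le_iff_specializes _ _).mpr h1
  have hpq : ¬ p ≤ q := by
    intro hle
    have h1 : x ⤳ y := spec_of_le y hyU hle
    exact hne (h1.antisymm hyx).eq
  -- the element with annihilator `p`
  have hpx' : IsAssociatedPrime p Γ(C, U) := hpx
  rw [isAssociatedPrime_iff] at hpx'
  obtain ⟨hpprime, r, hr⟩ := hpx'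
  have hr' : ∀ a ∈ p, a * r = 0 := by
    intro a ha
    rw [hr, Submodule.mem_colon_singleton, Submodule.mem_bot] at ha
    exact ha
  have hr0 : r ≠ 0 := by
    rintro rfl
    have h1 : (1 : Γ(C, U)) ∈ p := by
      rw [hr, Submodule.mem_colon_singleton]
      simp
    exact (Ideal.ne_top_iff_one _).mp hpprime.ne_top h1
  obtain ⟨a, hap, haq⟩ := SetLike.not_le_iff_exists.mp hpq
  have hrq : r ∈ q := by
    have h1 : a * r ∈ q := by rw [hr' a hap]; exact q.zero_mem
    exact ((hU.primeIdealOf ⟨y, hyU⟩).isPrime.mem_or_mem h1).resolve_left haq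
  have hrr : r * r = 0 := hr' r (hqp hrq)
  -- `r` vanishes on `U ⊓ W`
  have hrW : C.presheaf.map (homOfLE (inf_le_left : U ⊓ W ≤ U)).op r = 0 := by
    apply TopCat.Presheaf.section_ext C.sheaf
    intro z hz
    show C.presheaf.germ (U ⊓ W) z hz (C.presheaf.map (homOfLE (inf_le_left : U ⊓ W ≤ U)).op r) =
      C.presheaf.germ (U ⊓ W) z hz 0
    rw [map_zero, TopCat.Presheaf.germ_res_apply]
    apply germ_eq_zero_of_not_le hU p r hr' z hz.1
    intro hle
    have h1 : x ⤳ z := spec_of_le z hz.1 hle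
    have h2 : z ∈ closure ({x} : Set C) := specializes_iff_mem_closure.mp h1
    rw [hxcl.closure_eq] at h2
    exact hz.2 h2
  -- glue
  let pr : ↥(RingHom.eqLocus
      (RingHom.comp (C.sheaf.obj.map (homOfLE inf_le_left : U ⊓ W ⟶ U).op).hom
        (RingHom.fst (C.sheaf.obj.obj <| op U) (C.sheaf.obj.obj <| op W)))
      (RingHom.comp (C.sheaf.obj.map (homOfLE inf_le_right : U ⊓ W ⟶ W).op).hom
        (RingHom.snd (C.sheaf.obj.obj <| op U) (C.sheaf.obj.obj <| op W)))) :=
    ⟨(r, 0), by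
      show C.presheaf.map (homOfLE (inf_le_left : U ⊓ W ≤ U)).op r =
        C.presheaf.map (homOfLE (inf_le_right : U ⊓ W ≤ W)).op 0
      rw [hrW, map_zero]⟩
  let t' : Γ(C, U ⊔ W) := (C.sheaf.objSupIsoProdEqLocus U W).inv pr
  have ht'U : C.presheaf.map (homOfLE (le_sup_left : U ≤ U ⊔ W)).op t' = r :=
    TopCat.Sheaf.objSupIsoProdEqLocus_inv_fst C.sheaf U W pr
  have ht'W : C.presheaf.map (homOfLE (le_sup_right : W ≤ U ⊔ W)).op t' = 0 :=
    TopCat.Sheaf.objSupIsoProdEqLocus_inv_snd C.sheaf U W pr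
  have hcov : (⊤ : C.Opens) ≤ U ⊔ W := by
    intro z _
    by_cases hz : z = x
    · exact Or.inl (hz ▸ hxU)
    · exact Or.inr hz
  let t : Γ(C, ⊤) := C.presheaf.map (homOfLE hcov).op t'
  have htU : C.presheaf.map (homOfLE (le_top : U ≤ ⊤)).op t = r := by
    rw [← ht'U]
    show (C.presheaf.map (homOfLE hcov).op ≫ C.presheaf.map (homOfLE (le_top : U ≤ ⊤)).op) t' = _
    rw [← Functor.map_comp]
    rfl
  have htW : C.presheaf.map (homOfLE (le_top : W ≤ ⊤)).op t = 0 := by
    rw [← ht'W]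
    show (C.presheaf.map (homOfLE hcov).op ≫ C.presheaf.map (homOfLE (le_top : W ≤ ⊤)).op) t' = _
    rw [← Functor.map_comp]
    rfl
  have ht2 : t ^ 2 = 0 := by
    apply TopCat.Sheaf.eq_of_locally_eq₂ C.sheaf (homOfLE (le_top : U ≤ ⊤))
      (homOfLE (le_top : W ≤ ⊤)) hcov
    · show C.presheaf.map (homOfLE (le_top : U ≤ ⊤)).op (t ^ 2) =
        C.presheaf.map (homOfLE (le_top : U ≤ ⊤)).op 0
      rw [map_pow, htU, map_zero, pow_two, hrr]
    · show C.presheaf.map (homOfLE (le_top : W ≤ ⊤)).op (t ^ 2) =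
        C.presheaf.map (homOfLE (le_top : W ≤ ⊤)).op 0
      rw [map_pow, htW, map_zero]
      simp
  have ht0 : t = 0 := IsReduced.eq_zero t ⟨2, ht2⟩
  apply hr0
  rw [← htU, ht0, map_zero]

end Groth.Agent.H25.NoEmbCurve
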