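import Mathlib
import Groth.Prelude
import Groth.Agent.H25.AffineTensor

set_option maxHeartbeats 400000
set_option linter.style.haveILetI false
set_option linter.unusedVariables false
set_option linter.unusedSectionVars false

open CategoryTheory CategoryTheory.Limits AlgebraicGeometry TensorProduct IsLocalRing

universe u

namespace Groth.Agent.H25.NoethBC

open Groth.Agent.H25.AffineTensor

/-- Local Noetherianity is invariant under base change along a finitely generated field
extension. -/
theorem isLocallyNoetherian_bc_iff (k : Type u) [Field k] {X : Scheme.{u}}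
    (f : X ⟶ Spec (CommRingCat.of k)) (K : Type u) [Field K] [Algebra k K]
    [Algebra.EssFiniteType k K] :
    IsLocallyNoetherian X ↔
      IsLocallyNoetherian (pullback f (Spec.map (CommRingCat.ofHom (algebraMap k K)))) := by
  constructor
  · intro hX
    let S : X.affineOpens →
        (pullback f (Spec.map (CommRingCat.ofHom (algebraMap k K)))).affineOpens :=
      fun U => ⟨(pullback.fst f (Spec.map (CommRingCat.ofHom (algebraMap k K)))) ⁻¹ᵁ U.1,
        isAffineOpen_preimage_bc f K U.2⟩
    apply isLocallyNoetherian_of_affine_cover (S := S)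
    · rw [eq_top_iff]
      intro x' _
      obtain ⟨_, ⟨U, hU : IsAffineOpen U, rfl⟩, hxU, -⟩ :=
        X.isBasis_affineOpens.exists_subset_of_mem_open
          (Set.mem_univ ((pullback.fst f (Spec.map (CommRingCat.ofHom (algebraMap k K)))) x'))
          isOpen_univ
      exact TopologicalSpace.Opens.mem_iSup.mpr ⟨⟨U, hU⟩, hxU⟩
    · intro U
      letI := sectionsAlgebra f U.1
      obtain ⟨e, -⟩ := exists_ringEquiv_sections_bc f K U.1 U.2
      haveI : IsNoetherianRing Γ(X, U.1) := IsLocallyNoetherian.component_noetherian U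
      haveI : IsNoetherianRing (Γ(X, U.1) ⊗[k] K) :=
        Algebra.EssFiniteType.isNoetherianRing Γ(X, U.1) (Γ(X, U.1) ⊗[k] K)
      haveI : IsNoetherianRing (K ⊗[k] Γ(X, U.1)) :=
        isNoetherianRing_of_ringEquiv (Γ(X, U.1) ⊗[k] K)
          (Algebra.TensorProduct.comm k Γ(X, U.1) K).toRingEquiv
      exact isNoetherianRing_of_ringEquiv (K ⊗[k] Γ(X, U.1)) e
  · intro hX'
    refine ⟨fun U => ?_⟩
    letI := sectionsAlgebra f U.1
    obtain ⟨e, -⟩ := exists_ringEquiv_sections_bc f K U.1 U.2
    haveI : IsNoetherianRing Γ(pullback f (Spec.map (CommRingCat.ofHom (algebraMap k K))),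
        (pullback.fst f (Spec.map (CommRingCat.ofHom (algebraMap k K)))) ⁻¹ᵁ U.1) :=
      IsLocallyNoetherian.component_noetherian ⟨_, isAffineOpen_preimage_bc f K U.2⟩
    haveI : IsNoetherianRing (K ⊗[k] Γ(X, U.1)) := isNoetherianRing_of_ringEquiv _ e.symm
    haveI : IsNoetherianRing (Γ(X, U.1) ⊗[k] K) :=
      isNoetherianRing_of_ringEquiv (K ⊗[k] Γ(X, U.1))
        (Algebra.TensorProduct.comm k K Γ(X, U.1)).toRingEquiv
    rw [isNoetherianRing_iff_ideal_fg]
    intro I
    exact Ideal.FG.of_FG_map_of_faithfullyFlat (S := Γ(X, U.1) ⊗[k] K)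
      ((isNoetherianRing_iff_ideal_fg _).mp inferInstance _)

end Groth.Agent.H25.NoethBC
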