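import Mathlib
import Groth.Prelude
import Groth.Agent.H25.StalkBC
import Groth.Agent.H25.AffineTensor
import Groth.Agent.H63.LocTensor

set_option maxHeartbeats 400000
set_option linter.style.haveILetI false
set_option linter.unusedVariables false
set_option linter.unusedSectionVars false

open CategoryTheory CategoryTheory.Limits AlgebraicGeometry TensorProduct IsLocalRing

universe u

namespace Groth.Agent.H25.ProdStalk

open Groth.Agent.H25.AffineTensor Groth.Agent.H25.GeomRed Groth.Agent.H25.StalkBC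

attribute [local instance] Curv2.stalkAlgebra

/-- The local ring of a fibre product `X ×_k Y` at `z` is a localization of `Γ(Y, V) ⊗_k O_{X,x}`
for `V` an affine open neighbourhood of the image of `z` in `Y` and `x` the image in `X`. -/
theorem exists_prime_ringEquiv_stalk_pullback (k : Type u) [Field k] (X Y : Scheme.{u})
    [X.Over (Spec (CommRingCat.of k))] [Y.Over (Spec (CommRingCat.of k))]
    (z : ↥(pullback (X ↘ Spec (CommRingCat.of k)) (Y ↘ Spec (CommRingCat.of k))))
    (x : X) (hx : pullback.fst (X ↘ Spec (CommRingCat.of k)) (Y ↘ Spec (CommRingCat.of k)) z = x)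
    (V : Y.Opens) (hV : IsAffineOpen V)
    (hzV : pullback.snd (X ↘ Spec (CommRingCat.of k)) (Y ↘ Spec (CommRingCat.of k)) z ∈ V) :
    letI := sectionsAlgebra (Y ↘ Spec (CommRingCat.of k)) V
    ∃ (Q : Ideal (Γ(Y, V) ⊗[k] X.presheaf.stalk x)) (_ : Q.IsPrime),
      Nonempty (Localization.AtPrime Q ≃+*
        (pullback (X ↘ Spec (CommRingCat.of k)) (Y ↘ Spec (CommRingCat.of k))).presheaf.stalk z) := by
  subst hx
  generalize hf : X ↘ Spec (CommRingCat.of k) = f at *
  generalize hg : Y ↘ Spec (CommRingCat.of k) = g at *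
  obtain ⟨_, ⟨U, hU : IsAffineOpen U, rfl⟩, hxU, -⟩ :=
    X.isBasis_affineOpens.exists_subset_of_mem_open
      (Set.mem_univ ((pullback.fst f g) z)) isOpen_univ
  letI algU := sectionsAlgebra f U
  letI algV := sectionsAlgebra g V
  obtain ⟨e, he1, he2⟩ := exists_ringEquiv_sections_pullback f g U hU V hV
  have hW : IsAffineOpen ((pullback.fst f g) ⁻¹ᵁ U ⊓ (pullback.snd f g) ⁻¹ᵁ V) :=
    isAffineOpen_inf_preimage f g hU hV
  have hzW : z ∈ (pullback.fst f g) ⁻¹ᵁ U ⊓ (pullback.snd f g) ⁻¹ᵁ V := ⟨hxU, hzV⟩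
  let e' : Γ(Y, V) ⊗[k] Γ(X, U) ≃+*
      Γ(pullback f g, (pullback.fst f g) ⁻¹ᵁ U ⊓ (pullback.snd f g) ⁻¹ᵁ V) :=
    (Algebra.TensorProduct.comm k Γ(Y, V) Γ(X, U)).toRingEquiv.trans e
  have he'2 : ∀ a : Γ(X, U), e' (1 ⊗ₜ[k] a) =
      ((pullback.fst f g).appLE U _ inf_le_left).hom a := by
    intro a
    show e ((Algebra.TensorProduct.comm k Γ(Y, V) Γ(X, U)) (1 ⊗ₜ[k] a)) = _
    rw [Algebra.TensorProduct.comm_tmul]
    exact he1 a
  let q'' : Ideal Γ(pullback f g, (pullback.fst f g) ⁻¹ᵁ U ⊓ (pullback.snd f g) ⁻¹ᵁ V) :=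
    (hW.primeIdealOf ⟨z, hzW⟩).asIdeal
  let q' : Ideal (Γ(Y, V) ⊗[k] Γ(X, U)) := q''.comap e'.toRingHom
  let p : Ideal Γ(X, U) := (hU.primeIdealOf ⟨(pullback.fst f g) z, hxU⟩).asIdeal
  have hp : q'.comap (Algebra.TensorProduct.includeRight :
      Γ(X, U) →ₐ[k] Γ(Y, V) ⊗[k] Γ(X, U)).toRingHom = p := by
    have h1 := IsAffineOpen.comap_primeIdealOf_appLE (f := pullback.fst f g) U hU _ hW
      inf_le_left hzW
    have h2 := congrArg PrimeSpectrum.asIdeal h1
    refine Eq.trans ?_ h2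
    show Ideal.comap _ (Ideal.comap e'.toRingHom q'') = Ideal.comap _ q''
    rw [Ideal.comap_comap]
    congr 1
    ext a
    exact he'2 a
  letI algx : Algebra Γ(X, U) (X.presheaf.stalk ((pullback.fst f g) z)) :=
    TopCat.Presheaf.algebra_section_stalk X.presheaf ⟨(pullback.fst f g) z, hxU⟩
  letI algz : Algebra Γ(pullback f g, (pullback.fst f g) ⁻¹ᵁ U ⊓ (pullback.snd f g) ⁻¹ᵁ V)
      ((pullback f g).presheaf.stalk z) :=
    TopCat.Presheaf.algebra_section_stalk (pullback f g).presheaf ⟨z, hzW⟩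
  haveI hlx : IsLocalization.AtPrime (X.presheaf.stalk ((pullback.fst f g) z)) p :=
    hU.isLocalization_stalk ⟨(pullback.fst f g) z, hxU⟩
  haveI hlz : IsLocalization.AtPrime ((pullback f g).presheaf.stalk z) q'' :=
    hW.isLocalization_stalk ⟨z, hzW⟩
  haveI hst : IsScalarTower k Γ(X, U) (X.presheaf.stalk ((pullback.fst f g) z)) := by
    apply IsScalarTower.of_algebraMap_eq'
    show (Curv2.stalkMap k X ((pullback.fst f g) z)) =
      (X.presheaf.germ U ((pullback.fst f g) z) hxU).hom.comp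
        (((Scheme.ΓSpecIso (CommRingCat.of k)).inv ≫ f.appLE ⊤ U le_top).hom)
    unfold Curv2.stalkMap Coh.toGlobal
    rw [hf, CommRingCat.hom_comp, ← RingHom.comp_assoc, ← RingHom.comp_assoc]
    congr 1
    rw [← CommRingCat.hom_comp, ← CommRingCat.hom_comp]
    congr 1
    simp only [Scheme.Hom.appLE, Scheme.Hom.appTop, Category.assoc, TopCat.Presheaf.germ_res]
    try rfl
  haveI : q'.IsPrime := Ideal.comap_isPrime _ _
  obtain ⟨Q, hQ, -, ⟨e1⟩⟩ :=
    Groth.Agent.H63.LocTensor.exists_prime_ringEquiv_localization_tensor k Γ(Y, V) Γ(X, U) q' p hp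
      (X.presheaf.stalk ((pullback.fst f g) z))
  refine ⟨Q, hQ, ?_⟩
  have e2 : Localization.AtPrime q' ≃+* (pullback f g).presheaf.stalk z :=
    IsLocalization.ringEquivOfRingEquiv (M := q'.primeCompl) (T := q''.primeCompl)
      (Localization.AtPrime q') ((pullback f g).presheaf.stalk z) e'
      (Groth.Agent.H63.StalkBaseChange.primeCompl_map_ringEquiv e' q'')
  exact ⟨e1.trans e2⟩

/-- If `X` is geometrically reduced at `x` and `Y` is reduced then `X ×_k Y` has reduced local
rings at the points over `x`. -/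
theorem isReduced_stalk_pullback_of_geomReducedAt (k : Type u) [Field k] (X Y : Scheme.{u})
    [X.Over (Spec (CommRingCat.of k))] [Y.Over (Spec (CommRingCat.of k))]
    [AlgebraicGeometry.IsReduced Y] (x : X) (hx : Curv2.IsGeomReducedAt k X x)
    (z : ↥(pullback (X ↘ Spec (CommRingCat.of k)) (Y ↘ Spec (CommRingCat.of k))))
    (hz : pullback.fst (X ↘ Spec (CommRingCat.of k)) (Y ↘ Spec (CommRingCat.of k)) z = x) :
    _root_.IsReduced ((pullback (X ↘ Spec (CommRingCat.of k))
      (Y ↘ Spec (CommRingCat.of k))).presheaf.stalk z) := by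
  obtain ⟨_, ⟨V, hV : IsAffineOpen V, rfl⟩, hzV, -⟩ :=
    Y.isBasis_affineOpens.exists_subset_of_mem_open
      (Set.mem_univ ((pullback.snd (X ↘ Spec (CommRingCat.of k))
        (Y ↘ Spec (CommRingCat.of k))) z)) isOpen_univ
  letI algV := sectionsAlgebra (Y ↘ Spec (CommRingCat.of k)) V
  obtain ⟨Q, hQ, ⟨e⟩⟩ := exists_prime_ringEquiv_stalk_pullback k X Y z x hz V hV hzV
  haveI := hQ
  have hA : ∀ (K : Type u) [Field K] [Algebra k K],
      _root_.IsReduced (K ⊗[k] X.presheaf.stalk x) :=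
    (tfae_geometricallyReduced.out 1 2).mp ((isGeomReducedAt_iff_stalk k X x).mp hx)
  haveI : _root_.IsReduced Γ(Y, V) := inferInstance
  haveI h2 : _root_.IsReduced (Γ(Y, V) ⊗[k] X.presheaf.stalk x) :=
    isReduced_tensor_of_geomReduced hA Γ(Y, V)
  haveI h3 : _root_.IsReduced (Localization.AtPrime Q) :=
    isReduced_localizationPreserves Q.primeCompl (Localization.AtPrime Q) h2
  exact isReduced_of_injective e.symm.toRingHom e.symm.injective

end Groth.Agent.H25.ProdStalk
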