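import Mathlib
set_option autoImplicit false
universe w₁ w₂ v₁ v₂ u₁ u₂ u
open CategoryTheory CategoryTheory.Limits AlgebraicGeometry

/-! (R6) for helper42's S14112 squad: for an adjunction `Fn ⊣ G` with `Fn` fully faithful, a cochain
complex whose terms lie in the essential image of `Fn` is isomorphic to `Fn (G E)` (termwise counit). -/

namespace Groth.Agent.H25.QH_R6

theorem R6 {C : Type u₁} {D : Type u₂} [Category.{v₁} C] [Category.{v₂} D] [Preadditive C] [Preadditive D] (Fn : C ⥤ D) (G : D ⥤ C) [Fn.Additive] [G.Additive] (adj : Fn ⊣ G) [Fn.Full] [Fn.Faithful] (E : CochainComplex D ℤ) (hE : ∀ i : ℤ, Fn.essImage (E.X i)) : Nonempty ((Fn.mapHomologicalComplex (ComplexShape.up ℤ)).obj ((G.mapHomologicalComplex (ComplexShape.up ℤ)).obj E) ≅ E) := by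
  have hiso : ∀ i : ℤ, IsIso (adj.counit.app (E.X i)) := fun i =>
    (Adjunction.isIso_counit_app_iff_mem_essImage adj).mpr (hE i)
  refine ⟨HomologicalComplex.Hom.isoOfComponents
    (fun i => (asIso (adj.counit.app (E.X i)) : Fn.obj (G.obj (E.X i)) ≅ E.X i)) ?_⟩
  intro i j _
  simp only [asIso_hom, Functor.mapHomologicalComplex_obj_d]
  exact (adj.counit_naturality (E.d i j)).symm

end Groth.Agent.H25.QH_R6
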