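import Mathlib.Topology.LocallyClosed
import Mathlib.Topology.JacobsonSpace
import Mathlib.Topology.NoetherianSpace
import Mathlib.Topology.Sets.Opens

set_option autoImplicit false
universe u v

namespace Groth.Agent.H25

open Set

variable {X : Type u} {Y : Type v} [TopologicalSpace X] [TopologicalSpace Y]

/-- quasi-constructible: finite union of locally closed sets -/
def QC (Z : Set X) : Prop :=
  ∃ T : Set (Set X), T.Finite ∧ (∀ t ∈ T, IsLocallyClosed t) ∧ Z = ⋃₀ T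

/-- locally quasi-constructible -/
def LQC (Z : Set X) : Prop :=
  ∀ x : X, ∃ U : Set X, IsOpen U ∧ x ∈ U ∧
    ∃ T : Set (Set X), T.Finite ∧ (∀ t ∈ T, IsLocallyClosed t) ∧ U ∩ Z = ⋃₀ T

theorem QC.lqc {Z : Set X} (h : QC Z) : LQC Z := by
  intro x
  obtain ⟨T, hT, hTl, rfl⟩ := h
  exact ⟨univ, isOpen_univ, mem_univ x, T, hT, hTl, univ_inter _⟩

theorem qc_of_isLocallyClosed {Z : Set X} (h : IsLocallyClosed Z) : QC Z :=
  ⟨{Z}, finite_singleton Z, fun t ht => by rw [mem_singleton_iff.mp ht]; exact h,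
    (sUnion_singleton Z).symm⟩

theorem lqc_of_isLocallyClosed {Z : Set X} (h : IsLocallyClosed Z) : LQC Z :=
  (qc_of_isLocallyClosed h).lqc

theorem qc_empty : QC (∅ : Set X) :=
  ⟨∅, finite_empty, fun t ht => absurd ht (notMem_empty t), sUnion_empty.symm⟩

/-- intersection of an LQC set with a locally closed set is LQC -/
theorem LQC.inter_isLocallyClosed {Z S : Set X} (hZ : LQC Z) (hS : IsLocallyClosed S) :
    LQC (S ∩ Z) := by
  intro x
  obtain ⟨U, hU, hxU, T, hT, hTl, hUZ⟩ := hZ x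
  refine ⟨U, hU, hxU, (fun t => S ∩ t) '' T, hT.image _, ?_, ?_⟩
  · rintro _ ⟨t, ht, rfl⟩
    exact hS.inter (hTl t ht)
  · rw [sUnion_image, ← inter_iUnion₂, ← sUnion_eq_biUnion, ← hUZ]
    ext y; simp only [mem_inter_iff]; tauto

theorem LQC.inter_isOpen {Z W : Set X} (hZ : LQC Z) (hW : IsOpen W) : LQC (W ∩ Z) :=
  hZ.inter_isLocallyClosed hW.isLocallyClosed

/-- a point outside a finite union of locally closed sets has a locally closed neighbourhood-like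
set avoiding the union -/
theorem exists_isLocallyClosed_disjoint_sUnion {T : Set (Set X)} (hT : T.Finite)
    (hTl : ∀ t ∈ T, IsLocallyClosed t) {y : X} (hy : y ∉ ⋃₀ T) :
    ∃ N : Set X, IsLocallyClosed N ∧ y ∈ N ∧ Disjoint N (⋃₀ T) := by
  induction T, hT using Set.Finite.induction_on with
  | empty =>
    exact ⟨univ, isOpen_univ.isLocallyClosed, mem_univ y, by simp⟩
  | @insert a T' _ _ ih =>
    have hy' : y ∉ ⋃₀ T' := fun h => hy (sUnion_mono (subset_insert a T') h)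
    obtain ⟨N, hN, hyN, hNd⟩ := ih (fun t ht => hTl t (mem_insert_of_mem a ht)) hy'
    have hya : y ∉ a := fun h => hy ⟨a, mem_insert a T', h⟩
    obtain ⟨O, C, hO, hC, rfl⟩ := hTl a (mem_insert a T')
    by_cases hyO : y ∈ O
    · have hyC : y ∉ C := fun h => hya ⟨hyO, h⟩
      refine ⟨N ∩ Cᶜ, hN.inter hC.isOpen_compl.isLocallyClosed, ⟨hyN, hyC⟩, ?_⟩
      rw [sUnion_insert, disjoint_union_right]
      refine ⟨?_, hNd.mono_left inter_subset_left⟩
      rw [disjoint_left]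
      rintro z ⟨-, hzC⟩ ⟨-, hzC'⟩
      exact hzC hzC'
    · refine ⟨N ∩ Oᶜ, hN.inter hO.isClosed_compl.isLocallyClosed, ⟨hyN, hyO⟩, ?_⟩
      rw [sUnion_insert, disjoint_union_right]
      refine ⟨?_, hNd.mono_left inter_subset_left⟩
      rw [disjoint_left]
      rintro z ⟨-, hzO⟩ ⟨hzO', -⟩
      exact hzO hzO'

/-- a point of an LQC set lies in a locally closed subset of it -/
theorem LQC.exists_isLocallyClosed_subset {Z : Set X} (hZ : LQC Z) {y : X} (hy : y ∈ Z) :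
    ∃ S : Set X, IsLocallyClosed S ∧ y ∈ S ∧ S ⊆ Z := by
  obtain ⟨U, hU, hyU, T, hT, hTl, hUZ⟩ := hZ y
  have : y ∈ ⋃₀ T := by rw [← hUZ]; exact ⟨hyU, hy⟩
  obtain ⟨t, ht, hyt⟩ := this
  refine ⟨t, hTl t ht, hyt, ?_⟩
  intro z hz
  have : z ∈ U ∩ Z := by rw [hUZ]; exact ⟨t, ht, hz⟩
  exact this.2

/-- a point of `Z₁ \ Z₂` (both LQC) lies in a locally closed subset of `Z₁ \ Z₂` -/
theorem LQC.exists_isLocallyClosed_subset_diff {Z₁ Z₂ : Set X} (h₁ : LQC Z₁) (h₂ : LQC Z₂)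
    {y : X} (hy : y ∈ Z₁ \ Z₂) :
    ∃ S : Set X, IsLocallyClosed S ∧ y ∈ S ∧ S ⊆ Z₁ \ Z₂ := by
  obtain ⟨S₁, hS₁, hyS₁, hS₁Z⟩ := h₁.exists_isLocallyClosed_subset hy.1
  obtain ⟨U', hU', hyU', T', hT', hTl', hUZ'⟩ := h₂ y
  have hyT' : y ∉ ⋃₀ T' := by
    rw [← hUZ']
    exact fun h => hy.2 h.2
  obtain ⟨N, hN, hyN, hNd⟩ := exists_isLocallyClosed_disjoint_sUnion hT' hTl' hyT'
  refine ⟨S₁ ∩ (U' ∩ N), hS₁.inter (hU'.isLocallyClosed.inter hN), ⟨hyS₁, hyU', hyN⟩, ?_⟩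
  rintro z ⟨hz1, hzU', hzN⟩
  refine ⟨hS₁Z hz1, fun hzZ₂ => ?_⟩
  have : z ∈ ⋃₀ T' := by rw [← hUZ']; exact ⟨hzU', hzZ₂⟩
  exact (disjoint_left.mp hNd) hzN this

/-- `X₀` is very dense in `X` -/
def VeryDense (X₀ : Set X) : Prop :=
  ∀ Z : Set X, IsLocallyClosed Z → Z.Nonempty → (Z ∩ X₀).Nonempty

theorem VeryDense.lqc_nonempty {X₀ : Set X} (h : VeryDense X₀) {Z : Set X} (hZ : LQC Z)
    (hne : Z.Nonempty) : (Z ∩ X₀).Nonempty := by
  obtain ⟨z, hz⟩ := hne
  obtain ⟨S, hS, hzS, hSZ⟩ := hZ.exists_isLocallyClosed_subset hz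
  obtain ⟨w, hwS, hw⟩ := h S hS ⟨z, hzS⟩
  exact ⟨w, hSZ hwS, hw⟩

theorem VeryDense.lqc_subset_of_inter_subset {X₀ : Set X} (h : VeryDense X₀) {Z Z' : Set X}
    (hZ : LQC Z) (hZ' : LQC Z') (he : Z ∩ X₀ ⊆ Z' ∩ X₀) : Z ⊆ Z' := by
  intro z hz
  by_contra hz'
  obtain ⟨S, hS, hzS, hSsub⟩ := hZ.exists_isLocallyClosed_subset_diff hZ' ⟨hz, hz'⟩
  obtain ⟨w, hwS, hw⟩ := h S hS ⟨z, hzS⟩
  exact (hSsub hwS).2 (he ⟨(hSsub hwS).1, hw⟩).1

theorem VeryDense.lqc_ext {X₀ : Set X} (h : VeryDense X₀) {Z Z' : Set X}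
    (hZ : LQC Z) (hZ' : LQC Z') (he : Z ∩ X₀ = Z' ∩ X₀) : Z = Z' :=
  Subset.antisymm (h.lqc_subset_of_inter_subset hZ hZ' he.le)
    (h.lqc_subset_of_inter_subset hZ' hZ he.ge)

/-- quasi-homeomorphism, in conjunction form -/
def QH (f : X → Y) : Prop :=
  (∀ U₁ U₂ : Set Y, IsOpen U₁ → IsOpen U₂ → f ⁻¹' U₁ = f ⁻¹' U₂ → U₁ = U₂) ∧
    (∀ V : Set X, IsOpen V → ∃ U : Set Y, IsOpen U ∧ f ⁻¹' U = V)

theorem qh_iff_bijective (f : X → Y) (hf : Continuous f) :
    QH f ↔ Function.Bijective (fun U : TopologicalSpace.Opens Y =>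
      (⟨f ⁻¹' (U : Set Y), U.isOpen.preimage hf⟩ : TopologicalSpace.Opens X)) := by
  constructor
  · rintro ⟨h1, h2⟩
    constructor
    · intro U₁ U₂ h
      have := congrArg (fun W : TopologicalSpace.Opens X => (W : Set X)) h
      exact TopologicalSpace.Opens.ext (h1 _ _ U₁.isOpen U₂.isOpen this)
    · intro V
      obtain ⟨U, hU, hUV⟩ := h2 V V.isOpen
      exact ⟨⟨U, hU⟩, TopologicalSpace.Opens.ext hUV⟩
  · rintro ⟨h1, h2⟩
    constructor
    · intro U₁ U₂ hU₁ hU₂ h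
      have := @h1 ⟨U₁, hU₁⟩ ⟨U₂, hU₂⟩ (TopologicalSpace.Opens.ext h)
      exact congrArg (fun W : TopologicalSpace.Opens Y => (W : Set Y)) this
    · intro V hV
      obtain ⟨U, hU⟩ := h2 ⟨V, hV⟩
      exact ⟨U, U.isOpen, congrArg (fun W : TopologicalSpace.Opens X => (W : Set X)) hU⟩

theorem QH.veryDense_range {f : X → Y} (h : QH f) : VeryDense (range f) := by
  rintro Z ⟨O, C, hO, hC, rfl⟩ ⟨y, hyO, hyC⟩
  by_contra hne
  rw [not_nonempty_iff_eq_empty] at hne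
  have hsub : f ⁻¹' (O ∩ Cᶜ) = f ⁻¹' O := by
    ext x
    simp only [mem_preimage, mem_inter_iff, mem_compl_iff, and_iff_left_iff_imp]
    intro hxO hxC
    have : f x ∈ (O ∩ C) ∩ range f := ⟨⟨hxO, hxC⟩, mem_range_self x⟩
    rw [hne] at this
    exact this
  have := h.1 _ _ (hO.inter hC.isOpen_compl) hO hsub
  have hy : y ∈ O ∩ Cᶜ := by rw [this]; exact hyO
  exact hy.2 hyC

theorem QH.lqc_ext {f : X → Y} (h : QH f) {Z Z' : Set Y} (hZ : LQC Z) (hZ' : LQC Z')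
    (he : f ⁻¹' Z = f ⁻¹' Z') : Z = Z' := by
  apply h.veryDense_range.lqc_ext hZ hZ'
  ext y
  constructor
  · rintro ⟨hy, x, rfl⟩
    have : x ∈ f ⁻¹' Z' := by rw [← he]; exact hy
    exact ⟨this, x, rfl⟩
  · rintro ⟨hy, x, rfl⟩
    have : x ∈ f ⁻¹' Z := by rw [he]; exact hy
    exact ⟨this, x, rfl⟩

/-- restriction of a quasi-homeomorphism to an LQC subset is a quasi-homeomorphism -/
theorem QH.restrictPreimage {f : X → Y} (h : QH f) {Y' : Set Y} (hY' : LQC Y') :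
    QH (Y'.restrictPreimage f) := by
  constructor
  · intro U₁ U₂ hU₁ hU₂ he
    obtain ⟨W₁, hW₁, rfl⟩ := isOpen_induced_iff.mp hU₁
    obtain ⟨W₂, hW₂, rfl⟩ := isOpen_induced_iff.mp hU₂
    have key : W₁ ∩ Y' = W₂ ∩ Y' := by
      apply h.lqc_ext (hY'.inter_isOpen hW₁) (hY'.inter_isOpen hW₂)
      ext x
      simp only [mem_preimage, mem_inter_iff]
      constructor
      · rintro ⟨h1, h2⟩
        have : (⟨x, h2⟩ : f ⁻¹' Y') ∈ Y'.restrictPreimage f ⁻¹' (Subtype.val ⁻¹' W₁) := h1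
        rw [he] at this
        exact ⟨this, h2⟩
      · rintro ⟨h1, h2⟩
        have : (⟨x, h2⟩ : f ⁻¹' Y') ∈ Y'.restrictPreimage f ⁻¹' (Subtype.val ⁻¹' W₂) := h1
        rw [← he] at this
        exact ⟨this, h2⟩
    ext ⟨y, hy⟩
    have := Set.ext_iff.mp key y
    simp only [mem_inter_iff, hy, and_true] at this
    exact this
  · intro V hV
    obtain ⟨V₀, hV₀, rfl⟩ := isOpen_induced_iff.mp hV
    obtain ⟨U₀, hU₀, rfl⟩ := h.2 V₀ hV₀
    exact ⟨Subtype.val ⁻¹' U₀, hU₀.preimage continuous_subtype_val, rfl⟩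


theorem QH.subset_of_preimage_subset {f : X → Y} (h : QH f) {U W : Set Y} (hU : IsOpen U)
    (hW : IsOpen W) (hs : f ⁻¹' U ⊆ f ⁻¹' W) : U ⊆ W := by
  have : f ⁻¹' (U ∩ W) = f ⁻¹' U := by
    rw [preimage_inter]; exact inter_eq_left.mpr hs
  have := h.1 _ _ (hU.inter hW) hU this
  exact inter_eq_left.mp this

theorem QH.isCompact_preimage_iff {f : X → Y} (h : QH f) (hf : Continuous f) {U : Set Y}
    (hU : IsOpen U) : IsCompact (f ⁻¹' U) ↔ IsCompact U := by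
  constructor
  · intro hc
    rw [isCompact_iff_finite_subcover]
    intro ι W hW hcov
    have hcov' : f ⁻¹' U ⊆ ⋃ i, f ⁻¹' W i := by
      rw [← preimage_iUnion]; exact preimage_mono hcov
    obtain ⟨t, ht⟩ := hc.elim_finite_subcover (fun i => f ⁻¹' W i) (fun i => (hW i).preimage hf) hcov'
    refine ⟨t, ?_⟩
    apply h.subset_of_preimage_subset hU (isOpen_biUnion fun i _ => hW i)
    rw [preimage_iUnion₂]
    exact ht
  · intro hc
    rw [isCompact_iff_finite_subcover]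
    intro ι V hV hcov
    choose W hW hWV using fun i => h.2 (V i) (hV i)
    have hcov' : U ⊆ ⋃ i, W i := by
      apply h.subset_of_preimage_subset hU (isOpen_iUnion hW)
      rw [preimage_iUnion]
      simp only [hWV]
      exact hcov
    obtain ⟨t, ht⟩ := hc.elim_finite_subcover W hW hcov'
    refine ⟨t, ?_⟩
    have := preimage_mono (f := f) ht
    rw [preimage_iUnion₂] at this
    simp only [hWV] at this
    exact this

theorem QH.compactSpace_iff {f : X → Y} (h : QH f) (hf : Continuous f) :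
    CompactSpace X ↔ CompactSpace Y := by
  rw [← isCompact_univ_iff, ← isCompact_univ_iff, ← h.isCompact_preimage_iff hf isOpen_univ,
    preimage_univ]

theorem QH.noetherianSpace_iff {f : X → Y} (h : QH f) (hf : Continuous f) :
    TopologicalSpace.NoetherianSpace X ↔ TopologicalSpace.NoetherianSpace Y := by
  rw [TopologicalSpace.noetherianSpace_iff_opens, TopologicalSpace.noetherianSpace_iff_opens]
  constructor
  · intro hX U
    exact (h.isCompact_preimage_iff hf U.isOpen).mp (hX ⟨f ⁻¹' U, U.isOpen.preimage hf⟩)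
  · intro hY V
    obtain ⟨U, hU, hUV⟩ := h.2 V V.isOpen
    rw [← hUV]
    exact (h.isCompact_preimage_iff hf hU).mpr (hY ⟨U, hU⟩)

theorem QH.isCompact_preimage_iff_of_lqc {f : X → Y} (h : QH f) (hf : Continuous f) {Y' : Set Y}
    (hY' : LQC Y') : IsCompact (f ⁻¹' Y') ↔ IsCompact Y' := by
  rw [isCompact_iff_compactSpace, isCompact_iff_compactSpace]
  exact (h.restrictPreimage hY').compactSpace_iff (hf.restrictPreimage)

theorem QH.noetherianSpace_preimage_iff_of_lqc {f : X → Y} (h : QH f) (hf : Continuous f)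
    {Y' : Set Y} (hY' : LQC Y') :
    TopologicalSpace.NoetherianSpace ↥(f ⁻¹' Y') ↔ TopologicalSpace.NoetherianSpace ↥Y' :=
  (h.restrictPreimage hY').noetherianSpace_iff (hf.restrictPreimage)

end Groth.Agent.H25
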