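import Groth.Agent.H25.QuasiHomeo

set_option autoImplicit false
universe u v

namespace Groth.Agent.H25

open Set

variable {X : Type u} [TopologicalSpace X]

theorem QC.inter_isOpen {Q V : Set X} (hQ : QC Q) (hV : IsOpen V) : QC (V ∩ Q) := by
  obtain ⟨T, hT, hTl, rfl⟩ := hQ
  refine ⟨(fun t => V ∩ t) '' T, hT.image _, ?_, ?_⟩
  · rintro _ ⟨t, ht, rfl⟩
    exact hV.isLocallyClosed.inter (hTl t ht)
  · rw [sUnion_image, ← inter_iUnion₂, ← sUnion_eq_biUnion]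

/-- local extension of an LQC subset of a subspace -/
theorem exists_local_extension (X₀ : Set X) (Z₀ : Set ↥X₀) (hZ₀ : LQC Z₀) (x : ↥X₀) :
    ∃ (V Q : Set X), IsOpen V ∧ (x : X) ∈ V ∧ Q ⊆ V ∧ QC Q ∧
      (Subtype.val ⁻¹' Q : Set ↥X₀) = Subtype.val ⁻¹' V ∩ Z₀ := by
  classical
  obtain ⟨U, hU, hxU, T, hT, hTl, hUZ⟩ := hZ₀ x
  obtain ⟨V, hV, rfl⟩ := isOpen_induced_iff.mp hU
  have hex : ∀ t ∈ T, ∃ t' : Set X, IsLocallyClosed t' ∧ (Subtype.val ⁻¹' t' : Set ↥X₀) = t :=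
    fun t ht => Topology.IsInducing.subtypeVal.isLocallyClosed_iff.mp (hTl t ht)
  let ext : Set ↥X₀ → Set X := fun t =>
    if h : ∃ t' : Set X, IsLocallyClosed t' ∧ (Subtype.val ⁻¹' t' : Set ↥X₀) = t then h.choose else ∅
  have hext1 : ∀ t ∈ T, IsLocallyClosed (ext t) := by
    intro t ht
    simp only [ext, dif_pos (hex t ht)]
    exact (hex t ht).choose_spec.1
  have hext2 : ∀ t ∈ T, (Subtype.val ⁻¹' (ext t) : Set ↥X₀) = t := by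
    intro t ht
    simp only [ext, dif_pos (hex t ht)]
    exact (hex t ht).choose_spec.2
  have hQC : QC (⋃₀ (ext '' T)) := ⟨ext '' T, hT.image _, by
    rintro _ ⟨t, ht, rfl⟩; exact hext1 t ht, rfl⟩
  refine ⟨V, V ∩ ⋃₀ (ext '' T), hV, hxU, inter_subset_left, hQC.inter_isOpen hV, ?_⟩
  rw [preimage_inter, sUnion_image, preimage_iUnion₂]
  have : (⋃ t ∈ T, (Subtype.val ⁻¹' (ext t) : Set ↥X₀)) = ⋃₀ T := by
    rw [sUnion_eq_biUnion]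
    exact iUnion₂_congr hext2
  rw [this, ← hUZ, ← inter_assoc, inter_self]

/-- an LQC subset of a very dense subspace is the trace of an LQC subset -/
theorem VeryDense.exists_lqc_extension {X₀ : Set X} (h : VeryDense X₀) (Z₀ : Set ↥X₀)
    (hZ₀ : LQC Z₀) : ∃ Z : Set X, LQC Z ∧ (Subtype.val ⁻¹' Z : Set ↥X₀) = Z₀ := by
  choose V Q hVo hxV hQV hQC hQtr using exists_local_extension X₀ Z₀ hZ₀
  have hmem : ∀ (x : ↥X₀) (w : X) (hw : w ∈ X₀), w ∈ Q x ↔ w ∈ V x ∧ (⟨w, hw⟩ : ↥X₀) ∈ Z₀ := by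
    intro x w hw
    have := Set.ext_iff.mp (hQtr x) ⟨w, hw⟩
    simpa using this
  have hcover : ∀ p : X, ∃ x : ↥X₀, p ∈ V x := by
    intro p
    by_contra hp
    push Not at hp
    have hcl : IsClosed (⋃ x, V x)ᶜ := (isOpen_iUnion hVo).isClosed_compl
    have hne : ((⋃ x, V x)ᶜ : Set X).Nonempty := ⟨p, by simpa using hp⟩
    obtain ⟨w, hw1, hw2⟩ := h _ hcl.isLocallyClosed hne
    exact hw1 (mem_iUnion.mpr ⟨⟨w, hw2⟩, hxV ⟨w, hw2⟩⟩)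
  have hglue : ∀ x₀ x : ↥X₀, V x₀ ∩ Q x ⊆ Q x₀ := by
    intro x₀ x
    apply h.lqc_subset_of_inter_subset ((hQC x).lqc.inter_isOpen (hVo x₀)) (hQC x₀).lqc
    rintro w ⟨⟨hw1, hw2⟩, hw⟩
    refine ⟨?_, hw⟩
    rw [hmem x₀ w hw]
    exact ⟨hw1, ((hmem x w hw).mp hw2).2⟩
  refine ⟨⋃ x, Q x, ?_, ?_⟩
  · intro p
    obtain ⟨x₀, hx₀⟩ := hcover p
    obtain ⟨T, hT, hTl, hQT⟩ := hQC x₀
    refine ⟨V x₀, hVo x₀, hx₀, T, hT, hTl, ?_⟩
    rw [← hQT]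
    apply Subset.antisymm
    · rintro w ⟨hw1, hw2⟩
      obtain ⟨x, hx⟩ := mem_iUnion.mp hw2
      exact hglue x₀ x ⟨hw1, hx⟩
    · intro w hw
      exact ⟨hQV x₀ hw, mem_iUnion.mpr ⟨x₀, hw⟩⟩
  · ext ⟨w, hw⟩
    simp only [mem_preimage, mem_iUnion]
    constructor
    · rintro ⟨x, hx⟩
      exact ((hmem x w hw).mp hx).2
    · intro hwZ
      exact ⟨⟨w, hw⟩, (hmem ⟨w, hw⟩ w hw).mpr ⟨hxV ⟨w, hw⟩, hwZ⟩⟩

end Groth.Agent.H25
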