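import Groth.Agent.H25.QuasiHomeo2
import Mathlib.Topology.Constructible

set_option autoImplicit false
universe u v

namespace Groth.Agent.H25

open Set Topology
open scoped Set.Notation

variable {X : Type u} {Y : Type v} [TopologicalSpace X] [TopologicalSpace Y]

theorem QC.union {A B : Set X} (hA : QC A) (hB : QC B) : QC (A ∪ B) := by
  obtain ⟨T, hT, hTl, rfl⟩ := hA
  obtain ⟨T', hT', hTl', rfl⟩ := hB
  refine ⟨T ∪ T', hT.union hT', ?_, (sUnion_union T T').symm⟩
  rintro t (ht | ht)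
  · exact hTl t ht
  · exact hTl' t ht

theorem QC.inter {A B : Set X} (hA : QC A) (hB : QC B) : QC (A ∩ B) := by
  obtain ⟨T, hT, hTl, rfl⟩ := hA
  obtain ⟨T', hT', hTl', rfl⟩ := hB
  refine ⟨Set.image2 (· ∩ ·) T T', hT.image2 _ hT', ?_, ?_⟩
  · rintro _ ⟨t, ht, t', ht', rfl⟩
    exact (hTl t ht).inter (hTl' t' ht')
  · ext x
    simp only [mem_inter_iff, mem_sUnion, mem_image2]
    constructor
    · rintro ⟨⟨t, ht, hxt⟩, t', ht', hxt'⟩
      exact ⟨t ∩ t', ⟨t, ht, t', ht', rfl⟩, hxt, hxt'⟩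
    · rintro ⟨_, ⟨t, ht, t', ht', rfl⟩, hxt, hxt'⟩
      exact ⟨⟨t, ht, hxt⟩, t', ht', hxt'⟩

theorem qc_compl_of_isLocallyClosed {a : Set X} (ha : IsLocallyClosed a) : QC aᶜ := by
  obtain ⟨O, C, hO, hC, rfl⟩ := ha
  rw [compl_inter]
  exact (qc_of_isLocallyClosed hO.isClosed_compl.isLocallyClosed).union
    (qc_of_isLocallyClosed hC.isOpen_compl.isLocallyClosed)

theorem QC.compl {A : Set X} (hA : QC A) : QC Aᶜ := by
  obtain ⟨T, hT, hTl, rfl⟩ := hA
  induction T, hT using Set.Finite.induction_on with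
  | empty =>
    rw [sUnion_empty, compl_empty]
    exact qc_of_isLocallyClosed isOpen_univ.isLocallyClosed
  | @insert a T' _ _ ih =>
    rw [sUnion_insert, compl_union]
    exact (qc_compl_of_isLocallyClosed (hTl a (mem_insert a T'))).inter
      (ih fun t ht => hTl t (mem_insert_of_mem a ht))

theorem qc_of_isConstructible {s : Set X} (hs : IsConstructible s) : QC s := by
  induction hs using IsConstructible.empty_union_induction with
  | open_retrocompact U hUopen _ => exact qc_of_isLocallyClosed hUopen.isLocallyClosed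
  | union s _ t _ hs' ht' => exact hs'.union ht'
  | compl s _ hs' => exact hs'.compl

/-- image of a QC set of an open subspace is QC -/
theorem QC.image_val {U : Set X} (hU : IsOpen U) {A : Set ↥U} (hA : QC A) :
    QC (Subtype.val '' A) := by
  obtain ⟨T, hT, hTl, rfl⟩ := hA
  refine ⟨(fun t => Subtype.val '' t) '' T, hT.image _, ?_, ?_⟩
  · rintro _ ⟨t, ht, rfl⟩
    refine (hTl t ht).image IsInducing.subtypeVal ?_
    rw [Subtype.range_coe]
    exact hU.isLocallyClosed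
  · rw [image_sUnion]

theorem lqc_of_isLocallyConstructible {s : Set X} (hs : IsLocallyConstructible s) : LQC s := by
  intro x
  obtain ⟨U, hxU, hU, hc⟩ := hs x
  obtain ⟨T, hT, hTl, hQT⟩ := (qc_of_isConstructible hc).image_val hU
  refine ⟨U, hU, mem_of_mem_nhds hxU, T, hT, hTl, ?_⟩
  rw [← hQT, Subtype.image_preimage_coe]

section QH

variable {f : X → Y}

theorem QH.isRetrocompact_preimage (h : QH f) (hf : Continuous f) {s : Set Y} (hs : IsOpen s)
    (hr : IsRetrocompact s) : IsRetrocompact (f ⁻¹' s) := by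
  intro V hVc hVo
  obtain ⟨U, hU, rfl⟩ := h.2 V hVo
  have hUc : IsCompact U := (h.isCompact_preimage_iff hf hU).mp hVc
  rw [← preimage_inter]
  exact (h.isCompact_preimage_iff hf (hs.inter hU)).mpr (hr hUc hU)

theorem QH.isRetrocompact_of_preimage (h : QH f) (hf : Continuous f) {s : Set Y} (hs : IsOpen s)
    (hr : IsRetrocompact (f ⁻¹' s)) : IsRetrocompact s := by
  intro U hUc hUo
  have hVc : IsCompact (f ⁻¹' U) := (h.isCompact_preimage_iff hf hUo).mpr hUc
  have := hr hVc (hUo.preimage hf)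
  rw [← preimage_inter] at this
  exact (h.isCompact_preimage_iff hf (hs.inter hUo)).mp this

theorem QH.isConstructible_preimage (h : QH f) (hf : Continuous f) {s : Set Y}
    (hs : IsConstructible s) : IsConstructible (f ⁻¹' s) :=
  hs.preimage hf fun _ ho hr => h.isRetrocompact_preimage hf ho hr

theorem QH.exists_isConstructible_preimage_eq (h : QH f) (hf : Continuous f) {W : Set X}
    (hW : IsConstructible W) : ∃ Z : Set Y, IsConstructible Z ∧ f ⁻¹' Z = W := by
  induction hW using IsConstructible.empty_union_induction with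
  | open_retrocompact V hVopen hVcomp =>
    obtain ⟨U, hU, rfl⟩ := h.2 V hVopen
    exact ⟨U, (h.isRetrocompact_of_preimage hf hU hVcomp).isConstructible hU, rfl⟩
  | union s _ t _ hs' ht' =>
    obtain ⟨Z, hZ, rfl⟩ := hs'
    obtain ⟨Z', hZ', rfl⟩ := ht'
    exact ⟨Z ∪ Z', hZ.union hZ', preimage_union⟩
  | compl s _ hs' =>
    obtain ⟨Z, hZ, rfl⟩ := hs'
    exact ⟨Zᶜ, hZ.compl, preimage_compl⟩

theorem QH.of_isOpen (h : QH f) {U : Set Y} (hU : IsOpen U) : QH (U.restrictPreimage f) :=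
  h.restrictPreimage (lqc_of_isLocallyClosed hU.isLocallyClosed)

theorem QH.isLocallyConstructible_preimage (h : QH f) (hf : Continuous f) {s : Set Y}
    (hs : IsLocallyConstructible s) : IsLocallyConstructible (f ⁻¹' s) := by
  intro x
  obtain ⟨U, hxU, hU, hc⟩ := hs (f x)
  refine ⟨f ⁻¹' U, hf.continuousAt hxU, hU.preimage hf, ?_⟩
  exact (h.of_isOpen hU).isConstructible_preimage hf.restrictPreimage hc

theorem QH.exists_isLocallyConstructible_preimage_eq (h : QH f) (hf : Continuous f) {W : Set X}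
    (hW : IsLocallyConstructible W) : ∃ Z : Set Y, IsLocallyConstructible Z ∧ f ⁻¹' Z = W := by
  -- local data
  have hloc : ∀ x : X, ∃ (U : Set Y) (Z : Set ↥U), IsOpen U ∧ f x ∈ U ∧ IsConstructible Z ∧
      f ⁻¹' (Subtype.val '' Z) = f ⁻¹' U ∩ W := by
    intro x
    obtain ⟨V, hxV, hV, hc⟩ := hW x
    obtain ⟨U, hU, rfl⟩ := h.2 V hV
    obtain ⟨Z, hZ, hZeq⟩ := (h.of_isOpen hU).exists_isConstructible_preimage_eq hf.restrictPreimage hc
    refine ⟨U, Z, hU, (mem_of_mem_nhds hxV : x ∈ f ⁻¹' U), hZ, ?_⟩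
    ext p
    constructor
    · rintro ⟨⟨y, hy⟩, hyZ, hyp⟩
      have hpU : p ∈ f ⁻¹' U := by show f p ∈ U; rw [← hyp]; exact hy
      have : (⟨p, hpU⟩ : f ⁻¹' U) ∈ U.restrictPreimage f ⁻¹' Z := by
        show U.restrictPreimage f ⟨p, hpU⟩ ∈ Z
        have e : U.restrictPreimage f ⟨p, hpU⟩ = ⟨y, hy⟩ := Subtype.ext hyp.symm
        rw [e]; exact hyZ
      rw [hZeq] at this
      exact ⟨hpU, this⟩
    · rintro ⟨hpU, hpW⟩
      have : (⟨p, hpU⟩ : f ⁻¹' U) ∈ U.restrictPreimage f ⁻¹' Z := by rw [hZeq]; exact hpW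
      exact ⟨U.restrictPreimage f ⟨p, hpU⟩, this, rfl⟩
  choose U Z hU hxU hZ hZeq using hloc
  have hcoverX : ∀ p : X, ∃ x, p ∈ f ⁻¹' U x := fun p => ⟨p, hxU p⟩
  have hcoverY : (⋃ x, U x) = univ := by
    apply h.1 _ _ (isOpen_iUnion hU) isOpen_univ
    rw [preimage_univ, preimage_iUnion]
    exact eq_univ_of_forall fun p => mem_iUnion.mpr (hcoverX p)
  have hlqcZ : ∀ x, LQC (Subtype.val '' Z x) := fun x =>
    ((qc_of_isConstructible (hZ x)).image_val (hU x)).lqc
  have hsubU : ∀ x, Subtype.val '' Z x ⊆ U x := by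
    rintro x _ ⟨y, -, rfl⟩; exact y.2
  have hglue : ∀ x₀ x, U x₀ ∩ Subtype.val '' Z x ⊆ Subtype.val '' Z x₀ := by
    intro x₀ x
    apply h.veryDense_range.lqc_subset_of_inter_subset ((hlqcZ x).inter_isOpen (hU x₀)) (hlqcZ x₀)
    rintro _ ⟨⟨hp1, hp2⟩, p, rfl⟩
    refine ⟨?_, p, rfl⟩
    have h2 : p ∈ f ⁻¹' (Subtype.val '' Z x) := hp2
    rw [hZeq x] at h2
    have h3 : p ∈ f ⁻¹' U x₀ ∩ W := ⟨hp1, h2.2⟩
    rw [← hZeq x₀] at h3
    exact h3
  refine ⟨⋃ x, Subtype.val '' Z x, ?_, ?_⟩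
  · intro y
    have : y ∈ ⋃ x, U x := by rw [hcoverY]; trivial
    obtain ⟨x₀, hx₀⟩ := mem_iUnion.mp this
    refine ⟨U x₀, (hU x₀).mem_nhds hx₀, hU x₀, ?_⟩
    have : (U x₀ ↓∩ ⋃ x, Subtype.val '' Z x) = Z x₀ := by
      ext ⟨w, hw⟩
      simp only [mem_preimage, mem_iUnion]
      constructor
      · rintro ⟨x, hx⟩
        obtain ⟨w', hw'Z, hw'⟩ := hglue x₀ x ⟨hw, hx⟩
        have : w' = ⟨w, hw⟩ := Subtype.ext hw'
        rw [← this]; exact hw'Z
      · intro hwZ
        exact ⟨x₀, ⟨w, hw⟩, hwZ, rfl⟩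
    rw [this]
    exact hZ x₀
  · rw [preimage_iUnion]
    simp only [hZeq]
    rw [← iUnion_inter]
    have : (⋃ x, f ⁻¹' U x) = univ := eq_univ_of_forall fun p => mem_iUnion.mpr (hcoverX p)
    rw [this, univ_inter]

end QH

end Groth.Agent.H25
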