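import Groth.Agent.H25.QuasiHomeo3

set_option autoImplicit false
universe u v

namespace Groth.Agent.H25

open Set Topology

variable {X : Type u} {Y : Type v} [TopologicalSpace X] [TopologicalSpace Y]

/-- gluing LQC sets along an open cover -/
theorem lqc_iUnion_of_glue {ι : Type*} (V Q : ι → Set Y) (hV : ∀ i, IsOpen (V i))
    (hcov : ∀ y : Y, ∃ i, y ∈ V i) (hQV : ∀ i, Q i ⊆ V i) (hQ : ∀ i, QC (Q i))
    (hglue : ∀ i j, V i ∩ Q j ⊆ Q i) : LQC (⋃ i, Q i) := by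
  intro y
  obtain ⟨i, hi⟩ := hcov y
  obtain ⟨T, hT, hTl, hQT⟩ := hQ i
  refine ⟨V i, hV i, hi, T, hT, hTl, ?_⟩
  rw [← hQT]
  apply Subset.antisymm
  · rintro w ⟨hw1, hw2⟩
    obtain ⟨j, hj⟩ := mem_iUnion.mp hw2
    exact hglue i j ⟨hw1, hj⟩
  · intro w hw
    exact ⟨hQV i hw, mem_iUnion.mpr ⟨i, hw⟩⟩

/-- the subspace form of local quasi-constructibility -/
def LQC' (Z : Set X) : Prop :=
  ∀ x : X, ∃ V : Set X, IsOpen V ∧ x ∈ V ∧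
    ∃ T : Set (Set V), T.Finite ∧ (∀ t ∈ T, IsLocallyClosed t) ∧ (Subtype.val ⁻¹' Z : Set V) = ⋃₀ T

theorem lqc_iff_lqc' (Z : Set X) : LQC Z ↔ LQC' Z := by
  constructor
  · intro h x
    obtain ⟨V, hV, hxV, T, hT, hTl, hVZ⟩ := h x
    refine ⟨V, hV, hxV, (fun t => (Subtype.val ⁻¹' t : Set V)) '' T, hT.image _, ?_, ?_⟩
    · rintro _ ⟨t, ht, rfl⟩
      exact (hTl t ht).preimage continuous_subtype_val
    · rw [sUnion_image, ← preimage_iUnion₂, ← sUnion_eq_biUnion, ← hVZ]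
      ext ⟨w, hw⟩
      simp [hw]
  · intro h x
    obtain ⟨V, hV, hxV, T, hT, hTl, hVZ⟩ := h x
    have hqc : QC (Subtype.val ⁻¹' Z : Set V) := ⟨T, hT, hTl, hVZ⟩
    obtain ⟨T', hT', hTl', hQT'⟩ := hqc.image_val hV
    refine ⟨V, hV, hxV, T', hT', hTl', ?_⟩
    rw [← hQT', Subtype.image_preimage_coe]

section QH

variable {f : X → Y}

theorem QH.lqc_subset_of_preimage_subset (h : QH f) {Z Z' : Set Y} (hZ : LQC Z) (hZ' : LQC Z')
    (he : f ⁻¹' Z ⊆ f ⁻¹' Z') : Z ⊆ Z' := by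
  apply h.veryDense_range.lqc_subset_of_inter_subset hZ hZ'
  rintro _ ⟨hy, x, rfl⟩
  exact ⟨he hy, x, rfl⟩

theorem QC.preimage {Z : Set Y} (hZ : QC Z) (hf : Continuous f) : QC (f ⁻¹' Z) := by
  obtain ⟨T, hT, hTl, rfl⟩ := hZ
  refine ⟨(fun t => f ⁻¹' t) '' T, hT.image _, ?_, ?_⟩
  · rintro _ ⟨t, ht, rfl⟩
    exact (hTl t ht).preimage hf
  · rw [sUnion_image, preimage_sUnion]

theorem LQC.preimage {Z : Set Y} (hZ : LQC Z) (hf : Continuous f) : LQC (f ⁻¹' Z) := by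
  intro x
  obtain ⟨U, hU, hxU, T, hT, hTl, hUZ⟩ := hZ (f x)
  have hqc : QC (U ∩ Z) := ⟨T, hT, hTl, hUZ⟩
  obtain ⟨T', hT', hTl', hQT'⟩ := hqc.preimage hf
  exact ⟨f ⁻¹' U, hU.preimage hf, hxU, T', hT', hTl', by rw [← hQT', preimage_inter]⟩

theorem QH.exists_isLocallyClosed_preimage_eq (h : QH f) {S : Set X} (hS : IsLocallyClosed S) :
    ∃ S' : Set Y, IsLocallyClosed S' ∧ f ⁻¹' S' = S := by
  obtain ⟨O, C, hO, hC, rfl⟩ := hS
  obtain ⟨O', hO', rfl⟩ := h.2 O hO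
  obtain ⟨D', hD', hD'C⟩ := h.2 Cᶜ hC.isOpen_compl
  refine ⟨O' ∩ D'ᶜ, ⟨O', D'ᶜ, hO', hD'.isClosed_compl, rfl⟩, ?_⟩
  rw [preimage_inter, preimage_compl, hD'C, compl_compl]

theorem QH.exists_qc_preimage_eq (h : QH f) {W : Set X} (hW : QC W) :
    ∃ Z : Set Y, QC Z ∧ f ⁻¹' Z = W := by
  obtain ⟨T, hT, hTl, rfl⟩ := hW
  induction T, hT using Set.Finite.induction_on with
  | empty => exact ⟨∅, qc_empty, by simp⟩
  | @insert a T' _ _ ih =>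
    obtain ⟨Z, hZ, hZe⟩ := ih fun t ht => hTl t (mem_insert_of_mem a ht)
    obtain ⟨a', ha', ha'e⟩ := h.exists_isLocallyClosed_preimage_eq (hTl a (mem_insert a T'))
    exact ⟨a' ∪ Z, (qc_of_isLocallyClosed ha').union hZ, by
      rw [preimage_union, ha'e, hZe, sUnion_insert]⟩

theorem QH.exists_lqc_preimage_eq (h : QH f) {W : Set X} (hW : LQC W) :
    ∃ Z : Set Y, LQC Z ∧ f ⁻¹' Z = W := by
  have hloc : ∀ x : X, ∃ (V Q : Set Y), IsOpen V ∧ f x ∈ V ∧ Q ⊆ V ∧ QC Q ∧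
      f ⁻¹' Q = f ⁻¹' V ∩ W := by
    intro x
    obtain ⟨V', hV', hxV', T, hT, hTl, hVW⟩ := hW x
    obtain ⟨V, hV, rfl⟩ := h.2 V' hV'
    obtain ⟨Q, hQ, hQe⟩ := h.exists_qc_preimage_eq ⟨T, hT, hTl, hVW⟩
    refine ⟨V, V ∩ Q, hV, hxV', inter_subset_left, hQ.inter_isOpen hV, ?_⟩
    rw [preimage_inter, hQe, ← inter_assoc, inter_self]
  choose V Q hV hxV hQV hQ hQe using hloc
  have hcoverY : (⋃ x, V x) = univ := by
    apply h.1 _ _ (isOpen_iUnion hV) isOpen_univ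
    rw [preimage_univ, preimage_iUnion]
    exact eq_univ_of_forall fun p => mem_iUnion.mpr ⟨p, hxV p⟩
  have hcov : ∀ y : Y, ∃ x, y ∈ V x := fun y => by
    have : y ∈ ⋃ x, V x := by rw [hcoverY]; trivial
    exact mem_iUnion.mp this
  have hglue : ∀ x₀ x, V x₀ ∩ Q x ⊆ Q x₀ := by
    intro x₀ x
    apply h.lqc_subset_of_preimage_subset ((hQ x).lqc.inter_isOpen (hV x₀)) (hQ x₀).lqc
    rw [preimage_inter, hQe x, hQe x₀]
    rintro p ⟨hp1, -, hp3⟩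
    exact ⟨hp1, hp3⟩
  refine ⟨⋃ x, Q x, lqc_iUnion_of_glue V Q hV hcov hQV hQ hglue, ?_⟩
  rw [preimage_iUnion]
  simp only [hQe]
  rw [← iUnion_inter]
  have : (⋃ x, f ⁻¹' V x) = univ := eq_univ_of_forall fun p => mem_iUnion.mpr ⟨p, hxV p⟩
  rw [this, univ_inter]

end QH

end Groth.Agent.H25
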