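import Mathlib
import Groth.Agent.H25.GeomIrr

set_option maxHeartbeats 400000
set_option linter.style.haveILetI false

open TensorProduct Polynomial

universe u

namespace Groth.Agent.H25.RatFunc

open Groth.Agent.H25.GeomIrr

theorem PrimeNil.of_unit_mul_mem_range {T T' : Type*} [CommRing T] [CommRing T'] (φ : T →+* T')
    (hφ : Function.Injective φ) (h : ∀ z : T', ∃ u : T', IsUnit u ∧ u * z ∈ φ.range)
    (hT : PrimeNil T) : PrimeNil T' := by
  haveI := hT.1
  refine ⟨hφ.nontrivial, fun x y hxy => ?_⟩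
  obtain ⟨u, hu, a, ha⟩ := h x
  obtain ⟨v, hv, b, hb⟩ := h y
  have h1 : IsNilpotent (φ (a * b)) := by
    rw [map_mul, ha, hb]
    have : u * x * (v * y) = (u * v) * (x * y) := by ring
    rw [this]
    exact (Commute.all _ _).isNilpotent_mul_left hxy
  rcases hT.2 a b ((IsNilpotent.map_iff hφ).mp h1) with h | h
  · left
    have h2 : IsNilpotent (u * x) := ha ▸ h.map φ
    obtain ⟨u', rfl⟩ := hu
    have : x = ↑u'⁻¹ * (↑u' * x) := by rw [← mul_assoc, Units.inv_mul, one_mul]
    rw [this]; exact (Commute.all _ _).isNilpotent_mul_left h2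
  · right
    have h2 : IsNilpotent (v * y) := hb ▸ h.map φ
    obtain ⟨v', rfl⟩ := hv
    have : y = ↑v'⁻¹ * (↑v' * y) := by rw [← mul_assoc, Units.inv_mul, one_mul]
    rw [this]; exact (Commute.all _ _).isNilpotent_mul_left h2

section

variable {k K : Type u} [Field k] [Field K] [Algebra k K]
  (kt Kt : Type u) [Field kt] [Field Kt] [Algebra k[X] kt] [IsFractionRing k[X] kt]
  [Algebra K[X] Kt] [IsFractionRing K[X] Kt] [Algebra kt Kt]
  [Algebra k kt] [Algebra K Kt] [Algebra k Kt] [IsScalarTower k kt Kt] [IsScalarTower k K Kt]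

/-- The multiplication map `k(t) ⊗ K → K(t)`. -/
noncomputable def jmap : kt ⊗[k] K →ₐ[kt] Kt :=
  Algebra.TensorProduct.lift (Algebra.ofId kt Kt) (IsScalarTower.toAlgHom k K Kt)
    (fun _ _ => Commute.all _ _)

theorem jmap_tmul (a : kt) (c : K) :
    jmap kt Kt (a ⊗ₜ[k] c) = algebraMap kt Kt a * algebraMap K Kt c := by
  simp [jmap, Algebra.ofId_apply]

variable (hcompat : ∀ p : k[X], algebraMap kt Kt (algebraMap k[X] kt p) =
    algebraMap K[X] Kt (Polynomial.map (algebraMap k K) p))
  (hK : ∀ c : K, algebraMap K Kt c = algebraMap K[X] Kt (C c))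

include hcompat hK in
theorem jmap_injective : Function.Injective (jmap (k := k) (K := K) kt Kt) := by
  classical
  rw [injective_iff_map_eq_zero]
  intro x hx
  let bK := Module.Free.chooseBasis k K
  let B := Algebra.TensorProduct.basis kt bK
  have hBsmul : ∀ (a : kt) i, a • B i = a ⊗ₜ[k] bK i :=
    fun a i => Algebra.TensorProduct.basis_repr_symm_apply' bK a i
  obtain ⟨w, hw⟩ : ∃ w, w = B.repr x := ⟨_, rfl⟩
  have hsum : (∑ i ∈ w.support, w i ⊗ₜ[k] bK i) = x := by
    have := B.linearCombination_repr x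
    rw [← hw, Finsupp.linearCombination_apply, Finsupp.sum] at this
    rw [← this]
    exact Finset.sum_congr rfl (fun i _ => (hBsmul _ _).symm)
  obtain ⟨q, hq⟩ := IsLocalization.exist_integer_multiples_of_finset (nonZeroDivisors k[X])
    (w.support.image w)
  have hq' : ∀ i, i ∈ w.support → ∃ r : k[X], algebraMap k[X] kt r =
      algebraMap k[X] kt (q : k[X]) * w i := by
    intro i hi
    obtain ⟨r, hr⟩ := hq (w i) (Finset.mem_image_of_mem w hi)
    exact ⟨r, by rw [hr, Algebra.smul_def]⟩
  choose! p hp using hq'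
  have hzero : ∑ i ∈ w.support, Polynomial.map (algebraMap k K) (p i) * C (bK i) = 0 := by
    apply IsFractionRing.injective K[X] Kt
    rw [map_zero, map_sum]
    have hterm : ∀ i ∈ w.support, algebraMap K[X] Kt (Polynomial.map (algebraMap k K) (p i) *
        C (bK i)) = algebraMap kt Kt (algebraMap k[X] kt (q : k[X])) *
          (algebraMap kt Kt (w i) * algebraMap K Kt (bK i)) := by
      intro i hi
      rw [map_mul, ← hcompat, hp i hi, ← hK, map_mul, mul_assoc]
    rw [Finset.sum_congr rfl hterm, ← Finset.mul_sum]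
    have hj : ∑ i ∈ w.support, algebraMap kt Kt (w i) * algebraMap K Kt (bK i) = jmap kt Kt x := by
      rw [← hsum, map_sum]
      exact Finset.sum_congr rfl (fun i _ => (jmap_tmul kt Kt _ _).symm)
    rw [hj, hx, mul_zero]
  have hp0 : ∀ i ∈ w.support, p i = 0 := by
    intro i hi
    ext n
    have hn := congrArg (fun P => Polynomial.coeff P n) hzero
    simp only [Polynomial.finsetSum_coeff, Polynomial.coeff_mul_C, Polynomial.coeff_map,
      Polynomial.coeff_zero] at hn
    have := linearIndependent_iff'.mp bK.linearIndependent w.support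
      (fun i => (p i).coeff n) (by simpa [Algebra.smul_def] using hn) i hi
    simpa using this
  have hq0 : algebraMap k[X] kt (q : k[X]) ≠ 0 := by
    intro h
    exact nonZeroDivisors.ne_zero q.2
      ((IsFractionRing.injective k[X] kt) (h.trans (map_zero _).symm))
  have hw0 : ∀ i ∈ w.support, w i = 0 := by
    intro i hi
    have h1 := hp i hi
    rw [hp0 i hi, map_zero] at h1
    exact (mul_eq_zero.mp h1.symm).resolve_left hq0
  rw [← hsum]
  exact Finset.sum_eq_zero (fun i hi => by rw [hw0 i hi, zero_tmul])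

variable (L : Type u) [Field L] [Algebra kt L] [Algebra k L] [IsScalarTower k kt L]

/-- The comparison map `L ⊗_k K → L ⊗_{k(t)} K(t)`. -/
noncomputable def Phi : L ⊗[k] K →ₐ[kt] L ⊗[kt] Kt :=
  (Algebra.TensorProduct.map (AlgHom.id kt L) (jmap kt Kt)).comp
    (Algebra.TensorProduct.cancelBaseChange k kt kt L K).symm.toAlgHom

theorem Phi_tmul (l : L) (c : K) :
    Phi kt Kt L (l ⊗ₜ[k] c) = l ⊗ₜ[kt] algebraMap K Kt c := by
  simp [Phi, jmap_tmul]

include hcompat hK in
theorem Phi_injective : Function.Injective (Phi (k := k) (K := K) kt Kt L) := by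
  have hj := jmap_injective kt Kt hcompat hK
  have h1 : Function.Injective (Algebra.TensorProduct.map (AlgHom.id kt L)
      (jmap (k := k) (K := K) kt Kt)) := by
    have h0 := Module.Flat.lTensor_preserves_injective_linearMap (M := L)
      (jmap (k := k) (K := K) kt Kt).toLinearMap hj
    have hcmp : ∀ z, Algebra.TensorProduct.map (AlgHom.id kt L) (jmap (k := k) (K := K) kt Kt) z =
        LinearMap.lTensor L (jmap (k := k) (K := K) kt Kt).toLinearMap z := by
      intro z
      induction z using TensorProduct.induction_on with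
      | zero => simp
      | tmul a c => rfl
      | add a c ha hc => rw [map_add, map_add, ha, hc]
    intro z1 z2 h
    apply h0
    rw [← hcmp, ← hcmp, h]
  intro a b hab
  have hab' : Algebra.TensorProduct.map (AlgHom.id kt L) (jmap (k := k) (K := K) kt Kt)
      ((Algebra.TensorProduct.cancelBaseChange k kt kt L K).symm a) =
      Algebra.TensorProduct.map (AlgHom.id kt L) (jmap (k := k) (K := K) kt Kt)
      ((Algebra.TensorProduct.cancelBaseChange k kt kt L K).symm b) := hab
  exact (AlgEquiv.injective _) (h1 hab')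

/-- The image of `K[X]` in `L ⊗ K`. -/
noncomputable def sig : K[X] →+* L ⊗[k] K :=
  Polynomial.eval₂RingHom (Algebra.TensorProduct.includeRight : K →ₐ[k] L ⊗[k] K).toRingHom
    ((algebraMap kt L (algebraMap k[X] kt X)) ⊗ₜ[k] 1)

include hcompat hK in
theorem Phi_sig (s : K[X]) :
    Phi (k := k) (K := K) kt Kt L (sig (k := k) (K := K) kt L s) =
      (1 : L) ⊗ₜ[kt] algebraMap K[X] Kt s := by
  have heq : (Phi (k := k) (K := K) kt Kt L).toRingHom.comp (sig (k := k) (K := K) kt L) =
      (Algebra.TensorProduct.includeRight : Kt →ₐ[kt] L ⊗[kt] Kt).toRingHom.comp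
        (algebraMap K[X] Kt) := by
    refine Polynomial.ringHom_ext (fun c => ?_) ?_
    · simp only [RingHom.comp_apply, sig, Polynomial.coe_eval₂RingHom, Polynomial.eval₂_C]
      show Phi kt Kt L ((1 : L) ⊗ₜ[k] c) = (1 : L) ⊗ₜ[kt] algebraMap K[X] Kt (C c)
      rw [Phi_tmul, hK]
    · simp only [RingHom.comp_apply, sig, Polynomial.coe_eval₂RingHom, Polynomial.eval₂_X]
      show Phi kt Kt L ((algebraMap kt L (algebraMap k[X] kt X)) ⊗ₜ[k] (1 : K)) =
        (1 : L) ⊗ₜ[kt] algebraMap K[X] Kt X
      rw [Phi_tmul, map_one, Algebra.algebraMap_eq_smul_one, TensorProduct.smul_tmul,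
        ← Algebra.algebraMap_eq_smul_one, hcompat, Polynomial.map_X]
  exact congrArg (fun F => F s) heq

include hcompat hK in
theorem exists_mul_eq_Phi (z : L ⊗[kt] Kt) :
    ∃ s : K[X], s ≠ 0 ∧ ∃ a : L ⊗[k] K,
      ((1 : L) ⊗ₜ[kt] algebraMap K[X] Kt s) * z = Phi kt Kt L a := by
  induction z using TensorProduct.induction_on with
  | zero => exact ⟨1, one_ne_zero, 0, by simp⟩
  | tmul l f =>
    obtain ⟨g, s, hs, rfl⟩ := IsFractionRing.div_surjective (A := K[X]) f
    have hs0 : s ≠ 0 := nonZeroDivisors.ne_zero hs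
    have hs' : algebraMap K[X] Kt s ≠ 0 := fun h =>
      hs0 ((IsFractionRing.injective K[X] Kt) (h.trans (map_zero _).symm))
    refine ⟨s, hs0, (l ⊗ₜ[k] 1) * sig kt L g, ?_⟩
    rw [map_mul, Phi_sig kt Kt hcompat hK, Phi_tmul, map_one,
      Algebra.TensorProduct.tmul_mul_tmul, Algebra.TensorProduct.tmul_mul_tmul, one_mul, mul_one,
      one_mul, mul_div_cancel₀ _ hs']
  | add z1 z2 h1 h2 =>
    obtain ⟨s1, hs1, a1, e1⟩ := h1
    obtain ⟨s2, hs2, a2, e2⟩ := h2
    refine ⟨s1 * s2, mul_ne_zero hs1 hs2, sig kt L s2 * a1 + sig kt L s1 * a2, ?_⟩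
    have hm : (1 : L) ⊗ₜ[kt] (algebraMap K[X] Kt (s1 * s2)) =
        ((1 : L) ⊗ₜ[kt] algebraMap K[X] Kt s1) * ((1 : L) ⊗ₜ[kt] algebraMap K[X] Kt s2) := by
      rw [map_mul, Algebra.TensorProduct.tmul_mul_tmul, one_mul]
    rw [hm, map_add, map_mul, map_mul, Phi_sig kt Kt hcompat hK, Phi_sig kt Kt hcompat hK,
      ← e1, ← e2]
    ring

include hcompat hK in
theorem primeNil_of_primeNil (hL : PrimeNil (L ⊗[k] K)) : PrimeNil (L ⊗[kt] Kt) := by
  refine PrimeNil.of_unit_mul_mem_range (Phi (k := k) (K := K) kt Kt L).toRingHom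
    (Phi_injective kt Kt hcompat hK L) (fun z => ?_) hL
  obtain ⟨s, hs, a, ha⟩ := exists_mul_eq_Phi kt Kt hcompat hK L z
  refine ⟨(1 : L) ⊗ₜ[kt] algebraMap K[X] Kt s, ?_, a, ha.symm⟩
  have hs' : algebraMap K[X] Kt s ≠ 0 := fun h =>
    hs ((IsFractionRing.injective K[X] Kt) (h.trans (map_zero _).symm))
  exact hs'.isUnit.map (Algebra.TensorProduct.includeRight : Kt →ₐ[kt] L ⊗[kt] Kt)

end

theorem main {k K : Type u} [Field k] [Field K] [Algebra k K]
    (kt Kt : Type u) [Field kt] [Field Kt] [Algebra (Polynomial k) kt]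
    [IsFractionRing (Polynomial k) kt] [Algebra (Polynomial K) Kt]
    [IsFractionRing (Polynomial K) Kt] [Algebra kt Kt]
    (hcompat : ∀ p : Polynomial k, algebraMap kt Kt (algebraMap (Polynomial k) kt p) =
      algebraMap (Polynomial K) Kt (Polynomial.map (algebraMap k K) p)) :
    (∀ (k' : Type u) [Field k'] [Algebra k k'], IrreducibleSpace (PrimeSpectrum (k' ⊗[k] K))) ↔
      ∀ (L : Type u) [Field L] [Algebra kt L], IrreducibleSpace (PrimeSpectrum (L ⊗[kt] Kt)) := by
  letI : Algebra k kt := ((algebraMap k[X] kt).comp Polynomial.C).toAlgebra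
  letI : Algebra K Kt := ((algebraMap K[X] Kt).comp Polynomial.C).toAlgebra
  letI : Algebra k Kt := ((algebraMap kt Kt).comp (algebraMap k kt)).toAlgebra
  haveI : IsScalarTower k kt Kt := IsScalarTower.of_algebraMap_eq (fun _ => rfl)
  have hk : ∀ a : k, algebraMap k kt a = algebraMap k[X] kt (C a) := fun _ => rfl
  have hK : ∀ c : K, algebraMap K Kt c = algebraMap K[X] Kt (C c) := fun _ => rfl
  haveI : IsScalarTower k K Kt := IsScalarTower.of_algebraMap_eq (fun a => by
    show algebraMap kt Kt (algebraMap k[X] kt (C a)) = algebraMap K[X] Kt (C (algebraMap k K a))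
    rw [hcompat, Polynomial.map_C])
  constructor
  · intro h L _ _
    letI : Algebra k L := ((algebraMap kt L).comp (algebraMap k kt)).toAlgebra
    haveI : IsScalarTower k kt L := IsScalarTower.of_algebraMap_eq (fun _ => rfl)
    refine (irreducibleSpace_iff (L ⊗[kt] Kt)).mpr ?_
    have hL : PrimeNil (L ⊗[k] K) := (irreducibleSpace_iff (L ⊗[k] K)).mp (h L)
    exact primeNil_of_primeNil kt Kt hcompat hK L hL
  · intro h k' _ _
    let g : k[X] →+* FractionRing k'[X] :=
      (algebraMap k'[X] (FractionRing k'[X])).comp (Polynomial.mapRingHom (algebraMap k k'))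
    have hg : Function.Injective g :=
      (IsFractionRing.injective k'[X] (FractionRing k'[X])).comp
        (Polynomial.map_injective _ (algebraMap k k').injective)
    letI : Algebra kt (FractionRing k'[X]) := (IsFractionRing.lift hg).toAlgebra
    haveI : IsScalarTower k kt (FractionRing k'[X]) := IsScalarTower.of_algebraMap_eq (fun a => by
      show algebraMap k (FractionRing k'[X]) a = IsFractionRing.lift hg (algebraMap k[X] kt (C a))
      rw [IsFractionRing.lift_algebraMap]
      show _ = algebraMap k'[X] (FractionRing k'[X]) (Polynomial.map (algebraMap k k') (C a))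
      rw [Polynomial.map_C, IsScalarTower.algebraMap_apply k k'[X] (FractionRing k'[X]),
        Polynomial.algebraMap_apply])
    have hP : PrimeNil (FractionRing k'[X] ⊗[kt] Kt) :=
      (irreducibleSpace_iff (FractionRing k'[X] ⊗[kt] Kt)).mp (h (FractionRing k'[X]))
    have h1 : PrimeNil (FractionRing k'[X] ⊗[k] K) :=
      PrimeNil.of_injective (RatFunc.Phi (k := k) (K := K) kt Kt (FractionRing k'[X])).toRingHom
        (Phi_injective kt Kt hcompat hK (FractionRing k'[X])) hP
    have h2 : PrimeNil (k' ⊗[k] K) :=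
      PrimeNil.of_injective
        (Algebra.TensorProduct.map (IsScalarTower.toAlgHom k k' (FractionRing k'[X]))
          (AlgHom.id k K)).toRingHom
        (tensor_map_injective (k := k) (R := K)
          (IsScalarTower.toAlgHom k k' (FractionRing k'[X]))
          (fun a b hab => (algebraMap k' (FractionRing k'[X])).injective hab)) h1
    exact (irreducibleSpace_iff (k' ⊗[k] K)).mpr h2

end Groth.Agent.H25.RatFunc
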