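import Mathlib

set_option maxHeartbeats 400000
set_option linter.style.haveILetI false
set_option linter.unusedVariables false
set_option linter.unusedSectionVars false

/-!
# The equaliser of `L ⇉ (L ⊗_K L)^` is the separable closure

For a finitely generated field extension `L / K` and `I = ker (L ⊗_K L → L)`, an element `x : L`
satisfies `x ⊗ 1 = 1 ⊗ x` in the `I`-adic completion iff `x` is separable algebraic over `K`.
-/

open TensorProduct

universe u

namespace Groth.Agent.H25.SepEq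

theorem of_eq_of_iff {R : Type*} [CommRing R] (I : Ideal R) (M : Type*) [AddCommGroup M]
    [Module R M] (a b : M) :
    AdicCompletion.of I M a = AdicCompletion.of I M b ↔
      ∀ n : ℕ, a - b ∈ (I ^ n • ⊤ : Submodule R M) := by
  constructor
  · intro h n
    have h1 : (AdicCompletion.of I M a).1 n = (AdicCompletion.of I M b).1 n := by rw [h]
    rw [AdicCompletion.of_apply, AdicCompletion.of_apply] at h1
    exact (Submodule.Quotient.eq _).mp h1
  · intro h
    apply AdicCompletion.ext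
    intro n
    rw [AdicCompletion.of_apply, AdicCompletion.of_apply]
    exact (Submodule.Quotient.eq _).mpr (h n)

variable (K L : Type u) [Field K] [Field L] [Algebra K L]

theorem sub_mem_pow_of_isSeparable {x : L} (hx : IsSeparable K x) (n : ℕ) :
    (x ⊗ₜ[K] (1 : L) - (1 : L) ⊗ₜ[K] x) ∈
      (KaehlerDifferential.ideal K L ^ n • ⊤ : Submodule (L ⊗[K] L) (L ⊗[K] L)) := by
  obtain ⟨a, ha⟩ : ∃ a : L ⊗[K] L, a = x ⊗ₜ[K] (1 : L) := ⟨_, rfl⟩
  obtain ⟨b, hb⟩ : ∃ b : L ⊗[K] L, b = (1 : L) ⊗ₜ[K] x := ⟨_, rfl⟩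
  obtain ⟨δ, hδ⟩ : ∃ δ : L ⊗[K] L, δ = a - b := ⟨_, rfl⟩
  rw [← ha, ← hb, ← hδ]
  have hδI : δ ∈ KaehlerDifferential.ideal K L := by
    have h1 := KaehlerDifferential.one_smul_sub_smul_one_mem_ideal K x
    have h2 : δ = -((1 : L) ⊗ₜ[K] x - x ⊗ₜ[K] (1 : L)) := by rw [hδ, ha, hb, neg_sub]
    rw [h2]
    exact (KaehlerDifferential.ideal K L).neg_mem h1
  have hf0 : Polynomial.aeval x (minpoly K x) = 0 := minpoly.aeval K x
  have hfsep : (minpoly K x).Separable := hx
  have hc : Polynomial.aeval x (Polynomial.derivative (minpoly K x)) ≠ 0 :=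
    hfsep.aeval_derivative_ne_zero hf0
  obtain ⟨c, hcdef⟩ : ∃ c : L, c = Polynomial.aeval x (Polynomial.derivative (minpoly K x)) :=
    ⟨_, rfl⟩
  rw [← hcdef] at hc
  obtain ⟨g, hg⟩ : ∃ g : Polynomial (L ⊗[K] L),
    g = (minpoly K x).map (algebraMap K (L ⊗[K] L)) := ⟨_, rfl⟩
  obtain ⟨k, hk⟩ := Polynomial.binomExpansion g b δ
  have hab : b + δ = a := by rw [hδ]; ring
  have hga : Polynomial.eval a g = 0 := by
    have h3 : Polynomial.eval a g = Polynomial.aeval a (minpoly K x) := by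
      rw [hg, Polynomial.aeval_def, Polynomial.eval_map]
    have h4 := Polynomial.aeval_algHom_apply
      (Algebra.TensorProduct.includeLeft : L →ₐ[K] L ⊗[K] L) x (minpoly K x)
    rw [Algebra.TensorProduct.includeLeft_apply] at h4
    rw [h3, ha, h4, hf0, map_zero]
  have hgb : Polynomial.eval b g = 0 := by
    have h3 : Polynomial.eval b g = Polynomial.aeval b (minpoly K x) := by
      rw [hg, Polynomial.aeval_def, Polynomial.eval_map]
    have h4 := Polynomial.aeval_algHom_apply
      (Algebra.TensorProduct.includeRight : L →ₐ[K] L ⊗[K] L) x (minpoly K x)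
    rw [Algebra.TensorProduct.includeRight_apply] at h4
    rw [h3, hb, h4, hf0, map_zero]
  have hgd : Polynomial.eval b (Polynomial.derivative g) = (1 : L) ⊗ₜ[K] c := by
    have h3 : Polynomial.eval b (Polynomial.derivative g) =
        Polynomial.aeval b (Polynomial.derivative (minpoly K x)) := by
      rw [hg, Polynomial.derivative_map, Polynomial.aeval_def, Polynomial.eval_map]
    have h4 := Polynomial.aeval_algHom_apply
      (Algebra.TensorProduct.includeRight : L →ₐ[K] L ⊗[K] L) x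
      (Polynomial.derivative (minpoly K x))
    rw [Algebra.TensorProduct.includeRight_apply] at h4
    rw [h3, hb, h4, Algebra.TensorProduct.includeRight_apply, hcdef]
  have hk' : ((1 : L) ⊗ₜ[K] c) * δ + k * δ ^ 2 = 0 := by
    rw [hab, hga, hgb, hgd, zero_add] at hk
    exact hk.symm
  have hunit : ((1 : L) ⊗ₜ[K] c⁻¹) * ((1 : L) ⊗ₜ[K] c) = (1 : L ⊗[K] L) := by
    rw [Algebra.TensorProduct.tmul_mul_tmul, mul_one, inv_mul_cancel₀ hc,
      Algebra.TensorProduct.one_def]
  obtain ⟨u, hu⟩ : ∃ u : L ⊗[K] L, u = -(((1 : L) ⊗ₜ[K] c⁻¹) * k) := ⟨_, rfl⟩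
  have key : δ = u * δ ^ 2 := by
    have h4 : ((1 : L) ⊗ₜ[K] c⁻¹) * (((1 : L) ⊗ₜ[K] c) * δ + k * δ ^ 2) = 0 := by
      rw [hk', mul_zero]
    have h5 : δ + ((1 : L) ⊗ₜ[K] c⁻¹) * k * δ ^ 2 = 0 := by
      calc δ + ((1 : L) ⊗ₜ[K] c⁻¹) * k * δ ^ 2
          = (((1 : L) ⊗ₜ[K] c⁻¹) * ((1 : L) ⊗ₜ[K] c)) * δ +
              ((1 : L) ⊗ₜ[K] c⁻¹) * k * δ ^ 2 := by rw [hunit, one_mul]
        _ = ((1 : L) ⊗ₜ[K] c⁻¹) * (((1 : L) ⊗ₜ[K] c) * δ + k * δ ^ 2) := by ring
        _ = 0 := h4
    rw [hu]
    linear_combination h5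
  induction n with
  | zero => simp
  | succ n ih =>
    have h6 : δ = δ • (u * δ) := by
      rw [smul_eq_mul]
      calc δ = u * δ ^ 2 := key
        _ = δ * (u * δ) := by ring
    rw [h6, pow_succ', Submodule.mul_smul]
    exact Submodule.smul_mem_smul hδI (Submodule.smul_mem _ u ih)

theorem exists_derivation_of_not_isSeparable {x : L} (hx : ¬ IsSeparable K x) :
    ∃ D : Derivation K (IntermediateField.adjoin K {x}) (IntermediateField.adjoin K {x}),
      D ⟨x, IntermediateField.mem_adjoin_simple_self K x⟩ = 1 := by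
  obtain ⟨xF, hxF⟩ : ∃ xF : IntermediateField.adjoin K {x},
    xF = ⟨x, IntermediateField.mem_adjoin_simple_self K x⟩ := ⟨_, rfl⟩
  rw [← hxF]
  have hnsep : ¬ Algebra.IsSeparable K (IntermediateField.adjoin K {x}) := by
    intro h
    have h1 : IsSeparable K xF := h.isSeparable' xF
    apply hx
    have h2 : minpoly K ((algebraMap (IntermediateField.adjoin K {x}) L) xF) = minpoly K xF :=
      minpoly.algebraMap_eq (algebraMap (IntermediateField.adjoin K {x}) L).injective xF
    have h3 : (algebraMap (IntermediateField.adjoin K {x}) L) xF = x := by rw [hxF]; rfl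
    change (minpoly K x).Separable
    rw [← h3, h2]
    exact h1
  have hFG : (IntermediateField.adjoin K {x}).FG := ⟨{x}, by rw [Finset.coe_singleton]⟩
  haveI : Algebra.EssFiniteType K (IntermediateField.adjoin K {x}) :=
    IntermediateField.essFiniteType_iff.mpr hFG
  have hnfu : ¬ Algebra.FormallyUnramified K (IntermediateField.adjoin K {x}) :=
    fun h => hnsep ((Algebra.FormallyUnramified.iff_isSeparable K _).mp h)
  rw [Algebra.formallyUnramified_iff] at hnfu
  haveI : Nontrivial (Ω[(IntermediateField.adjoin K {x})⁄K]) :=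
    not_subsingleton_iff_nontrivial.mp hnfu
  obtain ⟨v, hv⟩ := exists_ne (0 : Ω[(IntermediateField.adjoin K {x})⁄K])
  obtain ⟨lam, hlam⟩ : ∃ lam : Module.Dual (IntermediateField.adjoin K {x})
      (Ω[(IntermediateField.adjoin K {x})⁄K]), lam v ≠ 0 := by
    by_contra hcon
    push Not at hcon
    exact hv ((Module.forall_dual_apply_eq_zero_iff (IntermediateField.adjoin K {x}) v).mp hcon)
  obtain ⟨D, hD⟩ : ∃ D : Derivation K (IntermediateField.adjoin K {x})
      (IntermediateField.adjoin K {x}),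
      ∀ y, D y = lam (KaehlerDifferential.D K (IntermediateField.adjoin K {x}) y) :=
    ⟨LinearMap.compDer lam (KaehlerDifferential.D K (IntermediateField.adjoin K {x})),
      fun y => rfl⟩
  have hDx : D xF ≠ 0 := by
    intro h0
    have hall : ∀ (y : L) (hy : y ∈ IntermediateField.adjoin K {x}),
        D (⟨y, hy⟩ : IntermediateField.adjoin K {x}) = 0 := by
      intro y hy
      refine IntermediateField.adjoin_induction K
        (p := fun y hy => D (⟨y, hy⟩ : IntermediateField.adjoin K {x}) = 0) ?_ ?_ ?_ ?_ ?_ hy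
      · intro y hy
        have hyx : y = x := hy
        subst hyx
        rw [hxF] at h0
        exact h0
      · intro k
        exact D.map_algebraMap k
      · intro y z hy hz ihy ihz
        have h7 : (⟨y + z, add_mem hy hz⟩ : IntermediateField.adjoin K {x}) =
            ⟨y, hy⟩ + ⟨z, hz⟩ := rfl
        rw [h7, map_add, ihy, ihz, add_zero]
      · intro y hy ih
        have h7 : (⟨y⁻¹, inv_mem hy⟩ : IntermediateField.adjoin K {x}) =
            (⟨y, hy⟩ : IntermediateField.adjoin K {x})⁻¹ := rfl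
        rw [h7, Derivation.leibniz_inv, ih, smul_zero]
      · intro y z hy hz ihy ihz
        have h7 : (⟨y * z, mul_mem hy hz⟩ : IntermediateField.adjoin K {x}) =
            ⟨y, hy⟩ * ⟨z, hz⟩ := rfl
        rw [h7, Derivation.leibniz, ihy, ihz, smul_zero, smul_zero, add_zero]
    have hlam0 : lam = 0 := by
      apply LinearMap.ext_on
        (KaehlerDifferential.span_range_derivation K (IntermediateField.adjoin K {x}))
      rintro z ⟨y, rfl⟩
      rw [← hD, LinearMap.zero_apply]
      exact hall y.1 y.2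
    exact hlam (by rw [hlam0]; rfl)
  refine ⟨(D xF)⁻¹ • D, ?_⟩
  rw [Derivation.smul_apply, smul_eq_mul, inv_mul_cancel₀ hDx]

theorem exists_linearMap_comm {x : L} (hx : ¬ IsSeparable K x) :
    ∃ φ : L →ₗ[K] L, ∀ b : L, φ (x * b) = x * φ b + b := by
  obtain ⟨D, hD⟩ := exists_derivation_of_not_isSeparable K L hx
  obtain ⟨xF, hxF⟩ : ∃ xF : IntermediateField.adjoin K {x},
    xF = ⟨x, IntermediateField.mem_adjoin_simple_self K x⟩ := ⟨_, rfl⟩
  rw [← hxF] at hD
  let e := Module.Free.chooseBasis (IntermediateField.adjoin K {x}) L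
  let Dl : (IntermediateField.adjoin K {x}) →ₗ[K] (IntermediateField.adjoin K {x}) := D
  have hDl : ∀ y, Dl y = D y := fun y => rfl
  let φ : L →ₗ[K] L :=
    (e.repr.symm.toLinearMap.restrictScalars K) ∘ₗ
      (Finsupp.mapRange.linearMap Dl) ∘ₗ
      (e.repr.toLinearMap.restrictScalars K)
  have key : ∀ v : (Module.Free.ChooseBasisIndex (IntermediateField.adjoin K {x}) L →₀
      (IntermediateField.adjoin K {x})),
      Finsupp.mapRange.linearMap Dl (xF • v) = xF • Finsupp.mapRange.linearMap Dl v + v := by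
    intro v
    ext i
    simp only [Finsupp.mapRange.linearMap_apply, Finsupp.mapRange_apply, Finsupp.smul_apply,
      Finsupp.add_apply, smul_eq_mul]
    rw [hDl, hDl, Derivation.leibniz, hD, smul_eq_mul, smul_eq_mul, mul_one]
  refine ⟨φ, fun b => ?_⟩
  have h1 : x * b = xF • b := by rw [hxF]; rfl
  change e.repr.symm (Finsupp.mapRange.linearMap Dl (e.repr (x * b))) =
    x * e.repr.symm (Finsupp.mapRange.linearMap Dl (e.repr b)) + b
  rw [h1, map_smul, key, map_add, map_smul, LinearEquiv.symm_apply_apply, hxF]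
  rfl

theorem lmul'_eq_zero_of_mul_eq_zero {x : L} (φ : L →ₗ[K] L)
    (hφ : ∀ b, φ (x * b) = x * φ b + b) (s : L ⊗[K] L)
    (hs : s * (x ⊗ₜ[K] (1 : L) - (1 : L) ⊗ₜ[K] x) = 0) :
    Algebra.TensorProduct.lmul' K s = 0 := by
  let Θ : L ⊗[K] L →ₗ[K] L := TensorProduct.lift ((LinearMap.mul K L).compl₂ φ)
  have hΘ : ∀ a b : L, Θ (a ⊗ₜ[K] b) = a * φ b := by
    intro a b
    simp [Θ, TensorProduct.lift.tmul, LinearMap.compl₂_apply]
  have key : ∀ t : L ⊗[K] L, Θ (t * (x ⊗ₜ[K] (1 : L) - (1 : L) ⊗ₜ[K] x)) =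
      - Algebra.TensorProduct.lmul' K t := by
    intro t
    induction t using TensorProduct.induction_on with
    | zero => simp
    | tmul a b =>
      rw [mul_sub, Algebra.TensorProduct.tmul_mul_tmul, Algebra.TensorProduct.tmul_mul_tmul,
        mul_one, mul_one, map_sub, hΘ, hΘ, Algebra.TensorProduct.lmul'_apply_tmul,
        mul_comm b x, hφ]
      ring
    | add t₁ t₂ h₁ h₂ => rw [add_mul, map_add, map_add, h₁, h₂, neg_add]
  have h := key s
  rw [hs, map_zero] at h
  exact neg_eq_zero.mp h.symm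

/-- S15125. -/
theorem main (hfg : (⊤ : IntermediateField K L).FG) (x : L) :
    AdicCompletion.of (KaehlerDifferential.ideal K L) (L ⊗[K] L) (x ⊗ₜ[K] (1 : L)) =
        AdicCompletion.of (KaehlerDifferential.ideal K L) (L ⊗[K] L) ((1 : L) ⊗ₜ[K] x) ↔
      x ∈ separableClosure K L := by
  rw [of_eq_of_iff, mem_separableClosure_iff]
  constructor
  · intro h
    by_contra hx
    obtain ⟨φ, hφ⟩ := exists_linearMap_comm K L hx
    haveI : Algebra.EssFiniteType K L := IntermediateField.fg_top_iff.mp hfg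
    haveI : Algebra.EssFiniteType L (L ⊗[K] L) := Algebra.EssFiniteType.baseChange K L L
    haveI : IsNoetherianRing (L ⊗[K] L) := Algebra.EssFiniteType.isNoetherianRing L (L ⊗[K] L)
    have hmem : (x ⊗ₜ[K] (1 : L) - (1 : L) ⊗ₜ[K] x) ∈
        (⨅ i : ℕ, KaehlerDifferential.ideal K L ^ i • ⊤ :
          Submodule (L ⊗[K] L) (L ⊗[K] L)) := by
      rw [Submodule.mem_iInf]
      exact h
    obtain ⟨r, hr⟩ :=
      (Ideal.mem_iInf_smul_pow_eq_bot_iff (KaehlerDifferential.ideal K L) _).mp hmem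
    have hs : (1 - (r : L ⊗[K] L)) * (x ⊗ₜ[K] (1 : L) - (1 : L) ⊗ₜ[K] x) = 0 := by
      rw [sub_mul, one_mul, ← smul_eq_mul, hr, sub_self]
    have h0 := lmul'_eq_zero_of_mul_eq_zero K L φ hφ _ hs
    have hr0 : Algebra.TensorProduct.lmul' K (r : L ⊗[K] L) = 0 := RingHom.mem_ker.mp r.2
    rw [map_sub, map_one, hr0, sub_zero] at h0
    exact one_ne_zero h0
  · intro hx n
    exact sub_mem_pow_of_isSeparable K L hx n

end Groth.Agent.H25.SepEq
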