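import Mathlib
import Groth.Prelude
import Groth.Agent.H25.SmoothStalk
import Groth.Agent.H15.FieldBC
import Groth.Agent.H72.Faltings
import Groth.Agent.H63.SmoothRegular
import Groth.Agent.S2608
import Groth.Agent.S2609
import Groth.Agent.S0564

/-!
# Codepth, `(S_n)` and `(R_n)` of local rings along a morphism smooth near a point (helper25)
-/

set_option autoImplicit false
set_option maxHeartbeats 400000
set_option linter.style.haveILetI false
set_option linter.unusedVariables false
set_option linter.unusedSectionVars false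

universe u

open CategoryTheory CategoryTheory.Limits AlgebraicGeometry TopologicalSpace IsLocalRing TensorProduct

namespace Groth.Agent.H25.SmoothSk

attribute [local instance] Groth.Agent.H15.FlatLoc.isLocalRing_fibLocRing

section Alg

variable (A B : Type u) [CommRing A] [CommRing B] [Algebra A B] [Algebra.Smooth A B]

/-- The fibres of a smooth algebra are regular rings. -/
theorem isRegularRing_fiber (p : Ideal A) [p.IsPrime] : IsRegularRing (p.Fiber B) := by
  haveI : Algebra.Smooth p.ResidueField (p.Fiber B) := inferInstance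
  haveI : IsRegularRing p.ResidueField := inferInstance
  exact Groth.Agent.H63.SmoothRegular.isRegularRing_of_smooth p.ResidueField (p.Fiber B)

/-- The fibre local rings of a smooth algebra are regular local rings. -/
theorem isRegularLocalRing_fibLocRing (r : Ideal B) [r.IsPrime] :
    IsRegularLocalRing (EGA4.FibLocRing A B r) := by
  haveI := isRegularRing_fiber A B (r.comap (algebraMap A B))
  obtain ⟨q, hq, hqr⟩ := Groth.Agent.H15.FibreSk.exists_fiber_prime A B
    (r.comap (algebraMap A B)) r rfl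
  haveI := hq
  obtain ⟨-, ⟨e⟩⟩ := Groth.Agent.H15.FibreSk.exists_fiber_equiv A B (r.comap (algebraMap A B)) q
  haveI h1 : IsRegularLocalRing (Localization.AtPrime q) :=
    IsRegularRing.isRegularLocalRing_localization q
  have h2 : IsRegularLocalRing (EGA4.FibLocRing A B
      (q.comap (Algebra.TensorProduct.includeRight : B →ₐ[A]
        (r.comap (algebraMap A B)).Fiber B))) :=
    IsRegularLocalRing.of_ringEquiv (R := Localization.AtPrime q) e
  have gen : ∀ (I : Ideal B) [I.IsPrime], I = r →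
      IsRegularLocalRing (EGA4.FibLocRing A B I) →
      IsRegularLocalRing (EGA4.FibLocRing A B r) := by
    intro I _ hI hc
    subst hI
    exact hc
  exact gen _ hqr h2

/-- The fibre local rings of a smooth algebra satisfy `(R_k)` for all `k`. -/
theorem hasRk_fibLocRing (k : ℕ) (r : Ideal B) [r.IsPrime] :
    LocCoh.HasRk k (EGA4.FibLocRing A B r) := by
  haveI := isRegularLocalRing_fibLocRing A B r
  intro p _ _
  exact Groth.Agent.S0564.result (EGA4.FibLocRing A B r) p

/-- The fibre local rings of a smooth algebra over a Noetherian ring are Cohen–Macaulay. -/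
theorem isCM_fibLocRing [IsNoetherianRing B] (r : Ideal B) [r.IsPrime] :
    LocCoh.IsCohenMacaulayLocalRing (EGA4.FibLocRing A B r) := by
  haveI := isRegularRing_fiber A B (r.comap (algebraMap A B))
  exact (Groth.Agent.H15.FibreCM.isCM_fiber_iff A B (r.comap (algebraMap A B))).mp
    (Groth.Agent.H72.Faltings.isCMRing_of_isRegularRing _) r rfl

end Alg

section Transport

/-- `(R_k)` is invariant under ring isomorphisms. -/
theorem hasRk_of_ringEquiv {R R' : Type u} [CommRing R] [CommRing R'] (e : R ≃+* R') (k : ℕ)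
    (h : LocCoh.HasRk k R) : LocCoh.HasRk k R' := by
  intro p hp hle
  haveI : (p.comap e).IsPrime := Ideal.comap_isPrime _ p
  let E : Localization.AtPrime (p.comap e) ≃+* Localization.AtPrime p :=
    IsLocalization.ringEquivOfRingEquiv
      (Localization.AtPrime (p.comap e)) (Localization.AtPrime p) e
      (e.map_primeCompl_comap_eq p)
  have hht : (p.comap e).height = p.height := RingEquiv.height_comap e p
  haveI := h (p.comap e) (by rw [hht]; exact hle)
  exact IsRegularLocalRing.of_ringEquiv E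

/-- `(S_n)` of a local ring versus `(S_n)` at the corresponding prime. -/
theorem hasSkAt_iff_hasSk_loc (R : Type u) [CommRing R] (n : ℕ) (q : Ideal R) [q.IsPrime] :
    EGA4.HasSkAt n R R q ↔
      LocCoh.HasSk n (Localization.AtPrime q) (Localization.AtPrime q) := by
  unfold EGA4.HasSkAt
  exact ⟨Groth.Agent.H15.SkAt.hasSk_congr (Groth.Agent.S0602.locSelfEquiv q.primeCompl) n,
    Groth.Agent.H15.SkAt.hasSk_congr (Groth.Agent.S0602.locSelfEquiv q.primeCompl).symm n⟩

end Transport

section Scheme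

/-- Codepth is preserved along a morphism that is smooth near a point. -/
theorem codepth_stalk_eq_of_smooth_nhd {X Y : Scheme.{u}} (f : X ⟶ Y) [IsLocallyNoetherian Y]
    [LocallyOfFiniteType f] (x : X) (hx : ∃ U : X.Opens, x ∈ U ∧ Smooth (U.ι ≫ f)) :
    ringKrullDim ↑(X.presheaf.stalk x) +
        ((LocCoh.depth ↑(Y.presheaf.stalk (f.base x)) ↑(Y.presheaf.stalk (f.base x)) : ℕ∞) :
          WithBot ℕ∞) =
      ringKrullDim ↑(Y.presheaf.stalk (f.base x)) +
        ((LocCoh.depth ↑(X.presheaf.stalk x) ↑(X.presheaf.stalk x) : ℕ∞) : WithBot ℕ∞) := by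
  haveI : LocallyOfFinitePresentation f :=
    LocallyOfFinitePresentation.iff_locallyOfFiniteType.mpr inferInstance
  have hx' := Groth.Agent.H25.SmoothStalk.mem_smoothLocus_of_smooth_nhd f x hx
  obtain ⟨U, hU, V, hV, hVU, hxV, hsm⟩ := exists_smooth_of_formallySmooth_stalk f x hx'
  letI algAB : Algebra Γ(Y, U) Γ(X, V) := (f.appLE U V hVU).hom.toAlgebra
  haveI : Algebra.Smooth Γ(Y, U) Γ(X, V) := hsm
  haveI : IsNoetherianRing Γ(Y, U) := IsLocallyNoetherian.component_noetherian ⟨U, hU⟩
  haveI : IsNoetherianRing Γ(X, V) := Algebra.FiniteType.isNoetherianRing Γ(Y, U) Γ(X, V)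
  haveI : Module.Flat Γ(Y, U) Γ(X, V) := inferInstance
  obtain ⟨q, hq, ⟨eX⟩, ⟨eY⟩⟩ :=
    Groth.Agent.H25.SmoothStalk.exists_ringEquiv_stalks f x U hU V hV hVU hxV
  haveI := hq
  have h := Groth.Agent.H15.FieldBC.codepth_eq_of_flat Γ(Y, U) Γ(X, V) q
    (isCM_fibLocRing Γ(Y, U) Γ(X, V) q)
  rw [ringKrullDim_eq_of_ringEquiv eX, ringKrullDim_eq_of_ringEquiv eY,
    Groth.Agent.H29.FlatCM.depth_ringEquiv eX, Groth.Agent.H29.FlatCM.depth_ringEquiv eY] at h
  exact h.symm

/-- `(S_n)` and `(R_n)` are preserved and reflected along a morphism that is smooth near a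
point. -/
theorem hasSk_hasRk_stalk_iff_of_smooth_nhd {X Y : Scheme.{u}} (f : X ⟶ Y)
    [IsLocallyNoetherian Y] [LocallyOfFiniteType f] (x : X)
    (hx : ∃ U : X.Opens, x ∈ U ∧ Smooth (U.ι ≫ f)) (n : ℕ) :
    (LocCoh.HasSk n ↑(X.presheaf.stalk x) ↑(X.presheaf.stalk x) ↔
        LocCoh.HasSk n ↑(Y.presheaf.stalk (f.base x)) ↑(Y.presheaf.stalk (f.base x))) ∧
      (LocCoh.HasRk n ↑(X.presheaf.stalk x) ↔ LocCoh.HasRk n ↑(Y.presheaf.stalk (f.base x))) := by
  haveI : LocallyOfFinitePresentation f :=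
    LocallyOfFinitePresentation.iff_locallyOfFiniteType.mpr inferInstance
  have hx' := Groth.Agent.H25.SmoothStalk.mem_smoothLocus_of_smooth_nhd f x hx
  obtain ⟨U, hU, V, hV, hVU, hxV, hsm⟩ := exists_smooth_of_formallySmooth_stalk f x hx'
  letI algAB : Algebra Γ(Y, U) Γ(X, V) := (f.appLE U V hVU).hom.toAlgebra
  haveI : Algebra.Smooth Γ(Y, U) Γ(X, V) := hsm
  haveI : IsNoetherianRing Γ(Y, U) := IsLocallyNoetherian.component_noetherian ⟨U, hU⟩
  haveI : IsNoetherianRing Γ(X, V) := Algebra.FiniteType.isNoetherianRing Γ(Y, U) Γ(X, V)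
  haveI : Module.Flat Γ(Y, U) Γ(X, V) := inferInstance
  obtain ⟨q, hq, ⟨eX⟩, ⟨eY⟩⟩ :=
    Groth.Agent.H25.SmoothStalk.exists_ringEquiv_stalks f x U hU V hV hVU hxV
  haveI := hq
  have hS := Groth.Agent.H15.FieldBC.hasSkAt_iff_of_flat Γ(Y, U) Γ(X, V) n q
    (fun r _ => isCM_fibLocRing Γ(Y, U) Γ(X, V) r)
  rw [hasSkAt_iff_hasSk_loc, hasSkAt_iff_hasSk_loc] at hS
  refine ⟨⟨fun h => ?_, fun h => ?_⟩, ⟨fun h => ?_, fun h => ?_⟩⟩
  · exact Groth.Agent.H15.SkAt.hasSk_self_of_ringEquiv eY n
      (hS.mpr (Groth.Agent.H15.SkAt.hasSk_self_of_ringEquiv eX.symm n h))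
  · exact Groth.Agent.H15.SkAt.hasSk_self_of_ringEquiv eX n
      (hS.mp (Groth.Agent.H15.SkAt.hasSk_self_of_ringEquiv eY.symm n h))
  · have h1 : EGA4.HasRkAt n Γ(X, V) q := hasRk_of_ringEquiv eX.symm n h
    exact hasRk_of_ringEquiv eY n (Groth.Agent.S2608.result n Γ(Y, U) Γ(X, V) q h1)
  · have h1 : EGA4.HasRkAt n Γ(Y, U) (q.comap (algebraMap Γ(Y, U) Γ(X, V))) :=
      hasRk_of_ringEquiv eY.symm n h
    exact hasRk_of_ringEquiv eX n (Groth.Agent.S2609.result n Γ(Y, U) Γ(X, V)
      (fun r _ => hasRk_fibLocRing Γ(Y, U) Γ(X, V) n r) q h1)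

end Scheme

end Groth.Agent.H25.SmoothSk
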