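import Groth.Agent.H25.UnivOpenAt

set_option autoImplicit false
universe u

namespace Groth.Agent.H25

open CategoryTheory AlgebraicGeometry Limits

/-- Double base change: if the base change of `f` along `v` is universally open at the points
over `x`, then after a further base change along `g` the map
`(X ×_Y Y') ×_{Y'} (Y₁ ×_Y Y') ⟶ Y₁ ×_Y Y'` is open at the points over `x`. -/
theorem isOpenAt_double_baseChange {X Y Y₁ : Scheme.{u}} (v : Y₁ ⟶ Y) (f : X ⟶ Y) (x : X)
    (h : ∀ x₁ : ↥(pullback f v), (pullback.fst f v).base x₁ = x →
      EGA43.IsUnivOpenAt (pullback.snd f v) x₁)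
    {Y' : Scheme.{u}} (g : Y' ⟶ Y) (x' : ↥(pullback f g)) (hx' : (pullback.fst f g).base x' = x)
    (q : ↥(pullback (pullback.snd f g) (pullback.snd v g)))
    (hq : (pullback.fst (pullback.snd f g) (pullback.snd v g)).base q = x') :
    EGA43.IsOpenAt (pullback.snd (pullback.snd f g) (pullback.snd v g)).base q := by
  have sqT : IsPullback (pullback.fst (pullback.snd f g) (pullback.snd v g))
      (pullback.snd (pullback.snd f g) (pullback.snd v g)) (pullback.snd f g) (pullback.snd v g) :=
    IsPullback.of_hasPullback _ _
  have sqB : IsPullback (pullback.fst f g) (pullback.snd f g) f g := IsPullback.of_hasPullback _ _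
  have sqBig := sqT.flip.paste_vert sqB.flip
  have hcond : (pullback.fst (pullback.snd f g) (pullback.snd v g) ≫ pullback.fst f g) ≫ f =
      (pullback.snd (pullback.snd f g) (pullback.snd v g) ≫ pullback.fst v g) ≫ v := by
    rw [Category.assoc, Category.assoc, pullback.condition, pullback.condition (f := v),
      ← Category.assoc, pullback.condition, Category.assoc]
  set m : pullback (pullback.snd f g) (pullback.snd v g) ⟶ pullback f v :=
    pullback.lift (pullback.fst (pullback.snd f g) (pullback.snd v g) ≫ pullback.fst f g)
      (pullback.snd (pullback.snd f g) (pullback.snd v g) ≫ pullback.fst v g) hcond with hm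
  have hm1 : m ≫ pullback.fst f v =
      pullback.fst (pullback.snd f g) (pullback.snd v g) ≫ pullback.fst f g := pullback.lift_fst _ _ _
  have hm2 : m ≫ pullback.snd f v =
      pullback.snd (pullback.snd f g) (pullback.snd v g) ≫ pullback.fst v g := pullback.lift_snd _ _ _
  have s : IsPullback (pullback.snd (pullback.snd f g) (pullback.snd v g)) (m ≫ pullback.fst f v)
      (pullback.fst v g ≫ v) f := by
    rw [hm1, pullback.condition (f := v)]
    exact sqBig
  have t : IsPullback (pullback.snd f v) (pullback.fst f v) v f := (IsPullback.of_hasPullback f v).flip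
  have sq := (IsPullback.of_bot s hm2.symm t).flip
  have hx₁ : (pullback.fst f v).base (m.base q) = x := by
    rw [← Scheme.Hom.comp_apply, hm1, Scheme.Hom.comp_apply, hq, hx']
  exact isOpenAt_of_isPullback sq (m.base q) (h _ hx₁) q rfl

end Groth.Agent.H25
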