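import Mathlib
import Groth.Prelude
import Groth.Agent.H82.UnrSec_U3a
set_option autoImplicit false
universe u
open CategoryTheory CategoryTheory.Limits AlgebraicGeometry TensorProduct

/-! (U3b) for helper63's S5318 squad: if the multiplication `B ⊗[K] B → B` of an algebra over a
field induces an open immersion on spectra, then `B` is finite over `K`.
Route: `isOpenImmersion_SpecMap_iff_of_surjective` gives an idempotent `e` generating
`ker (lmul')`; `t := 1 - e` is a separability element; conclude with (U3a). -/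

namespace Groth.Agent.H25.UnrSec_U3b

theorem finite_of_isOpenImmersion_lmul {K B : Type u} [Field K] [CommRing B] [Algebra K B]
    (h : IsOpenImmersion (Spec.map (CommRingCat.ofHom
      (Algebra.TensorProduct.lmul' K : B ⊗[K] B →ₐ[K] B).toRingHom))) : Module.Finite K B := by
  have hsurj : Function.Surjective
      (CommRingCat.ofHom (Algebra.TensorProduct.lmul' K : B ⊗[K] B →ₐ[K] B).toRingHom).hom := by
    intro b
    exact ⟨b ⊗ₜ[K] 1, by simp⟩
  obtain ⟨e, he, hker⟩ := (isOpenImmersion_SpecMap_iff_of_surjective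
    (CommRingCat.ofHom (Algebra.TensorProduct.lmul' K : B ⊗[K] B →ₐ[K] B).toRingHom) hsurj).mp h
  have hφe : (Algebra.TensorProduct.lmul' K : B ⊗[K] B →ₐ[K] B) e = 0 := by
    have hmem : e ∈ RingHom.ker (CommRingCat.ofHom
        (Algebra.TensorProduct.lmul' K : B ⊗[K] B →ₐ[K] B).toRingHom).hom := by
      rw [hker]; exact Ideal.mem_span_singleton_self e
    simpa [RingHom.mem_ker] using hmem
  refine Groth.Agent.H82.UnrSec_U3a.finite_of_free_of_elem (R := K) (S := B) (1 - e) ?_ ?_
  · intro s
    have hx : (1 ⊗ₜ[K] s - s ⊗ₜ[K] 1 : B ⊗[K] B) ∈ Ideal.span {e} := by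
      rw [← hker, RingHom.mem_ker]
      simp
    obtain ⟨c, hc⟩ := Ideal.mem_span_singleton'.mp hx
    rw [← hc, mul_assoc, mul_sub, mul_one, he.eq, sub_self, mul_zero]
  · rw [map_sub, map_one, hφe, sub_zero]

end Groth.Agent.H25.UnrSec_U3b
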