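import Mathlib
import Groth.Prelude.Def_PBC
import Groth.Prelude.Def_ProEtS
import Groth.Agent.H23.WCDefs
import Groth.Agent.H23.WCPtDefs
import Groth.Agent.H64.WC_L6

set_option autoImplicit false
set_option backward.isDefEq.respectTransparency.types false
universe u
open CategoryTheory CategoryTheory.Limits AlgebraicGeometry Opposite
open Groth.Agent.H23.WCDefs Groth.Agent.H23.WCPtDefs

namespace Groth.Agent.H25.WC_C2

variable {X : Scheme.{u}}

/-- (C2) -/
theorem pullback_mem_of_forall_nbhd (W : X.ProEt) [CompactSpace ↥W.left] {Y : X.ProEt} (f : W ⟶ Y)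
    (S : Sieve Y)
    (h : ∀ c : ↥W.left, ∃ T : W.left.Opens, c ∈ T ∧ S.arrows (openIncl W T ≫ f)) :
    S.pullback f ∈ Scheme.ProEt.topology X W := by
  choose T hcT hT using h
  have hcov : (⋃ c, (T c : Set ↥W.left)) = Set.univ := by
    apply Set.eq_univ_of_forall
    intro c
    exact Set.mem_iUnion.mpr ⟨c, hcT c⟩
  have hgen := Groth.Agent.H64.WC_L6.generate_openIncl_mem W T hcov
  refine (Scheme.ProEt.topology X).superset_covering ?_ hgen
  rw [Sieve.generate_le_iff]
  rintro Z g ⟨c⟩
  exact hT c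

end Groth.Agent.H25.WC_C2
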