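import Mathlib
import Groth.Prelude
import Groth.Agent.H38.Spectral
import Groth.Agent.H4.SpectralProd
import Groth.Agent.H48.WLocT2
import Groth.Agent.H48.WLocC3
import Groth.Agent.S0699

/-!
# Retractions of faithfully flat ind-Zariski algebras over a w-local ring with
extremally disconnected `π₀` (helper25)

Core of the direction (3) ⇒ (2) of Stacks 0982: if `Spec A` is w-local with `π₀(Spec A)`
extremally disconnected, `A → B` is faithfully flat and identifies local rings (and so do the
localizations of `B`), then `B` has an `A`-algebra retraction.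
-/

set_option autoImplicit false
set_option maxHeartbeats 400000
set_option linter.unusedVariables false
set_option linter.unusedSectionVars false
set_option linter.style.longLine false
set_option linter.unusedSimpArgs false
set_option linter.style.haveILetI false

universe u

open Topology TopologicalSpace

namespace Groth.Agent.H25.WLocRetr

variable {A B : Type u} [CommRing A] [CommRing B] [Algebra A B]

/-- If `A → B` identifies local rings, two comparable primes of `B` over the same prime of `A`
are equal. -/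
theorem eq_of_le_of_comap_eq (hAB : EtPBC.IdentifiesLocalRings A B) {y y' : PrimeSpectrum B}
    (hle : y.asIdeal ≤ y'.asIdeal)
    (hφ : y.asIdeal.comap (algebraMap A B) = y'.asIdeal.comap (algebraMap A B)) : y = y' := by
  refine PrimeSpectrum.ext (le_antisymm hle fun b hb => ?_)
  obtain ⟨z, hz⟩ := (hAB y').2 (algebraMap B (Localization.AtPrime y'.asIdeal) b)
  obtain ⟨⟨a, s⟩, rfl⟩ :=
    IsLocalization.mk'_surjective (y'.asIdeal.comap (algebraMap A B)).primeCompl z
  rw [Localization.localRingHom_mk', IsLocalization.mk'_eq_iff_eq_mul, ← map_mul,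
    IsLocalization.eq_iff_exists y'.asIdeal.primeCompl] at hz
  obtain ⟨m, hm⟩ := hz
  have hm' : (m : B) ∉ y'.asIdeal := m.2
  have hs' : algebraMap A B (s : A) ∉ y'.asIdeal := s.2
  have h1 : algebraMap A B a ∈ y'.asIdeal := by
    have : (m : B) * algebraMap A B a ∈ y'.asIdeal := by
      rw [hm]
      exact Ideal.mul_mem_left _ _ (Ideal.mul_mem_right _ _ hb)
    exact (y'.2.mem_or_mem this).resolve_left hm'
  have h2 : algebraMap A B a ∈ y.asIdeal := by
    have h1' : a ∈ y'.asIdeal.comap (algebraMap A B) := h1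
    rw [← hφ] at h1'
    exact h1'
  have h3 : (m : B) * (b * algebraMap A B (s : A)) ∈ y.asIdeal := by
    rw [← hm]
    exact Ideal.mul_mem_left _ _ h2
  have hmy : (m : B) ∉ y.asIdeal := fun h => hm' (hle h)
  have hsy : algebraMap A B (s : A) ∉ y.asIdeal := by
    intro h
    have h' : (s : A) ∈ y.asIdeal.comap (algebraMap A B) := h
    rw [hφ] at h'
    exact hs' h'
  exact ((y.2.mem_or_mem ((y.2.mem_or_mem h3).resolve_left hmy))).resolve_right hsy

/-- A continuous (for the constructible topology) section of `Spec B → Spec A` over the closed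
points, parametrised by `π₀(Spec A)`. -/
theorem exists_section (hw : ProEtW.IsWLocal (PrimeSpectrum A))
    [ExtremallyDisconnected (ConnectedComponents (PrimeSpectrum A))]
    (hsurj : Function.Surjective (PrimeSpectrum.comap (algebraMap A B))) :
    ∃ τ : ConnectedComponents (PrimeSpectrum A) → PrimeSpectrum B,
      IsClosed[constructibleTopology (PrimeSpectrum B)] (Set.range τ) ∧
      ∀ p, IsClosed ({PrimeSpectrum.comap (algebraMap A B) (τ p)} : Set (PrimeSpectrum A)) ∧
        ConnectedComponents.mk (PrimeSpectrum.comap (algebraMap A B) (τ p)) = p := by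
  classical
  obtain ⟨hsp, hcl, huniq⟩ := hw
  haveI := hsp
  haveI : T2Space (ConnectedComponents (PrimeSpectrum A)) :=
    Groth.Agent.H4.connectedComponents_t2_of_spectral
  haveI : TotallySeparatedSpace (WithConstructibleTopology (PrimeSpectrum B)) :=
    Groth.Agent.H38.totallySeparatedSpace_withConstr
  let φ : PrimeSpectrum B → PrimeSpectrum A := PrimeSpectrum.comap (algebraMap A B)
  have hφc : Continuous φ := PrimeSpectrum.continuous_comap _
  let ι : WithConstructibleTopology (PrimeSpectrum B) → PrimeSpectrum B := WithTopology.ofTopology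
  have hι : Continuous ι := continuous_def.2 fun U hU =>
    (WithTopology.isOpen_iff _).2 (Groth.Agent.H38.isOpen_constr_of_isOpen hU)
  let X₀ : Set (PrimeSpectrum A) := {x | IsClosed ({x} : Set (PrimeSpectrum A))}
  let Zs : Set (WithConstructibleTopology (PrimeSpectrum B)) := {z | φ (ι z) ∈ X₀}
  have hZs : IsClosed Zs := hcl.preimage (hφc.comp hι)
  haveI : CompactSpace Zs := isCompact_iff_compactSpace.mp hZs.isCompact
  let ρ : Zs → ConnectedComponents (PrimeSpectrum A) :=
    fun z => ConnectedComponents.mk (φ (ι z.1))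
  have hρ : Continuous ρ := ConnectedComponents.continuous_coe.comp
    (hφc.comp (hι.comp continuous_subtype_val))
  have hρs : Function.Surjective ρ := by
    intro p
    obtain ⟨x, rfl⟩ := ConnectedComponents.surjective_coe p
    obtain ⟨x₀, ⟨hx₀, hxx₀⟩, -⟩ := huniq x
    obtain ⟨y, hy⟩ := hsurj x₀
    have hmem : WithTopology.toTopology (constructibleTopology (PrimeSpectrum B)) y ∈ Zs := by
      show IsClosed ({φ y} : Set (PrimeSpectrum A))
      rw [show φ y = x₀ from hy]
      exact hx₀
    refine ⟨⟨_, hmem⟩, ?_⟩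
    show ConnectedComponents.mk (φ y) = ConnectedComponents.mk x
    rw [show φ y = x₀ from hy]
    exact (Groth.Agent.H48.WLocC.mk_eq_of_specializes hxx₀).symm
  have hproj : CompactT2.Projective (ConnectedComponents (PrimeSpectrum A)) :=
    CompactT2.ExtremallyDisconnected.projective
  obtain ⟨h, hh, hρh⟩ := hproj continuous_id hρ hρs
  refine ⟨fun p => ι (h p).1, ?_, fun p => ⟨(h p).2, congrFun hρh p⟩⟩
  have hc : IsCompact (Set.range fun p => (h p).1) :=
    isCompact_range (continuous_subtype_val.comp hh)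
  have hcl' : IsClosed (Set.range fun p => (h p).1) := hc.isClosed
  have h3 := (WithTopology.isClosed_iff _).1 hcl'
  convert h3 using 1
  ext y
  simp only [Set.mem_range, Set.mem_preimage]
  constructor
  · rintro ⟨p, rfl⟩
    exact ⟨p, rfl⟩
  · rintro ⟨p, hp⟩
    exact ⟨p, by rw [hp]⟩

/-- **Core of Stacks 0982, (3) ⇒ (1).** -/
theorem nonempty_retraction (A B : Type u) [CommRing A] [CommRing B] [Algebra A B]
    [Module.FaithfullyFlat A B] (hw : ProEtW.IsWLocal (PrimeSpectrum A))
    [ExtremallyDisconnected (ConnectedComponents (PrimeSpectrum A))]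
    (hAB : EtPBC.IdentifiesLocalRings A B)
    (hloc : ∀ S : Submonoid B, EtPBC.IdentifiesLocalRings A (Localization S)) :
    Nonempty (B →ₐ[A] A) := by
  classical
  obtain ⟨τ, hτc, hτ⟩ :=
    exists_section (B := B) hw PrimeSpectrum.comap_surjective_of_faithfullyFlat
  have hw' := hw
  obtain ⟨hsp, hcl, huniq⟩ := hw'
  let φ : PrimeSpectrum B → PrimeSpectrum A := PrimeSpectrum.comap (algebraMap A B)
  have hφc : Continuous φ := PrimeSpectrum.continuous_comap _
  let T : Set (PrimeSpectrum B) := Set.range τ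
  -- `φ` is injective on `T`
  have hφT : ∀ t ∈ T, ∀ t' ∈ T, φ t = φ t' → t = t' := by
    rintro _ ⟨p, rfl⟩ _ ⟨p', rfl⟩ h
    have h1 : ConnectedComponents.mk (φ (τ p)) = ConnectedComponents.mk (φ (τ p')) := by rw [h]
    rw [(hτ p).2, (hτ p').2] at h1
    rw [h1]
  have hTX : ∀ t ∈ T, IsClosed ({φ t} : Set (PrimeSpectrum A)) := by
    rintro _ ⟨p, rfl⟩
    exact (hτ p).1
  -- points of `T` are closed
  have hTcl : ∀ t ∈ T, ∀ y, t ⤳ y → y = t := by
    intro t ht y hy
    have h1 : φ t ⤳ φ y := hy.map hφc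
    have h2 : φ y = φ t := h1.mem_closed (hTX t ht) (Set.mem_singleton _)
    symm
    refine eq_of_le_of_comap_eq hAB ((PrimeSpectrum.le_iff_specializes _ _).2 hy) ?_
    exact congrArg PrimeSpectrum.asIdeal h2.symm
  have hTclosed : IsClosed T :=
    Groth.Agent.H38.isClosed_of_isClosed_constr_of_stableUnderSpecialization hτc
      (fun x y hxy hx => by rw [hTcl x hx y hxy]; exact hx)
  -- the multiplicative set
  let S : Submonoid B :=
    { carrier := {b | ∀ t ∈ T, b ∉ t.asIdeal}
      one_mem' := fun t _ h => t.2.ne_top ((Ideal.eq_top_iff_one _).2 h)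
      mul_mem' := fun {a b} ha hb t ht h => (t.2.mem_or_mem h).elim (ha t ht) (hb t ht) }
  let ψ : PrimeSpectrum (Localization S) → PrimeSpectrum B :=
    PrimeSpectrum.comap (algebraMap B (Localization S))
  have hψc : Continuous ψ := PrimeSpectrum.continuous_comap _
  have hψe : Topology.IsEmbedding ψ := PrimeSpectrum.localization_comap_isEmbedding (Localization S) S
  have hψr : Set.range ψ = {y | ∃ t ∈ T, y ⤳ t} := by
    rw [PrimeSpectrum.localization_comap_range (Localization S) S]
    ext y
    show Disjoint (S : Set B) y.asIdeal ↔ ∃ t ∈ T, y ⤳ t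
    constructor
    · intro hdis
      by_contra hno
      push Not at hno
      obtain ⟨J, hJ⟩ := (PrimeSpectrum.isClosed_iff_zeroLocus_ideal T).1 hTclosed
      have htop : y.asIdeal ⊔ J = ⊤ := by
        by_contra hne
        obtain ⟨m, hm, hle⟩ := Ideal.exists_le_maximal _ hne
        have hmT : (⟨m, hm.isPrime⟩ : PrimeSpectrum B) ∈ T := by
          rw [hJ, PrimeSpectrum.mem_zeroLocus]
          exact fun x hx => hle (Ideal.mem_sup_right hx)
        have hym : y.asIdeal ≤ m := le_trans le_sup_left hle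
        exact hno _ hmT ((PrimeSpectrum.le_iff_specializes y ⟨m, hm.isPrime⟩).1 hym)
      obtain ⟨f, hf, j, hj, hfj⟩ := Submodule.mem_sup.1 ((Ideal.eq_top_iff_one _).1 htop)
      have hfS : f ∈ S := by
        intro t ht hft
        have hjt : j ∈ t.asIdeal := by
          rw [hJ, PrimeSpectrum.mem_zeroLocus] at ht
          exact ht hj
        exact t.2.ne_top ((Ideal.eq_top_iff_one _).2 (hfj ▸ Ideal.add_mem _ hft hjt))
      exact Set.disjoint_left.1 hdis hfS hf
    · rintro ⟨t, ht, hyt⟩
      rw [Set.disjoint_left]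
      intro b hbS hby
      exact hbS t ht ((PrimeSpectrum.le_iff_specializes _ _).2 hyt hby)
  have hψinj : Function.Injective ψ := hψe.injective
  -- every point of `T` is in the range
  have hTr : ∀ t ∈ T, ∃ Q, ψ Q = t := by
    intro t ht
    have : t ∈ Set.range ψ := by rw [hψr]; exact ⟨t, ht, specializes_rfl⟩
    exact this
  have hgen : ∀ Q, ∃ t ∈ T, ψ Q ⤳ t := by
    intro Q
    have : ψ Q ∈ Set.range ψ := ⟨Q, rfl⟩
    rw [hψr] at this
    exact this
  -- closed points of `Spec C`
  have hcl1 : ∀ Q, ψ Q ∈ T → IsClosed ({Q} : Set (PrimeSpectrum (Localization S))) := by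
    intro Q hQ
    rw [← closure_subset_iff_isClosed]
    intro Q' hQ'
    have h1 : Q ⤳ Q' := specializes_iff_mem_closure.2 hQ'
    have h2 : ψ Q' = ψ Q := hTcl _ hQ _ (h1.map hψc)
    exact hψinj h2
  have hcl2 : ∀ Q, IsClosed ({Q} : Set (PrimeSpectrum (Localization S))) → ψ Q ∈ T := by
    intro Q hQ
    obtain ⟨t, ht, hQt⟩ := hgen Q
    obtain ⟨Q', rfl⟩ := hTr t ht
    have h1 : Q ⤳ Q' := hψe.isInducing.specializes_iff.1 hQt
    have h2 : Q' = Q := h1.mem_closed hQ (Set.mem_singleton _)
    rw [← h2]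
    exact ht
  have hcomp : ∀ Q, PrimeSpectrum.comap (algebraMap A (Localization S)) Q = φ (ψ Q) := by
    intro Q
    apply PrimeSpectrum.ext
    show Q.asIdeal.comap (algebraMap A (Localization S)) =
      (Q.asIdeal.comap (algebraMap B (Localization S))).comap (algebraMap A B)
    rw [Ideal.comap_comap, ← IsScalarTower.algebraMap_eq]
  have hC : ProEtW.IsWLocal (PrimeSpectrum (Localization S)) := by
    refine ⟨inferInstance, ?_, ?_⟩
    · have : {Q : PrimeSpectrum (Localization S) | IsClosed ({Q} : Set _)} = ψ ⁻¹' T := by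
        ext Q
        exact ⟨hcl2 Q, hcl1 Q⟩
      rw [this]
      exact hTclosed.preimage hψc
    · intro Q
      obtain ⟨t, ht, hQt⟩ := hgen Q
      obtain ⟨Q', rfl⟩ := hTr t ht
      refine ⟨Q', ⟨hcl1 Q' ht, hψe.isInducing.specializes_iff.1 hQt⟩, ?_⟩
      rintro Q'' ⟨hQ''c, hQQ''⟩
      have hT'' : ψ Q'' ∈ T := hcl2 Q'' hQ''c
      apply hψinj
      apply hφT _ hT'' _ ht
      -- both are closed specializations of `φ (ψ Q)`
      obtain ⟨x₀, -, hx₀⟩ := huniq (φ (ψ Q))
      have e1 : φ (ψ Q'') = x₀ := hx₀ _ ⟨hTX _ hT'', (hQQ''.map hψc).map hφc⟩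
      have e2 : φ (ψ Q') = x₀ := hx₀ _ ⟨hTX _ ht, hQt.map hφc⟩
      rw [e1, e2]
  have hmap : ProEtW.IsWLocalMap (PrimeSpectrum.comap (algebraMap A (Localization S))) := by
    refine ⟨Groth.Agent.H48.WLocT2.isSpectralMap_comap _, fun Q hQ => ?_⟩
    rw [hcomp]
    exact hTX _ (hcl2 Q hQ)
  have hmk : ∀ Q : PrimeSpectrum (Localization S),
      (PrimeSpectrum.continuous_comap (algebraMap A (Localization S))).connectedComponentsMap
        (ConnectedComponents.mk Q) = ConnectedComponents.mk (φ (ψ Q)) := by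
    intro Q
    rw [← hcomp]
    rfl
  have h5 : Function.Bijective
      (PrimeSpectrum.continuous_comap (algebraMap A (Localization S))).connectedComponentsMap := by
    constructor
    · intro c₁ c₂ h
      obtain ⟨Q₁, rfl⟩ := ConnectedComponents.surjective_coe c₁
      obtain ⟨Q₂, rfl⟩ := ConnectedComponents.surjective_coe c₂
      obtain ⟨t₁, ht₁, hQt₁⟩ := hgen Q₁
      obtain ⟨t₂, ht₂, hQt₂⟩ := hgen Q₂
      obtain ⟨Q₁', rfl⟩ := hTr t₁ ht₁
      obtain ⟨Q₂', rfl⟩ := hTr t₂ ht₂
      have s1 : Q₁ ⤳ Q₁' := hψe.isInducing.specializes_iff.1 hQt₁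
      have s2 : Q₂ ⤳ Q₂' := hψe.isInducing.specializes_iff.1 hQt₂
      have m1 := Groth.Agent.H48.WLocC.mk_eq_of_specializes s1
      have m2 := Groth.Agent.H48.WLocC.mk_eq_of_specializes s2
      rw [m1, m2] at h ⊢
      rw [hmk, hmk] at h
      obtain ⟨p₁, hp₁⟩ := ht₁
      obtain ⟨p₂, hp₂⟩ := ht₂
      rw [← hp₁, ← hp₂, (hτ p₁).2, (hτ p₂).2] at h
      have : ψ Q₁' = ψ Q₂' := by rw [← hp₁, ← hp₂, h]
      rw [hψinj this]
    · intro p
      obtain ⟨Q, hQ⟩ := hTr (τ p) ⟨p, rfl⟩
      refine ⟨ConnectedComponents.mk Q, ?_⟩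
      rw [hmk, hQ]
      exact (hτ p).2
  have hbij : Function.Bijective (algebraMap A (Localization S)) :=
    Groth.Agent.S0699.result A (Localization S) (hloc S) hw hC hmap h5
  let e : A ≃ₐ[A] Localization S := AlgEquiv.ofBijective (Algebra.ofId A (Localization S)) hbij
  exact ⟨(e.symm : Localization S →ₐ[A] A).comp (IsScalarTower.toAlgHom A B (Localization S))⟩

end Groth.Agent.H25.WLocRetr
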