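import Mathlib
import Groth.Prelude
import Groth.Agent.H25.WLocRetr
import Groth.Agent.Lead.IdLocRings2

/-!
# (3) ⇒ (2) of Stacks 0982 (helper25): w-local + extremally disconnected `π₀` ⇒ every faithfully
flat ind-Zariski algebra has a retraction.
-/

set_option autoImplicit false
set_option maxHeartbeats 400000
set_option linter.unusedVariables false
set_option linter.style.longLine false
set_option linter.style.haveILetI false

universe u

namespace Groth.Agent.H25.WLocRetr

theorem hasIndZariskiRetractions_of_wLocal_of_ED (A : Type u) [CommRing A]
    (hw : ProEtW.IsWLocal (PrimeSpectrum A))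
    (hED : ExtremallyDisconnected (_root_.ConnectedComponents (PrimeSpectrum A))) :
    ProEtW.HasIndZariskiRetractions A := by
  intro B _ _ hff hIZ
  haveI := hff
  haveI := hED
  have hAB : EtPBC.IdentifiesLocalRings A B :=
    Groth.Agent.Lead.IdLocRings.identifiesLocalRings_of_isIndZariski hIZ
  exact nonempty_retraction A B hw hAB
    (fun S => Groth.Agent.Lead.IdLocRings.identifiesLocalRings_of_isLocalization A B
      (Localization S) hAB S)

end Groth.Agent.H25.WLocRetr
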