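import Mathlib
import Groth.Prelude
import Groth.Agent.S10810
import Groth.Agent.H52.Topology

set_option autoImplicit false
set_option maxHeartbeats 400000
set_option linter.unusedVariables false
set_option linter.unusedSectionVars false
set_option linter.style.longLine false
set_option linter.unusedSimpArgs false
set_option linter.unnecessarySimpa false

universe u

open CategoryTheory CategoryTheory.Limits AlgebraicGeometry TopologicalSpace AlgSp Opposite

namespace Groth.Agent.H25.WeakAssPush

variable {S : Scheme.{u}}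

/-- The prime of a point pulls back along global sections to the prime of the image point. -/
theorem primeAtPt_comap {U V : Scheme.{u}} (g : U ⟶ V) (x : U) :
    (primeAtPt U x).comap g.appTop.hom = primeAtPt V (g x) := by
  ext a
  unfold primeAtPt
  simp only [Ideal.mem_comap]
  have h := Scheme.Hom.germ_stalkMap_apply g ⊤ x trivial a
  have h2 : (U.presheaf.germ ⊤ x trivial).hom (g.appTop.hom a) =
      (g.stalkMap x).hom ((V.presheaf.germ ⊤ (g x) trivial).hom a) := h.symm
  rw [h2, ← Ideal.mem_comap, IsLocalRing.maximalIdeal_comap]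

/-- On an affine scheme a point is determined by its prime. -/
theorem primeAtPt_injective (U : Scheme.{u}) [IsAffine U] : Function.Injective (primeAtPt U) := by
  intro x y hxy
  have hU := isAffineOpen_top U
  have hx : primeAtPt U x = (hU.primeIdealOf ⟨x, trivial⟩).asIdeal :=
    (congrArg PrimeSpectrum.asIdeal (hU.primeIdealOf_eq_map_closedPoint ⟨x, trivial⟩)).symm
  have hy : primeAtPt U y = (hU.primeIdealOf ⟨y, trivial⟩).asIdeal :=
    (congrArg PrimeSpectrum.asIdeal (hU.primeIdealOf_eq_map_closedPoint ⟨y, trivial⟩)).symm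
  have h1 : hU.primeIdealOf ⟨x, trivial⟩ = hU.primeIdealOf ⟨y, trivial⟩ :=
    PrimeSpectrum.ext (hx.symm.trans (hxy.trans hy))
  have hinj : Function.Injective hU.isoSpec.hom := hU.isoSpec.hom.isOpenEmbedding.injective
  have h2 := hinj (a₁ := ⟨x, trivial⟩) (a₂ := ⟨y, trivial⟩) h1
  exact congrArg Subtype.val h2

/-- The base change of an affine object along an affine representable morphism is affine. -/
theorem isAffine_bc {X Y : Sp S} {f : X ⟶ Y} (hf : Representable f) (haff : IsAffineMor f)
    (E : EtOver Y) (hE : IsAffine E.obj.left.left) :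
    IsAffine ((EtOver.bc hf).obj E).obj.left.left := by
  obtain ⟨W, i, fst, sq, hW⟩ := haff hE E.obj.hom
  have sq' := hf.isPullback E.obj.hom
  let e : (yon S).obj (hf.pullback E.obj.hom) ≅ (yon S).obj W := sq'.isoIsPullback _ _ sq
  let e' : hf.pullback E.obj.hom ≅ W := (yon S).preimageIso e
  let e'' : (hf.pullback E.obj.hom).left ≅ W.left := (Over.forget S).mapIso e'
  exact @IsAffine.of_isIso _ _ e''.hom (Iso.isIso_hom e'') hW

/-- (S10818) Weakly associated points of a pushforward along an affine morphism. -/
theorem weakAss_push_subset {X Y : Sp S} {f : X ⟶ Y} (hf : Representable f) (haff : IsAffineMor f)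
    (M : ModEt X) : WeakAssEt ((pushModEt hf).obj M) ⊆ Points.map f '' WeakAssEt M := by
  rintro y ⟨E, hE, u, huy, s, hs⟩
  have hE' : IsAffine ((EtOver.bc hf).obj E).obj.left.left := isAffine_bc hf haff E hE
  let π : ((EtOver.bc hf).obj E).obj.left ⟶ E.obj.left := hf.snd E.obj.hom
  let s' : sectModEt M ((EtOver.bc hf).obj E) := s
  have hann : annSect s = (annSect s').comap π.left.appTop.hom := by
    ext a
    rw [Ideal.mem_comap, mem_annSect_iff, mem_annSect_iff]
    exact Iff.rfl
  rw [hann] at hs
  obtain ⟨q, hq, hqp⟩ := Ideal.exists_minimalPrimes_comap_eq _ _ hs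
  have : q.IsPrime := hq.1.1
  obtain ⟨u', hu'⟩ := Groth.Agent.S10810.exists_primeAtPt_eq ((EtOver.bc hf).obj E).obj.left.left q
  refine ⟨Points.ofPt ((EtOver.bc hf).obj E).obj.hom u',
    ⟨(EtOver.bc hf).obj E, hE', u', rfl, s', by rw [hu']; exact hq⟩, ?_⟩
  rw [Points.map_ofPt]
  have hw : ((EtOver.bc hf).obj E).obj.hom ≫ f = (yon S).map π ≫ E.obj.hom :=
    (hf.isPullback E.obj.hom).w
  rw [hw]
  refine (Groth.Agent.H52.ofPt_yon_map_comp π E.obj.hom u').trans ?_
  rw [← huy]
  congr 1
  have := hE
  apply primeAtPt_injective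
  rw [← primeAtPt_comap, hu', hqp]

end Groth.Agent.H25.WeakAssPush
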