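import Mathlib
import Groth.Prelude
import Groth.Agent.H25.LocRingedEt
import Groth.Agent.H25.GlobSec
import Groth.Agent.H25.EtaleDimStalk
import Groth.Agent.H52.Topology

/-!
# Weakly associated points of a reduced algebraic space (helper25)

* `mem_minimalPrimes_of_ann`: in a reduced ring a prime minimal over the annihilator of an element is a
  minimal prime.
* `dim_stalk_eq_zero_iff`: on an affine scheme the local ring at `x` has dimension zero iff the prime of `x`
  is a minimal prime of the ring of global functions.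
* `mem_annSect_unit_iff`: annihilators of sections of the unit module `O_X`.
* `weakAss_unit_iff` (S10805).
-/

set_option autoImplicit false
set_option maxHeartbeats 400000
set_option linter.style.haveILetI false
set_option linter.unusedVariables false
set_option linter.unusedSectionVars false

universe u

open CategoryTheory CategoryTheory.Limits AlgebraicGeometry TopologicalSpace AlgSp Opposite

namespace Groth.Agent.H25.WeakAssRed

open Groth.Agent.H25.LocRingedEt Groth.Agent.H25.GlobSec Groth.Agent.H25.EtaleDimStalk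

variable {S : Scheme.{u}}

/-- In a reduced ring a prime minimal over the annihilator of an element is a minimal prime. -/
theorem mem_minimalPrimes_of_ann {A : Type*} [CommRing A] [_root_.IsReduced A] (t : A) (I : Ideal A)
    (hI : ∀ a, a ∈ I ↔ a * t = 0) (p : Ideal A) (hp : p ∈ I.minimalPrimes) :
    p ∈ minimalPrimes A := by
  have hpp : p.IsPrime := hp.1.1
  have hIp : I ≤ p := hp.1.2
  have key : ∀ q : Ideal A, q.IsPrime → t ∉ q → I ≤ q := by
    intro q hq htq a ha
    have : a * t ∈ q := by rw [(hI a).1 ha]; exact q.zero_mem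
    exact (hq.mem_or_mem this).resolve_right htq
  have ht : t ∉ p := by
    intro htp
    have hdisj : Disjoint ((⊥ : Ideal A) : Set A) ((p.primeCompl ⊔ Submonoid.powers t : Submonoid A) : Set A) := by
      rw [Set.disjoint_left]
      intro a ha hM
      have ha0 : a = 0 := ha
      obtain ⟨s, hs, z, ⟨n, rfl⟩, hsz⟩ := Submonoid.mem_sup.1 hM
      have h0 : s * t ^ n = 0 := by rw [hsz, ha0]
      have h1 : (s * t) ^ (n + 1) = 0 := by
        calc (s * t) ^ (n + 1) = s ^ n * t * (s * t ^ n) := by ring
          _ = 0 := by rw [h0, mul_zero]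
      have h2 : s * t = 0 := IsReduced.eq_zero _ ⟨n + 1, h1⟩
      exact hs (hIp ((hI s).2 h2))
    obtain ⟨q, hq, -, hqM⟩ := Ideal.exists_le_prime_disjoint ⊥ _ hdisj
    have hqp : q ≤ p := by
      intro a haq
      by_contra hap
      exact Set.disjoint_left.1 hqM haq (Submonoid.mem_sup_left (show a ∈ p.primeCompl from hap))
    have htq : t ∉ q := fun h =>
      Set.disjoint_left.1 hqM h (Submonoid.mem_sup_right (Submonoid.mem_powers t))
    exact htq (hp.2 ⟨hq, key q hq htq⟩ hqp htp)
  refine ⟨⟨hpp, bot_le⟩, ?_⟩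
  rintro q ⟨hq, -⟩ hqp
  exact hp.2 ⟨hq, key q hq (fun h => ht (hqp h))⟩ hqp

/-- On an affine scheme the local ring at `x` has dimension zero iff the prime of `x` is a minimal prime. -/
theorem dim_stalk_eq_zero_iff (U : Scheme.{u}) [IsAffine U] (x : U) :
    ringKrullDim ↥(U.presheaf.stalk x) = 0 ↔ primeAtPt U x ∈ minimalPrimes Γ(U, ⊤) := by
  have hU := isAffineOpen_top U
  have hp : primeAtPt U x = (hU.primeIdealOf ⟨x, trivial⟩).asIdeal :=
    (congrArg PrimeSpectrum.asIdeal (hU.primeIdealOf_eq_map_closedPoint ⟨x, trivial⟩)).symm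
  letI := TopCat.Presheaf.algebra_section_stalk U.presheaf (⟨x, trivial⟩ : (⊤ : U.Opens))
  haveI := hU.isLocalization_stalk ⟨x, trivial⟩
  rw [hp, ← Ideal.height_eq_zero_iff,
    IsLocalization.AtPrime.ringKrullDim_eq_height (hU.primeIdealOf ⟨x, trivial⟩).asIdeal
      (U.presheaf.stalk x)]
  exact WithBot.coe_eq_zero

/-- Annihilators of sections of the unit module. -/
theorem mem_annSect_unit_iff {X : Sp S} (E : EtOver X) (s : sectModEt (unitModEt X) E)
    (a : Γ(E.obj.left.left, ⊤)) :
    a ∈ annSect s ↔ a * (show ULift.{u + 1} Γ(E.obj.left.left, ⊤) from s).down = 0 := by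
  rw [mem_annSect_iff]
  constructor
  · intro h
    have h' : (ULift.up (a * (show ULift.{u + 1} Γ(E.obj.left.left, ⊤) from s).down) :
        ULift.{u + 1} Γ(E.obj.left.left, ⊤)) = ULift.up 0 := h
    exact congrArg ULift.down h'
  · intro h
    show (ULift.up (a * (show ULift.{u + 1} Γ(E.obj.left.left, ⊤) from s).down) :
        ULift.{u + 1} Γ(E.obj.left.left, ⊤)) = ULift.up 0
    rw [h]

/-- (S10805) On a reduced algebraic space the weakly associated points of `O_X` are the points of
codimension zero. -/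
theorem weakAss_unit_iff {X : Sp S} (hX : IsReducedSp X) (x : Points X) :
    x ∈ WeakAssEt (unitModEt X) ↔
      HasAt (fun U u => ringKrullDim ↥(U.presheaf.stalk u) = 0) X x := by
  constructor
  · rintro ⟨E, hE, u, hux, s, hs⟩
    haveI := hE
    haveI : IsReduced E.obj.left.left := isReduced_etOver hX E
    have hmin : primeAtPt E.obj.left.left u ∈ minimalPrimes Γ(E.obj.left.left, ⊤) :=
      mem_minimalPrimes_of_ann ((show ULift.{u + 1} Γ(E.obj.left.left, ⊤) from s).down) (annSect s)
        (fun a => mem_annSect_unit_iff E s a) _ hs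
    exact ⟨E.obj.left, E.obj.hom, u, E.property, hux, (dim_stalk_eq_zero_iff _ u).2 hmin⟩
  · rintro ⟨U, a, u, ha, hu, hdim⟩
    obtain ⟨_, ⟨O, hO, rfl⟩, huO, -⟩ :=
      U.left.isBasis_affineOpens.exists_subset_of_mem_open (Set.mem_univ u) isOpen_univ
    have hEaff : IsAffine (openSub (EtOver.mk a ha) O).obj.left.left := hO
    have hpt : Points.ofPt (openSub (EtOver.mk a ha) O).obj.hom (⟨u, huO⟩ : ↥(Scheme.Opens.toScheme O)) = x := by
      rw [← hu]
      exact Groth.Agent.H52.ofPt_yon_map_comp _ a _
    have hdim' : ringKrullDim ↥((openSub (EtOver.mk a ha) O).obj.left.left.presheaf.stalk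
        (⟨u, huO⟩ : ↥(Scheme.Opens.toScheme O))) = 0 := by
      rw [← hdim]
      exact ringKrullDim_stalk_eq_of_etale (Scheme.Opens.ι O) (⟨u, huO⟩ : ↥(Scheme.Opens.toScheme O))
    have hmin := (@dim_stalk_eq_zero_iff (openSub (EtOver.mk a ha) O).obj.left.left hEaff
      (⟨u, huO⟩ : ↥(Scheme.Opens.toScheme O))).1 hdim'
    have hann : annSect (show sectModEt (unitModEt X) (openSub (EtOver.mk a ha) O) from
        (ULift.up 1 : ULift.{u + 1} Γ((openSub (EtOver.mk a ha) O).obj.left.left, ⊤))) = ⊥ := by
      ext b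
      rw [mem_annSect_unit_iff, Ideal.mem_bot]
      show b * 1 = 0 ↔ b = 0
      rw [mul_one]
    refine ⟨openSub (EtOver.mk a ha) O, hEaff, (⟨u, huO⟩ : ↥(Scheme.Opens.toScheme O)), hpt, ?_⟩
    refine @Exists.intro _ _ (show sectModEt (unitModEt X) (openSub (EtOver.mk a ha) O) from
        (ULift.up 1 : ULift.{u + 1} Γ((openSub (EtOver.mk a ha) O).obj.left.left, ⊤))) ?_
    rw [hann]
    exact hmin

end Groth.Agent.H25.WeakAssRed
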